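import Cfsg.Agent.Lib.Invol.BrauerSuzuki
import Cfsg.Agent.Lib.Solvable.PCore
import Cfsg.Agent.Lib.Solvable.Products
import Cfsg.Agent.Lib.Coprime.Sylow

/-!
An involution whose conjugates have pairwise products of `p`-power order (`p` odd) is central
modulo `O_p`: Glauberman's Z*-theorem and coprime action on the odd core.
-/

set_option autoImplicit false

namespace CfsgLib.Perm.InvolProd

open Subgroup

universe u

variable {G : Type u} [Group G] [Finite G] {p : ℕ}

private theorem exists_square_root {x : G} (hx : Odd (orderOf x)) :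
    ∃ k : ℕ, (x ^ k) * (x ^ k) = x := by
  obtain ⟨m, hm⟩ := hx
  refine ⟨m + 1, ?_⟩
  rw [← pow_add, show m + 1 + (m + 1) = orderOf x + 1 by omega, pow_succ, pow_orderOf_eq_one,
    one_mul]

theorem products_mem_pCore (hp : p.Prime) (hp2 : p ≠ 2) (d : G) (hd : orderOf d = 2)
    (hprod : ∀ g : G, ∃ k : ℕ, orderOf (d * (g * d * g⁻¹)) = p ^ k) (g : G) :
    d * (g * d * g⁻¹) ∈ Cfsg.pCore p G := by
  have := Fact.mk hp
  have hdd : d * d = 1 := by rw [← sq, ← hd, pow_orderOf_eq_one]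
  have hdi : d⁻¹ = d := inv_eq_of_mul_eq_one_right hdd
  have hiso : Cfsg.IsIsolatedInvolution d := by
    refine ⟨hd, fun h hc => ?_⟩
    obtain ⟨k, hk⟩ := hprod h
    have h2 : orderOf (d * (h * d * h⁻¹)) ∣ 2 := by
      apply orderOf_dvd_of_pow_eq_one
      rw [hc.mul_pow, sq, sq, hdd, one_mul,
        show h * d * h⁻¹ * (h * d * h⁻¹) = h * (d * d) * h⁻¹ by group, hdd, mul_one, mul_inv_cancel]
    rw [hk] at h2
    have h1 : p ^ k = 1 := by
      rcases Nat.eq_zero_or_pos k with rfl | hkpos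
      · exact pow_zero p
      · exact absurd ((Nat.prime_dvd_prime_iff_eq hp Nat.prime_two).mp
          ((dvd_pow_self p hkpos.ne').trans h2)) hp2
    rw [h1, orderOf_eq_one_iff] at hk
    exact (mul_eq_one_iff_inv_eq.mp hk).symm.trans hdi
  have hzs := CfsgLib.Invol.zstar G hiso
  obtain ⟨M, hMdef⟩ : ∃ M : Subgroup G, M = Cfsg.oddCore G := ⟨_, rfl⟩
  have hMn : M.Normal := hMdef ▸ CfsgLib.Solvable.pPrimeCore_normal 2 G
  have hMchar : M.Characteristic := hMdef ▸ CfsgLib.Solvable.pPrimeCore_characteristic 2 G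
  have hMcop : (Nat.card M).Coprime 2 := hMdef ▸ CfsgLib.Solvable.pPrimeCore_coprime 2
  have hA : zpowers d ≤ normalizer (M : Set G) := fun a _ => by
    rw [normalizer_eq_top (H := M)]; exact mem_top a
  have hAcard : Nat.card (zpowers d) = 2 := by rw [Nat.card_zpowers, hd]
  have hcop : (Nat.card (zpowers d)).Coprime (Nat.card M) := by rw [hAcard]; exact hMcop.symm
  have hsolA : Group.IsSolvable (zpowers d) :=
    Group.isSolvable_of_comm fun a b => by
      obtain ⟨a, i, rfl⟩ := a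
      obtain ⟨b, j, rfl⟩ := b
      exact Subtype.ext ((Commute.refl d).zpow_zpow i j)
  -- elements of `M` inverted by `d` are `p`-elements
  have hinv : ∀ x ∈ M, d * x * d = x⁻¹ → ∃ k : ℕ, orderOf x = p ^ k := by
    intro x hx hxd
    have hodd : Odd (orderOf x) := by
      refine Odd.of_dvd_nat (Nat.coprime_two_right.mp hMcop) ?_
      exact (M.orderOf_mk x hx) ▸ orderOf_dvd_natCard _
    obtain ⟨k, hk⟩ := exists_square_root hodd
    have hy : d * x ^ k * d = (x ^ k)⁻¹ := by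
      rw [← inv_pow, ← hxd]
      conv_rhs => rw [show d * x * d = d * x * d⁻¹ by rw [hdi]]
      rw [conj_pow, hdi]
    obtain ⟨y, hy'⟩ : ∃ y, y = x ^ k := ⟨_, rfl⟩
    rw [← hy'] at hy hk
    obtain ⟨j, hj⟩ := hprod y⁻¹
    refine ⟨j, ?_⟩
    have e : d * (y⁻¹ * d * y⁻¹⁻¹) = x := by
      rw [inv_inv, ← mul_assoc, ← mul_assoc]
      have : d * y⁻¹ * d = y := by
        rw [← hy, show d * (d * y * d) * d = (d * d) * y * (d * d) by group, hdd, one_mul, mul_one]
      rw [this, hk]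
    rw [← e]; exact hj
  obtain ⟨P, hP⟩ := CfsgLib.Coprime.exists_invariant_sylow hA hcop (Or.inl hsolA) p
  -- the fixed points have `p`-power index in `M`
  obtain ⟨C, hC⟩ : ∃ C : Subgroup M, C = (centralizer ({d} : Set G)).subgroupOf M := ⟨_, rfl⟩
  have hCidx : ∀ q : ℕ, q.Prime → q ∣ C.index → q = p := by
    intro q hq hqd
    by_contra hqp
    have := Fact.mk hq
    obtain ⟨Q, hQ⟩ := CfsgLib.Coprime.exists_invariant_sylow hA hcop (Or.inl hsolA) q
    apply Q.not_dvd_index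
    refine hqd.trans (Subgroup.index_dvd_of_le ?_)
    intro x hx
    have hxQ : d * (x : G) * d ∈ (Q : Subgroup M).map M.subtype := by
      have := (mem_normalizer_iff.mp (hQ (mem_zpowers d)) (x : G)).mp
        (mem_map_of_mem M.subtype hx)
      rwa [hdi] at this
    obtain ⟨z, hz, hzx⟩ := hxQ
    rw [coe_subtype] at hzx
    obtain ⟨w, hw⟩ : ∃ w : M, w = x⁻¹ * z := ⟨_, rfl⟩
    have hwQ : w ∈ (Q : Subgroup M) := hw ▸ mul_mem (inv_mem hx) hz
    have hw' : (w : G) = (x : G)⁻¹ * (d * x * d) := by rw [hw, ← hzx]; rfl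
    have hwinv : d * (w : G) * d = (w : G)⁻¹ := by
      rw [hw', mul_inv_rev, inv_inv, mul_inv_rev, mul_inv_rev, hdi]
      calc d * ((x : G)⁻¹ * (d * x * d)) * d = d * (x : G)⁻¹ * d * x * (d * d) := by group
        _ = d * ((x : G)⁻¹ * d) * x := by rw [hdd, mul_one]; group
    obtain ⟨k, hk⟩ := hinv w w.2 hwinv
    obtain ⟨j, hj⟩ := IsPGroup.iff_orderOf.mp Q.2 ⟨w, hwQ⟩
    rw [Subgroup.orderOf_mk] at hj
    have hwj : orderOf (w : G) = q ^ j := by rw [Subgroup.orderOf_coe]; exact hj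
    have h1 : orderOf (w : G) = 1 := by
      have hcpq : (p ^ k).Coprime (q ^ j) :=
        Nat.Coprime.pow _ _ ((Nat.coprime_primes hp hq).mpr (Ne.symm hqp))
      exact Nat.eq_one_of_dvd_coprimes hcpq (hk ▸ dvd_rfl) (hwj ▸ dvd_rfl)
    rw [orderOf_eq_one_iff, hw', inv_mul_eq_one] at h1
    rw [hC, mem_subgroupOf, mem_centralizer_singleton_iff]
    calc (x : G) * d = (d * x * d) * d := by rw [← h1]
      _ = d * (x : G) * (d * d) := by group
      _ = d * (x : G) := by rw [hdd, mul_one]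
  have hidx : (P : Subgroup M).index.Coprime C.index :=
    Nat.coprime_of_dvd fun q hq h1 h2 => P.not_dvd_index (hCidx q hq h2 ▸ h1)
  have hfac := CfsgLib.Solvable.forall_exists_mul_of_coprime_index hidx
  -- the commutators of `M` with `d` generate a normal `p`-subgroup
  obtain ⟨S, hS⟩ : ∃ S : Set M, S = {s : M | ∃ m : M, (s : G) = (m : G) * d * (m : G)⁻¹ * d} :=
    ⟨_, rfl⟩
  have hSP : S ⊆ ((P : Subgroup M) : Set M) := by
    intro s hs
    rw [hS] at hs
    obtain ⟨m, hm⟩ := hs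
    obtain ⟨a, ha, c, hc, rfl⟩ := hfac m
    rw [hC, mem_subgroupOf, mem_centralizer_singleton_iff] at hc
    have haP : (a : G) ∈ (P : Subgroup M).map M.subtype := mem_map_of_mem M.subtype ha
    have hda := (mem_normalizer_iff.mp (hP (mem_zpowers d)) (a : G)⁻¹).mp (inv_mem haP)
    have hsm : (s : G) ∈ (P : Subgroup M).map M.subtype := by
      have e : (s : G) = (a : G) * (d * (a : G)⁻¹ * d⁻¹) := by
        rw [hm, hdi, Subgroup.coe_mul]
        calc (a : G) * c * d * ((a : G) * c)⁻¹ * d = (a : G) * (c * d) * (c : G)⁻¹ * (a : G)⁻¹ * d := by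
              group
          _ = (a : G) * (d * (a : G)⁻¹ * d) := by rw [hc]; group
      rw [e]
      exact mul_mem haP hda
    obtain ⟨z, hz, hzs⟩ := hsm
    rwa [← Subtype.ext hzs]
  obtain ⟨K, hK⟩ : ∃ K : Subgroup M, K = closure S := ⟨_, rfl⟩
  have hKp : IsPGroup p K := P.2.to_le (hK ▸ (closure_le _).mpr hSP)
  have hKn : K.Normal := by
    refine ⟨fun k hk x => ?_⟩
    rw [hK] at hk ⊢
    refine closure_induction (p := fun k _ => x * k * x⁻¹ ∈ closure S) ?_ ?_ ?_ ?_ hk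
    · intro s hs
      rw [hS] at hs
      obtain ⟨m, hm⟩ := hs
      have hxd : (x : G) * d * (x : G)⁻¹ * d ∈ M := by
        rw [mul_assoc (x : G) d, mul_assoc]
        refine mul_mem x.2 ?_
        have := hMn.conj_mem _ (inv_mem x.2) d
        rwa [hdi] at this
      obtain ⟨u, hu⟩ : ∃ u : M, u = ⟨_, hxd⟩ := ⟨_, rfl⟩
      have hu1 : u ∈ S := by rw [hS]; exact ⟨x, by rw [hu]⟩
      obtain ⟨v, hv⟩ : ∃ v : M, v = x * s * x⁻¹ * u := ⟨_, rfl⟩
      have hv1 : v ∈ S := by
        rw [hS]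
        refine ⟨x * m, ?_⟩
        simp only [hv, hu, Subgroup.coe_mul, Subgroup.coe_inv, hm]
        calc (x : G) * ((m : G) * d * (m : G)⁻¹ * d) * (x : G)⁻¹ *
              ((x : G) * d * (x : G)⁻¹ * d)
            = (x : G) * (m : G) * d * (m : G)⁻¹ * (d * d) * (x : G)⁻¹ * d := by group
          _ = _ := by rw [hdd]; group
      have : x * s * x⁻¹ = v * u⁻¹ := by rw [hv, mul_inv_cancel_right]
      rw [this]
      exact mul_mem (subset_closure hv1) (inv_mem (subset_closure hu1))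
    · simp
    · intro a b _ _ h1 h2
      rw [show x * (a * b) * x⁻¹ = (x * a * x⁻¹) * (x * b * x⁻¹) by group]
      exact mul_mem h1 h2
    · intro a _ h1
      rw [show x * a⁻¹ * x⁻¹ = (x * a * x⁻¹)⁻¹ by group]
      exact inv_mem h1
  -- conclusion
  have hchar := CfsgLib.Solvable.pCore_characteristic p M
  have hT : (Cfsg.pCore p M).map M.subtype ≤ Cfsg.pCore p G :=
    CfsgLib.Solvable.le_pCore inferInstance
      ((CfsgLib.Solvable.pCore_isPGroup (G := M) p).map _)
  have hx : d * (g * d * g⁻¹) ∈ M := by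
    have := hzs g
    rw [hdi, ← hMdef] at this
    rw [show d * (g * d * g⁻¹) = d * g * d * g⁻¹ by group]
    exact this
  obtain ⟨x, hxdef⟩ : ∃ x, x = d * (g * d * g⁻¹) := ⟨_, rfl⟩
  rw [← hxdef] at hx ⊢
  have hodd : Odd (orderOf x) :=
    Odd.of_dvd_nat (Nat.coprime_two_right.mp hMcop)
      ((M.orderOf_mk x hx) ▸ orderOf_dvd_natCard _)
  have hxd : d * x * d = x⁻¹ := by
    rw [hxdef, mul_inv_rev, show (g * d * g⁻¹)⁻¹ = g * d⁻¹ * g⁻¹ by group, hdi,
      show d * (d * (g * d * g⁻¹)) * d = d * d * (g * d * g⁻¹) * d by group, hdd, one_mul]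
  obtain ⟨k, hk⟩ := exists_square_root hodd
  obtain ⟨y, hy⟩ : ∃ y, y = x ^ k := ⟨_, rfl⟩
  have hyd : d * y⁻¹ * d = y := by
    have h1 : d * y * d = y⁻¹ := by
      rw [hy, ← inv_pow, ← hxd]
      conv_rhs => rw [show d * x * d = d * x * d⁻¹ by rw [hdi]]
      rw [conj_pow, hdi]
    rw [← h1, show d * (d * y * d) * d = (d * d) * y * (d * d) by group, hdd, one_mul, mul_one]
  have hxS : (⟨x, hx⟩ : M) ∈ S := by
    rw [hS]
    refine ⟨⟨y, hy ▸ pow_mem hx k⟩, ?_⟩
    show x = y * d * y⁻¹ * d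
    rw [mul_assoc y d, mul_assoc y, hyd, hy, hk]
  exact hT (mem_map_of_mem M.subtype (CfsgLib.Solvable.le_pCore hKn hKp (hK ▸ subset_closure hxS)))

end CfsgLib.Perm.InvolProd
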