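import Cfsg.Agent.Lib.Perm.SharplyTwo
import Cfsg.Agent.Lib.Classical.PGLTwo
import Mathlib.GroupTheory.GroupAction.SubMulAction.OfStabilizer
import Mathlib.FieldTheory.Finite.GaloisField

/-!
A finite sharply three-transitive group with abelian two-point stabilisers is `PGL_2(F)`.
-/

set_option autoImplicit false
set_option linter.style.haveILetI false

namespace CfsgLib.Perm

open MulAction

variable {α : Type*} [Fintype α] [DecidableEq α] (G : Subgroup (Equiv.Perm α))

theorem eq_one_of_fix_three (hsharp : ∀ x : Fin 3 ↪ α, stabilizer G x = ⊥) {g : G} {a b c : α}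
    (hab : a ≠ b) (hac : a ≠ c) (hbc : b ≠ c) (ha : g • a = a) (hb : g • b = b) (hc : g • c = c) :
    g = 1 := by
  have h := hsharp ⟨![a, b, c], fun i j e => by fin_cases i <;> fin_cases j <;> simp_all⟩
  rw [← Subgroup.mem_bot, ← h, mem_stabilizer_iff]
  ext i
  fin_cases i <;> assumption

theorem exists_smul_triple (h3 : IsMultiplyPretransitive G α 3) {a b c a' b' c' : α}
    (hab : a ≠ b) (hac : a ≠ c) (hbc : b ≠ c) (hab' : a' ≠ b') (hac' : a' ≠ c') (hbc' : b' ≠ c') :
    ∃ g : G, g • a = a' ∧ g • b = b' ∧ g • c = c' := by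
  obtain ⟨g, hg⟩ := isMultiplyPretransitive_iff.mp h3
    ⟨![a, b, c], fun i j e => by fin_cases i <;> fin_cases j <;> simp_all⟩
    ⟨![a', b', c'], fun i j e => by fin_cases i <;> fin_cases j <;> simp_all⟩
  exact ⟨g, DFunLike.congr_fun hg 0, DFunLike.congr_fun hg 1, DFunLike.congr_fun hg 2⟩

/-- Coordinates on the points other than `i` for a sharply three-transitive group with abelian
two-point stabilisers. -/
theorem exists_coordinates (h3 : IsMultiplyPretransitive G α 3)
    (hsharp : ∀ x : Fin 3 ↪ α, stabilizer G x = ⊥)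
    (hab : ∀ a b : α, a ≠ b → ∀ g h : G, g • a = a → g • b = b → h • a = a → h • b = b → g * h = h * g)
    {i o e : α} (hio : i ≠ o) (hie : i ≠ e) (hoe : o ≠ e) :
    ∃ (F : Type) (_ : Field F) (_ : Fintype F) (c : F → α), Function.Injective c ∧
      (∀ y, y ≠ i ↔ ∃ x, c x = y) ∧ c 0 = o ∧ c 1 = e ∧
      (∀ b : F, ∃ g : G, g • i = i ∧ ∀ x, g • c x = c (x + b)) ∧
      (∀ a : F, a ≠ 0 → ∃ g : G, g • i = i ∧ ∀ x, g • c x = c (a * x)) ∧
      Fintype.card α = Fintype.card F + 1 := by
  classical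
  let φ := toPermHom (stabilizer G i) (SubMulAction.ofStabilizer G i)
  let R : Subgroup (Equiv.Perm (SubMulAction.ofStabilizer G i)) := φ.range
  haveI : Fintype (SubMulAction.ofStabilizer G i) := Fintype.ofFinite _
  have hco : ∀ v : SubMulAction.ofStabilizer G i, (v : α) ≠ i := fun v => v.2
  have hlift : ∀ r : R, ∃ g : G, g • i = i ∧ ∀ v : SubMulAction.ofStabilizer G i, ((r • v : SubMulAction.ofStabilizer G i) : α) = g • (v : α) := by
    rintro ⟨_, g, rfl⟩
    exact ⟨g, g.2, fun v => rfl⟩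
  have hR2 : IsMultiplyPretransitive R (SubMulAction.ofStabilizer G i) 2 := by
    rw [isMultiplyPretransitive_iff]
    intro x y
    obtain ⟨g, g1, g2, g3⟩ := exists_smul_triple G h3 (Ne.symm (hco (x 0))) (Ne.symm (hco (x 1)))
      (fun h => absurd (x.injective (Subtype.ext h)) (by decide)) (Ne.symm (hco (y 0))) (Ne.symm (hco (y 1)))
      (fun h => absurd (y.injective (Subtype.ext h)) (by decide))
    refine ⟨⟨_, ⟨g, g1⟩, rfl⟩, Function.Embedding.ext fun k => Subtype.ext ?_⟩
    fin_cases k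
    exacts [g2, g3]
  have hRs : ∀ x : Fin 2 ↪ SubMulAction.ofStabilizer G i, stabilizer R x = ⊥ := by
    intro x
    rw [Subgroup.eq_bot_iff_forall]
    intro r hr
    obtain ⟨⟨g, hg⟩, hgr⟩ := r.2
    have hx : ∀ k, r • x k = x k := fun k => DFunLike.congr_fun hr k
    have hgx : ∀ k, g • (x k : α) = x k := fun k => by
      have := congrArg Subtype.val (hx k)
      rw [Subgroup.smul_def, ← hgr] at this
      exact this
    have h1 : g = 1 := eq_one_of_fix_three G hsharp (Ne.symm (hco (x 0))) (Ne.symm (hco (x 1)))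
      (fun h => absurd (x.injective (Subtype.ext h)) (by decide)) hg (hgx 0) (hgx 1)
    subst h1
    exact Subtype.ext (hgr.symm.trans (map_one φ))
  let o' : SubMulAction.ofStabilizer G i := ⟨o, Ne.symm hio⟩
  let e' : SubMulAction.ofStabilizer G i := ⟨e, Ne.symm hie⟩
  have hoe' : o' ≠ e' := fun h => hoe (congrArg Subtype.val h)
  have hcard2 : 2 ≤ Fintype.card (SubMulAction.ofStabilizer G i) := Fintype.one_lt_card_iff.mpr ⟨o', e', hoe'⟩
  obtain ⟨T, p, j, hp, hj, hq, hTn, hTc, -, hTt, hTr, -, -, -⟩ := sharply_two_structure R hR2 hRs hcard2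
  haveI := Fact.mk hp
  let ev : T → SubMulAction.ofStabilizer G i := fun t => t • o'
  have hev : Function.Bijective ev := by
    refine ⟨fun t u h => ?_, fun v => exists_smul_eq T o' v⟩
    have : u⁻¹ * t ∈ stabilizer T o' := by
      rw [mem_stabilizer_iff, mul_smul, inv_smul_eq_iff]; exact h
    rw [hTr, Subgroup.mem_bot, inv_mul_eq_one] at this
    exact this.symm
  let TE := Equiv.ofBijective ev hev
  let _ : CommGroup T := { (inferInstance : Group T) with mul_comm := hTc.1.1 }
  let _ : AddCommGroup (SubMulAction.ofStabilizer G i) := (TE.symm.trans Additive.ofMul).addCommGroup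
  have hzero : (0 : SubMulAction.ofStabilizer G i) = o' := by
    show TE 1 = o'
    exact one_smul T o'
  have hadd : ∀ v w : SubMulAction.ofStabilizer G i, v + w = TE.symm v • w := by
    intro v w
    show TE (TE.symm v * TE.symm w) = TE.symm v • w
    show (TE.symm v * TE.symm w) • o' = _
    rw [mul_smul, show TE.symm w • o' = w from TE.apply_symm_apply w]
  have hHadd : ∀ h : R, h • o' = o' → ∀ v w : SubMulAction.ofStabilizer G i, h • (v + w) = h • v + h • w := by
    intro h ho v w
    rw [hadd, hadd]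
    have hc : (⟨h * (TE.symm v : R) * h⁻¹, hTn.conj_mem _ (TE.symm v).2 h⟩ : T) = TE.symm (h • v) := by
      rw [Equiv.eq_symm_apply]
      show (h * (TE.symm v : R) * h⁻¹) • o' = h • v
      rw [mul_smul, mul_smul, inv_smul_eq_iff.mpr ho.symm, ← Subgroup.smul_def,
        show TE.symm v • o' = v from TE.apply_symm_apply v]
    rw [← hc]
    show h • (TE.symm v : R) • w = (h * (TE.symm v : R) * h⁻¹) • h • w
    rw [mul_smul, mul_smul, inv_smul_smul]
  let em : stabilizer R o' → AddMonoid.End (SubMulAction.ofStabilizer G i) := fun h =>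
    AddMonoidHom.mk' (fun v => (h : R) • v) (hHadd h h.2)
  let K : Subring (AddMonoid.End (SubMulAction.ofStabilizer G i)) := Subring.centralizer (Set.range em)
  have hcommH : ∀ g h : stabilizer R o', (g : R) * h = h * g := by
    rintro ⟨r, hr⟩ ⟨r', hr'⟩
    obtain ⟨⟨g, hg⟩, hgr⟩ := r.2
    obtain ⟨⟨g', hg'⟩, hgr'⟩ := r'.2
    have e1 : g • o = o := by
      have := congrArg Subtype.val hr
      rw [Subgroup.smul_def, ← hgr] at this; exact this
    have e2 : g' • o = o := by
      have := congrArg Subtype.val hr'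
      rw [Subgroup.smul_def, ← hgr'] at this; exact this
    refine Subtype.ext ?_
    show R.subtype r * R.subtype r' = R.subtype r' * R.subtype r
    rw [show R.subtype r = _ from hgr.symm, show R.subtype r' = _ from hgr'.symm, ← map_mul, ← map_mul]
    exact congrArg φ (Subtype.ext (hab i o hio g g' hg e1 hg' e2))
  have htrans : ∀ v : SubMulAction.ofStabilizer G i, v ≠ o' → ∃ h : stabilizer R o', (h : R) • e' = v := by
    intro v hv
    obtain ⟨h, h1, h2⟩ := exists_smul_pair hR2 hoe' (Ne.symm hv)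
    exact ⟨⟨h, h1⟩, h2⟩
  have hK : ∀ k : K, k = 0 ∨ ∃ h, (k : AddMonoid.End (SubMulAction.ofStabilizer G i)) = em h := by
    intro k
    have hk : ∀ (h : stabilizer R o') (v : SubMulAction.ofStabilizer G i), (k : AddMonoid.End _) ((h : R) • v) = (h : R) • (k : AddMonoid.End _) v :=
      fun h v => (DFunLike.congr_fun (Subring.mem_centralizer_iff.mp k.2 (em h) ⟨h, rfl⟩) v).symm
    by_cases he : (k : AddMonoid.End _) e' = o'
    · left
      refine Subtype.ext (DFunLike.ext _ _ fun v => ?_)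
      show (k : AddMonoid.End _) v = 0
      by_cases hv : v = o'
      · rw [hv, ← hzero, map_zero]
      · obtain ⟨h, rfl⟩ := htrans v hv
        rw [hk, he, hzero]; exact h.2
    · right
      obtain ⟨m, hm⟩ := htrans _ he
      refine ⟨m, DFunLike.ext _ _ fun v => ?_⟩
      show (k : AddMonoid.End _) v = (m : R) • v
      by_cases hv : v = o'
      · have hk0 : (k : AddMonoid.End (SubMulAction.ofStabilizer G i)) o' = o' := by rw [← hzero, map_zero]
        exact ((congrArg _ hv).trans (hk0.trans m.2.symm)).trans (congrArg ((m : R) • ·) hv.symm)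
      · obtain ⟨h, rfl⟩ := htrans v hv
        rw [hk, ← hm, ← mul_smul, hcommH, mul_smul]
  have hem : ∀ h, em h ∈ K := fun h => Subring.mem_centralizer_iff.mpr (by
    rintro _ ⟨g, rfl⟩
    refine DFunLike.ext _ _ fun v => ?_
    show (g : R) • (h : R) • v = (h : R) • (g : R) • v
    rw [← mul_smul, ← mul_smul, hcommH])
  let E : K → SubMulAction.ofStabilizer G i := fun k => (k : AddMonoid.End _) e'
  have hEb : Function.Bijective E := by
    constructor
    · intro k l h
      have h0 : E (k - l) = 0 := by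
        show (k : AddMonoid.End (SubMulAction.ofStabilizer G i)) e' - (l : AddMonoid.End (SubMulAction.ofStabilizer G i)) e' = 0
        exact sub_eq_zero.mpr h
      rcases hK (k - l) with h1 | ⟨m, hm⟩
      · exact sub_eq_zero.mp h1
      · exfalso
        simp only [E, hm] at h0
        rw [hzero] at h0
        exact hoe' (MulAction.injective (m : R) ((show (m : R) • o' = o' from m.2).trans (Eq.symm h0)))
    · intro v
      by_cases hv : v = o'
      · exact ⟨0, by rw [hv, ← hzero]; rfl⟩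
      · obtain ⟨h, hh⟩ := htrans v hv
        exact ⟨⟨em h, hem h⟩, hh⟩
  haveI : Nontrivial K := ⟨⟨0, 1, fun h => hoe' (hzero.symm.trans (congrArg E h))⟩⟩
  letI : CommRing K :=
    { (inferInstance : Ring K) with
      mul_comm := fun k l => by
        rcases hK k with rfl | ⟨g, hg⟩
        · simp
        rcases hK l with rfl | ⟨h, hh⟩
        · simp
        refine Subtype.ext (DFunLike.ext _ _ fun v => ?_)
        show (k : AddMonoid.End _) ((l : AddMonoid.End _) v) = (l : AddMonoid.End _) ((k : AddMonoid.End _) v)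
        rw [hg, hh]
        show (g : R) • (h : R) • v = (h : R) • (g : R) • v
        rw [← mul_smul, ← mul_smul, hcommH] }
  haveI : NoZeroDivisors K := ⟨fun {k l} h => by
    rcases hK k with h1 | ⟨g, hg⟩
    · exact Or.inl h1
    rcases hK l with h2 | ⟨m, hm⟩
    · exact Or.inr h2
    exfalso
    have h0 : ((k * l : K) : AddMonoid.End _) e' = 0 := by rw [h]; rfl
    change (k : AddMonoid.End _) ((l : AddMonoid.End _) e') = 0 at h0
    rw [hg, hm, hzero] at h0
    refine hoe' (MulAction.injective ((g : R) * m) ?_)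
    show ((g : R) * m) • o' = ((g : R) * m) • e'
    rw [mul_smul, mul_smul, show (m : R) • o' = o' from m.2, show (g : R) • o' = o' from g.2]
    exact h0.symm⟩
  haveI : IsDomain K := NoZeroDivisors.to_isDomain K
  haveI : Finite K := Finite.of_injective E hEb.1
  letI : Field K := (Finite.isField_of_domain K).toField
  letI : Fintype K := Fintype.ofFinite K
  have hcardK : Fintype.card K = p ^ j := by rw [Fintype.card_of_bijective hEb, hq]
  letI : Fintype (GaloisField p j) := Fintype.ofFinite _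
  let ψ : GaloisField p j ≃+* K := FiniteField.ringEquivOfCardEq
    (by rw [hcardK, ← Nat.card_eq_fintype_card, GaloisField.card p j (by omega)])
  refine ⟨GaloisField p j, inferInstance, inferInstance, fun x => (E (ψ x) : α), ?_, ?_, ?_, ?_, ?_, ?_, ?_⟩
  · exact fun x y h => ψ.injective (hEb.1 (Subtype.ext h))
  · intro y
    refine ⟨fun hy => ?_, ?_⟩
    · obtain ⟨k, hk⟩ := hEb.2 ⟨y, hy⟩
      exact ⟨ψ.symm k, by simp only [ψ.apply_symm_apply, hk]⟩
    · rintro ⟨x, rfl⟩
      exact hco _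
  · simp only [map_zero]
    exact congrArg Subtype.val hzero
  · simp only [map_one]
    rfl
  · intro b
    obtain ⟨g, hg, hgv⟩ := hlift ((TE.symm (E (ψ b)) : R))
    refine ⟨g, hg, fun x => ?_⟩
    rw [← hgv]
    congr 1
    rw [map_add, add_comm (ψ x)]
    show _ = ((ψ b : AddMonoid.End _) e') + (ψ x : AddMonoid.End _) e'
    rw [hadd]
    rfl
  · intro a ha
    rcases hK (ψ a) with h | ⟨m, hm⟩
    · exact absurd (ψ.injective (h.trans (map_zero ψ).symm)) ha
    obtain ⟨g, hg, hgv⟩ := hlift (m : R)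
    refine ⟨g, hg, fun x => ?_⟩
    show g • _ = (E (ψ (a * x)) : α)
    rw [← hgv, map_mul]
    congr 1
    show _ = (ψ a : AddMonoid.End _) ((ψ x : AddMonoid.End _) e')
    rw [hm]
    rfl
  · rw [← Nat.card_eq_fintype_card (α := GaloisField p j), GaloisField.card p j (by omega), ← hq,
      ← Nat.card_eq_fintype_card (α := SubMulAction.ofStabilizer G i),
      show Nat.card (SubMulAction.ofStabilizer G i) = Nat.card {x : α // x ≠ i} from
        Nat.card_congr (Equiv.subtypeEquivRight fun x => Iff.rfl),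
      Nat.card_eq_fintype_card, Fintype.card_subtype_compl, Fintype.card_subtype_eq]
    have := Fintype.card_pos_iff.mpr ⟨i⟩
    omega

/-- The regular normal subgroup of a point stabiliser of a sharply three-transitive group. -/
theorem sharply_three_kernel (h3 : IsMultiplyPretransitive G α 3)
    (hsharp : ∀ x : Fin 3 ↪ α, stabilizer G x = ⊥) (hn : 3 ≤ Fintype.card α) (i : α) :
    ∃ (N : Subgroup G) (p j : ℕ), p.Prime ∧ Fintype.card α = p ^ j + 1 ∧ Nat.card N = p ^ j ∧
      IsMulCommutative N ∧ (∀ x ∈ N, x ^ p = 1) ∧ (∀ g : G, g • i = i → ∀ x ∈ N, g * x * g⁻¹ ∈ N) ∧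
      (∀ x ∈ N, x • i = i ∧ ((∃ y, y ≠ i ∧ x • y = y) → x = 1)) := by
  classical
  let φ := toPermHom (stabilizer G i) (SubMulAction.ofStabilizer G i)
  let R : Subgroup (Equiv.Perm (SubMulAction.ofStabilizer G i)) := φ.range
  haveI : Fintype (SubMulAction.ofStabilizer G i) := Fintype.ofFinite _
  have hco : ∀ v : SubMulAction.ofStabilizer G i, (v : α) ≠ i := fun v => v.2
  have hcard : Fintype.card (SubMulAction.ofStabilizer G i) + 1 = Fintype.card α := by
    rw [← Nat.card_eq_fintype_card (α := SubMulAction.ofStabilizer G i),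
      show Nat.card (SubMulAction.ofStabilizer G i) = Nat.card {x : α // x ≠ i} from
        Nat.card_congr (Equiv.subtypeEquivRight fun x => Iff.rfl),
      Nat.card_eq_fintype_card, Fintype.card_subtype_compl, Fintype.card_subtype_eq]
    omega
  have hφ : Function.Injective φ := by
    rw [injective_iff_map_eq_one]
    rintro ⟨g, hg⟩ h
    refine Subtype.ext (Subtype.ext (Equiv.ext fun y => ?_))
    by_cases hy : y = i
    · rw [hy]; exact hg
    · exact congrArg Subtype.val (Equiv.congr_fun h ⟨y, hy⟩)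
  have hR2 : IsMultiplyPretransitive R (SubMulAction.ofStabilizer G i) 2 := by
    rw [isMultiplyPretransitive_iff]
    intro x y
    obtain ⟨g, g1, g2, g3⟩ := exists_smul_triple G h3 (Ne.symm (hco (x 0))) (Ne.symm (hco (x 1)))
      (fun h => absurd (x.injective (Subtype.ext h)) (by decide)) (Ne.symm (hco (y 0))) (Ne.symm (hco (y 1)))
      (fun h => absurd (y.injective (Subtype.ext h)) (by decide))
    refine ⟨⟨_, ⟨g, g1⟩, rfl⟩, Function.Embedding.ext fun k => Subtype.ext ?_⟩
    fin_cases k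
    exacts [g2, g3]
  have hRs : ∀ x : Fin 2 ↪ SubMulAction.ofStabilizer G i, stabilizer R x = ⊥ := by
    intro x
    rw [Subgroup.eq_bot_iff_forall]
    intro r hr
    obtain ⟨⟨g, hg⟩, hgr⟩ := r.2
    have hgx : ∀ k, g • (x k : α) = x k := fun k => by
      have := congrArg Subtype.val (show r • x k = x k from DFunLike.congr_fun hr k)
      rw [Subgroup.smul_def, ← hgr] at this
      exact this
    have h1 : g = 1 := eq_one_of_fix_three G hsharp (Ne.symm (hco (x 0))) (Ne.symm (hco (x 1)))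
      (fun h => absurd (x.injective (Subtype.ext h)) (by decide)) hg (hgx 0) (hgx 1)
    subst h1
    exact Subtype.ext (hgr.symm.trans (map_one φ))
  obtain ⟨T, p, j, hp, -, hq, hTn, hTc, hTp, hTt, hTr, -, hTcard, -⟩ := sharply_two_structure R hR2 hRs (by omega)
  let N' : Subgroup (stabilizer G i) := T.comap φ.rangeRestrict
  refine ⟨N'.map (stabilizer G i).subtype, p, j, hp, by omega, ?_, ⟨⟨?_⟩⟩, ?_, ?_, ?_⟩
  · rw [Subgroup.card_map_of_injective (stabilizer G i).subtype_injective, ← hq, ← hTcard]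
    exact Nat.card_congr ((MonoidHom.ofInjective hφ).toEquiv.subtypeEquiv fun _ => Iff.rfl)
  · rintro ⟨_, x, hx, rfl⟩ ⟨_, y, hy, rfl⟩
    refine Subtype.ext (congrArg (fun z : stabilizer G i => (z : G)) (hφ (a₁ := x * y) (a₂ := y * x) ?_))
    have := congrArg Subtype.val (hTc.1.1 (⟨_, hx⟩ : T) ⟨_, hy⟩)
    have h' := congrArg Subtype.val this
    simpa using h'
  · rintro _ ⟨x, hx, rfl⟩
    rw [← map_pow]
    refine (congrArg (stabilizer G i).subtype (hφ (a₁ := x ^ p) (a₂ := 1) ?_)).trans (map_one _)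
    have := congrArg Subtype.val (hTp _ hx)
    simpa using this
  · rintro g hg _ ⟨x, hx, rfl⟩
    refine ⟨⟨g, hg⟩ * x * (⟨g, hg⟩ : stabilizer G i)⁻¹, ?_, rfl⟩
    show φ.rangeRestrict _ ∈ T
    rw [map_mul, map_mul, map_inv]
    exact hTn.conj_mem _ hx _
  · rintro _ ⟨x, hx, rfl⟩
    refine ⟨x.2, fun ⟨y, hy, hxy⟩ => ?_⟩
    have hm : (⟨φ.rangeRestrict x, hx⟩ : T) ∈ stabilizer T (⟨y, hy⟩ : SubMulAction.ofStabilizer G i) :=
      Subtype.ext hxy
    rw [hTr, Subgroup.mem_bot] at hm
    have h' := congrArg Subtype.val (congrArg Subtype.val hm)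
    exact (congrArg (stabilizer G i).subtype (hφ (h'.trans (map_one φ).symm))).trans (map_one _)

/-- The centraliser in a two-point stabiliser of the involution swapping the two points. -/
theorem sharply_three_swap (hsharp : ∀ x : Fin 3 ↪ α, stabilizer G x = ⊥) {a b c : α}
    (hab : a ≠ b) (hac : a ≠ c) (hbc : b ≠ c) {s : G} (hsa : s • a = b) (hsb : s • b = a) (hsc : s • c = c) :
    s * s = 1 ∧ Nat.card {g : G // g • a = a ∧ g • b = b ∧ s * g = g * s} ≤ 2 ∧
      (Odd (Fintype.card α) → Nat.card {g : G // g • a = a ∧ g • b = b ∧ s * g = g * s} ≤ 1) := by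
  classical
  have hss : s * s = 1 := eq_one_of_fix_three G hsharp hab hac hbc (by rw [mul_smul, hsa, hsb])
    (by rw [mul_smul, hsb, hsa]) (by rw [mul_smul, hsc, hsc])
  set S : Finset α := Finset.univ.filter fun y => s • y = y with hS
  have hle : Nat.card {g : G // g • a = a ∧ g • b = b ∧ s * g = g * s} ≤ S.card := by
    rw [← Nat.card_eq_finsetCard]
    refine Nat.card_le_card_of_injective (fun g => (⟨(g : G) • c, ?_⟩ : S)) fun g g' e => ?_
    · refine Finset.mem_filter.mpr ⟨Finset.mem_univ _, ?_⟩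
      rw [smul_smul, g.2.2.2, mul_smul, hsc]
    · have e' := congrArg Subtype.val e
      have h1 : (g' : G)⁻¹ * g = 1 := eq_one_of_fix_three G hsharp hab hac hbc
        (by rw [mul_smul, g.2.1, inv_smul_eq_iff, g'.2.1]) (by rw [mul_smul, g.2.2.1, inv_smul_eq_iff, g'.2.2.1])
        (by rw [mul_smul, inv_smul_eq_iff]; exact e')
      exact Subtype.ext (inv_mul_eq_one.mp h1).symm
  have hS2 : S.card ≤ 2 := by
    by_contra h
    obtain ⟨x, hx, y, hy, z, hz, hxy, hxz, hyz⟩ := Finset.two_lt_card.mp (not_le.mp h)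
    simp only [hS, Finset.mem_filter, Finset.mem_univ, true_and] at hx hy hz
    rw [eq_one_of_fix_three G hsharp hxy hxz hyz hx hy hz, one_smul] at hsa
    exact hab hsa
  refine ⟨hss, hle.trans hS2, fun ho => hle.trans ?_⟩
  haveI : Fact (Nat.Prime 2) := ⟨Nat.prime_two⟩
  have hσ : (s : Equiv.Perm α) ^ 2 ^ 1 = 1 := by
    rw [pow_one, ← SubmonoidClass.coe_pow, pow_two, hss, Subgroup.coe_one]
  have h1 := Equiv.Perm.card_compl_support_modEq (p := 2) hσ
  have e : S = (s : Equiv.Perm α).supportᶜ := by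
    ext y
    simp [hS, Equiv.Perm.mem_support, Subgroup.smul_def]
  rw [Nat.odd_iff] at ho
  rw [← e, Nat.ModEq] at h1
  omega

open scoped LinearAlgebra.Projectivization in
/-- A finite sharply three-transitive group with abelian two-point stabilisers is `PGL_2(F)`. -/
theorem sharply_three_pgl_of_abelian (h3 : IsMultiplyPretransitive G α 3)
    (hsharp : ∀ x : Fin 3 ↪ α, stabilizer G x = ⊥)
    (hab : ∀ a b : α, a ≠ b → ∀ g h : G, g • a = a → g • b = b → h • a = a → h • b = b → g * h = h * g)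
    (hn : 3 ≤ Fintype.card α) :
    ∃ (F : Type) (_ : Field F) (_ : Fintype F), Fintype.card α = Fintype.card F + 1 ∧
      Nonempty (G ≃* Matrix.ProjGenLinGroup (Fin 2) F) := by
  classical
  obtain ⟨i, o, u, hio, hiu, hou⟩ := Fintype.two_lt_card_iff.mp hn
  obtain ⟨F, _, _, c, hc, hrange, hc0, hc1, htr, hsc, hcard⟩ := exists_coordinates G h3 hsharp hab hio hiu hou
  refine ⟨F, inferInstance, inferInstance, hcard, ?_⟩
  have hci : ∀ x, c x ≠ i := fun x => (hrange _).mpr ⟨x, rfl⟩
  obtain ⟨s, hsi, hso, hsu⟩ := exists_smul_triple G h3 hio hiu hou (Ne.symm hio) hou hiu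
  have hss : ∀ y : α, s • s • y = y := by
    have : s * s = 1 := eq_one_of_fix_three G hsharp hio hiu hou (by rw [mul_smul, hsi, hso])
      (by rw [mul_smul, hso, hsi]) (by rw [mul_smul, hsu, hsu])
    intro y
    rw [smul_smul, this, one_smul]
  have hne0 : ∀ x : F, x ≠ 0 → c x ≠ o := fun x hx h => hx (hc (h.trans hc0.symm))
  have hfex : ∀ x : F, x ≠ 0 → ∃ y : F, y ≠ 0 ∧ s • c x = c y := by
    intro x hx
    have h1 : s • c x ≠ i := fun h => hne0 x hx (MulAction.injective s (h.trans hso.symm))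
    obtain ⟨y, hy⟩ := (hrange _).mp h1
    refine ⟨y, fun hy0 => hci x (MulAction.injective s ?_), hy.symm⟩
    show s • c x = s • i
    rw [← hy, hy0, hc0, hsi]
  choose! f hf0 hf using hfex
  have hf1 : f 1 = 1 := hc (by rw [← hf 1 one_ne_zero, hc1, hsu])
  have hff : ∀ x, x ≠ 0 → f (f x) = x := fun x hx => hc (by rw [← hf _ (hf0 x hx), ← hf x hx, hss])
  have hagree : ∀ g g' : G, g • i = g' • i → g • o = g' • o → g • u = g' • u → g = g' := by
    intro g g' h1 h2 h3'
    have := eq_one_of_fix_three G hsharp (g := g'⁻¹ * g) hio hiu hou (by rw [mul_smul, h1, inv_smul_smul])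
      (by rw [mul_smul, h2, inv_smul_smul]) (by rw [mul_smul, h3', inv_smul_smul])
    exact (inv_mul_eq_one.mp this).symm
  have hfmul : ∀ a x, a ≠ 0 → x ≠ 0 → f (a * x) = f a * f x := by
    intro a x ha hx
    obtain ⟨g, hgi, hg⟩ := hsc a ha
    obtain ⟨g', hgi', hg'⟩ := hsc (f a) (hf0 a ha)
    have hgo : g • o = o := by have := hg 0; rwa [hc0, mul_zero, hc0] at this
    have hgo' : g' • o = o := by have := hg' 0; rwa [hc0, mul_zero, hc0] at this
    have e : s * g = g' * s := hagree _ _ (by rw [mul_smul, mul_smul, hgi, hsi, hgo'])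
      (by rw [mul_smul, mul_smul, hgo, hso, hgi'])
      (by rw [mul_smul, mul_smul, hsu, ← hc1, hg, hg', mul_one, mul_one, hf a ha])
    apply hc
    rw [← hf _ (mul_ne_zero ha hx), ← hg, ← mul_smul, e, mul_smul, hf x hx, hg']
  have hfix : ∀ y, y ≠ 0 → f y = y → y = 1 ∨ y = -1 := by
    intro y hy hfy
    refine (sq_eq_one_iff).mp ?_
    by_contra h
    have h2 : f (y ^ 2) = y ^ 2 := by rw [pow_two, hfmul y y hy hy, hfy]
    have hy1 : y ≠ 1 := fun e => h (by rw [e, one_pow])
    have hy2 : y ≠ y ^ 2 := fun e => hy1 (mul_left_cancel₀ hy (by rw [mul_one, ← pow_two, ← e]))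
    have hs1 : s = 1 := eq_one_of_fix_three G hsharp (a := u) (b := c y) (c := c (y ^ 2))
      (fun e => hy1 (hc (hc1.trans e)).symm) (fun e => h (hc (hc1.trans e)).symm) (fun e => hy2 (hc e))
      hsu (by rw [hf y hy, hfy]) (by rw [hf _ (pow_ne_zero 2 hy), h2])
    rw [hs1, one_smul] at hsi
    exact hio hsi
  -- the element `x ↦ 1 - x`
  obtain ⟨v, hvi, hv⟩ : ∃ v : G, v • i = i ∧ ∀ x, v • c x = c (1 - x) := by
    obtain ⟨g₁, h1, h1'⟩ := htr 1
    obtain ⟨g₂, h2, h2'⟩ := hsc (-1) (neg_ne_zero.mpr one_ne_zero)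
    exact ⟨g₁ * g₂, by rw [mul_smul, h2, h1], fun x => by rw [mul_smul, h2', h1']; congr 1; ring⟩
  have hrel : ∀ x, x ≠ 0 → x ≠ 1 → 1 - f (1 - x) = f (1 - f x) := by
    have hcube : (s * v) * ((s * v) * (s * v)) = 1 := by
      have hvo : v • o = u := by rw [← hc0, hv, sub_zero, hc1]
      have hvu : v • u = o := by rw [← hc1, hv, sub_self, hc0]
      refine eq_one_of_fix_three G hsharp hio hiu hou ?_ ?_ ?_ <;>
        simp only [mul_smul, hvi, hsi, hvo, hsu, hvu, hso]
    intro x hx hx1
    have hx' : 1 - x ≠ 0 := sub_ne_zero.mpr (Ne.symm hx1)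
    have hfx : f x ≠ 1 := fun e => hx1 (by rw [← hff x hx, e, hf1])
    have h1 : f (1 - x) ≠ 1 := fun e => hx (by
      have := hff _ hx'; rw [e, hf1] at this; linear_combination this)
    have h2 : 1 - f (1 - x) ≠ 0 := sub_ne_zero.mpr (Ne.symm h1)
    have h3' : f (1 - f (1 - x)) ≠ 1 := fun e => hf0 _ hx' (by
      have := hff _ h2; rw [e, hf1] at this; linear_combination this)
    have key : f (1 - f (1 - f (1 - x))) = x := by
      apply hc
      conv_rhs => rw [← one_smul G (c x), ← hcube]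
      simp only [mul_smul]
      rw [hv, hf _ hx', hv, hf _ h2, hv, hf _ (sub_ne_zero.mpr (Ne.symm h3'))]
    have e1 : 1 - f (1 - f (1 - x)) = f x := by
      conv_rhs => rw [← key]
      rw [hff _ (sub_ne_zero.mpr (Ne.symm h3'))]
    have e2 : f (1 - f (1 - x)) = 1 - f x := by linear_combination -e1
    rw [← e2, hff _ h2]
  have hinv : ∀ x, x ≠ 0 → f x = x⁻¹ := by
    have hpm : ∀ x, x ≠ 0 → x * f x = 1 ∨ x * f x = -1 := fun x hx =>
      hfix _ (mul_ne_zero hx (hf0 x hx)) (by rw [hfmul _ _ hx (hf0 x hx), hff x hx, mul_comm])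
    have hneg : f (-1) = -1 := by
      have h1 : f (-1) * f (-1) = 1 := by
        rw [← hfmul _ _ (neg_ne_zero.mpr one_ne_zero) (neg_ne_zero.mpr one_ne_zero), neg_mul_neg, one_mul, hf1]
      rcases mul_self_eq_one_iff.mp h1 with h | h
      · have := hff (-1) (neg_ne_zero.mpr one_ne_zero)
        rw [h, hf1] at this
        rw [h]; exact this
      · exact h
    by_cases h2 : (1 : F) = -1
    · intro x hx
      exact eq_inv_of_mul_eq_one_right ((hpm x hx).elim id (fun h => h.trans h2.symm))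
    have hbad : ∀ x, x ≠ 0 → x * f x = -1 → x ^ 2 = x + 1 := by
      intro x hx h
      have hx1 : x ≠ 1 := fun e => h2 (by rw [e, one_mul, hf1] at h; exact h)
      have hxn : x + 1 ≠ 0 := fun e => h2 (by
        rw [show x = -1 by linear_combination e, hneg, neg_mul_neg, one_mul] at h; exact h)
      have hx' : 1 - x ≠ 0 := sub_ne_zero.mpr (Ne.symm hx1)
      have key := hrel x hx hx1
      rw [show 1 - f x = (x + 1) * x⁻¹ by
        field_simp; linear_combination -h, hfmul _ _ hxn (inv_ne_zero hx)] at key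
      have hfi : f x⁻¹ * f x = 1 := by rw [← hfmul _ _ (inv_ne_zero hx) hx, inv_mul_cancel₀ hx, hf1]
      have e3 : f x⁻¹ = -x := by linear_combination (-x) * hfi + f x⁻¹ * h
      rw [e3] at key
      rcases hpm _ hx' with hA | hA <;> rcases hpm _ hxn with hB | hB
      · exact absurd (by linear_combination (exp := 1) (-(1 - x) * (x + 1)) * key + (-(x + 1)) * hA + (x * (1 - x)) * hB : (2 : F) * x ^ 2 = 0)
          (mul_ne_zero (fun e => h2 (by linear_combination e)) (pow_ne_zero 2 hx))
      · exact absurd (by linear_combination (exp := 1) (-(1 - x) * (x + 1)) * key + (-(x + 1)) * hA + (x * (1 - x)) * hB : (2 : F) * x = 0)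
          (mul_ne_zero (fun e => h2 (by linear_combination e)) hx)
      · have : (2 : F) * (x ^ 2 - x - 1) = 0 := by
          linear_combination (-(1 - x) * (x + 1)) * key + (-(x + 1)) * hA + (x * (1 - x)) * hB
        rcases mul_eq_zero.mp this with e | e
        · exact absurd (by linear_combination e) h2
        · linear_combination e
      · exact absurd (by linear_combination ((1 - x) * (x + 1)) * key + (x + 1) * hA + (-(x * (1 - x))) * hB : (2 : F) = 0)
          (fun e => h2 (by linear_combination e))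
    intro x hx
    refine eq_inv_of_mul_eq_one_right ((hpm x hx).resolve_right fun h => ?_)
    have e1 := hbad x hx h
    have e2 := hbad (-x) (neg_ne_zero.mpr hx) (by
      rw [show f (-x) = f (-1) * f x by rw [← hfmul _ _ (neg_ne_zero.mpr one_ne_zero) hx, neg_one_mul], hneg]
      linear_combination h)
    exact hx (mul_left_cancel₀ (fun e => h2 (by linear_combination e) : (2 : F) ≠ 0) (by linear_combination e2 - e1))
  -- the projective line
  let P := ℙ F (Fin 2 → F)
  have hv1 : ∀ x : F, (![x, 1] : Fin 2 → F) ≠ 0 := fun x h => one_ne_zero (congrFun h 1)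
  let cinv : α → F := Function.invFun c
  have hcinv : ∀ x, cinv (c x) = x := Function.leftInverse_invFun hc
  let ε : α → P := fun y => if y = i then Projectivization.mk F ![1, 0] CfsgLib.Classical.stdVec_zero_ne
    else Projectivization.mk F ![cinv y, 1] (hv1 _)
  have hεi : ε i = Projectivization.mk F ![1, 0] CfsgLib.Classical.stdVec_zero_ne := if_pos rfl
  have hεc : ∀ x, ε (c x) = Projectivization.mk F ![x, 1] (hv1 x) := fun x => by
    simp only [ε, if_neg (hci x), hcinv]
  have hcases : ∀ y, y = i ∨ ∃ x, c x = y := fun y => (em (y = i)).imp_right (hrange y).mp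
  have hε : Function.Bijective ε := by
    constructor
    · intro y y' h
      rcases hcases y with rfl | ⟨x, rfl⟩ <;> rcases hcases y' with rfl | ⟨x', rfl⟩
      · rfl
      · rw [hεi, hεc, Projectivization.mk_eq_mk_iff'] at h
        obtain ⟨a, ha⟩ := h
        have h0 := congrFun ha 0; have h1 := congrFun ha 1
        simp at h0 h1
        rw [h1] at h0; simp at h0
      · rw [hεi, hεc, Projectivization.mk_eq_mk_iff'] at h
        obtain ⟨a, ha⟩ := h
        have h1 := congrFun ha 1
        simp at h1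
      · rw [hεc, hεc, Projectivization.mk_eq_mk_iff'] at h
        obtain ⟨a, ha⟩ := h
        have h0 := congrFun ha 0; have h1 := congrFun ha 1
        simp at h0 h1
        rw [h1, one_mul] at h0
        rw [h0]
    · intro z
      induction z using Projectivization.ind with | _ w hw =>
      by_cases h : w 1 = 0
      · refine ⟨i, ?_⟩
        rw [hεi, Projectivization.mk_eq_mk_iff']
        have h0 : w 0 ≠ 0 := fun h0 => hw (funext fun k => by fin_cases k <;> simp [h, h0])
        exact ⟨(w 0)⁻¹, funext fun k => by fin_cases k <;> simp [h, h0]⟩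
      · refine ⟨c (w 0 / w 1), ?_⟩
        rw [hεc, Projectivization.mk_eq_mk_iff']
        exact ⟨(w 1)⁻¹, funext fun k => by fin_cases k <;> simp [h, div_eq_inv_mul]⟩
  let Q : G → Matrix.ProjGenLinGroup (Fin 2) F → Prop := fun g π => ∀ y, ε (g • y) = π • ε y
  have hQmul : ∀ {g h π ρ}, Q g π → Q h ρ → Q (g * h) (π * ρ) := fun {g h π ρ} hg hh y => by
    rw [mul_smul, hg, hh, mul_smul]
  have hdet : ∀ a b c' d : F, a * d - b * c' ≠ 0 → ∃ A : Matrix.GeneralLinearGroup (Fin 2) F, (A : Matrix (Fin 2) (Fin 2) F) = !![a, b; c', d] :=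
    fun a b c' d h => ⟨Matrix.GeneralLinearGroup.mk'' _ (by rw [isUnit_iff_ne_zero, Matrix.det_fin_two_of]; exact h), rfl⟩
  have hQt : ∀ g : G, g • i = i → (∃ b, ∀ x, g • c x = c (x + b)) → ∃ π, Q g π := by
    rintro g hgi ⟨b, hg⟩
    obtain ⟨A, hA⟩ := hdet 1 b 0 1 (by simp)
    refine ⟨Matrix.ProjGenLinGroup.mk A, fun y => ?_⟩
    rcases hcases y with rfl | ⟨x, rfl⟩
    · rw [hgi, hεi, Projectivization.PGL.mk_smul_mk, Projectivization.mk_eq_mk_iff']
      exact ⟨1, funext fun k => by fin_cases k <;> simp [hA, Units.smul_def, Matrix.smul_eq_mulVec]⟩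
    · rw [hg, hεc, hεc, Projectivization.PGL.mk_smul_mk, Projectivization.mk_eq_mk_iff']
      exact ⟨1, funext fun k => by fin_cases k <;> simp [hA, Units.smul_def, Matrix.smul_eq_mulVec]⟩
  have hQh : ∀ g : G, g • i = i → (∃ a, a ≠ 0 ∧ ∀ x, g • c x = c (a * x)) → ∃ π, Q g π := by
    rintro g hgi ⟨a, ha, hg⟩
    obtain ⟨A, hA⟩ := hdet a 0 0 1 (by simpa)
    refine ⟨Matrix.ProjGenLinGroup.mk A, fun y => ?_⟩
    rcases hcases y with rfl | ⟨x, rfl⟩
    · rw [hgi, hεi, Projectivization.PGL.mk_smul_mk, Projectivization.mk_eq_mk_iff']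
      exact ⟨a⁻¹, funext fun k => by fin_cases k <;> simp [hA, ha, Units.smul_def, Matrix.smul_eq_mulVec]⟩
    · rw [hg, hεc, hεc, Projectivization.PGL.mk_smul_mk, Projectivization.mk_eq_mk_iff']
      exact ⟨1, funext fun k => by fin_cases k <;> simp [hA, mul_comm x a, Units.smul_def, Matrix.smul_eq_mulVec]⟩
  have hQs : ∃ π, Q s π := by
    obtain ⟨A, hA⟩ := hdet 0 1 1 0 (by simp)
    refine ⟨Matrix.ProjGenLinGroup.mk A, fun y => ?_⟩
    rcases hcases y with rfl | ⟨x, rfl⟩
    · rw [hsi, hεi, ← hc0, hεc, Projectivization.PGL.mk_smul_mk, Projectivization.mk_eq_mk_iff']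
      exact ⟨1, funext fun k => by fin_cases k <;> simp [hA, Units.smul_def, Matrix.smul_eq_mulVec]⟩
    by_cases hx : x = 0
    · rw [hx, hεc, hc0, hso, hεi, Projectivization.PGL.mk_smul_mk, Projectivization.mk_eq_mk_iff']
      exact ⟨1, funext fun k => by fin_cases k <;> simp [hA, Units.smul_def, Matrix.smul_eq_mulVec]⟩
    · rw [hf x hx, hinv x hx, hεc, hεc, Projectivization.PGL.mk_smul_mk, Projectivization.mk_eq_mk_iff']
      exact ⟨x⁻¹, funext fun k => by fin_cases k <;> simp [hA, hx, Units.smul_def, Matrix.smul_eq_mulVec]⟩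
  have hQB : ∀ k : G, k • i = i → ∃ π, Q k π := by
    intro k hki
    have h1 : k • o ≠ i := fun e => hio (MulAction.injective k (hki.trans e.symm))
    obtain ⟨b, hb⟩ := (hrange _).mp h1
    obtain ⟨t, hti, ht⟩ := htr b
    have h2 : (t⁻¹ * k) • i = i := by rw [mul_smul, hki, inv_smul_eq_iff, hti]
    have h3' : (t⁻¹ * k) • o = o := by rw [mul_smul, ← hb, inv_smul_eq_iff, ← hc0, ht, zero_add]
    obtain ⟨a, ha⟩ := (hrange ((t⁻¹ * k) • u)).mp fun e => hiu (MulAction.injective (t⁻¹ * k) (h2.trans e.symm))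
    have ha0 : a ≠ 0 := fun e => hou (MulAction.injective (t⁻¹ * k) (by
      show (t⁻¹ * k) • o = (t⁻¹ * k) • u
      rw [h3', ← ha, e, hc0]))
    obtain ⟨h, hhi, hh⟩ := hsc a ha0
    have e : t⁻¹ * k = h := hagree _ _ (h2.trans hhi.symm) (h3'.trans (by rw [← hc0, hh, mul_zero]))
      (by rw [← ha, ← hc1, hh, mul_one])
    obtain ⟨π, hπ⟩ := hQt t hti ⟨b, ht⟩
    obtain ⟨ρ, hρ⟩ := hQh h hhi ⟨a, ha0, hh⟩
    refine ⟨π * ρ, ?_⟩
    rw [show k = t * h by rw [← e, mul_inv_cancel_left]]
    exact hQmul hπ hρ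
  have hQall : ∀ g : G, ∃ π, Q g π := by
    intro g
    by_cases hgi : g • i = i
    · exact hQB g hgi
    obtain ⟨b, hb⟩ := (hrange _).mp hgi
    obtain ⟨t, hti, ht⟩ := htr b
    have h2 : (s * (t⁻¹ * g)) • i = i := by
      rw [mul_smul, mul_smul, ← hb, show t⁻¹ • c b = o by rw [inv_smul_eq_iff, ← hc0, ht, zero_add], hso]
    obtain ⟨π, hπ⟩ := hQt t hti ⟨b, ht⟩
    obtain ⟨σ, hσ⟩ := hQs
    obtain ⟨ρ, hρ⟩ := hQB _ h2
    refine ⟨π * (σ * ρ), ?_⟩
    have := hQmul hπ (hQmul hσ hρ)
    have hs2 : s * s = 1 := hagree _ _ (by rw [mul_smul, hss, one_smul]) (by rw [mul_smul, hss, one_smul]) (by rw [mul_smul, hss, one_smul])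
    rwa [show t * (s * (s * (t⁻¹ * g))) = g by rw [← mul_assoc s s, hs2, one_mul, mul_inv_cancel_left]] at this
  choose χ hχ using hQall
  have hne : ∀ {a b : α}, a ≠ b → ε a ≠ ε b := fun h e => h (hε.1 e)
  have huniq : ∀ π ρ : Matrix.ProjGenLinGroup (Fin 2) F, π • ε i = ρ • ε i → π • ε o = ρ • ε o → π • ε u = ρ • ε u → π = ρ := by
    intro π ρ a1 a2 a3
    have := CfsgLib.Classical.pgl_two_eq_one_of_fix (ρ⁻¹ * π) _ _ _ (hne hio) (hne hiu) (hne hou)
      (by rw [mul_smul, a1, inv_smul_smul]) (by rw [mul_smul, a2, inv_smul_smul]) (by rw [mul_smul, a3, inv_smul_smul])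
    exact (inv_mul_eq_one.mp this).symm
  have hmul : ∀ g h, χ (g * h) = χ g * χ h := fun g h =>
    huniq _ _ (by rw [← hχ, hQmul (hχ g) (hχ h)]) (by rw [← hχ, hQmul (hχ g) (hχ h)]) (by rw [← hχ, hQmul (hχ g) (hχ h)])
  refine ⟨MulEquiv.ofBijective (MonoidHom.mk' χ hmul) ⟨fun g h e => ?_, fun π => ?_⟩⟩
  · refine Subtype.ext (Equiv.ext fun y => hε.1 ?_)
    show ε (g • y) = ε (h • y)
    rw [hχ, hχ, show χ g = χ h from e]
  · obtain ⟨yi, hyi⟩ := hε.2 (π • ε i)
    obtain ⟨yo, hyo⟩ := hε.2 (π • ε o)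
    obtain ⟨yu, hyu⟩ := hε.2 (π • ε u)
    have d : ∀ {a b ya yb}, a ≠ b → ε ya = π • ε a → ε yb = π • ε b → ya ≠ yb := fun {a b ya yb} hab' h1 h2 e =>
      hne hab' (MulAction.injective π (h1.symm.trans ((congrArg ε e).trans h2)))
    obtain ⟨g, g1, g2, g3⟩ := exists_smul_triple G h3 hio hiu hou (d hio hyi hyo) (d hiu hyi hyu) (d hou hyo hyu)
    exact ⟨g, huniq _ _ (by rw [MonoidHom.mk'_apply, ← hχ, g1, hyi]) (by rw [MonoidHom.mk'_apply, ← hχ, g2, hyo])
      (by rw [MonoidHom.mk'_apply, ← hχ, g3, hyu])⟩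

end CfsgLib.Perm
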