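import Cfsg.Agent.Lib.Perm.Basic
import Cfsg.Agent.Lib.Solvable.FrobeniusKernel
import Mathlib.GroupTheory.GroupAction.Quotient
import Mathlib.Data.Finset.Prod

/-!
Two-transitive groups in which only the identity fixes three points: the Frobenius kernel of a
point stabiliser, and the group order.
-/

set_option autoImplicit false
set_option linter.style.haveILetI false

namespace CfsgLib.Perm

open MulAction
open scoped Pointwise

variable {G Ω : Type*} [Group G] [Finite G] [MulAction G Ω] [Fintype Ω]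

theorem natCard_two_transitive (h2t : IsMultiplyPretransitive G Ω 2) {a b : Ω} (hab : a ≠ b) :
    Nat.card G = Nat.card (stabilizer G a ⊓ stabilizer G b : Subgroup G) *
      (Fintype.card Ω * (Fintype.card Ω - 1)) := by
  classical
  have e1 : stabilizer G a ⊓ stabilizer G b = stabilizer G (a, b) := by
    ext g
    show g • a = a ∧ g • b = b ↔ g • (a, b) = (a, b)
    rw [Prod.smul_mk, Prod.mk_inj]
  have e2 : orbit G (a, b) = ((Finset.univ : Finset Ω).offDiag : Set (Ω × Ω)) := by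
    ext ⟨x, y⟩
    constructor
    · rintro ⟨g, hg⟩
      obtain ⟨rfl, rfl⟩ := Prod.mk_inj.mp hg
      simp [hab]
    · intro h
      obtain ⟨g, g1, g2⟩ := exists_smul_pair h2t hab (Finset.mem_offDiag.mp h).2.2
      exact ⟨g, Prod.ext g1 g2⟩
  rw [← Subgroup.card_mul_index (stabilizer G a ⊓ stabilizer G b)]
  congr 1
  rw [e1, index_stabilizer, e2, Set.ncard_coe_finset, Finset.offDiag_card, Finset.card_univ,
    Nat.mul_sub, mul_one]

/-- The kernel of a point stabiliser. -/
theorem exists_regular_kernel (h2t : IsMultiplyPretransitive G Ω 2)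
    (h3 : ∀ g : G, ∀ a b c : Ω, a ≠ b → b ≠ c → a ≠ c → g • a = a → g • b = b → g • c = c → g = 1)
    {a b w : Ω} (hab : a ≠ b) (hwa : w ≠ a) (hwb : w ≠ b)
    (hH : stabilizer G a ⊓ stabilizer G b ≠ ⊥) :
    ∃ F : Subgroup G, F ≤ stabilizer G a ∧ (F.subgroupOf (stabilizer G a)).Normal ∧
      ∀ y z : Ω, y ≠ a → z ≠ a → ∃! u : F, (u : G) • y = z := by
  classical
  set H : Subgroup G := stabilizer G a ⊓ stabilizer G b with hHdef
  let Ga : Subgroup G := stabilizer G a
  have hle : H ≤ Ga := inf_le_left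
  have hFC : Cfsg.IsFrobeniusComplement (H.subgroupOf Ga) := by
    refine ⟨fun e => hH ?_, fun e => ?_, fun g hg => ?_⟩
    · rw [Subgroup.eq_bot_iff_forall]
      intro k hk
      have : (⟨k, hle hk⟩ : Ga) ∈ H.subgroupOf Ga := Subgroup.mem_subgroupOf.mpr hk
      rw [e, Subgroup.mem_bot] at this
      exact congrArg Subtype.val this
    · obtain ⟨t, t1, t2⟩ := exists_smul_pair h2t hab (Ne.symm hwa)
      have : (⟨t, t1⟩ : Ga) ∈ H.subgroupOf Ga := e ▸ Subgroup.mem_top _
      exact hwb (t2.symm.trans (Subgroup.mem_subgroupOf.mp this).2)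
    · rw [eq_bot_iff]
      rintro ⟨k, hka⟩ ⟨hk, hkg⟩
      rw [Subgroup.mem_bot]
      refine Subtype.ext ?_
      show k = 1
      replace hkg := Subgroup.mem_pointwise_smul_iff_inv_smul_mem.mp hkg
      rw [MulAut.smul_def, MulAut.inv_apply, MulAut.conj_symm_apply] at hkg
      have h' : ((g : G)⁻¹ * k * g) • b = b := (Subgroup.mem_subgroupOf.mp hkg).2
      rw [mul_smul, mul_smul, inv_smul_eq_iff] at h'
      refine h3 k a b ((g : G) • b) hab (fun h => hg (Subgroup.mem_subgroupOf.mpr ⟨g.2, h.symm⟩))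
        (fun h => hab (MulAction.injective (g : G) ((show (g : G) • a = a from g.2).trans h))) ?_ ?_ h'
      · exact hka
      · exact (Subgroup.mem_subgroupOf.mp hk).2
  obtain ⟨K, -, hKn, hKc⟩ := CfsgLib.Solvable.exists_frobeniusKernel hFC
  have htr : ∀ y, y ≠ a → ∃ n : Ga, n ∈ K ∧ (n : G) • b = y := by
    intro y hy
    obtain ⟨g, g1, g2⟩ := exists_smul_pair h2t hab (Ne.symm hy)
    obtain ⟨⟨⟨n, hn⟩, ⟨k, hk⟩⟩, e, -⟩ := hKc.existsUnique ⟨g, g1⟩
    refine ⟨n, hn, ?_⟩
    have e' : (n : G) * k = g := congrArg Subtype.val e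
    have hkb : (k : G) • b = b := (Subgroup.mem_subgroupOf.mp hk).2
    rw [← g2, ← e', mul_smul, hkb]
  have hfree : ∀ n : Ga, n ∈ K → ∀ y, y ≠ a → (n : G) • y = y → n = 1 := by
    intro n hn y hy hny
    obtain ⟨m, hm, rfl⟩ := htr y hy
    have h1 : m⁻¹ * n * m ∈ K := by simpa using hKn.conj_mem n hn m⁻¹
    have h2 : m⁻¹ * n * m ∈ H.subgroupOf Ga := Subgroup.mem_subgroupOf.mpr
      ⟨(m⁻¹ * n * m).2, by
        show (((m⁻¹ * n * m : Ga) : G)) • b = b
        rw [Subgroup.coe_mul, Subgroup.coe_mul, Subgroup.coe_inv, mul_smul, mul_smul, hny, inv_smul_smul]⟩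
    have h4 := Subgroup.disjoint_def.mp hKc.disjoint h1 h2
    have h5 : n = m * (m⁻¹ * n * m) * m⁻¹ := by group
    rw [h5, h4, mul_one, mul_inv_cancel]
  refine ⟨K.map Ga.subtype, Subgroup.map_subtype_le _, ?_, fun y z hy hz => ?_⟩
  · rw [show Ga.subtype = (stabilizer G a).subtype from rfl, Subgroup.subgroupOf,
      Subgroup.comap_map_eq_self_of_injective (stabilizer G a).subtype_injective]
    exact hKn
  · obtain ⟨n, hn, rfl⟩ := htr y hy
    obtain ⟨m, hm, rfl⟩ := htr z hz
    refine ⟨⟨_, ⟨m * n⁻¹, mul_mem hm (inv_mem hn), rfl⟩⟩, ?_, ?_⟩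
    · show ((m * n⁻¹ : Ga) : G) • (n : G) • b = (m : G) • b
      rw [Subgroup.coe_mul, Subgroup.coe_inv, mul_smul, inv_smul_smul]
    · rintro ⟨_, u, hu, rfl⟩ hux
      have hux' : (u : G) • (n : G) • b = (m : G) • b := hux
      have h1 : (m⁻¹ * u * n : Ga) = 1 := by
        refine hfree _ ?_ b (Ne.symm hab) ?_
        · have h1 : m⁻¹ * u * m ∈ K := by simpa using hKn.conj_mem u hu m⁻¹
          have h2 : m⁻¹ * n ∈ K := mul_mem (inv_mem hm) hn
          have := mul_mem h1 h2
          simpa [mul_assoc] using this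
        · rw [Subgroup.coe_mul, Subgroup.coe_mul, Subgroup.coe_inv, mul_smul, mul_smul, hux', inv_smul_smul]
      refine Subtype.ext (congrArg Ga.subtype ?_)
      calc u = m * (m⁻¹ * u * n) * n⁻¹ := by group
        _ = m * n⁻¹ := by rw [h1, mul_one]

end CfsgLib.Perm
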