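import Cfsg.Agent.Lib.Perm.Basic
import Cfsg.Agent.Lib.Perm.ZassenhausKernel
import Cfsg.Agent.Lib.Classical.PGLTwo
import Cfsg.Agent.Lib.Classical.SLOrder
import Mathlib.GroupTheory.PGroup
import Mathlib.FieldTheory.Finite.GaloisField
import Mathlib.RingTheory.LittleWedderburn

/-!
Two-transitive groups in which only the identity fixes three points, with abelian kernel and an
abelian two-point stabiliser of order `(q - 1) / 2`: coordinates, and `PSL_2(q)`.
-/

set_option autoImplicit false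
set_option linter.style.haveILetI false

namespace CfsgLib.Perm

open MulAction

variable {G Ω : Type*} [Group G] [Finite G] [MulAction G Ω] [FaithfulSMul G Ω] [Fintype Ω]

/-- Coordinates on the points other than `i`: translations, and scalings by the squares. -/
theorem exists_half_coordinates (h2t : IsMultiplyPretransitive G Ω 2)
    (h3 : ∀ g : G, ∀ a b c : Ω, a ≠ b → b ≠ c → a ≠ c → g • a = a → g • b = b → g • c = c → g = 1)
    {i o e : Ω} (hio : i ≠ o) (hie : i ≠ e) (hoe : o ≠ e)
    (hHc : ∀ g h : G, g • i = i → g • o = o → h • i = i → h • o = o → g * h = h * g)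
    (hhalf : Fintype.card Ω - 2 = 2 * Nat.card (stabilizer G i ⊓ stabilizer G o : Subgroup G))
    (N : Subgroup G) (hNi : ∀ x ∈ N, x • i = i) (hNc : IsMulCommutative N) {p : ℕ} (hp : p.Prime)
    (hNp : ∀ x ∈ N, x ^ p = 1) (hNn : ∀ g : G, g • i = i → ∀ x ∈ N, g * x * g⁻¹ ∈ N)
    (hNreg : ∀ y z : Ω, y ≠ i → z ≠ i → ∃! u : N, (u : G) • y = z) :
    ∃ (F : Type) (_ : Field F) (_ : Fintype F) (c : F → Ω), Function.Injective c ∧
      (∀ y, y ≠ i ↔ ∃ x, c x = y) ∧ c 0 = o ∧ c 1 = e ∧ ringChar F ≠ 2 ∧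
      (∀ b : F, ∃ g : G, g • i = i ∧ ∀ x, g • c x = c (x + b)) ∧
      (∀ a : F, a ≠ 0 → IsSquare a → ∃ g : G, g • i = i ∧ ∀ x, g • c x = c (a * x)) ∧
      (∀ g : G, g • i = i → g • o = o → ∃ a : F, a ≠ 0 ∧ IsSquare a ∧ ∀ x, g • c x = c (a * x)) ∧
      Fintype.card Ω = Fintype.card F + 1 := by
  classical
  let P := {y : Ω // y ≠ i}
  let o' : P := ⟨o, Ne.symm hio⟩
  let e' : P := ⟨e, Ne.symm hie⟩
  have hNP : ∀ (u : N) (y : P), (u : G) • (y : Ω) ≠ i := fun u y h =>
    y.2 (MulAction.injective (u : G) (h.trans (hNi u u.2).symm))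
  let ev : N → P := fun u => ⟨(u : G) • o, hNP u o'⟩
  have hev : Function.Bijective ev := by
    refine ⟨fun u v h => ?_, fun y => ?_⟩
    · exact (hNreg o ((v : G) • o) (Ne.symm hio) (hNP v o')).unique (congrArg Subtype.val h) rfl
    · obtain ⟨u, hu, -⟩ := hNreg o y (Ne.symm hio) y.2
      exact ⟨u, Subtype.ext hu⟩
  let NE := Equiv.ofBijective ev hev
  let _ : CommGroup N := { (inferInstance : Group N) with mul_comm := hNc.1.1 }
  let _ : AddCommGroup P := (NE.symm.trans Additive.ofMul).addCommGroup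
  have hzero : (0 : P) = o' := Subtype.ext (one_smul G o)
  have hadd : ∀ v w : P, ((v + w : P) : Ω) = (NE.symm v : G) • (w : Ω) := by
    intro v w
    show ((NE.symm v * NE.symm w : N) : G) • o = _
    rw [Subgroup.coe_mul, mul_smul, show (NE.symm w : G) • o = w from congrArg Subtype.val (NE.apply_symm_apply w)]
  set H : Subgroup G := stabilizer G i ⊓ stabilizer G o with hH
  have hHi : ∀ h : H, (h : G) • i = i := fun h => h.2.1
  have hHo : ∀ h : H, (h : G) • o = o := fun h => h.2.2
  let act : H → P → P := fun h v => ⟨(h : G) • (v : Ω), fun e => v.2 (MulAction.injective (h : G) (e.trans (hHi h).symm))⟩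
  have hact : ∀ (h : H) (v w : P), act h (v + w) = act h v + act h w := by
    intro h v w
    refine Subtype.ext ?_
    rw [hadd]
    show (h : G) • ((v + w : P) : Ω) = _
    rw [hadd]
    have hc : (⟨(h : G) * NE.symm v * (h : G)⁻¹, hNn h (hHi h) _ (NE.symm v).2⟩ : N) = NE.symm (act h v) := by
      rw [Equiv.eq_symm_apply]
      refine Subtype.ext ?_
      show ((h : G) * NE.symm v * (h : G)⁻¹) • o = (h : G) • (v : Ω)
      rw [mul_smul, mul_smul, inv_smul_eq_iff.mpr (hHo h).symm,
        show (NE.symm v : G) • o = v from congrArg Subtype.val (NE.apply_symm_apply v)]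
    rw [← hc]
    show _ = ((h : G) * NE.symm v * (h : G)⁻¹) • (h : G) • (w : Ω)
    rw [mul_smul, mul_smul, inv_smul_smul]
  have hcomm : ∀ g h : H, (g : G) * h = h * g := fun g h => hHc g h (hHi g) (hHo g) (hHi h) (hHo h)
  let em : H → AddMonoid.End P := fun h => AddMonoidHom.mk' (act h) (hact h)
  let K : Subring (AddMonoid.End P) := Subring.centralizer (Set.range em)
  have hk : ∀ (k : K) (h : H) (v : P), (k : AddMonoid.End P) (act h v) = act h ((k : AddMonoid.End P) v) :=
    fun k h v => (DFunLike.congr_fun (Subring.mem_centralizer_iff.mp k.2 (em h) ⟨h, rfl⟩) v).symm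
  have hem : ∀ h, em h ∈ K := fun h => Subring.mem_centralizer_iff.mpr (by
    rintro _ ⟨g, rfl⟩
    refine DFunLike.ext _ _ fun v => Subtype.ext ?_
    show (g : G) • (h : G) • (v : Ω) = (h : G) • (g : G) • (v : Ω)
    rw [← mul_smul, ← mul_smul, hcomm])
  -- orbits of `H` are large
  have hactinj : ∀ v : P, v ≠ o' → Function.Injective fun h : H => act h v := by
    intro v hv g h e
    have h1 : (h : G)⁻¹ * g = 1 := by
      refine h3 _ i o v hio (fun h => hv (Subtype.ext h.symm)) (Ne.symm v.2) ?_ ?_ ?_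
      · rw [mul_smul, hHi g, inv_smul_eq_iff, hHi h]
      · rw [mul_smul, hHo g, inv_smul_eq_iff, hHo h]
      · rw [mul_smul, inv_smul_eq_iff]; exact congrArg Subtype.val e
    exact Subtype.ext (inv_mul_eq_one.mp h1).symm
  have hcardP : Nat.card P = 2 * Nat.card H + 1 := by
    rw [Nat.card_eq_fintype_card, Fintype.card_subtype_compl, Fintype.card_subtype_eq]
    have : 2 ≤ Fintype.card Ω := Fintype.one_lt_card_iff.mpr ⟨i, o, hio⟩
    omega
  have hbig : ∀ W : AddSubgroup P, (∀ h v, v ∈ W → act h v ∈ W) → W ≠ ⊥ → W = ⊤ := by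
    intro W hW hWne
    obtain ⟨v, hv, hv0⟩ : ∃ v ∈ W, v ≠ 0 := by
      by_contra hc
      push Not at hc
      exact hWne ((AddSubgroup.eq_bot_iff_forall W).mpr hc)
    rw [hzero] at hv0
    have hle : Nat.card H + 1 ≤ Nat.card W := by
      have hinj : Function.Injective (fun z : Option H => (Option.elim z ⟨0, W.zero_mem⟩ fun h => ⟨act h v, hW h v hv⟩ : W)) := by
        rintro (_ | g) (_ | h) e
        · rfl
        · exfalso
          have e' : (0 : P) = act h v := congrArg Subtype.val e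
          rw [hzero] at e'
          exact hv0 (Subtype.ext (MulAction.injective (h : G) ((congrArg Subtype.val e').symm.trans (hHo h).symm)))
        · exfalso
          have e' : act g v = (0 : P) := congrArg Subtype.val e
          rw [hzero] at e'
          exact hv0 (Subtype.ext (MulAction.injective (g : G) ((congrArg Subtype.val e').trans (hHo g).symm)))
        · exact congrArg some (hactinj v hv0 (congrArg Subtype.val e :))
      have := Nat.card_le_card_of_injective _ hinj
      rwa [Finite.card_option] at this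
    refine AddSubgroup.eq_top_of_card_eq W ?_
    obtain ⟨d, hd⟩ := AddSubgroup.card_addSubgroup_dvd_card W
    rcases d with _ | _ | _ | d
    · rw [mul_zero] at hd; omega
    · omega
    · omega
    · have : Nat.card W * 3 ≤ Nat.card W * (d + 1 + 1 + 1) := Nat.mul_le_mul_left _ (by omega)
      omega
  have hinjK : ∀ k : K, k ≠ 0 → Function.Injective (k : AddMonoid.End P) := by
    intro k hk0
    rw [injective_iff_map_eq_zero]
    intro v hv
    let W : AddSubgroup P := AddMonoidHom.ker (k : AddMonoid.End P)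
    have hW : ∀ h v, v ∈ W → act h v ∈ W := fun h v hv => by
      show (k : AddMonoid.End P) (act h v) = 0
      rw [hk, show (k : AddMonoid.End P) v = 0 from hv, hzero]
      exact Subtype.ext (hHo h)
    by_contra hv0
    have hWtop := hbig W hW fun e => hv0 (AddSubgroup.mem_bot.mp (e ▸ (show v ∈ W from hv)))
    exact hk0 (Subtype.ext (DFunLike.ext _ _ fun w => (show w ∈ W from hWtop ▸ AddSubgroup.mem_top w)))
  let E : K →+ P :=
    { toFun := fun k => (k : AddMonoid.End P) e'
      map_zero' := rfl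
      map_add' := fun _ _ => rfl }
  have hoe' : e' ≠ 0 := by rw [hzero]; exact fun h => hoe (congrArg Subtype.val h).symm
  have hEb : Function.Bijective E := by
    constructor
    · rw [injective_iff_map_eq_zero]
      intro k hk0
      by_contra hne
      exact hoe' (hinjK k hne (hk0.trans (map_zero (k : AddMonoid.End P)).symm))
    · have htop : E.range = ⊤ := by
        refine hbig _ ?_ ?_
        · rintro h _ ⟨k, rfl⟩
          exact ⟨⟨em h, hem h⟩ * k, rfl⟩
        · intro hb
          exact hoe' (AddSubgroup.mem_bot.mp (hb ▸ (show e' ∈ E.range from ⟨1, rfl⟩)))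
      exact AddMonoidHom.range_eq_top.mp htop
  haveI : Nontrivial K := ⟨⟨1, 0, fun h => hoe' (congrArg E h)⟩⟩
  haveI : NoZeroDivisors K := ⟨fun {k l} h => by
    by_contra hc
    rw [not_or] at hc
    have h0 : ((k * l : K) : AddMonoid.End P) e' = 0 := by rw [h]; rfl
    exact hoe' (hinjK l hc.2 ((hinjK k hc.1 (h0.trans (map_zero (k : AddMonoid.End P)).symm)).trans (map_zero (l : AddMonoid.End P)).symm))⟩
  haveI : IsDomain K := NoZeroDivisors.to_isDomain K
  haveI : Finite K := Finite.of_injective E hEb.1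
  letI : Field K := (Finite.isDomain_to_isField K).toField
  letI : Fintype K := Fintype.ofFinite K
  have hcardK : Fintype.card K = 2 * Nat.card H + 1 := by
    rw [← Nat.card_eq_fintype_card, Nat.card_eq_of_bijective E hEb, hcardP]
  -- a prime power
  haveI := Fact.mk hp
  obtain ⟨j, hj⟩ := IsPGroup.iff_card.mp (show IsPGroup p N from fun u => ⟨1, by rw [pow_one]; exact Subtype.ext (hNp u u.2)⟩)
  have hNP' : Nat.card N = Nat.card P := Nat.card_congr NE
  have hHpos : 0 < Nat.card H := Nat.card_pos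
  have hj0 : j ≠ 0 := fun h => by rw [h, pow_zero] at hj; omega
  letI : Fintype (GaloisField p j) := Fintype.ofFinite _
  let ψ : GaloisField p j ≃+* K := FiniteField.ringEquivOfCardEq
    (by rw [hcardK, ← hcardP, ← hNP', hj, ← Nat.card_eq_fintype_card, GaloisField.card p j hj0])
  have hcardF : Fintype.card (GaloisField p j) = 2 * Nat.card H + 1 := by rw [Fintype.card_congr ψ.toEquiv, hcardK]
  have hchar : ringChar (GaloisField p j) ≠ 2 := fun h => by
    have h2 := FiniteField.even_card_iff_char_two.mp h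
    omega
  -- the image of `H` consists of the squares
  let θ : H → GaloisField p j := fun h => ψ.symm ⟨em h, hem h⟩
  have hθinj : Function.Injective θ := fun g h e => by
    have := ψ.symm.injective e
    exact hactinj e' (fun h => hoe (congrArg Subtype.val h).symm) (DFunLike.congr_fun (congrArg Subtype.val this) e' :)
  have hθ0 : ∀ h, θ h ≠ 0 := fun h e => by
    have := congrArg (fun k : K => (k : AddMonoid.End P) e') ((map_eq_zero_iff _ ψ.symm.injective).mp e)
    have h' : act h e' = (0 : P) := this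
    rw [hzero] at h'
    exact hoe (MulAction.injective (h : G) ((hHo h).trans (congrArg Subtype.val h').symm))
  have hθmul : ∀ g h, θ (g * h) = θ g * θ h := fun g h => by
    rw [← map_mul]
    refine congrArg ψ.symm (Subtype.ext (DFunLike.ext _ _ fun v => Subtype.ext ?_))
    show ((g * h : H) : G) • (v : Ω) = (g : G) • (h : G) • (v : Ω)
    rw [Subgroup.coe_mul, mul_smul]
  let θ' : H →* GaloisField p j :=
    { toFun := θ
      map_one' := mul_left_cancel₀ (hθ0 1) (by rw [← hθmul, mul_one, mul_one])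
      map_mul' := hθmul }
  have hθpow : ∀ h, θ h ^ Nat.card H = 1 := fun h => by
    have := congrArg θ' (pow_card_eq_one' (x := h))
    rwa [map_pow, map_one] at this
  have hsq : ∀ a : GaloisField p j, a ≠ 0 → (IsSquare a ↔ ∃ h, θ h = a) := by
    intro a ha
    rw [FiniteField.isSquare_iff hchar ha, show Fintype.card (GaloisField p j) / 2 = Nat.card H by omega]
    refine ⟨fun hpow => ?_, fun ⟨h, e⟩ => e ▸ hθpow h⟩
    letI := Fintype.ofFinite H
    have hsub : Finset.univ.image θ ⊆ (Polynomial.nthRoots (Nat.card H) (1 : GaloisField p j)).toFinset := by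
      intro x hx
      obtain ⟨h, -, rfl⟩ := Finset.mem_image.mp hx
      rw [Multiset.mem_toFinset, Polynomial.mem_nthRoots hHpos]
      exact hθpow h
    have hcle := (Multiset.toFinset_card_le _).trans (Polynomial.card_nthRoots (Nat.card H) (1 : GaloisField p j))
    have heq := Finset.eq_of_subset_of_card_le hsub (by
      rw [Finset.card_image_of_injective _ hθinj, Finset.card_univ, ← Nat.card_eq_fintype_card]; exact hcle)
    have : a ∈ Finset.univ.image θ := by
      rw [heq, Multiset.mem_toFinset, Polynomial.mem_nthRoots hHpos]; exact hpow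
    obtain ⟨h, -, e⟩ := Finset.mem_image.mp this
    exact ⟨h, e⟩
  have hscale : ∀ (h : H) (x : GaloisField p j), (h : G) • ((E (ψ x) : P) : Ω) = (E (ψ (θ h * x)) : P) := by
    intro h x
    rw [map_mul, show ψ (θ h) = ⟨em h, hem h⟩ from ψ.apply_symm_apply _]
    rfl
  refine ⟨GaloisField p j, inferInstance, inferInstance, fun x => (E (ψ x) : Ω), ?_, ?_, ?_, ?_, hchar, ?_, ?_, ?_, ?_⟩
  · exact fun x y h => ψ.injective (hEb.1 (Subtype.ext h))
  · intro y
    refine ⟨fun hy => ?_, ?_⟩
    · obtain ⟨k, hk⟩ := hEb.2 ⟨y, hy⟩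
      exact ⟨ψ.symm k, by simp only [ψ.apply_symm_apply, hk]⟩
    · rintro ⟨x, rfl⟩
      exact (E (ψ x)).2
  · simp only [map_zero]
    exact congrArg Subtype.val hzero
  · simp only [map_one]
    rfl
  · intro b
    refine ⟨NE.symm (E (ψ b)), hNi _ (NE.symm (E (ψ b))).2, fun x => ?_⟩
    show _ = ((E (ψ (x + b)) : P) : Ω)
    rw [map_add ψ, add_comm (ψ x), map_add E, hadd]
  · intro a ha hsa
    obtain ⟨h, rfl⟩ := (hsq a ha).mp hsa
    exact ⟨h, hHi h, hscale h⟩
  · intro g hgi hgo
    exact ⟨θ ⟨g, hgi, hgo⟩, hθ0 _, (hsq _ (hθ0 _)).mpr ⟨_, rfl⟩, hscale ⟨g, hgi, hgo⟩⟩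
  · rw [hcardF]
    have : 2 ≤ Fintype.card Ω := Fintype.one_lt_card_iff.mpr ⟨i, o, hio⟩
    omega

open scoped LinearAlgebra.Projectivization in
/-- The group of Möbius transformations of square determinant. -/
theorem zassenhaus_psl (h2t : IsMultiplyPretransitive G Ω 2)
    (h3 : ∀ g : G, ∀ a b c : Ω, a ≠ b → b ≠ c → a ≠ c → g • a = a → g • b = b → g • c = c → g = 1)
    {i o u : Ω} (hio : i ≠ o) (hiu : i ≠ u) (hou : o ≠ u)
    (heven : Even (Nat.card (stabilizer G i ⊓ stabilizer G o : Subgroup G)))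
    (hinv : ∀ g : G, g • i = i → g • o = o → ∀ t : G, t • i = o → t • o = i → t * g * t⁻¹ = g⁻¹)
    {s : G} (hsi : s • i = o) (hso : s • o = i) (hsu : s • u = u)
    (hhalf : Fintype.card Ω - 2 = 2 * Nat.card (stabilizer G i ⊓ stabilizer G o : Subgroup G))
    (N : Subgroup G) (hNi : ∀ x ∈ N, x • i = i) (hNc : IsMulCommutative N) {p : ℕ} (hp : p.Prime)
    (hNp : ∀ x ∈ N, x ^ p = 1) (hNn : ∀ g : G, g • i = i → ∀ x ∈ N, g * x * g⁻¹ ∈ N)
    (hNreg : ∀ y z : Ω, y ≠ i → z ≠ i → ∃! u : N, (u : G) • y = z) :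
    ∃ (F : Type) (_ : Field F) (_ : Fintype F), ringChar F ≠ 2 ∧ Fintype.card Ω = Fintype.card F + 1 ∧
      Nonempty (G ≃* Matrix.ProjectiveSpecialLinearGroup (Fin 2) F) := by
  classical
  have hHc : ∀ g h : G, g • i = i → g • o = o → h • i = i → h • o = o → g * h = h * g := by
    intro g h hgi hgo hhi hho
    have hghi : (g * h) • i = i := by rw [mul_smul, hhi, hgi]
    have hgho : (g * h) • o = o := by rw [mul_smul, hho, hgo]
    have e := hinv _ hghi hgho s hsi hso
    rw [show s * (g * h) * s⁻¹ = (s * g * s⁻¹) * (s * h * s⁻¹) by group,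
      hinv g hgi hgo s hsi hso, hinv h hhi hho s hsi hso, mul_inv_rev] at e
    exact (Commute.inv_inv_iff.mp (show Commute g⁻¹ h⁻¹ from e))
  obtain ⟨F, iF, iFF, c, hc, hrange, hc0, hc1, hchar, htr, hsc, hHsc, hcard⟩ :=
    exists_half_coordinates h2t h3 hio hiu hou hHc hhalf N hNi hNc hp hNp hNn hNreg
  refine ⟨F, iF, iFF, hchar, hcard, ?_⟩
  have h20 : (2 : F) ≠ 0 := Ring.two_ne_zero hchar
  set H : Subgroup G := stabilizer G i ⊓ stabilizer G o with hH
  have hci : ∀ x, c x ≠ i := fun x => (hrange _).mpr ⟨x, rfl⟩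
  have hss : s * s = 1 := h3 _ i o u hio hou hiu (by rw [mul_smul, hsi, hso]) (by rw [mul_smul, hso, hsi]) (by rw [mul_smul, hsu, hsu])
  have hs : ∀ y : Ω, s • s • y = y := fun y => by rw [smul_smul, hss, one_smul]
  have hFcard : Fintype.card F = 2 * Nat.card H + 1 := by
    have : 2 ≤ Fintype.card Ω := Fintype.one_lt_card_iff.mpr ⟨i, o, hio⟩
    omega
  obtain ⟨ι, hι⟩ : IsSquare (-1 : F) := by
    rw [FiniteField.isSquare_neg_one_iff]
    obtain ⟨k, hk⟩ := heven
    omega
  have hι0 : ι ≠ 0 := fun h => by rw [h, mul_zero] at hι; exact one_ne_zero (neg_eq_zero.mp hι)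
  have hneg : ∀ a : F, IsSquare a → IsSquare (-a) := fun a ha => by
    rw [show -a = (-1) * a by ring]; exact IsSquare.mul ⟨ι, hι⟩ ha
  -- the action of `s`
  have hfex : ∀ x : F, x ≠ 0 → ∃ y : F, y ≠ 0 ∧ s • c x = c y := by
    intro x hx
    have h1 : s • c x ≠ i := fun h => hx (hc ((MulAction.injective s (h.trans hso.symm)).trans hc0.symm))
    obtain ⟨y, hy⟩ := (hrange _).mp h1
    refine ⟨y, fun hy0 => hci x (MulAction.injective s ?_), hy.symm⟩
    show s • c x = s • i
    rw [← hy, hy0, hc0, hsi]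
  choose! f hf0 hf using hfex
  have hf1 : f 1 = 1 := hc (by rw [← hf 1 one_ne_zero, hc1, hsu])
  have hff : ∀ x, x ≠ 0 → f (f x) = x := fun x hx => hc (by rw [← hf _ (hf0 x hx), ← hf x hx, hs])
  have hfmul : ∀ a x, a ≠ 0 → IsSquare a → x ≠ 0 → f (a * x) = a⁻¹ * f x := by
    intro a x ha hsa hx
    obtain ⟨g, hgi, hg⟩ := hsc a ha hsa
    have hgo : g • o = o := by have := hg 0; rwa [hc0, mul_zero, hc0] at this
    have e : s * g = g⁻¹ * s := by rw [← hinv g hgi hgo s hsi hso]; group
    apply hc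
    rw [← hf _ (mul_ne_zero ha hx), ← hg, ← mul_smul, e, mul_smul, hf x hx, inv_smul_eq_iff, hg,
      mul_inv_cancel_left₀ ha]
  have hfsq : ∀ x, x ≠ 0 → IsSquare x → f x = x⁻¹ := fun x hx hxs => by
    have := hfmul x 1 hx hxs one_ne_zero
    rwa [mul_one, hf1, mul_one] at this
  obtain ⟨ν, hν⟩ := FiniteField.exists_nonsquare hchar
  have hν0 : ν ≠ 0 := fun h => hν (h ▸ IsSquare.zero)
  obtain ⟨k, hk⟩ : ∃ k, k = ν * f ν := ⟨_, rfl⟩
  have hk0 : k ≠ 0 := hk ▸ mul_ne_zero hν0 (hf0 ν hν0)
  have hnsq : ∀ x : F, ¬ IsSquare x → IsSquare (x * ν) := by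
    intro x hx
    have hx0 : x ≠ 0 := fun h => hx (h ▸ IsSquare.zero)
    rw [FiniteField.isSquare_iff hchar (mul_ne_zero hx0 hν0), mul_pow]
    have e1 := (FiniteField.pow_dichotomy hchar hx0).resolve_left fun h => hx ((FiniteField.isSquare_iff hchar hx0).mpr h)
    have e2 := (FiniteField.pow_dichotomy hchar hν0).resolve_left fun h => hν ((FiniteField.isSquare_iff hchar hν0).mpr h)
    rw [e1, e2, neg_mul_neg, one_mul]
  have hfn : ∀ x : F, ¬ IsSquare x → f x = k * x⁻¹ := by
    intro x hx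
    have hx0 : x ≠ 0 := fun h => hx (h ▸ IsSquare.zero)
    have hsq : IsSquare (x * ν⁻¹) := by
      rw [show x * ν⁻¹ = (x * ν) * (ν⁻¹ * ν⁻¹) by field_simp]
      exact (hnsq x hx).mul (IsSquare.mul_self _)
    have := hfmul _ ν (mul_ne_zero hx0 (inv_ne_zero hν0)) hsq hν0
    rw [inv_mul_cancel_right₀ hν0] at this
    rw [this, hk]
    field_simp
  -- the element `x ↦ 1 - x`
  obtain ⟨v, hvi, hv⟩ : ∃ v : G, v • i = i ∧ ∀ x, v • c x = c (1 - x) := by
    obtain ⟨g₁, h1, h1'⟩ := htr 1
    obtain ⟨g₂, h2, h2'⟩ := hsc (-1) (neg_ne_zero.mpr one_ne_zero) ⟨ι, hι⟩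
    exact ⟨g₁ * g₂, by rw [mul_smul, h2, h1], fun x => by rw [mul_smul, h2', h1']; congr 1; ring⟩
  have hrel : ∀ x, x ≠ 0 → x ≠ 1 → 1 - f (1 - x) = f (1 - f x) := by
    have hcube : (s * v) * ((s * v) * (s * v)) = 1 := by
      have hvo : v • o = u := by rw [← hc0, hv, sub_zero, hc1]
      have hvu : v • u = o := by rw [← hc1, hv, sub_self, hc0]
      refine h3 _ i o u hio hou hiu ?_ ?_ ?_ <;>
        simp only [mul_smul, hvi, hsi, hvo, hsu, hvu, hso]
    intro x hx hx1
    have hx' : 1 - x ≠ 0 := sub_ne_zero.mpr (Ne.symm hx1)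
    have h1 : f (1 - x) ≠ 1 := fun e => hx (by
      have := hff _ hx'; rw [e, hf1] at this; linear_combination this)
    have h2 : 1 - f (1 - x) ≠ 0 := sub_ne_zero.mpr (Ne.symm h1)
    have h3' : f (1 - f (1 - x)) ≠ 1 := fun e => hf0 _ hx' (by
      have := hff _ h2; rw [e, hf1] at this; linear_combination this)
    have key : f (1 - f (1 - f (1 - x))) = x := by
      apply hc
      conv_rhs => rw [← one_smul G (c x), ← hcube]
      simp only [mul_smul]
      rw [hv, hf _ hx', hv, hf _ h2, hv, hf _ (sub_ne_zero.mpr (Ne.symm h3'))]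
    have e1 : 1 - f (1 - f (1 - x)) = f x := by
      conv_rhs => rw [← key]
      rw [hff _ (sub_ne_zero.mpr (Ne.symm h3'))]
    have e2 : f (1 - f (1 - x)) = 1 - f x := by linear_combination -e1
    rw [← e2, hff _ h2]
  have hk1 : k = 1 := by
    by_contra hk1
    have hstep : ∀ x : F, x ≠ 0 → x ≠ 1 → IsSquare x → IsSquare (1 - x) := by
      intro x hx hx1 hxs
      by_contra hn
      have hx' : 1 - x ≠ 0 := sub_ne_zero.mpr (Ne.symm hx1)
      have key := hrel x hx hx1
      rw [hfn _ hn, hfsq x hx hxs] at key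
      have hn2 : ¬ IsSquare (1 - x⁻¹) := by
        intro h
        apply hn
        rw [show 1 - x = -((1 - x⁻¹) * x) by field_simp; ring]
        exact hneg _ (h.mul hxs)
      rw [hfn _ hn2, show (1 - x⁻¹) = -(1 - x) * x⁻¹ by field_simp; ring] at key
      have hp1 : (1 - x) * (1 - x)⁻¹ = 1 := mul_inv_cancel₀ hx'
      rw [mul_inv_rev, inv_inv, inv_neg] at key
      exact hk1 (mul_right_cancel₀ hx' (by linear_combination -(1 - x) * key + (k * x - k) * hp1))
    let S : AddSubgroup F :=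
      { carrier := {x | IsSquare x}
        zero_mem' := IsSquare.zero
        neg_mem' := fun {x} hx => hneg x hx
        add_mem' := fun {x y} hx hy => by
          show IsSquare (x + y)
          by_cases hx0 : x = 0
          · rw [hx0, zero_add]; exact hy
          by_cases hy0 : y = 0
          · rw [hy0, add_zero]; exact hx
          by_cases he : x + y = 0
          · rw [he]; exact IsSquare.zero
          have hz : IsSquare (-y * x⁻¹) := (hneg y hy).mul hx.inv
          have hz1 : -y * x⁻¹ ≠ 1 := fun e => he (by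
            have e' := congrArg (· * x) e
            simp only [inv_mul_cancel_right₀ hx0, one_mul] at e'
            linear_combination -e')
          have := hx.mul (hstep _ (mul_ne_zero (neg_ne_zero.mpr hy0) (inv_ne_zero hx0)) hz1 hz)
          rwa [mul_sub, mul_one, mul_left_comm, mul_inv_cancel₀ hx0, mul_one, sub_neg_eq_add] at this }
    have hScard : Nat.card S = Nat.card H + 1 := by
      rw [← Finite.card_option]
      refine (Nat.card_eq_of_bijective (fun z : Option H => (Option.elim z ⟨0, S.zero_mem⟩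
        fun h => ⟨Classical.choose (hHsc h h.2.1 h.2.2), (Classical.choose_spec (hHsc h h.2.1 h.2.2)).2.1⟩ : S)) ⟨?_, ?_⟩).symm
      · rintro (_ | g) (_ | h) e
        · rfl
        · exact absurd (congrArg Subtype.val e).symm (Classical.choose_spec (hHsc h h.2.1 h.2.2)).1
        · exact absurd (congrArg Subtype.val e) (Classical.choose_spec (hHsc g g.2.1 g.2.2)).1
        · refine congrArg some (Subtype.ext ?_)
          have e' : Classical.choose (hHsc g g.2.1 g.2.2) = Classical.choose (hHsc h h.2.1 h.2.2) := congrArg Subtype.val e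
          have hgu : (g : G) • u = (h : G) • u := by
            rw [← hc1, (Classical.choose_spec (hHsc g g.2.1 g.2.2)).2.2, (Classical.choose_spec (hHsc h h.2.1 h.2.2)).2.2, e']
          have := h3 ((h : G)⁻¹ * g) i o u hio hou hiu
            (H.mul_mem (H.inv_mem h.2) g.2).1 (H.mul_mem (H.inv_mem h.2) g.2).2 (by rw [mul_smul, hgu, inv_smul_smul])
          exact (inv_mul_eq_one.mp this).symm
      · rintro ⟨a, ha⟩
        by_cases ha0 : a = 0
        · exact ⟨none, Subtype.ext ha0.symm⟩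
        · obtain ⟨g, hgi, hg⟩ := hsc a ha0 ha
          have hgo : g • o = o := by have := hg 0; rwa [hc0, mul_zero, hc0] at this
          refine ⟨some ⟨g, hgi, hgo⟩, Subtype.ext (hc ?_)⟩
          show c (Classical.choose (hHsc g hgi hgo)) = c a
          rw [← mul_one (Classical.choose (hHsc g hgi hgo)), ← (Classical.choose_spec (hHsc g hgi hgo)).2.2 1, hg, mul_one]
    have hd := AddSubgroup.card_addSubgroup_dvd_card S
    rw [hScard, Nat.card_eq_fintype_card (α := F), hFcard] at hd
    have h4 := Nat.dvd_sub (dvd_mul_left (Nat.card H + 1) 2) hd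
    rw [show 2 * (Nat.card H + 1) - (2 * Nat.card H + 1) = 1 by omega, Nat.dvd_one] at h4
    have : 0 < Nat.card H := Nat.card_pos
    omega
  have hinvf : ∀ x, x ≠ 0 → f x = x⁻¹ := by
    intro x hx
    by_cases hxs : IsSquare x
    · exact hfsq x hx hxs
    · rw [hfn x hxs, hk1, one_mul]
  -- the projective line
  let P := ℙ F (Fin 2 → F)
  have hv1 : ∀ x : F, (![x, 1] : Fin 2 → F) ≠ 0 := fun x h => one_ne_zero (congrFun h 1)
  let cinv : Ω → F := Function.invFun c
  have hcinv : ∀ x, cinv (c x) = x := Function.leftInverse_invFun hc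
  let ε : Ω → P := fun y => if y = i then Projectivization.mk F ![1, 0] CfsgLib.Classical.stdVec_zero_ne
    else Projectivization.mk F ![cinv y, 1] (hv1 _)
  have hεi : ε i = Projectivization.mk F ![1, 0] CfsgLib.Classical.stdVec_zero_ne := if_pos rfl
  have hεc : ∀ x, ε (c x) = Projectivization.mk F ![x, 1] (hv1 x) := fun x => by
    simp only [ε, if_neg (hci x), hcinv]
  have hcases : ∀ y, y = i ∨ ∃ x, c x = y := fun y => (em (y = i)).imp_right (hrange y).mp
  have hεinj : Function.Injective ε := by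
    intro y y' h
    rcases hcases y with rfl | ⟨x, rfl⟩ <;> rcases hcases y' with rfl | ⟨x', rfl⟩
    · rfl
    · rw [hεi, hεc, Projectivization.mk_eq_mk_iff'] at h
      obtain ⟨a, ha⟩ := h
      have h0 := congrFun ha 0; have h1 := congrFun ha 1
      simp at h0 h1
      rw [h1] at h0; simp at h0
    · rw [hεi, hεc, Projectivization.mk_eq_mk_iff'] at h
      obtain ⟨a, ha⟩ := h
      have h1 := congrFun ha 1
      simp at h1
    · rw [hεc, hεc, Projectivization.mk_eq_mk_iff'] at h
      obtain ⟨a, ha⟩ := h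
      have h0 := congrFun ha 0; have h1 := congrFun ha 1
      simp at h0 h1
      rw [h1, one_mul] at h0
      rw [h0]
  let tp : Matrix.ProjectiveSpecialLinearGroup (Fin 2) F →* Matrix.ProjGenLinGroup (Fin 2) F :=
    Matrix.ProjectiveSpecialLinearGroup.toPGL
  let Q : G → Matrix.ProjectiveSpecialLinearGroup (Fin 2) F → Prop := fun g π => ∀ y, ε (g • y) = tp π • ε y
  have hQmul : ∀ {g h π ρ}, Q g π → Q h ρ → Q (g * h) (π * ρ) := fun {g h π ρ} hg hh y => by
    rw [mul_smul, hg, hh, map_mul, mul_smul]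
  have hdet : ∀ a b c' d : F, a * d - b * c' = 1 → ∃ A : Matrix.SpecialLinearGroup (Fin 2) F,
      (A : Matrix (Fin 2) (Fin 2) F) = !![a, b; c', d] :=
    fun a b c' d h => ⟨⟨_, by rw [Matrix.det_fin_two_of]; exact h⟩, rfl⟩
  have hQt : ∀ g : G, g • i = i → (∃ b, ∀ x, g • c x = c (x + b)) → ∃ π, Q g π := by
    rintro g hgi ⟨b, hg⟩
    obtain ⟨A, hA⟩ := hdet 1 b 0 1 (by ring)
    refine ⟨QuotientGroup.mk A, fun y => ?_⟩
    simp only [tp]
    rw [Matrix.ProjectiveSpecialLinearGroup.toPGL_mk, CfsgLib.Classical.mk_toGL_smul]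
    rcases hcases y with rfl | ⟨x, rfl⟩
    · rw [hgi, hεi, Projectivization.smul_mk, Projectivization.mk_eq_mk_iff']
      exact ⟨1, funext fun k => by fin_cases k <;> simp [hA, Matrix.SpecialLinearGroup.smul_def, Matrix.smul_eq_mulVec]⟩
    · rw [hg, hεc, hεc, Projectivization.smul_mk, Projectivization.mk_eq_mk_iff']
      exact ⟨1, funext fun k => by fin_cases k <;> simp [hA, Matrix.SpecialLinearGroup.smul_def, Matrix.smul_eq_mulVec]⟩
  have hQh : ∀ g : G, g • i = i → (∃ r, r ≠ 0 ∧ ∀ x, g • c x = c (r * r * x)) → ∃ π, Q g π := by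
    rintro g hgi ⟨r, hr, hg⟩
    obtain ⟨A, hA⟩ := hdet r 0 0 r⁻¹ (by field_simp; ring)
    refine ⟨QuotientGroup.mk A, fun y => ?_⟩
    simp only [tp]
    rw [Matrix.ProjectiveSpecialLinearGroup.toPGL_mk, CfsgLib.Classical.mk_toGL_smul]
    rcases hcases y with rfl | ⟨x, rfl⟩
    · rw [hgi, hεi, Projectivization.smul_mk, Projectivization.mk_eq_mk_iff']
      exact ⟨r⁻¹, funext fun k => by fin_cases k <;> simp [hA, hr, Matrix.SpecialLinearGroup.smul_def, Matrix.smul_eq_mulVec]⟩
    · rw [hg, hεc, hεc, Projectivization.smul_mk, Projectivization.mk_eq_mk_iff']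
      exact ⟨r, funext fun k => by fin_cases k <;> simp [hA, hr, mul_assoc, mul_comm x r, Matrix.SpecialLinearGroup.smul_def, Matrix.smul_eq_mulVec]⟩
  have hQs : ∃ π, Q s π := by
    obtain ⟨A, hA⟩ := hdet 0 ι ι 0 (by linear_combination hι)
    refine ⟨QuotientGroup.mk A, fun y => ?_⟩
    simp only [tp]
    rw [Matrix.ProjectiveSpecialLinearGroup.toPGL_mk, CfsgLib.Classical.mk_toGL_smul]
    rcases hcases y with rfl | ⟨x, rfl⟩
    · rw [hsi, hεi, ← hc0, hεc, Projectivization.smul_mk, Projectivization.mk_eq_mk_iff']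
      exact ⟨ι⁻¹, funext fun k => by fin_cases k <;> simp [hA, hι0, Matrix.SpecialLinearGroup.smul_def, Matrix.smul_eq_mulVec]⟩
    by_cases hx : x = 0
    · rw [hx, hεc, hc0, hso, hεi, Projectivization.smul_mk, Projectivization.mk_eq_mk_iff']
      exact ⟨ι⁻¹, funext fun k => by fin_cases k <;> simp [hA, hι0, Matrix.SpecialLinearGroup.smul_def, Matrix.smul_eq_mulVec]⟩
    · rw [hf x hx, hinvf x hx, hεc, hεc, Projectivization.smul_mk, Projectivization.mk_eq_mk_iff']
      exact ⟨(ι * x)⁻¹, funext fun k => by fin_cases k <;> simp [hA, hx, hι0, Matrix.SpecialLinearGroup.smul_def, Matrix.smul_eq_mulVec] <;> field_simp⟩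
  have hQB : ∀ g : G, g • i = i → ∃ π, Q g π := by
    intro g hgi
    have h1 : g • o ≠ i := fun e => hio (MulAction.injective g (hgi.trans e.symm))
    obtain ⟨b, hb⟩ := (hrange _).mp h1
    obtain ⟨t, hti, ht⟩ := htr b
    have h2 : (t⁻¹ * g) • i = i := by rw [mul_smul, hgi, inv_smul_eq_iff, hti]
    have h2' : (t⁻¹ * g) • o = o := by rw [mul_smul, ← hb, inv_smul_eq_iff, ← hc0, ht, zero_add]
    obtain ⟨a, ha0, ⟨r, rfl⟩, ha⟩ := hHsc _ h2 h2'
    obtain ⟨π, hπ⟩ := hQt t hti ⟨b, ht⟩
    obtain ⟨ρ, hρ⟩ := hQh _ h2 ⟨r, (fun h => ha0 (by rw [h, mul_zero])), ha⟩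
    refine ⟨π * ρ, ?_⟩
    have := hQmul hπ hρ
    rwa [mul_inv_cancel_left] at this
  have hQall : ∀ g : G, ∃ π, Q g π := by
    intro g
    by_cases hgi : g • i = i
    · exact hQB g hgi
    obtain ⟨b, hb⟩ := (hrange _).mp hgi
    obtain ⟨t, hti, ht⟩ := htr b
    have h2 : (s * (t⁻¹ * g)) • i = i := by
      rw [mul_smul, mul_smul, ← hb, show t⁻¹ • c b = o by rw [inv_smul_eq_iff, ← hc0, ht, zero_add], hso]
    obtain ⟨π, hπ⟩ := hQt t hti ⟨b, ht⟩
    obtain ⟨σ, hσ⟩ := hQs
    obtain ⟨ρ, hρ⟩ := hQB _ h2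
    refine ⟨π * (σ * ρ), ?_⟩
    have := hQmul hπ (hQmul hσ hρ)
    rwa [show t * (s * (s * (t⁻¹ * g))) = g by rw [← mul_assoc s s, hss, one_mul, mul_inv_cancel_left]] at this
  choose χ hχ using hQall
  have huniq : ∀ π ρ, (∀ y, tp π • ε y = tp ρ • ε y) → π = ρ := by
    intro π ρ hall
    have hne : ∀ {a b : Ω}, a ≠ b → ε a ≠ ε b := fun h e => h (hεinj e)
    have := CfsgLib.Classical.pgl_two_eq_one_of_fix ((tp ρ)⁻¹ * tp π) _ _ _ (hne hio) (hne hiu) (hne hou)
      (by rw [mul_smul, hall, inv_smul_smul]) (by rw [mul_smul, hall, inv_smul_smul]) (by rw [mul_smul, hall, inv_smul_smul])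
    exact Matrix.ProjectiveSpecialLinearGroup.toPGL_injective (inv_mul_eq_one.mp this).symm
  have hmul : ∀ g h, χ (g * h) = χ g * χ h := fun g h =>
    huniq _ _ fun y => by rw [← hχ, hQmul (hχ g) (hχ h)]
  let χ' : G →* Matrix.ProjectiveSpecialLinearGroup (Fin 2) F := MonoidHom.mk' χ hmul
  have hinj : Function.Injective χ' := fun g h e => eq_of_smul_eq_smul fun y : Ω => hεinj (by
    rw [hχ, hχ, show χ g = χ h from e])
  refine ⟨MulEquiv.ofBijective χ' ((Nat.bijective_iff_injective_and_card _).mpr ⟨hinj, ?_⟩)⟩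
  have h1 := CfsgLib.Classical.card_psl_mul (F := F) (n := 2) (by norm_num)
  obtain ⟨l, hl⟩ : 2 ∣ Fintype.card F - 1 := ⟨Nat.card H, by omega⟩
  rw [Fin.prod_univ_two, hl, Nat.gcd_eq_left (dvd_mul_right 2 l)] at h1
  simp only [Fin.val_zero, Fin.val_one, pow_zero, pow_one] at h1
  rw [natCard_two_transitive h2t hio, ← hH, hcard]
  have hl' : l = Nat.card H := by omega
  rw [hl', hFcard] at h1
  rw [hFcard]
  set h := Nat.card H
  set X := Nat.card (Matrix.ProjectiveSpecialLinearGroup (Fin 2) F)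
  have e1 : (2 * h + 1) ^ 2 - 1 = 4 * h * (h + 1) := by
    have : (2 * h + 1) ^ 2 = 4 * h * (h + 1) + 1 := by ring
    omega
  have e2 : (2 * h + 1) ^ 2 - (2 * h + 1) = (2 * h + 1) * (2 * h) := by
    have : (2 * h + 1) ^ 2 = (2 * h + 1) * (2 * h) + (2 * h + 1) := by ring
    omega
  rw [e1, e2] at h1
  have hpos : 0 < h := Nat.card_pos
  rw [show 2 * h + 1 + 1 - 1 = 2 * h + 1 by omega]
  refine Nat.eq_of_mul_eq_mul_left (show 0 < 4 * h by omega) ?_
  calc 4 * h * (h * ((2 * h + 1 + 1) * (2 * h + 1))) = 4 * h * (h + 1) * ((2 * h + 1) * (2 * h)) := by ring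
    _ = 2 * (2 * h * X) := h1.symm
    _ = 4 * h * X := by ring

end CfsgLib.Perm
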