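import Cfsg.Agent.Lib.Perm.ZassenhausPSL

/-!
Recognition of `PSL(2, F)` from coordinates in which the point stabiliser acts by translations
and square scalings and a swapping involution by `x ↦ -r² / x`.
-/

set_option autoImplicit false

namespace CfsgLib.Perm

open MulAction

variable {G Ω : Type*} [Group G] [Finite G] [MulAction G Ω] [FaithfulSMul G Ω] [Fintype Ω]

set_option maxHeartbeats 1600000 in
open scoped LinearAlgebra.Projectivization in
/-- Recognition of the projective special linear group from half coordinates. -/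
theorem psl_of_half_coordinates (h2t : IsMultiplyPretransitive G Ω 2)
    {i o u : Ω} (hio : i ≠ o) (hiu : i ≠ u) (hou : o ≠ u) {s : G} (hsi : s • i = o) (hso : s • o = i)
    (hss : s * s = 1) {F : Type} [Field F] [Fintype F] (c : F → Ω) (hc : Function.Injective c)
    (hrange : ∀ y, y ≠ i ↔ ∃ x, c x = y) (hc0 : c 0 = o)
    (htr : ∀ b : F, ∃ g : G, g • i = i ∧ ∀ x, g • c x = c (x + b))
    (hHsc : ∀ g : G, g • i = i → g • o = o → ∃ a : F, a ≠ 0 ∧ IsSquare a ∧ ∀ x, g • c x = c (a * x))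
    (hcard : Fintype.card Ω = Fintype.card F + 1)
    (hFcard : Fintype.card F = 2 * Nat.card (stabilizer G i ⊓ stabilizer G o : Subgroup G) + 1)
    (r₀ : F) (hr₀ : r₀ ≠ 0) (hsx : ∀ x : F, x ≠ 0 → s • c x = c (-(r₀ * r₀) * x⁻¹)) :
    Nonempty (G ≃* Matrix.ProjectiveSpecialLinearGroup (Fin 2) F) := by
  classical
  set H : Subgroup G := stabilizer G i ⊓ stabilizer G o with hH
  have hci : ∀ x, c x ≠ i := fun x => (hrange _).mpr ⟨x, rfl⟩
  -- the projective line
  let P := ℙ F (Fin 2 → F)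
  have hv1 : ∀ x : F, (![x, 1] : Fin 2 → F) ≠ 0 := fun x h => one_ne_zero (congrFun h 1)
  let cinv : Ω → F := Function.invFun c
  have hcinv : ∀ x, cinv (c x) = x := Function.leftInverse_invFun hc
  let ε : Ω → P := fun y => if y = i then Projectivization.mk F ![1, 0] CfsgLib.Classical.stdVec_zero_ne
    else Projectivization.mk F ![cinv y, 1] (hv1 _)
  have hεi : ε i = Projectivization.mk F ![1, 0] CfsgLib.Classical.stdVec_zero_ne := if_pos rfl
  have hεc : ∀ x, ε (c x) = Projectivization.mk F ![x, 1] (hv1 x) := fun x => by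
    simp only [ε, if_neg (hci x), hcinv]
  have hcases : ∀ y, y = i ∨ ∃ x, c x = y := fun y => (em (y = i)).imp_right (hrange y).mp
  have hεinj : Function.Injective ε := by
    intro y y' h
    rcases hcases y with rfl | ⟨x, rfl⟩ <;> rcases hcases y' with rfl | ⟨x', rfl⟩
    · rfl
    · rw [hεi, hεc, Projectivization.mk_eq_mk_iff'] at h
      obtain ⟨a, ha⟩ := h
      have h0 := congrFun ha 0; have h1 := congrFun ha 1
      simp at h0 h1
      rw [h1] at h0; simp at h0
    · rw [hεi, hεc, Projectivization.mk_eq_mk_iff'] at h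
      obtain ⟨a, ha⟩ := h
      have h1 := congrFun ha 1
      simp at h1
    · rw [hεc, hεc, Projectivization.mk_eq_mk_iff'] at h
      obtain ⟨a, ha⟩ := h
      have h0 := congrFun ha 0; have h1 := congrFun ha 1
      simp at h0 h1
      rw [h1, one_mul] at h0
      rw [h0]
  let tp : Matrix.ProjectiveSpecialLinearGroup (Fin 2) F →* Matrix.ProjGenLinGroup (Fin 2) F :=
    Matrix.ProjectiveSpecialLinearGroup.toPGL
  let Q : G → Matrix.ProjectiveSpecialLinearGroup (Fin 2) F → Prop := fun g π => ∀ y, ε (g • y) = tp π • ε y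
  have hQmul : ∀ {g h π ρ}, Q g π → Q h ρ → Q (g * h) (π * ρ) := fun {g h π ρ} hg hh y => by
    rw [mul_smul, hg, hh, map_mul, mul_smul]
  have hdet : ∀ a b c' d : F, a * d - b * c' = 1 → ∃ A : Matrix.SpecialLinearGroup (Fin 2) F,
      (A : Matrix (Fin 2) (Fin 2) F) = !![a, b; c', d] :=
    fun a b c' d h => ⟨⟨_, by rw [Matrix.det_fin_two_of]; exact h⟩, rfl⟩
  have hQt : ∀ g : G, g • i = i → (∃ b, ∀ x, g • c x = c (x + b)) → ∃ π, Q g π := by
    rintro g hgi ⟨b, hg⟩
    obtain ⟨A, hA⟩ := hdet 1 b 0 1 (by ring)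
    refine ⟨QuotientGroup.mk A, fun y => ?_⟩
    simp only [tp]
    rw [Matrix.ProjectiveSpecialLinearGroup.toPGL_mk, CfsgLib.Classical.mk_toGL_smul]
    rcases hcases y with rfl | ⟨x, rfl⟩
    · rw [hgi, hεi, Projectivization.smul_mk, Projectivization.mk_eq_mk_iff']
      exact ⟨1, funext fun k => by fin_cases k <;> simp [hA, Matrix.SpecialLinearGroup.smul_def, Matrix.smul_eq_mulVec]⟩
    · rw [hg, hεc, hεc, Projectivization.smul_mk, Projectivization.mk_eq_mk_iff']
      exact ⟨1, funext fun k => by fin_cases k <;> simp [hA, Matrix.SpecialLinearGroup.smul_def, Matrix.smul_eq_mulVec]⟩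
  have hQh : ∀ g : G, g • i = i → (∃ r, r ≠ 0 ∧ ∀ x, g • c x = c (r * r * x)) → ∃ π, Q g π := by
    rintro g hgi ⟨r, hr, hg⟩
    obtain ⟨A, hA⟩ := hdet r 0 0 r⁻¹ (by field_simp; ring)
    refine ⟨QuotientGroup.mk A, fun y => ?_⟩
    simp only [tp]
    rw [Matrix.ProjectiveSpecialLinearGroup.toPGL_mk, CfsgLib.Classical.mk_toGL_smul]
    rcases hcases y with rfl | ⟨x, rfl⟩
    · rw [hgi, hεi, Projectivization.smul_mk, Projectivization.mk_eq_mk_iff']
      exact ⟨r⁻¹, funext fun k => by fin_cases k <;> simp [hA, hr, Matrix.SpecialLinearGroup.smul_def, Matrix.smul_eq_mulVec]⟩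
    · rw [hg, hεc, hεc, Projectivization.smul_mk, Projectivization.mk_eq_mk_iff']
      exact ⟨r, funext fun k => by fin_cases k <;> simp [hA, hr, mul_assoc, mul_comm x r, Matrix.SpecialLinearGroup.smul_def, Matrix.smul_eq_mulVec]⟩
  have hQs : ∃ π, Q s π := by
    obtain ⟨A, hA⟩ := hdet 0 (-r₀) r₀⁻¹ 0 (by field_simp; ring)
    refine ⟨QuotientGroup.mk A, fun y => ?_⟩
    simp only [tp]
    rw [Matrix.ProjectiveSpecialLinearGroup.toPGL_mk, CfsgLib.Classical.mk_toGL_smul]
    rcases hcases y with rfl | ⟨x, rfl⟩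
    · rw [hsi, hεi, ← hc0, hεc, Projectivization.smul_mk, Projectivization.mk_eq_mk_iff']
      exact ⟨r₀, funext fun k => by fin_cases k <;> simp [hA, hr₀, Matrix.SpecialLinearGroup.smul_def, Matrix.smul_eq_mulVec]⟩
    by_cases hx : x = 0
    · rw [hx, hεc, hc0, hso, hεi, Projectivization.smul_mk, Projectivization.mk_eq_mk_iff']
      exact ⟨(-r₀)⁻¹, funext fun k => by fin_cases k <;> simp [hA, hr₀, Matrix.SpecialLinearGroup.smul_def, Matrix.smul_eq_mulVec]⟩
    · rw [hsx x hx, hεc, hεc, Projectivization.smul_mk, Projectivization.mk_eq_mk_iff']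
      exact ⟨r₀ * x⁻¹, funext fun k => by fin_cases k <;> simp [hA, hx, hr₀, Matrix.SpecialLinearGroup.smul_def, Matrix.smul_eq_mulVec] <;> field_simp⟩
  have hQB : ∀ g : G, g • i = i → ∃ π, Q g π := by
    intro g hgi
    have h1 : g • o ≠ i := fun e => hio (MulAction.injective g (hgi.trans e.symm))
    obtain ⟨b, hb⟩ := (hrange _).mp h1
    obtain ⟨t, hti, ht⟩ := htr b
    have h2 : (t⁻¹ * g) • i = i := by rw [mul_smul, hgi, inv_smul_eq_iff, hti]
    have h2' : (t⁻¹ * g) • o = o := by rw [mul_smul, ← hb, inv_smul_eq_iff, ← hc0, ht, zero_add]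
    obtain ⟨a, ha0, ⟨r, rfl⟩, ha⟩ := hHsc _ h2 h2'
    obtain ⟨π, hπ⟩ := hQt t hti ⟨b, ht⟩
    obtain ⟨ρ, hρ⟩ := hQh _ h2 ⟨r, (fun h => ha0 (by rw [h, mul_zero])), ha⟩
    refine ⟨π * ρ, ?_⟩
    have := hQmul hπ hρ
    rwa [mul_inv_cancel_left] at this
  have hQall : ∀ g : G, ∃ π, Q g π := by
    intro g
    by_cases hgi : g • i = i
    · exact hQB g hgi
    obtain ⟨b, hb⟩ := (hrange _).mp hgi
    obtain ⟨t, hti, ht⟩ := htr b
    have h2 : (s * (t⁻¹ * g)) • i = i := by
      rw [mul_smul, mul_smul, ← hb, show t⁻¹ • c b = o by rw [inv_smul_eq_iff, ← hc0, ht, zero_add], hso]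
    obtain ⟨π, hπ⟩ := hQt t hti ⟨b, ht⟩
    obtain ⟨σ, hσ⟩ := hQs
    obtain ⟨ρ, hρ⟩ := hQB _ h2
    refine ⟨π * (σ * ρ), ?_⟩
    have := hQmul hπ (hQmul hσ hρ)
    rwa [show t * (s * (s * (t⁻¹ * g))) = g by rw [← mul_assoc s s, hss, one_mul, mul_inv_cancel_left]] at this
  choose χ hχ using hQall
  have huniq : ∀ π ρ, (∀ y, tp π • ε y = tp ρ • ε y) → π = ρ := by
    intro π ρ hall
    have hne : ∀ {a b : Ω}, a ≠ b → ε a ≠ ε b := fun h e => h (hεinj e)
    have := CfsgLib.Classical.pgl_two_eq_one_of_fix ((tp ρ)⁻¹ * tp π) _ _ _ (hne hio) (hne hiu) (hne hou)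
      (by rw [mul_smul, hall, inv_smul_smul]) (by rw [mul_smul, hall, inv_smul_smul]) (by rw [mul_smul, hall, inv_smul_smul])
    exact Matrix.ProjectiveSpecialLinearGroup.toPGL_injective (inv_mul_eq_one.mp this).symm
  have hmul : ∀ g h, χ (g * h) = χ g * χ h := fun g h =>
    huniq _ _ fun y => by rw [← hχ, hQmul (hχ g) (hχ h)]
  let χ' : G →* Matrix.ProjectiveSpecialLinearGroup (Fin 2) F := MonoidHom.mk' χ hmul
  have hinj : Function.Injective χ' := fun g h e => eq_of_smul_eq_smul fun y : Ω => hεinj (by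
    rw [hχ, hχ, show χ g = χ h from e])
  refine ⟨MulEquiv.ofBijective χ' ((Nat.bijective_iff_injective_and_card _).mpr ⟨hinj, ?_⟩)⟩
  have h1 := CfsgLib.Classical.card_psl_mul (F := F) (n := 2) (by norm_num)
  obtain ⟨l, hl⟩ : 2 ∣ Fintype.card F - 1 := ⟨Nat.card H, by omega⟩
  rw [Fin.prod_univ_two, hl, Nat.gcd_eq_left (dvd_mul_right 2 l)] at h1
  simp only [Fin.val_zero, Fin.val_one, pow_zero, pow_one] at h1
  rw [natCard_two_transitive h2t hio, ← hH, hcard]
  have hl' : l = Nat.card H := by omega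
  rw [hl', hFcard] at h1
  rw [hFcard]
  set h := Nat.card H
  set X := Nat.card (Matrix.ProjectiveSpecialLinearGroup (Fin 2) F)
  have e1 : (2 * h + 1) ^ 2 - 1 = 4 * h * (h + 1) := by
    have : (2 * h + 1) ^ 2 = 4 * h * (h + 1) + 1 := by ring
    omega
  have e2 : (2 * h + 1) ^ 2 - (2 * h + 1) = (2 * h + 1) * (2 * h) := by
    have : (2 * h + 1) ^ 2 = (2 * h + 1) * (2 * h) + (2 * h + 1) := by ring
    omega
  rw [e1, e2] at h1
  have hpos : 0 < h := Nat.card_pos
  rw [show 2 * h + 1 + 1 - 1 = 2 * h + 1 by omega]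
  refine Nat.eq_of_mul_eq_mul_left (show 0 < 4 * h by omega) ?_
  calc 4 * h * (h * ((2 * h + 1 + 1) * (2 * h + 1))) = 4 * h * (h + 1) * ((2 * h + 1) * (2 * h)) := by ring
    _ = 2 * (2 * h * X) := h1.symm
    _ = 4 * h * X := by ring


end CfsgLib.Perm
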