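import Mathlib.GroupTheory.GroupAction.Primitive
import Mathlib.GroupTheory.GroupAction.Quotient
import Mathlib.GroupTheory.GroupAction.MultipleTransitivity
import Mathlib.GroupTheory.Subgroup.Centralizer
import Mathlib.GroupTheory.Index

/-!
Basic facts on permutation groups: centralizers of transitive groups, regular actions,
stabilizers of normal subgroups, transitive normal subgroups of primitive groups.
-/

set_option autoImplicit false

namespace CfsgLib.Perm

open MulAction

variable {G : Type*} [Group G] {α : Type*} [MulAction G α]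

/-- A permutation commuting with a transitive action and fixing one point is trivial. -/
theorem perm_eq_one_of_commute_of_fix [IsPretransitive G α] {c : Equiv.Perm α}
    (hc : ∀ (g : G) (x : α), c (g • x) = g • c x) {a : α} (ha : c a = a) : c = 1 := by
  ext x
  obtain ⟨g, rfl⟩ := exists_smul_eq G a x
  rw [hc, ha]; rfl

/-- In a primitive faithful action a non-trivial normal subgroup is transitive. -/
theorem normal_isPretransitive [IsPreprimitive G α] [FaithfulSMul G α] {N : Subgroup G} [N.Normal]
    (hN : N ≠ ⊥) : IsPretransitive N α := by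
  refine IsQuasiPreprimitive.isPretransitive_of_normal fun h => hN ?_
  rw [Subgroup.eq_bot_iff_forall]
  intro n hn
  refine eq_of_smul_eq_smul (α := α) fun x => ?_
  have := (Set.eq_univ_iff_forall.mp h x) ⟨n, hn⟩
  rw [one_smul]; exact this

/-- Point stabilizers of a normal subgroup are permuted by conjugation. -/
theorem stabilizer_normal_smul {N : Subgroup G} [hN : N.Normal] (g : G) (a : α) (n : G) (hn : n ∈ N) :
    (⟨n, hn⟩ : N) ∈ stabilizer N (g • a) ↔
      (⟨g⁻¹ * n * g, by simpa using hN.conj_mem n hn g⁻¹⟩ : N) ∈ stabilizer N a := by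
  simp only [mem_stabilizer_iff, Subgroup.mk_smul, mul_smul]
  constructor
  · intro h; rw [h, inv_smul_smul]
  · intro h
    have := congrArg (g • ·) h
    simpa [smul_inv_smul] using this

/-- If a normal subgroup of a transitive group has one trivial point stabilizer, all are trivial. -/
theorem stabilizer_eq_bot_of_normal [IsPretransitive G α] {N : Subgroup G} [N.Normal] {a : α}
    (h : stabilizer N a = ⊥) (b : α) : stabilizer N b = ⊥ := by
  rw [Subgroup.eq_bot_iff_forall]
  rintro ⟨n, hn⟩ hnb
  obtain ⟨g, rfl⟩ := exists_smul_eq G a b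
  rw [stabilizer_normal_smul g a n hn, h, Subgroup.mem_bot, Subtype.ext_iff] at hnb
  apply Subtype.ext
  simpa [mul_eq_one_iff_eq_inv, inv_mul_eq_iff_eq_mul] using hnb

/-- The bijection `n ↦ n • a` of a regular action. -/
noncomputable def regularEquiv [IsPretransitive G α] {a : α} (h : stabilizer G a = ⊥) : G ≃ α :=
  Equiv.ofBijective (fun g => g • a) ⟨fun g g' hgg => by
      have : g'⁻¹ * g ∈ stabilizer G a := by
        simp only at hgg
        rw [mem_stabilizer_iff, mul_smul, hgg, inv_smul_smul]
      rw [h, Subgroup.mem_bot, inv_mul_eq_one] at this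
      exact this.symm, fun x => exists_smul_eq G a x⟩

theorem regularEquiv_apply [IsPretransitive G α] {a : α} (h : stabilizer G a = ⊥) (g : G) :
    regularEquiv h g = g • a := rfl

theorem natCard_eq_of_regular [IsPretransitive G α] {a : α} (h : stabilizer G a = ⊥) :
    Nat.card G = Nat.card α :=
  Nat.card_congr (regularEquiv h)

/-- Orbit-stabilizer for a transitive action. -/
theorem natCard_eq_mul_stabilizer [IsPretransitive G α] (a : α) :
    Nat.card G = Nat.card α * Nat.card (stabilizer G a) := by
  rw [← index_stabilizer_of_transitive G a, Subgroup.index_mul_card]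

/-- Two point transitivity from transitivity of one point stabilizer on the rest. -/
theorem isTwoPretransitive_of_stabilizer [IsPretransitive G α] (a : α)
    (h : ∀ x y : α, x ≠ a → y ≠ a → ∃ g : G, g • a = a ∧ g • x = y) :
    IsMultiplyPretransitive G α 2 := by
  rw [is_two_pretransitive_iff]
  intro u v u' v' huv huv'
  obtain ⟨g, hg⟩ := exists_smul_eq G u a
  obtain ⟨k, hk⟩ := exists_smul_eq G u' a
  have h1 : g • v ≠ a := by rw [← hg]; exact fun e => huv ((MulAction.injective g e).symm)
  have h2 : k • v' ≠ a := by rw [← hk]; exact fun e => huv' ((MulAction.injective k e).symm)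
  obtain ⟨m, hma, hm⟩ := h _ _ h1 h2
  refine ⟨k⁻¹ * m * g, ?_, ?_⟩
  · rw [mul_smul, mul_smul, hg, hma, ← hk, inv_smul_smul]
  · rw [mul_smul, mul_smul, hm, inv_smul_smul]

/-- Unfolding of two point transitivity. -/
theorem exists_smul_pair (h : IsMultiplyPretransitive G α 2) {a b c d : α} (hab : a ≠ b)
    (hcd : c ≠ d) : ∃ g : G, g • a = c ∧ g • b = d :=
  (is_two_pretransitive_iff.mp h) hab hcd

end CfsgLib.Perm
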