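import Cfsg.Agent.Lib.Perm.ZassenhausAbelian
import Cfsg.Agent.Lib.Perm.HalfMoebius
import Cfsg.Agent.S0738
import Cfsg.Agent.S0742

/-!
Zassenhaus groups with abelian kernel: sharply three transitive or `PSL(2, q)`.
-/

set_option autoImplicit false
set_option linter.style.haveILetI false

namespace CfsgLib.Perm.ZassenhausClass

open MulAction in
theorem stab_dvd {G Ω : Type*} [Group G] [Finite G] [MulAction G Ω] [Fintype Ω]
    (h3 : ∀ g : G, ∀ a b c : Ω, a ≠ b → b ≠ c → a ≠ c → g • a = a → g • b = b → g • c = c → g = 1)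
    {a b : Ω} (hab : a ≠ b) :
    Nat.card (stabilizer G a ⊓ stabilizer G b : Subgroup G) ∣ Fintype.card Ω - 2 := by
  classical
  have := Fintype.ofFinite G
  let H : Finset G := Finset.univ.filter fun g => g • a = a ∧ g • b = b
  have hmem : ∀ g, g ∈ H ↔ g • a = a ∧ g • b = b := fun g => by simp [H]
  have hH : Nat.card (stabilizer G a ⊓ stabilizer G b : Subgroup G) = H.card := by
    exact Nat.subtype_card H fun g => (hmem g).trans Iff.rfl
  set R := ((Finset.univ : Finset Ω).erase a).erase b with hR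
  have hRc : R.card = Fintype.card Ω - 2 := by
    rw [hR, Finset.card_erase_of_mem (Finset.mem_erase.mpr ⟨hab.symm, Finset.mem_univ _⟩),
      Finset.card_erase_of_mem (Finset.mem_univ _), Finset.card_univ]
    omega
  have hRm : ∀ z, z ∈ R ↔ z ≠ b ∧ z ≠ a := fun z => by simp [hR]
  let orb : Ω → Finset Ω := fun z => H.image fun g => g • z
  have horb : ∀ z ∈ R, (R.filter fun y => orb y = orb z).card = H.card := by
    intro z hz
    obtain ⟨hzb, hza⟩ := (hRm z).mp hz
    rw [← Finset.card_image_of_injOn (f := fun g : G => g • z) (s := H) (fun g hg g' hg' e => ?_)]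
    · congr 1
      ext y
      rw [Finset.mem_filter]
      constructor
      · rintro ⟨-, e⟩
        show y ∈ orb z
        rw [← e]
        exact Finset.mem_image.mpr ⟨1, (hmem 1).mpr ⟨one_smul _ _, one_smul _ _⟩, one_smul _ _⟩
      · intro hy
        obtain ⟨g, hg, rfl⟩ := Finset.mem_image.mp hy
        obtain ⟨hga, hgb⟩ := (hmem g).mp hg
        refine ⟨(hRm _).mpr ⟨fun e => hzb (MulAction.injective g (e.trans hgb.symm)),
          fun e => hza (MulAction.injective g (e.trans hga.symm))⟩, ?_⟩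
        ext y
        constructor
        · intro hy'
          obtain ⟨k, hk, rfl⟩ := Finset.mem_image.mp hy'
          exact Finset.mem_image.mpr ⟨k * g, (hmem _).mpr ⟨by rw [mul_smul, hga, ((hmem k).mp hk).1],
            by rw [mul_smul, hgb, ((hmem k).mp hk).2]⟩, mul_smul k g z⟩
        · intro hy'
          obtain ⟨k, hk, rfl⟩ := Finset.mem_image.mp hy'
          refine Finset.mem_image.mpr ⟨k * g⁻¹, (hmem _).mpr ⟨?_, ?_⟩, ?_⟩
          · rw [mul_smul, inv_smul_eq_iff.mpr hga.symm, ((hmem k).mp hk).1]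
          · rw [mul_smul, inv_smul_eq_iff.mpr hgb.symm, ((hmem k).mp hk).2]
          · rw [mul_smul, inv_smul_smul]
    · obtain ⟨hga, hgb⟩ := (hmem g).mp (Finset.mem_coe.mp hg)
      obtain ⟨hga', hgb'⟩ := (hmem g').mp (Finset.mem_coe.mp hg')
      refine (inv_mul_eq_one.mp (h3 (g'⁻¹ * g) a b z hab (Ne.symm hzb) (Ne.symm hza) ?_ ?_ ?_)).symm
      · rw [mul_smul, hga, inv_smul_eq_iff, hga']
      · rw [mul_smul, hgb, inv_smul_eq_iff, hgb']
      · rw [mul_smul, show g • z = g' • z from e, inv_smul_smul]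
  have h := Finset.card_eq_sum_card_fiberwise (f := orb) (s := R) (t := R.image orb)
    (fun z hz => Finset.mem_coe.mpr (Finset.mem_image_of_mem _ (Finset.mem_coe.mp hz)))
  rw [Finset.sum_const_nat (m := H.card) (fun o ho => by
    obtain ⟨z, hz, rfl⟩ := Finset.mem_image.mp ho; exact horb z hz), hRc] at h
  rw [hH, h]
  exact dvd_mul_left _ _

open MulAction in
theorem sharp_of_full {G Ω : Type*} [Group G] [Finite G] [MulAction G Ω] [Fintype Ω]
    (h2t : IsMultiplyPretransitive G Ω 2)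
    (h3 : ∀ g : G, ∀ a b c : Ω, a ≠ b → b ≠ c → a ≠ c → g • a = a → g • b = b → g • c = c → g = 1)
    {a b : Ω} (hab : a ≠ b)
    (hfull : Nat.card (stabilizer G a ⊓ stabilizer G b : Subgroup G) = Fintype.card Ω - 2) :
    IsMultiplyPretransitive G Ω 3 ∧ ∀ t : Fin 3 ↪ Ω, stabilizer G t = ⊥ := by
  classical
  refine ⟨⟨fun x y => ?_⟩, fun t => ?_⟩
  · have hd : ∀ (z : Fin 3 ↪ Ω) (i j : Fin 3), i ≠ j → z i ≠ z j := fun z i j h e => h (z.injective e)
    obtain ⟨t, t1, t2⟩ := CfsgLib.Perm.exists_smul_pair h2t (hd x 0 1 (by decide)) hab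
    obtain ⟨t', t1', t2'⟩ := CfsgLib.Perm.exists_smul_pair h2t (hd y 0 1 (by decide)) hab
    let R := {z : Ω // z ≠ a ∧ z ≠ b}
    have hxR : t • x 2 ≠ a ∧ t • x 2 ≠ b :=
      ⟨fun e => hd x 2 0 (by decide) (MulAction.injective t (e.trans t1.symm)),
        fun e => hd x 2 1 (by decide) (MulAction.injective t (e.trans t2.symm))⟩
    have hyR : t' • y 2 ≠ a ∧ t' • y 2 ≠ b :=
      ⟨fun e => hd y 2 0 (by decide) (MulAction.injective t' (e.trans t1'.symm)),
        fun e => hd y 2 1 (by decide) (MulAction.injective t' (e.trans t2'.symm))⟩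
    let f : (stabilizer G a ⊓ stabilizer G b : Subgroup G) → R := fun k => ⟨(k : G) • (t • x 2),
      fun e => hxR.1 (MulAction.injective (k : G) (e.trans k.2.1.symm)),
      fun e => hxR.2 (MulAction.injective (k : G) (e.trans k.2.2.symm))⟩
    have hf : Function.Injective f := by
      intro k l e
      have e' : (k : G) • (t • x 2) = (l : G) • (t • x 2) := congrArg Subtype.val e
      refine Subtype.ext (inv_mul_eq_one.mp (h3 _ a b (t • x 2) hab (Ne.symm hxR.2) (Ne.symm hxR.1)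
        (mul_mem (inv_mem l.2) k.2).1 (mul_mem (inv_mem l.2) k.2).2 ?_)).symm
      rw [mul_smul, e', inv_smul_smul]
    have hcard : Nat.card R = Fintype.card Ω - 2 := by
      rw [Nat.card_eq_fintype_card, Fintype.card_of_subtype (((Finset.univ : Finset Ω).erase a).erase b)
        (fun z => by simp [and_comm]), Finset.card_erase_of_mem (Finset.mem_erase.mpr ⟨hab.symm, Finset.mem_univ _⟩),
        Finset.card_erase_of_mem (Finset.mem_univ _), Finset.card_univ]
      omega
    obtain ⟨k, hk⟩ := ((Nat.bijective_iff_injective_and_card f).mpr ⟨hf, hfull.trans hcard.symm⟩).2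
      ⟨t' • y 2, hyR⟩
    have hk' : (k : G) • (t • x 2) = t' • y 2 := congrArg Subtype.val hk
    refine ⟨t'⁻¹ * k * t, Function.Embedding.ext fun i => ?_⟩
    show (t'⁻¹ * (k : G) * t) • x i = y i
    rw [mul_smul, mul_smul, inv_smul_eq_iff]
    fin_cases i
    · show (k : G) • t • x 0 = t' • y 0
      rw [t1, t1']; exact k.2.1
    · show (k : G) • t • x 1 = t' • y 1
      rw [t2, t2']; exact k.2.2
    · exact hk'
  · rw [Subgroup.eq_bot_iff_forall]
    intro g hg
    have h : ∀ i, g • t i = t i := fun i => congrArg (fun e : Fin 3 ↪ Ω => e i) hg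
    exact h3 g (t 0) (t 1) (t 2) (fun e => absurd (t.injective e) (by decide))
      (fun e => absurd (t.injective e) (by decide)) (fun e => absurd (t.injective e) (by decide))
      (h 0) (h 1) (h 2)

open MulAction in
theorem odd_half {G : Type*} {Ω : Type*} [Group G] [Finite G] [MulAction G Ω] [Fintype Ω]
    (hZ : Cfsg.IsZassenhausGroup G Ω) {a b : Ω} (hab : a ≠ b) (F : Subgroup G)
    (hFle : F ≤ stabilizer G a) (hFn : (F.subgroupOf (stabilizer G a)).Normal)
    (hreg : ∀ y z : Ω, y ≠ a → z ≠ a → ∃! u : F, (u : G) • y = z)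
    (C : CfsgLib.Perm.OddKernel G Ω a b F)
    (hhalf : Fintype.card Ω - 2 = 2 * Nat.card (stabilizer G a ⊓ stabilizer G b : Subgroup G)) :
    ∃ (K : Type) (_ : Field K) (_ : Fintype K), ringChar K ≠ 2 ∧
      Fintype.card Ω = Fintype.card K + 1 ∧
      Nonempty (G ≃* Matrix.ProjectiveSpecialLinearGroup (Fin 2) K) := by
  classical
  haveI := Fintype.ofFinite G
  haveI := hZ.1
  obtain ⟨hNc, p, f, hp, hNp, -⟩ := Cfsg.Agent.S0738.result hZ hab hhalf.le F hFle hFn hreg
  obtain ⟨s, hsa, hsb⟩ := C.exists_swap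
  obtain ⟨u, hua, hub⟩ : ∃ u : Ω, u ≠ a ∧ u ≠ b := by
    have h : 0 < (((Finset.univ : Finset Ω).erase a).erase b).card := by
      rw [Finset.card_erase_of_mem (Finset.mem_erase.mpr ⟨hab.symm, Finset.mem_univ _⟩),
        Finset.card_erase_of_mem (Finset.mem_univ _), Finset.card_univ]
      have := C.big; omega
    obtain ⟨u, hu⟩ := Finset.card_pos.mp h
    simp at hu
    exact ⟨u, hu.2, hu.1⟩
  obtain ⟨K, iK, iKf, c, hc, hrange, hc0, hc1, hchar, htr, hsc, hHsc, hcard⟩ :=
    CfsgLib.Perm.exists_half_coordinates C.two C.three hab (Ne.symm hua) (Ne.symm hub)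
      (fun g h h1 h2 h3 h4 => C.two_point_comm ⟨h1, h2⟩ ⟨h3, h4⟩) hhalf F (fun x hx => C.fix x hx)
      hNc hp hNp C.normal hreg
  refine ⟨K, iK, iKf, hchar, hcard, ?_⟩
  have hKcard : Fintype.card K = 2 * Nat.card (stabilizer G a ⊓ stabilizer G b : Subgroup G) + 1 := by
    have := C.big; omega
  have hneg : ¬ IsSquare (-1 : K) := by
    rw [FiniteField.isSquare_neg_one_iff]
    obtain ⟨k, hk⟩ := C.odd
    omega
  have hmulsq : ∀ x y : K, ¬ IsSquare x → ¬ IsSquare y → IsSquare (x * y) := by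
    intro x y hx hy
    have hx0 : x ≠ 0 := fun h => hx (h ▸ IsSquare.zero)
    have hy0 : y ≠ 0 := fun h => hy (h ▸ IsSquare.zero)
    rw [FiniteField.isSquare_iff hchar (mul_ne_zero hx0 hy0), mul_pow]
    have e1 := (FiniteField.pow_dichotomy hchar hx0).resolve_left fun h => hx ((FiniteField.isSquare_iff hchar hx0).mpr h)
    have e2 := (FiniteField.pow_dichotomy hchar hy0).resolve_left fun h => hy ((FiniteField.isSquare_iff hchar hy0).mpr h)
    rw [e1, e2, neg_mul_neg, one_mul]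
  have hss := C.swap_sq hsa hsb
  have hs1 : s ≠ 1 := fun e => hab (by rw [← hsa, e, one_smul])
  have hfpf : ∀ y : Ω, s • y ≠ y := by
    intro y hy
    haveI : Fact (Nat.Prime 2) := ⟨Nat.prime_two⟩
    have h1 := Equiv.Perm.card_compl_support_modEq (p := 2) (n := 1) (σ := (MulAction.toPerm s : Equiv.Perm Ω)) (by
      ext z; simp [pow_succ, ← mul_smul, hss])
    have hS : 1 < ((MulAction.toPerm s : Equiv.Perm Ω).supportᶜ).card := by
      have hpos : 0 < ((MulAction.toPerm s : Equiv.Perm Ω).supportᶜ).card :=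
        Finset.card_pos.mpr ⟨y, by simp [hy]⟩
      rw [Nat.ModEq, hcard, hKcard] at h1
      omega
    obtain ⟨y₁, hy₁, y₂, hy₂, hne⟩ := Finset.one_lt_card.mp hS
    simp at hy₁ hy₂
    exact hne (C.unique_fixed hss hs1 hy₁ hy₂)
  have hci : ∀ x, c x ≠ a := fun x => (hrange _).mpr ⟨x, rfl⟩
  have hs : ∀ y : Ω, s • s • y = y := fun y => by rw [smul_smul, hss, one_smul]
  have hfex : ∀ x : K, x ≠ 0 → ∃ y : K, y ≠ 0 ∧ s • c x = c y := by
    intro x hx
    have h1 : s • c x ≠ a := fun h => hx (hc ((MulAction.injective s (h.trans hsb.symm)).trans hc0.symm))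
    obtain ⟨y, hy⟩ := (hrange _).mp h1
    refine ⟨y, fun hy0 => hci x (MulAction.injective s ?_), hy.symm⟩
    show s • c x = s • a
    rw [← hy, hy0, hc0, hsa]
  choose! f hf0 hf using hfex
  have hff : ∀ x, x ≠ 0 → f (f x) = x := fun x hx => hc (by rw [← hf _ (hf0 x hx), ← hf x hx, hs])
  have hfmul : ∀ α x, α ≠ 0 → IsSquare α → x ≠ 0 → f (α * x) = α⁻¹ * f x := by
    intro α x ha hsq hx
    obtain ⟨g, hga, hg⟩ := hsc α ha hsq
    have hgb : g • b = b := by have := hg 0; rwa [hc0, mul_zero, hc0] at this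
    have e : s * g = g⁻¹ * s := by rw [← C.inv s hsa hsb g ⟨hga, hgb⟩]; group
    apply hc
    rw [← hf _ (mul_ne_zero ha hx), ← hg, ← mul_smul, e, mul_smul, hf x hx, inv_smul_eq_iff, hg,
      mul_inv_cancel_left₀ ha]
  have hf10 : f 1 ≠ 0 := hf0 1 one_ne_zero
  have hf1 : ¬ IsSquare (f 1) := by
    rintro ⟨r, hr⟩
    have hr0 : r ≠ 0 := fun h => hf10 (by rw [hr, h, mul_zero])
    obtain ⟨y, hy0, hysq, hy⟩ : ∃ y, y ≠ 0 ∧ IsSquare y ∧ y * y = f 1 := by
      by_cases hrs : IsSquare r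
      · exact ⟨r, hr0, hrs, hr.symm⟩
      · exact ⟨-r, neg_ne_zero.mpr hr0, by
          rw [show -r = (-1) * r by ring]; exact hmulsq _ _ hneg hrs, by rw [hr]; ring⟩
    have := hfmul y 1 hy0 hysq one_ne_zero
    rw [mul_one, ← hy, inv_mul_cancel_left₀ hy0] at this
    exact hfpf (c y) (by rw [hf y hy0, this])
  have hfx : ∀ x, x ≠ 0 → f x = f 1 * x⁻¹ := by
    intro x hx
    by_cases hxs : IsSquare x
    · have := hfmul x 1 hx hxs one_ne_zero
      rw [mul_one] at this
      rw [this, mul_comm]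
    · have hsq : IsSquare (x * (f 1)⁻¹) := by
        rw [show x * (f 1)⁻¹ = (x * f 1) * ((f 1)⁻¹ * (f 1)⁻¹) by field_simp]
        exact (hmulsq _ _ hxs hf1).mul (IsSquare.mul_self _)
      have := hfmul _ (f 1) (mul_ne_zero hx (inv_ne_zero hf10)) hsq hf10
      rw [inv_mul_cancel_right₀ hf10, hff 1 one_ne_zero] at this
      rw [this]
      field_simp
  obtain ⟨r₀, hr₀⟩ : IsSquare (-f 1) := by
    rw [show -f 1 = (-1) * f 1 by ring]; exact hmulsq _ _ hneg hf1
  refine CfsgLib.Perm.psl_of_half_coordinates C.two hab (Ne.symm hua) (Ne.symm hub) hsa hsb hss c hc hrange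
    hc0 htr hHsc hcard hKcard r₀ (fun h => hf10 (by rw [h, mul_zero] at hr₀; exact neg_eq_zero.mp hr₀))
    fun x hx => ?_
  rw [hf x hx, hfx x hx, ← hr₀, neg_neg]

/-- The classification, with numerical information. -/
theorem classify {G Ω : Type*} [Group G] [Finite G] [MulAction G Ω] [Fintype Ω]
    (hZ : Cfsg.IsZassenhausGroup G Ω) {x b : Ω} (hab : x ≠ b) (F : Subgroup G)
    (hFle : F ≤ MulAction.stabilizer G x) (hFn : (F.subgroupOf (MulAction.stabilizer G x)).Normal)
    (hFab : IsMulCommutative F) (hreg : ∀ y z : Ω, y ≠ x → z ≠ x → ∃! u : F, (u : G) • y = z) :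
    (Nat.card (MulAction.stabilizer G x ⊓ MulAction.stabilizer G b : Subgroup G) = Fintype.card Ω - 2 ∧
      MulAction.IsMultiplyPretransitive G Ω 3 ∧ ∀ t : Fin 3 ↪ Ω, MulAction.stabilizer G t = ⊥) ∨
    (Fintype.card Ω - 2 = 2 * Nat.card (MulAction.stabilizer G x ⊓ MulAction.stabilizer G b : Subgroup G) ∧
      ∃ (K : Type) (_ : Field K) (_ : Fintype K), ringChar K ≠ 2 ∧ Fintype.card Ω = Fintype.card K + 1 ∧
        Nonempty (G ≃* Matrix.ProjectiveSpecialLinearGroup (Fin 2) K)) := by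
  classical
  obtain ⟨hf, h2t, h3, ⟨g₀, hg₀, c₀, d₀, hcd, hg₀c, hg₀d⟩, -⟩ := id hZ
  obtain ⟨k, hk⟩ := stab_dvd (G := G) h3 hab
  have hk0 : k ≠ 0 := by
    intro h
    rw [h, mul_zero] at hk
    obtain ⟨t, t1, t2⟩ := CfsgLib.Perm.exists_smul_pair h2t hcd hab
    have hn : 2 ≤ Fintype.card Ω := Fintype.one_lt_card_iff.mpr ⟨x, b, hab⟩
    haveI := hf
    refine hg₀ (eq_of_smul_eq_smul fun y : Ω => ?_)
    rw [one_smul]
    have hall : ∀ z : Ω, z = c₀ ∨ z = d₀ := by
      intro z
      by_contra hc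
      push Not at hc
      have : ({c₀, d₀, z} : Finset Ω).card = 3 := by
        rw [Finset.card_insert_of_notMem (by simp [hcd, Ne.symm hc.1]), Finset.card_pair (Ne.symm hc.2)]
      have := Finset.card_le_univ ({c₀, d₀, z} : Finset Ω)
      omega
    rcases hall y with rfl | rfl <;> assumption
  by_cases hk1 : k = 1
  · left
    exact ⟨by rw [hk, hk1, mul_one], sharp_of_full h2t h3 hab (by rw [hk, hk1, mul_one])⟩
  right
  rcases Nat.even_or_odd (Nat.card ↥(MulAction.stabilizer G x ⊓ MulAction.stabilizer G b)) with heven | hodd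
  · have hle : 2 * Nat.card ↥(MulAction.stabilizer G x ⊓ MulAction.stabilizer G b) ≤ Fintype.card Ω - 2 := by
      rw [hk, mul_comm 2]; exact Nat.mul_le_mul_left _ (by omega)
    obtain ⟨p, f, K, iK, iKf, hp, hp2, hKc, hΩc, hiso⟩ := Cfsg.Agent.S0742.result hZ hab heven hle
    refine ⟨le_antisymm (Cfsg.Agent.S0741.result hZ hab heven) hle, K, iK, iKf, fun h => ?_, by rw [hΩc, hKc], hiso⟩
    have h1 := FiniteField.even_card_iff_char_two.mp h
    rw [hKc] at h1
    have := (hp.odd_of_ne_two hp2).pow (n := f)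
    rw [Nat.odd_iff] at this
    omega
  · have hFn' : ∀ g : G, g • x = x → ∀ u ∈ F, g * u * g⁻¹ ∈ F := fun g hg u hu =>
      Subgroup.mem_subgroupOf.mp (hFn.conj_mem ⟨u, hFle hu⟩ (Subgroup.mem_subgroupOf.mpr hu) ⟨g, hg⟩)
    obtain ⟨C, hb⟩ := CfsgLib.Perm.abelian_kernel_bound_aux _ rfl hZ x b F hab (fun u hu => hFle hu) hFn'
      (fun u hu v hv => congrArg Subtype.val (hFab.is_comm.comm ⟨u, hu⟩ ⟨v, hv⟩)) hreg hodd
    suffices hhalf : Fintype.card Ω - 2 = 2 * Nat.card ↥(MulAction.stabilizer G x ⊓ MulAction.stabilizer G b) from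
      ⟨hhalf, odd_half hZ hab F hFle hFn hreg C hhalf⟩
    have hq := C.card_F
    have hh := C.one_lt
    have hb' : Nat.card ↥(MulAction.stabilizer G x ⊓ MulAction.stabilizer G b) * k ≤
        Nat.card ↥(MulAction.stabilizer G x ⊓ MulAction.stabilizer G b) * 2 := by
      rw [← hk]; omega
    have hk2 : k = 2 := by
      have := Nat.le_of_mul_le_mul_left hb' (by omega)
      omega
    rw [hk, hk2, mul_comm]

end CfsgLib.Perm.ZassenhausClass
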