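import Cfsg.Agent.Lib.Perm.Basic

/-!
Orbits on pairs of a transitive action and orbits of a point stabilizer.
-/

set_option autoImplicit false

namespace CfsgLib.Perm

open MulAction

variable {G : Type*} [Group G] {Ω : Type*} [MulAction G Ω]

/-- Orbits on pairs correspond to orbits of a point stabilizer. -/
noncomputable def orbitPairEquiv [IsPretransitive G Ω] (a : Ω) :
    orbitRel.Quotient (stabilizer G a) Ω ≃ orbitRel.Quotient G (Ω × Ω) :=
  Equiv.ofBijective
    (Quotient.lift (fun x : Ω => (⟦(a, x)⟧ : orbitRel.Quotient G (Ω × Ω))) (by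
      rintro x y ⟨g, rfl⟩
      exact Quotient.sound ⟨(g : G), Prod.ext g.2 rfl⟩))
    ⟨by
      intro p q
      induction p using Quotient.ind with
      | _ x =>
      induction q using Quotient.ind with
      | _ y =>
        intro h
        obtain ⟨g, hg⟩ := Quotient.exact h
        exact Quotient.sound ⟨⟨g, congrArg Prod.fst hg⟩, congrArg Prod.snd hg⟩,
    by
      intro q
      induction q using Quotient.ind with
      | _ z =>
        obtain ⟨g, hg⟩ := exists_smul_eq G z.1 a
        exact ⟨⟦g • z.2⟧, Quotient.sound ⟨g, Prod.ext hg rfl⟩⟩⟩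

/-- A transitive action with at most two suborbits is two point transitive. -/
theorem isTwoPretransitive_of_card_orbits_le [Finite Ω] [IsPretransitive G Ω] (a : Ω)
    (h : Nat.card (orbitRel.Quotient (stabilizer G a) Ω) ≤ 2) :
    IsMultiplyPretransitive G Ω 2 := by
  refine isTwoPretransitive_of_stabilizer a fun x y hx hy => ?_
  by_contra hne
  haveI := Fintype.ofFinite (orbitRel.Quotient (stabilizer G a) Ω)
  rw [Nat.card_eq_fintype_card] at h
  have inj : Function.Injective
      (fun i : Fin 3 => (⟦![a, x, y] i⟧ : orbitRel.Quotient (stabilizer G a) Ω)) := by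
    have hxy : (⟦x⟧ : orbitRel.Quotient (stabilizer G a) Ω) ≠ ⟦y⟧ := fun e => by
      obtain ⟨g, hg⟩ := Quotient.exact e.symm
      exact hne ⟨(g : G), g.2, hg⟩
    have hne' : ∀ z, z ≠ a → (⟦a⟧ : orbitRel.Quotient (stabilizer G a) Ω) ≠ ⟦z⟧ := fun z hz e => by
      obtain ⟨g, hg⟩ := Quotient.exact e.symm
      exact hz (hg.symm.trans g.2)
    intro i j e
    fin_cases i <;> fin_cases j <;> first | rfl | (exfalso; first
      | exact hne' x hx e | exact hne' x hx e.symm | exact hne' y hy e | exact hne' y hy e.symm
      | exact hxy e | exact hxy e.symm)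
  have := Fintype.card_le_of_injective _ inj
  rw [Fintype.card_fin] at this
  exact absurd (this.trans h) (by decide)

end CfsgLib.Perm
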