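import Cfsg.Agent.Lib.Perm.PermModule
import Cfsg.Agent.Lib.Perm.Orbital
import Cfsg.Agent.Lib.Char.Orthogonality
import Cfsg.Agent.Lib.Char.Constituent
import Cfsg.Agent.Lib.Char.Inner
import Mathlib.LinearAlgebra.Matrix.Trace

/-!
The complex permutation module: its character, constituents and centraliser ring.
-/

set_option autoImplicit false

namespace CfsgLib.Perm

open Module MulAction
open scoped ComplexConjugate

universe u

variable {G : Type u} [Group G] {Ω : Type*} [Fintype Ω] [MulAction G Ω]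

/-- The permutation character. -/
noncomputable abbrev permChar (G : Type u) [Group G] (Ω : Type*) [MulAction G Ω] : G → ℂ :=
  fun g => (Nat.card (MulAction.fixedBy Ω g) : ℂ)

/-- The equivariant endomorphisms of the complex permutation module. -/
noncomputable abbrev permEnd (G : Type u) [Group G] (Ω : Type*) [MulAction G Ω] :
    Submodule ℂ ((Ω → ℂ) →ₗ[ℂ] (Ω → ℂ)) :=
  ((Cfsg.permRep ℂ G Ω).linHom (Cfsg.permRep ℂ G Ω)).invariants

theorem char_permRep : (Cfsg.permRep ℂ G Ω).character = permChar G Ω := by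
  classical
  funext g
  rw [Representation.character, LinearMap.trace_eq_matrix_trace ℂ (Pi.basisFun ℂ Ω), Matrix.trace,
    permChar, Nat.card_eq_fintype_card, Fintype.card_subtype, ← Finset.sum_boole]
  refine Finset.sum_congr rfl fun x _ => ?_
  rw [Matrix.diag_apply, LinearMap.toMatrix_apply, Pi.basisFun_apply, permRep_single, Pi.basisFun_repr,
    Pi.single_apply]
  simp only [MulAction.mem_fixedBy, eq_comm]

theorem isCharacter_permChar : Cfsg.IsCharacter G (permChar G Ω) :=
  char_permRep (G := G) (Ω := Ω) ▸ CfsgLib.Char.isCharacter_of_rep _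

section Fin

variable [Fintype G]

theorem classInner_permChar_self :
    Cfsg.classInner (permChar G Ω) (permChar G Ω) = (finrank ℂ (permEnd G Ω) : ℂ) := by
  rw [← char_permRep, CfsgLib.Char.classInner_char_eq_finrank,
    (Representation.invariantsEquivIntertwiningMap (Cfsg.permRep ℂ G Ω) (Cfsg.permRep ℂ G Ω)).finrank_eq]

theorem finrank_permEnd : finrank ℂ (permEnd G Ω) = Nat.card (orbitRel.Quotient G (Ω × Ω)) := by
  classical
  haveI := Fintype.ofFinite (orbitRel.Quotient G (Ω × Ω))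
  rw [(intertwinerEquiv ℂ G Ω Ω).finrank_eq, Module.finrank_fintype_fun_eq_card, Nat.card_eq_fintype_card]

/-- The multiplicities of the permutation character. -/
theorem exists_multiplicities [Fintype (Cfsg.IrrCharacter G)] :
    ∃ m : Cfsg.IrrCharacter G → ℕ, (∀ χ : Cfsg.IrrCharacter G, Cfsg.classInner (permChar G Ω) (χ : G → ℂ) = m χ) ∧
      (∀ g, permChar G Ω g = ∑ χ, (m χ : ℂ) * (χ : G → ℂ) g) ∧
      finrank ℂ (permEnd G Ω) = ∑ χ, m χ ^ 2 := by
  classical
  choose m hm using fun χ : Cfsg.IrrCharacter G =>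
    CfsgLib.Char.classInner_isCharacter_nat (isCharacter_permChar (G := G) (Ω := Ω)) (CfsgLib.Char.irr_isCharacter χ.2)
  have hcl := CfsgLib.Char.isCharacter_isClassFunction (isCharacter_permChar (G := G) (Ω := Ω))
  have hsum : ∀ g, permChar G Ω g = ∑ χ : Cfsg.IrrCharacter G, (m χ : ℂ) * (χ : G → ℂ) g := fun g => by
    rw [CfsgLib.Char.classFunction_apply_eq_sum hcl g]
    exact Finset.sum_congr rfl fun χ _ => by rw [hm]
  refine ⟨m, hm, hsum, ?_⟩
  have h : ((finrank ℂ (permEnd G Ω) : ℕ) : ℂ) = ((∑ χ, m χ ^ 2 : ℕ) : ℂ) := by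
    rw [← classInner_permChar_self]
    conv_lhs => arg 1; rw [CfsgLib.Char.classFunction_eq_sum hcl]
    rw [CfsgLib.Char.classInner_sum_left, Nat.cast_sum]
    refine Finset.sum_congr rfl fun χ _ => ?_
    rw [CfsgLib.Char.classInner_smul_left, hm, ← CfsgLib.Char.classInner_conj_symm (permChar G Ω) (χ : G → ℂ), hm, map_natCast, Nat.cast_pow, sq]
  exact_mod_cast h

theorem classInner_permChar_one [IsPretransitive G Ω] [Nonempty Ω] :
    Cfsg.classInner (permChar G Ω) (fun _ => 1) = 1 := by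
  haveI : Invertible (Nat.card G : ℂ) := invertibleOfNonzero CfsgLib.Char.natCard_ne_zero
  have h : Cfsg.classInner (permChar G Ω) (fun _ => 1) = (finrank ℂ (Cfsg.permRep ℂ G Ω).invariants : ℂ) := by
    rw [← Representation.card_inv_mul_sum_char_eq_finrank, CfsgLib.Char.classInner_def, char_permRep]
    simp only [map_one, mul_one]
  rw [h, show (1 : ℂ) = ((1 : ℕ) : ℂ) by norm_num]
  congr 1
  have e : (Cfsg.permRep ℂ G Ω).invariants = (Cfsg.permConstants ℂ G Ω).toSubmodule := by
    ext f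
    rw [Representation.mem_invariants]
    refine ⟨const_of_fixed, fun hf g => ?_⟩
    obtain ⟨c, rfl⟩ := mem_permConstants.mp hf
    rfl
  rw [e]
  exact finrank_span_singleton (fun h => one_ne_zero (congrFun h (Classical.arbitrary Ω)))

/-- The class operator of a function on the permutation module. -/
theorem classOp_permRep_entry [DecidableEq Ω] (f : G → ℂ) (x y : Ω) :
    CfsgLib.Char.classOp f (Cfsg.permRep ℂ G Ω) (Pi.single x 1) y = ∑ g : G, if g • y = x then f g else 0 := by
  rw [CfsgLib.Char.classOp_apply, Finset.sum_apply]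
  refine Finset.sum_congr rfl fun g _ => ?_
  rw [Pi.smul_apply, permRep_apply, inv_inv, smul_eq_mul, Pi.single_apply, mul_ite, mul_one, mul_zero]

theorem classOp_mem_permEnd {f : G → ℂ} (hf : Cfsg.IsClassFunction G f) :
    CfsgLib.Char.classOp f (Cfsg.permRep ℂ G Ω) ∈ permEnd G Ω := by
  rw [Representation.mem_invariants]
  intro g
  rw [Representation.linHom_apply, CfsgLib.Char.classOp_comm hf, ← LinearMap.comp_assoc]
  ext v : 1
  simp only [LinearMap.comp_apply]
  rw [← Module.End.mul_apply, ← map_mul, mul_inv_cancel, map_one]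
  rfl

theorem classOp_commute (f : G → ℂ) {T : (Ω → ℂ) →ₗ[ℂ] (Ω → ℂ)} (hT : T ∈ permEnd G Ω) :
    CfsgLib.Char.classOp f (Cfsg.permRep ℂ G Ω) ∘ₗ T = T ∘ₗ CfsgLib.Char.classOp f (Cfsg.permRep ℂ G Ω) := by
  apply LinearMap.ext
  intro v
  simp only [LinearMap.comp_apply, CfsgLib.Char.classOp_apply, map_sum, map_smul]
  exact Finset.sum_congr rfl fun g _ => congrArg (f g • ·) (intertwiner_commute ⟨T, hT⟩ g⁻¹ v).symm

/-- A constituent gives an irreducible subrepresentation with that character. -/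
theorem exists_subrep_of_constituent {χ : G → ℂ} (hχ : Cfsg.IsIrrCharacter G χ)
    (h : Cfsg.classInner (permChar G Ω) χ ≠ 0) :
    ∃ p : Subrepresentation (Cfsg.permRep ℂ G Ω), p.toRepresentation.IsIrreducible ∧ p.toRepresentation.character = χ := by
  obtain ⟨n, t, ht, rfl⟩ := hχ
  rw [← char_permRep, CfsgLib.Char.classInner_char_eq_finrank] at h
  obtain ⟨a, ha⟩ := (Module.finrank_pos_iff_exists_ne_zero (R := ℂ)).mp
    (Nat.pos_of_ne_zero fun h0 => h (by exact_mod_cast h0))
  have hai : Function.Injective a.toLinearMap :=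
    (Representation.IsIrreducible.injective_or_eq_zero a).resolve_right ha
  let ea : t.Equiv a.range.toRepresentation :=
    Representation.Equiv.mk (LinearEquiv.ofInjective a.toLinearMap hai)
      fun g => LinearMap.ext fun x => Subtype.ext (a.isIntertwining t _ g x)
  exact ⟨a.range, CfsgLib.Char.isIrreducible_of_equiv ea, (Representation.char_iso ea).symm⟩

theorem classOp_apply_subrep {f : G → ℂ} (hf : Cfsg.IsClassFunction G f)
    (p : Subrepresentation (Cfsg.permRep ℂ G Ω)) (hp : p.toRepresentation.IsIrreducible)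
    (x : Ω → ℂ) (hx : x ∈ p.toSubmodule) :
    CfsgLib.Char.classOp f (Cfsg.permRep ℂ G Ω) x =
      (((Nat.card G : ℂ) * Cfsg.classInner f p.toRepresentation.character) / finrank ℂ p.toSubmodule) • x := by
  haveI := hp
  have h1 := LinearMap.congr_fun (CfsgLib.Char.classOp_eq_scalar hf p.toRepresentation) (⟨x, hx⟩ : p.toSubmodule)
  have h2 := congrArg Subtype.val h1
  simp only [CfsgLib.Char.classOp_apply, Submodule.coe_sum, Submodule.coe_smul, LinearMap.smul_apply, LinearMap.id_apply] at h2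
  rw [CfsgLib.Char.classOp_apply]
  exact h2

/-- Distinct constituents give independent class operators, and the operators span when the
character is multiplicity-free. -/
theorem span_classOp [Fintype (Cfsg.IrrCharacter G)]
    (hfree : ∀ χ, Cfsg.IsIrrCharacter G χ → Cfsg.classInner (permChar G Ω) χ = 0 ∨ Cfsg.classInner (permChar G Ω) χ = 1) :
    Submodule.span ℂ (Set.range fun χ : {χ : Cfsg.IrrCharacter G // Cfsg.classInner (permChar G Ω) (χ : G → ℂ) ≠ 0} =>
      CfsgLib.Char.classOp ((χ : Cfsg.IrrCharacter G) : G → ℂ) (Cfsg.permRep ℂ G Ω)) = permEnd G Ω := by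
  classical
  set v := fun χ : {χ : Cfsg.IrrCharacter G // Cfsg.classInner (permChar G Ω) (χ : G → ℂ) ≠ 0} =>
    CfsgLib.Char.classOp ((χ : Cfsg.IrrCharacter G) : G → ℂ) (Cfsg.permRep ℂ G Ω) with hv
  have hli : LinearIndependent ℂ v := by
    rw [Fintype.linearIndependent_iff]
    intro a ha ψ
    obtain ⟨p, hp, hpc⟩ := exists_subrep_of_constituent ψ.1.2 ψ.2
    haveI := hp
    haveI := CfsgLib.Char.nontrivial_of_isIrreducible p.toRepresentation
    obtain ⟨x, hx⟩ := exists_ne (0 : p.toSubmodule)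
    have h1 := LinearMap.congr_fun ha (x : Ω → ℂ)
    rw [LinearMap.sum_apply, Finset.sum_eq_single ψ] at h1
    · simp only [hv, LinearMap.smul_apply, LinearMap.zero_apply,
        classOp_apply_subrep (CfsgLib.Char.irr_isClassFunction ψ.1.2) p hp x x.2, hpc,
        CfsgLib.Char.irr_classInner_self ψ.1.2, smul_smul] at h1
      have h2 := (smul_eq_zero.mp h1).resolve_right (fun e => hx (Subtype.ext e))
      rcases mul_eq_zero.mp h2 with h3 | h3
      · exact h3
      · exfalso
        rw [mul_one, div_eq_zero_iff] at h3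
        rcases h3 with h3 | h3
        · exact CfsgLib.Char.natCard_ne_zero h3
        · exact (finrank_pos (R := ℂ) (M := p.toSubmodule)).ne' (by exact_mod_cast h3)
    · intro χ _ hne
      simp only [hv, LinearMap.smul_apply,
        classOp_apply_subrep (CfsgLib.Char.irr_isClassFunction χ.1.2) p hp x x.2, hpc,
        CfsgLib.Char.irr_classInner_ne χ.1.2 ψ.1.2 (fun e => hne (Subtype.ext (Subtype.ext e))),
        mul_zero, zero_div, zero_smul, smul_zero]
    · simp
  refine Submodule.eq_of_le_of_finrank_le (Submodule.span_le.mpr ?_) ?_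
  · rintro _ ⟨χ, rfl⟩
    exact classOp_mem_permEnd (CfsgLib.Char.irr_isClassFunction χ.1.2)
  · rw [finrank_span_eq_card hli]
    obtain ⟨m, hm, -, hrk⟩ := exists_multiplicities (G := G) (Ω := Ω)
    rw [hrk, Fintype.card_subtype, Finset.card_filter]
    refine Finset.sum_le_sum fun χ _ => ?_
    rcases hfree χ χ.2 with h | h
    · rw [hm] at h
      rw [Nat.cast_eq_zero.mp h]
      simp
    · rw [if_pos (h ▸ one_ne_zero)]
      rw [hm] at h
      rw [Nat.cast_eq_one.mp h]
      simp

theorem commute_of_multiplicityFree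
    (hfree : ∀ χ, Cfsg.IsIrrCharacter G χ → Cfsg.classInner (permChar G Ω) χ = 0 ∨ Cfsg.classInner (permChar G Ω) χ = 1)
    {S T : (Ω → ℂ) →ₗ[ℂ] (Ω → ℂ)} (hS : S ∈ permEnd G Ω) (hT : T ∈ permEnd G Ω) : S ∘ₗ T = T ∘ₗ S := by
  haveI := Fintype.ofFinite (Cfsg.IrrCharacter G)
  rw [← span_classOp hfree] at hS
  induction hS using Submodule.span_induction with
  | mem x hx => obtain ⟨χ, rfl⟩ := hx; exact classOp_commute _ hT
  | zero => simp
  | add x y _ _ hx hy => rw [LinearMap.add_comp, LinearMap.comp_add, hx, hy]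
  | smul a x _ hx => rw [LinearMap.smul_comp, LinearMap.comp_smul, hx]

theorem multiplicityFree_of_commute
    (hcomm : ∀ S T : (Ω → ℂ) →ₗ[ℂ] (Ω → ℂ), S ∈ permEnd G Ω → T ∈ permEnd G Ω → S ∘ₗ T = T ∘ₗ S)
    {χ : G → ℂ} (hχ : Cfsg.IsIrrCharacter G χ) :
    Cfsg.classInner (permChar G Ω) χ = 0 ∨ Cfsg.classInner (permChar G Ω) χ = 1 := by
  classical
  rw [or_iff_not_imp_left]
  intro h0
  obtain ⟨p, hp, hpc⟩ := exists_subrep_of_constituent hχ h0
  obtain ⟨q, hq⟩ := exists_isCompl p
  by_contra h1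
  have hq0 : Cfsg.classInner q.toRepresentation.character p.toRepresentation.character ≠ 0 := by
    intro e
    apply h1
    rw [hpc] at e
    rw [← char_permRep, CfsgLib.Char.char_compl p q hq, CfsgLib.Char.classInner_add_left, e, add_zero, hpc,
      CfsgLib.Char.irr_classInner_self hχ]
  rw [CfsgLib.Char.classInner_char_eq_finrank, Nat.cast_ne_zero] at hq0
  obtain ⟨j, hj⟩ : ∃ j : p.toRepresentation.IntertwiningMap q.toRepresentation, j ≠ 0 := by
    by_contra h
    push Not at h
    haveI : Subsingleton (p.toRepresentation.IntertwiningMap q.toRepresentation) := ⟨fun a b => (h a).trans (h b).symm⟩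
    exact hq0 Module.finrank_zero_of_subsingleton
  let e := CfsgLib.Char.prodEquivOfCompl p q hq
  let E : (Ω → ℂ) →ₗ[ℂ] (Ω → ℂ) := p.toSubmodule.subtype ∘ₗ LinearMap.fst ℂ _ _ ∘ₗ e.symm.toLinearEquiv.toLinearMap
  let S : (Ω → ℂ) →ₗ[ℂ] (Ω → ℂ) :=
    q.toSubmodule.subtype ∘ₗ j.toLinearMap ∘ₗ LinearMap.fst ℂ _ _ ∘ₗ e.symm.toLinearEquiv.toLinearMap
  have he : ∀ (g : G) (v : Ω → ℂ), e.symm.toLinearEquiv (Cfsg.permRep ℂ G Ω g v) =
      (p.toRepresentation.prod q.toRepresentation) g (e.symm.toLinearEquiv v) := fun g v =>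
    e.symm.toIntertwiningMap.isIntertwining _ _ g v
  have hmem : ∀ F : (Ω → ℂ) →ₗ[ℂ] (Ω → ℂ),
      (∀ g v, F (Cfsg.permRep ℂ G Ω g v) = Cfsg.permRep ℂ G Ω g (F v)) → F ∈ permEnd G Ω := by
    intro F hF
    exact (Representation.mem_linHom_invariants_iff_isIntertwining F).mpr ⟨hF⟩
  have hE : E ∈ permEnd G Ω := hmem E fun g v => by
    show ((e.symm.toLinearEquiv (Cfsg.permRep ℂ G Ω g v)).1 : Ω → ℂ) = _
    rw [he]; rfl
  have hS : S ∈ permEnd G Ω := hmem S fun g v => by
    show ((j.toLinearMap (e.symm.toLinearEquiv (Cfsg.permRep ℂ G Ω g v)).1 : q.toSubmodule) : Ω → ℂ) = _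
    rw [he]
    exact congrArg Subtype.val (j.isIntertwining _ _ g _)
  have hc : IsCompl p.toSubmodule q.toSubmodule := ⟨disjoint_iff.mpr (congrArg Subrepresentation.toSubmodule hq.inf_eq_bot),
    codisjoint_iff.mpr (congrArg Subrepresentation.toSubmodule hq.sup_eq_top)⟩
  have hfix : ∀ z : q.toSubmodule, e.symm.toLinearEquiv (z : Ω → ℂ) = (0, z) := fun z => by
    apply e.symm.toLinearEquiv.symm.injective
    rw [LinearEquiv.symm_apply_apply]
    show (z : Ω → ℂ) = (Submodule.prodEquivOfIsCompl p.toSubmodule q.toSubmodule hc) (0, z)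
    rw [Submodule.coe_prodEquivOfIsCompl', ZeroMemClass.coe_zero, zero_add]
  have hfixp : ∀ z : p.toSubmodule, e.symm.toLinearEquiv (z : Ω → ℂ) = (z, 0) := fun z => by
    apply e.symm.toLinearEquiv.symm.injective
    rw [LinearEquiv.symm_apply_apply]
    show (z : Ω → ℂ) = (Submodule.prodEquivOfIsCompl p.toSubmodule q.toSubmodule hc) (z, 0)
    rw [Submodule.coe_prodEquivOfIsCompl', ZeroMemClass.coe_zero, add_zero]
  apply hj
  refine Representation.IntertwiningMap.ext ?_
  ext z : 1
  have h2 := LinearMap.congr_fun (hcomm E S hE hS) (z : Ω → ℂ)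
  change ((e.symm.toLinearEquiv ((j.toLinearMap (e.symm.toLinearEquiv (z : Ω → ℂ)).1 : q.toSubmodule) : Ω → ℂ)).1 : Ω → ℂ) =
    ((j.toLinearMap (e.symm.toLinearEquiv ((e.symm.toLinearEquiv (z : Ω → ℂ)).1 : Ω → ℂ)).1 : q.toSubmodule) : Ω → ℂ) at h2
  rw [hfix, hfixp z] at h2
  simp only [ZeroMemClass.coe_zero] at h2
  rw [hfixp] at h2
  exact Subtype.ext h2.symm

end Fin

end CfsgLib.Perm
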