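import Cfsg.Agent.Lib.Perm.PrimeDegree
import Mathlib.GroupTheory.Transfer
import Mathlib.GroupTheory.Sylow
import Mathlib.GroupTheory.SpecificGroups.Cyclic
import Mathlib.FieldTheory.Finite.Basic
import Mathlib.Algebra.Ring.GeomSum

/-!
Sylow normalizers in groups of prime degree.
-/

set_option autoImplicit false

namespace CfsgLib.Perm

open MulAction

variable {α : Type*} [Fintype α] [DecidableEq α] {p : ℕ} [Fact p.Prime]

theorem sq_not_dvd_card (hα : Fintype.card α = p) (G : Subgroup (Equiv.Perm α)) :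
    ¬ p * p ∣ Nat.card G := by
  have hp : p.Prime := Fact.out
  intro h
  have h4 : Nat.card G ∣ p.factorial := by
    have := Subgroup.card_subgroup_dvd_card G
    rwa [Nat.card_perm, Nat.card_eq_fintype_card (α := α), hα] at this
  have h5 := h.trans h4
  obtain ⟨m, rfl⟩ : ∃ m, p = m + 1 := ⟨p - 1, by have := hp.pos; omega⟩
  rw [Nat.factorial_succ] at h5
  have h6 := Nat.dvd_of_mul_dvd_mul_left hp.pos h5
  rw [hp.dvd_factorial] at h6
  omega

theorem sylow_card_eq (hα : Fintype.card α = p) (G : Subgroup (Equiv.Perm α))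
    [IsPretransitive G α] (P : Sylow p G) : Nat.card (P : Subgroup G) = p := by
  have hp : p.Prime := Fact.out
  obtain ⟨σ, -, hσ, -⟩ := exists_equiv_zmod hα G
  rw [Sylow.card_eq_multiplicity]
  have h1 : (Nat.card G).factorization p ≤ 1 := by
    by_contra h
    apply sq_not_dvd_card hα G
    rw [← pow_two]
    exact (pow_dvd_pow p (not_le.mp h)).trans (Nat.ordProj_dvd _ p)
  have h6 : 1 ≤ (Nat.card G).factorization p :=
    hp.factorization_pos_of_dvd Nat.card_pos.ne' (hσ ▸ orderOf_dvd_natCard σ)
  rw [le_antisymm h1 h6, pow_one]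

/-- The order of the group is `n * (p * d)` with `n ≡ 1` mod `p` the number of Sylow subgroups and
`d ∣ p - 1`. -/
theorem exists_sylow_decomposition (hα : Fintype.card α = p) (G : Subgroup (Equiv.Perm α))
    [IsPretransitive G α] (P : Sylow p G) :
    ∃ n d : ℕ, Nat.card G = n * (p * d) ∧ n % p = 1 ∧ d ∣ p - 1 ∧
      Nat.card (Subgroup.normalizer ((P : Subgroup G) : Set G)) = p * d ∧
      n = Nat.card (Sylow p G) := by
  have hp : p.Prime := Fact.out
  have hP := sylow_card_eq hα G P
  set N := Subgroup.normalizer ((P : Subgroup G) : Set G) with hN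
  obtain ⟨⟨σ, hσP⟩, hσg⟩ := (isCyclic_of_prime_card hP).exists_generator
  have hσo : orderOf σ = p := by
    have := orderOf_eq_card_of_forall_mem_zpowers hσg
    rw [hP] at this
    exact (Subgroup.orderOf_coe (⟨σ, hσP⟩ : (P : Subgroup G))).trans this
  obtain ⟨e, he⟩ := exists_equiv_zmod_of_orderOf hα (σ : Equiv.Perm α)
    (by rw [Subgroup.orderOf_coe, hσo])
  let φ : N →* MulAut (P : Subgroup G) := (P : Subgroup G).normalizerMonoidHom
  have hker : ∀ k : φ.ker, ∃ m : ℕ, m < p ∧ ((k : N) : G) = σ ^ m := by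
    intro k
    have hcomm : ((k : N) : G) * σ = σ * ((k : N) : G) := by
      have h := congrArg (fun f : MulAut (P : Subgroup G) => ((f ⟨σ, hσP⟩ : (P : Subgroup G)) : G))
        (MonoidHom.mem_ker.mp k.2)
      change ((k : N) : G) * σ * ((k : N) : G)⁻¹ = σ at h
      exact mul_inv_eq_iff_eq_mul.mp h
    set z := e.symm ((((k : N) : G) : Equiv.Perm α) (e 0)) with hz
    refine ⟨z.val, ZMod.val_lt z, ?_⟩
    apply Subtype.ext
    apply Equiv.ext
    intro x
    obtain ⟨j, rfl⟩ := e.surjective x
    obtain ⟨m, rfl⟩ := ZMod.natCast_zmod_surjective j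
    rw [SubmonoidClass.coe_pow, pow_apply_label e _ he, ZMod.natCast_zmod_val]
    have hm : (e (m : ZMod p)) = ((σ : Equiv.Perm α) ^ m) (e 0) := by
      rw [pow_apply_label e _ he, zero_add]
    have hc : (((k : N) : G) : Equiv.Perm α) * (σ : Equiv.Perm α) ^ m =
        (σ : Equiv.Perm α) ^ m * (((k : N) : G) : Equiv.Perm α) := by
      have := congrArg (fun z : G => (z : Equiv.Perm α)) ((Commute.pow_right (hcomm : Commute _ σ) m).eq)
      simpa using this
    rw [hm, ← Equiv.Perm.mul_apply, hc, Equiv.Perm.mul_apply,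
      ← e.apply_symm_apply ((((k : N) : G) : Equiv.Perm α) (e 0)), pow_apply_label e _ he, ← hz,
      add_comm z]
  choose m hm hmk using hker
  have hkle : Nat.card φ.ker ≤ p := by
    have hf : Function.Injective fun k => (⟨m k, hm k⟩ : Fin p) := by
      intro x y h
      simp only [Fin.mk.injEq] at h
      apply Subtype.ext; apply Subtype.ext
      rw [hmk x, hmk y, h]
    exact (Nat.card_le_card_of_injective _ hf).trans (by rw [Nat.card_fin])
  have hidx : φ.ker.index ∣ p - 1 := by
    have haut : Nat.card (MulAut (P : Subgroup G)) = p - 1 := by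
      have := isCyclic_of_prime_card hP
      rw [IsCyclic.card_mulAut, hP, Nat.totient_prime hp]
    rw [Subgroup.index_ker, ← haut]
    exact Subgroup.card_subgroup_dvd_card _
  have hNc : Nat.card N = φ.ker.index * Nat.card φ.ker := (Subgroup.index_mul_card _).symm
  have hpN : p ∣ Nat.card N := hP ▸ Subgroup.card_dvd_of_le Subgroup.le_normalizer
  have hkp : Nat.card φ.ker = p := by
    rw [hNc] at hpN
    rcases hp.dvd_mul.mp hpN with h | h
    · have := Nat.le_of_dvd (by have := hp.two_le; omega) (h.trans hidx); have := hp.pos; omega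
    · exact le_antisymm hkle (Nat.le_of_dvd Nat.card_pos h)
  have hNpd : Nat.card N = p * φ.ker.index :=
    (hNc.trans (congrArg (φ.ker.index * ·) hkp)).trans (Nat.mul_comm _ _)
  have hmod : Nat.card (Sylow p G) % p = 1 := by
    have h := card_sylow_modEq_one p G
    rwa [Nat.ModEq, Nat.mod_eq_of_lt hp.one_lt] at h
  refine ⟨Nat.card (Sylow p G), φ.ker.index, ?_, hmod, hidx, hNpd, rfl⟩
  rw [← hNpd]
  exact (Subgroup.index_mul_card N).symm.trans (congrArg (· * _) P.card_eq_index_normalizer.symm)

/-- In an insoluble transitive group of prime degree the Sylow normalizer is bigger than the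
Sylow subgroup. -/
theorem isSolvable_of_normalizer_card_eq (hα : Fintype.card α = p) (G : Subgroup (Equiv.Perm α))
    [IsPretransitive G α] (P : Sylow p G)
    (h : Nat.card (Subgroup.normalizer ((P : Subgroup G) : Set G)) = p) : Group.IsSolvable G := by
  have hp : p.Prime := Fact.out
  have hP := sylow_card_eq hα G P
  have hcyc := isCyclic_of_prime_card hP
  have heq : (P : Subgroup G) = Subgroup.normalizer ((P : Subgroup G) : Set G) :=
    Subgroup.eq_of_le_of_card_ge Subgroup.le_normalizer (by rw [h, hP])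
  have hle : Subgroup.normalizer ((P : Subgroup G) : Set G) ≤
      Subgroup.centralizer ((P : Subgroup G) : Set G) := by
    rw [← heq]
    intro x hx y hy
    letI := hcyc.commGroup
    exact congrArg Subtype.val (mul_comm (⟨y, hy⟩ : (P : Subgroup G)) ⟨x, hx⟩)
  set K := (MonoidHom.transferSylow P hle).ker
  have hcomp := MonoidHom.ker_transferSylow_isComplement' P hle
  have hK := MonoidHom.not_dvd_card_ker_transferSylow P hle
  by_cases hbot : K = ⊥
  · have hc := hcomp.card_mul
    rw [show (MonoidHom.transferSylow P hle).ker = ⊥ from hbot, Subgroup.card_bot, one_mul, hP] at hc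
    haveI := isCyclic_of_prime_card hc.symm
    letI := IsCyclic.commGroup (α := G)
    exact Group.isSolvable_of_comm fun a b => mul_comm a b
  · exfalso
    haveI : IsPreprimitive G α := IsPreprimitive.of_prime_card (by rwa [Nat.card_eq_fintype_card, hα])
    haveI : FaithfulSMul G α := ⟨fun {g k} h => Subtype.ext (Equiv.ext h)⟩
    have := normal_isPretransitive (α := α) hbot
    obtain ⟨a⟩ : Nonempty α := Fintype.card_pos_iff.mp (by rw [hα]; exact hp.pos)
    apply hK
    rw [natCard_eq_mul_stabilizer (G := K) a, Nat.card_eq_fintype_card (α := α), hα]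
    exact dvd_mul_right _ _

/-- A non-trivial normal subgroup of an insoluble transitive group of prime degree is insoluble
and transitive. -/
theorem normal_not_isSolvable (hα : Fintype.card α = p) (G : Subgroup (Equiv.Perm α))
    [IsPretransitive G α] (hG : ¬ Group.IsSolvable G) (N : Subgroup G) [N.Normal] (hN : N ≠ ⊥) :
    IsPretransitive (N.map G.subtype : Subgroup (Equiv.Perm α)) α ∧
      ¬ Group.IsSolvable (N.map G.subtype : Subgroup (Equiv.Perm α)) := by
  have hp : p.Prime := Fact.out
  haveI : IsPreprimitive G α := IsPreprimitive.of_prime_card (by rwa [Nat.card_eq_fintype_card, hα])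
  haveI : FaithfulSMul G α := ⟨fun {g k} h => Subtype.ext (Equiv.ext h)⟩
  have hNt := normal_isPretransitive (α := α) hN
  set M := (N.map G.subtype : Subgroup (Equiv.Perm α)) with hM
  haveI hMt : IsPretransitive M α := ⟨fun a b => by
    obtain ⟨⟨g, hg⟩, hgab⟩ := hNt.exists_smul_eq a b
    exact ⟨⟨(g : Equiv.Perm α), g, hg, rfl⟩, hgab⟩⟩
  refine ⟨hMt, fun hs => hG ?_⟩
  obtain ⟨σ, e, hσo, hσ⟩ := exists_equiv_zmod hα M
  haveI := hs
  have haff := affine_of_isSolvable hα M σ hσo e hσ
  -- the translations form the set of `M`-elements of order dividing `p`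
  refine isSolvable_of_affine G e fun g hg => ?_
  have hconj : g * (σ : Equiv.Perm α) * g⁻¹ ∈ M := by
    obtain ⟨⟨s, hs'⟩, hsN, hse⟩ := σ.2
    refine ⟨⟨g, hg⟩ * ⟨s, hs'⟩ * ⟨g, hg⟩⁻¹, Subgroup.Normal.conj_mem inferInstance _ hsN _, ?_⟩
    rw [← hse]; rfl
  obtain ⟨a, b, hab⟩ := haff _ hconj
  have hpow : ∀ (n : ℕ) j, e.symm (((g * (σ : Equiv.Perm α) * g⁻¹) ^ n) (e j)) =
      a ^ n * j + b * ∑ i ∈ Finset.range n, a ^ i := by
    intro n
    induction n with
    | zero => intro j; simp
    | succ n ih =>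
      intro j
      rw [pow_succ', Equiv.Perm.mul_apply, ← e.apply_symm_apply (((g * (σ : Equiv.Perm α) * g⁻¹) ^ n) (e j)),
        ih, hab, geom_sum_succ]
      ring
  have ha : a = 1 := by
    have h1 : (g * (σ : Equiv.Perm α) * g⁻¹) ^ p = 1 := by
      rw [conj_pow, ← SubmonoidClass.coe_pow, ← hσo, pow_orderOf_eq_one]; simp
    have e0 := hpow p 0
    have e1 := hpow p 1
    rw [h1] at e0 e1
    simp only [Equiv.Perm.one_apply, Equiv.symm_apply_apply, mul_zero, zero_add, ZMod.pow_card] at e0 e1
    linear_combination e0 - e1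
  have hb : ∀ j, g (e (j + 1)) = e (e.symm (g (e j)) + b) := by
    intro j
    have := hab (e.symm (g (e j)))
    rw [ha, one_mul, Equiv.symm_apply_eq, Equiv.apply_symm_apply] at this
    rw [← this, ← hσ]
    simp
  refine ⟨b, e.symm (g (e 0)), fun j => ?_⟩
  obtain ⟨k, rfl⟩ := ZMod.natCast_zmod_surjective j
  induction k with
  | zero => simp
  | succ k ih => rw [Nat.cast_succ, hb, Equiv.symm_apply_apply, ih]; ring

end CfsgLib.Perm
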