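import Cfsg.Agent.Lib.Perm.Basic
import Cfsg.Prelude.Def_Perm
import Mathlib.RepresentationTheory.Invariants
import Mathlib.LinearAlgebra.Dimension.Finrank
import Mathlib.LinearAlgebra.Dimension.Constructions
import Mathlib.LinearAlgebra.Dual.Lemmas
import Mathlib.GroupTheory.PGroup
import Mathlib.Algebra.CharP.Basic
import Mathlib.Algebra.Algebra.ZMod
import Mathlib.GroupTheory.Sylow
import Mathlib.FieldTheory.Finiteness
import Mathlib.Algebra.Field.ZMod

/-!
The permutation module: matrices of equivariant maps, fixed vectors, orthogonals.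
-/

set_option autoImplicit false

namespace CfsgLib.Perm

open MulAction

section

variable {K : Type*} [Field K] {G : Type*} [Group G] {Ω : Type*} [MulAction G Ω]

theorem permRep_apply (g : G) (f : Ω → K) (x : Ω) : Cfsg.permRep K G Ω g f x = f (g⁻¹ • x) := rfl

theorem permRep_single [DecidableEq Ω] (g : G) (x : Ω) (c : K) :
    Cfsg.permRep K G Ω g (Pi.single x c) = Pi.single (g • x) c := by
  funext y
  rw [permRep_apply]
  by_cases h : y = g • x
  · subst h; simp
  · rw [Pi.single_eq_of_ne h, Pi.single_eq_of_ne (fun e => h (by rw [← e, smul_inv_smul]))]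

theorem mem_permConstants {f : Ω → K} :
    f ∈ (Cfsg.permConstants K G Ω).toSubmodule ↔ ∃ c : K, f = fun _ => c := by
  rw [show (Cfsg.permConstants K G Ω).toSubmodule = Submodule.span K {fun _ => (1 : K)} from rfl,
    Submodule.mem_span_singleton]
  constructor
  · rintro ⟨c, rfl⟩; exact ⟨c, by funext x; simp⟩
  · rintro ⟨c, rfl⟩; exact ⟨c, by funext x; simp⟩

theorem mem_permSumZero [Fintype Ω] {f : Ω → K} :
    f ∈ (Cfsg.permSumZero K G Ω).toSubmodule ↔ ∑ x, f x = 0 := Iff.rfl

theorem const_of_fixed [IsPretransitive G Ω] {f : Ω → K}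
    (hf : ∀ g : G, Cfsg.permRep K G Ω g f = f) : f ∈ (Cfsg.permConstants K G Ω).toSubmodule := by
  rw [mem_permConstants]
  rcases isEmpty_or_nonempty Ω with h | ⟨⟨a⟩⟩
  · exact ⟨0, funext fun x => (h.false x).elim⟩
  · refine ⟨f a, funext fun x => ?_⟩
    obtain ⟨g, rfl⟩ := exists_smul_eq G a x
    have := congrFun (hf g) (g • a)
    rw [permRep_apply, inv_smul_smul] at this
    exact this.symm

/-- The orthogonal of a subrepresentation of the permutation module. -/
noncomputable def permOrthogonal [Fintype Ω] (W : Subrepresentation (Cfsg.permRep K G Ω)) :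
    Subrepresentation (Cfsg.permRep K G Ω) where
  toSubmodule :=
    { carrier := {w | ∀ v ∈ W.toSubmodule, ∑ x, w x * v x = 0}
      zero_mem' := by intro v _; simp
      add_mem' := by
        intro a b ha hb v hv
        simp only [Pi.add_apply, add_mul, Finset.sum_add_distrib, ha v hv, hb v hv, add_zero]
      smul_mem' := by
        intro c a ha v hv
        simp only [Pi.smul_apply, smul_eq_mul, mul_assoc, ← Finset.mul_sum, ha v hv, mul_zero] }
  apply_mem_toSubmodule g w hw := by
    intro v hv
    have := hw (Cfsg.permRep K G Ω g⁻¹ v) (W.apply_mem_toSubmodule g⁻¹ hv)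
    rw [← this]
    exact Fintype.sum_equiv (MulAction.toPerm g⁻¹) _ _ fun x => by
      simp [permRep_apply]

theorem mem_permOrthogonal [Fintype Ω] {W : Subrepresentation (Cfsg.permRep K G Ω)} {w : Ω → K} :
    w ∈ (permOrthogonal W).toSubmodule ↔ ∀ v ∈ W.toSubmodule, ∑ x, w x * v x = 0 := Iff.rfl

theorem eq_top_of_permOrthogonal_eq_bot [Fintype Ω] {W : Subrepresentation (Cfsg.permRep K G Ω)}
    (h : (permOrthogonal W).toSubmodule = ⊥) : W.toSubmodule = ⊤ := by
  classical
  by_contra hne
  obtain ⟨φ, hφ0, hφ⟩ := Submodule.exists_dual_map_eq_bot_of_lt_top (lt_top_iff_ne_top.mpr hne) inferInstance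
  apply hφ0
  have hw : (fun x => φ (Pi.single x 1)) ∈ (permOrthogonal W).toSubmodule := by
    intro v hv
    have h1 : φ v = 0 := by
      have : φ v ∈ W.toSubmodule.map φ := Submodule.mem_map_of_mem hv
      rw [hφ] at this
      exact (Submodule.mem_bot K).mp this
    rw [pi_eq_sum_univ v, map_sum] at h1
    rw [← h1]
    refine Finset.sum_congr rfl fun x _ => ?_
    rw [map_smul, smul_eq_mul, mul_comm (v x)]
    show φ (Pi.single x 1) * v x = φ (fun j => if x = j then 1 else 0) * v x
    congr 2
    funext y
    by_cases e : y = x <;> simp [e, eq_comm, Ne.symm]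
  rw [h, Submodule.mem_bot] at hw
  apply LinearMap.pi_ext'
  intro x
  apply LinearMap.ext_ring
  simpa using congrFun hw x

/-- Matrix coefficients of equivariant maps. -/
theorem intertwiner_entry {Ω' : Type*} [MulAction G Ω'] [DecidableEq Ω]
    (T : ((Cfsg.permRep K G Ω).linHom (Cfsg.permRep K G Ω')).invariants)
    (g : G) (x : Ω) (y : Ω') :
    (T : (Ω → K) →ₗ[K] (Ω' → K)) (Pi.single (g • x) 1) (g • y) =
      (T : (Ω → K) →ₗ[K] (Ω' → K)) (Pi.single x 1) y := by
  have h := congrArg (fun f : (Ω → K) →ₗ[K] (Ω' → K) => f (Pi.single (g • x) 1) (g • y))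
    ((Representation.mem_invariants _ _).mp T.2 g)
  simp only [Representation.linHom_apply, LinearMap.comp_apply, permRep_single, inv_smul_smul,
    permRep_apply] at h
  exact h.symm

theorem intertwiner_commute {Ω' : Type*} [MulAction G Ω']
    (T : ((Cfsg.permRep K G Ω).linHom (Cfsg.permRep K G Ω')).invariants)
    (g : G) (v : Ω → K) :
    (T : (Ω → K) →ₗ[K] (Ω' → K)) (Cfsg.permRep K G Ω g v) =
      Cfsg.permRep K G Ω' g ((T : (Ω → K) →ₗ[K] (Ω' → K)) v) := by
  have h := congrArg (fun f : (Ω → K) →ₗ[K] (Ω' → K) => f (Cfsg.permRep K G Ω g v))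
    ((Representation.mem_invariants _ _).mp T.2 g)
  simp only [Representation.linHom_apply, LinearMap.comp_apply] at h
  rw [← h, ← Module.End.mul_apply, ← map_mul, inv_mul_cancel, map_one]
  rfl

open Classical in
/-- Equivariant maps of permutation modules are functions on orbits of pairs. -/
noncomputable def intertwinerEquiv (K : Type*) [Field K] (G : Type*) [Group G] (Ω Ω' : Type*)
    [Fintype Ω] [MulAction G Ω] [MulAction G Ω'] :
    ((Cfsg.permRep K G Ω).linHom (Cfsg.permRep K G Ω')).invariants ≃ₗ[K]
      (orbitRel.Quotient G (Ω × Ω') → K) where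
  toFun T := Quotient.lift
    (fun q : Ω × Ω' => (T : (Ω → K) →ₗ[K] (Ω' → K)) (Pi.single q.1 1) q.2) (by
      rintro a b ⟨g, rfl⟩
      exact intertwiner_entry T g b.1 b.2)
  map_add' S T := by funext q; induction q using Quotient.ind; rfl
  map_smul' c T := by funext q; induction q using Quotient.ind; rfl
  invFun m := ⟨
    { toFun := fun f y => ∑ x, f x * m ⟦(x, y)⟧
      map_add' := fun f f' => by funext y; simp [add_mul, Finset.sum_add_distrib]
      map_smul' := fun c f => by funext y; simp [Finset.mul_sum, mul_assoc] }, by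
    rw [Representation.mem_invariants]
    intro g
    apply LinearMap.ext
    intro f
    funext y
    simp only [Representation.linHom_apply, LinearMap.comp_apply, LinearMap.coe_mk, AddHom.coe_mk,
      permRep_apply]
    refine Fintype.sum_equiv (MulAction.toPerm g) _ _ fun x => ?_
    simp only [toPerm_apply, inv_inv]
    refine congrArg (_ * ·) (congrArg m (Quotient.sound ?_))
    exact ⟨g⁻¹, by simp⟩⟩
  left_inv T := by
    apply Subtype.ext
    apply LinearMap.pi_ext'
    intro x
    apply LinearMap.ext_ring
    funext y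
    simp [Pi.single_apply]
  right_inv m := by
    funext q
    induction q using Quotient.ind with
    | _ q => simp [Pi.single_apply]

/-- A non-zero subrepresentation of the permutation module of a transitive group of prime power
degree in characteristic `p` contains the constants. -/
theorem permConstants_le {p f : ℕ} [Fact p.Prime] [CharP K p] [Finite G] [Fintype Ω]
    [IsPretransitive G Ω] (hcard : Fintype.card Ω = p ^ f)
    (W : Subrepresentation (Cfsg.permRep K G Ω)) (hW : W.toSubmodule ≠ ⊥) :
    (Cfsg.permConstants K G Ω).toSubmodule ≤ W.toSubmodule := by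
  classical
  obtain ⟨v, hv, hv0⟩ := Submodule.exists_mem_ne_zero_of_ne_bot hW
  let P : Sylow p G := default
  have hP : IsPretransitive (P : Subgroup G) Ω := by
    rcases isEmpty_or_nonempty Ω with h | ⟨⟨a⟩⟩
    · exact ⟨fun x => h.elim x⟩
    rw [isPretransitive_iff_orbit_eq_univ a]
    apply Set.eq_of_subset_of_ncard_le (Set.subset_univ _)
    have hidx : Nat.card G = p ^ f * Nat.card (stabilizer G a) := by
      rw [natCard_eq_mul_stabilizer a, Nat.card_eq_fintype_card (α := Ω), hcard]
    have h1 : Nat.card (P : Subgroup G) =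
        Nat.card (orbit (P : Subgroup G) a) * Nat.card (stabilizer (P : Subgroup G) a) := by
      rw [Nat.card_coe_set_eq, ← index_stabilizer, Subgroup.index_mul_card]
    have h2 : Nat.card (stabilizer (P : Subgroup G) a) ≤ p ^ (Nat.card (stabilizer G a)).factorization p := by
      have hpg : IsPGroup p (stabilizer (P : Subgroup G) a) := P.2.to_subgroup _
      obtain ⟨k, hk⟩ := IsPGroup.iff_card.mp hpg
      rw [hk]
      apply Nat.pow_le_pow_right (Fact.out (p := p.Prime)).pos
      apply ((Fact.out (p := p.Prime)).pow_dvd_iff_le_factorization Nat.card_pos.ne').mp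
      rw [← hk]
      let φ : stabilizer (P : Subgroup G) a →* stabilizer G a :=
        { toFun := fun x => ⟨((x : (P : Subgroup G)) : G), x.2⟩
          map_one' := rfl
          map_mul' := fun _ _ => rfl }
      exact Subgroup.card_dvd_of_injective φ fun x y e =>
        Subtype.ext (Subtype.ext (congrArg (fun z : stabilizer G a => (z : G)) e))
    rw [Sylow.card_eq_multiplicity, hidx, Nat.factorization_mul
      (pow_ne_zero _ (Fact.out (p := p.Prime)).ne_zero) Nat.card_pos.ne', Finsupp.add_apply,
      (Fact.out (p := p.Prime)).factorization_pow, Finsupp.single_eq_same, pow_add] at h1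
    rw [Set.ncard_univ, Nat.card_eq_fintype_card, hcard, ← Nat.card_coe_set_eq]
    refine Nat.le_of_mul_le_mul_right ?_ (pow_pos (Fact.out (p := p.Prime)).pos
      ((Nat.card (stabilizer G a)).factorization p))
    calc _ = Nat.card (orbit (P : Subgroup G) a) * Nat.card (stabilizer (P : Subgroup G) a) := h1
      _ ≤ _ := Nat.mul_le_mul_left _ h2
  letI : Algebra (ZMod p) K := ZMod.algebra K p
  let S : Submodule (ZMod p) (Ω → K) :=
    Submodule.span (ZMod p) (Set.range fun g : (P : Subgroup G) => Cfsg.permRep K G Ω (g : G) v)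
  have hSW : ∀ w ∈ S, w ∈ W.toSubmodule := by
    intro w hw
    induction hw using Submodule.span_induction with
    | mem x hx => obtain ⟨g, rfl⟩ := hx; exact W.apply_mem_toSubmodule _ hv
    | zero => exact W.toSubmodule.zero_mem
    | add x y _ _ hx hy => exact W.toSubmodule.add_mem hx hy
    | smul c x _ hx =>
      rw [← algebraMap_smul K c x]
      exact W.toSubmodule.smul_mem _ hx
  have hSinv : ∀ g : (P : Subgroup G), ∀ w ∈ S, Cfsg.permRep K G Ω (g : G) w ∈ S := by
    intro g w hw
    induction hw using Submodule.span_induction with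
    | mem x hx =>
      obtain ⟨h, rfl⟩ := hx
      exact Submodule.subset_span ⟨g * h, by simp [map_mul]⟩
    | zero => simp
    | add x y _ _ hx hy => rw [map_add]; exact S.add_mem hx hy
    | smul c x _ hx =>
      rw [← algebraMap_smul K c x, map_smul, algebraMap_smul]
      exact S.smul_mem _ hx
  have : Finite S :=
    have : Module.Finite (ZMod p) S := Module.Finite.span_of_finite (ZMod p) (Set.finite_range _)
    Module.finite_of_finite (ZMod p)
  letI : MulAction (P : Subgroup G) S :=
    { smul := fun g w => ⟨Cfsg.permRep K G Ω (g : G) w, hSinv g w w.2⟩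
      one_smul := fun w => Subtype.ext (show Cfsg.permRep K G Ω ((1 : (P : Subgroup G)) : G) w = w by simp)
      mul_smul := fun g h w => Subtype.ext (show Cfsg.permRep K G Ω ((g * h : (P : Subgroup G)) : G) w = _ by
        simp only [Subgroup.coe_mul, map_mul, Module.End.mul_apply]; rfl) }
  have hv' : v ∈ S := Submodule.subset_span ⟨1, by simp⟩
  have hdvd : p ∣ Nat.card S := by
    have hnt : Nontrivial S := ⟨⟨⟨v, hv'⟩, 0, fun e => hv0 (congrArg Subtype.val e)⟩⟩
    have : Module.Finite (ZMod p) S := Module.Finite.of_finite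
    rw [Module.natCard_eq_pow_finrank (K := ZMod p), Nat.card_zmod]
    exact dvd_pow_self p (Module.finrank_pos (R := ZMod p) (M := S)).ne'
  obtain ⟨w, hw, hw0⟩ := P.2.exists_fixed_point_of_prime_dvd_card_of_fixed_point S hdvd
    (a := (0 : S)) (fun g => Subtype.ext (map_zero _))
  have hwfix : ∀ g : (P : Subgroup G), Cfsg.permRep K G Ω (g : G) (w : Ω → K) = w :=
    fun g => congrArg Subtype.val (hw g)
  intro c hc
  rw [mem_permConstants] at hc
  obtain ⟨c, rfl⟩ := hc
  obtain ⟨d, hd⟩ : ∃ d, (w : Ω → K) = fun _ => d := by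
    rcases isEmpty_or_nonempty Ω with h | ⟨⟨a⟩⟩
    · exact ⟨0, funext fun x => (h.false x).elim⟩
    · refine ⟨(w : Ω → K) a, funext fun x => ?_⟩
      obtain ⟨g, rfl⟩ := hP.exists_smul_eq a x
      have := congrFun (hwfix g) (g • a)
      rw [permRep_apply] at this
      exact (by simpa [Subgroup.smul_def] using this : (w : Ω → K) a = (w : Ω → K) (g • a)).symm
  have hd0 : d ≠ 0 := fun e => hw0 (Subtype.ext (by rw [hd, e]; rfl))
  have := W.toSubmodule.smul_mem (c / d) (hSW _ w.2)
  rw [hd] at this
  have e : ((c / d) • fun _ : Ω => d) = fun _ => c := by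
    funext x; simp [div_mul_cancel₀ c hd0]
  rwa [e] at this

end

end CfsgLib.Perm
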