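import Cfsg.Agent.Lib.Perm.Basic
import Mathlib.GroupTheory.Perm.Cycle.Type
import Mathlib.GroupTheory.Solvable
import Mathlib.Data.ZMod.Units
import Mathlib.Algebra.Field.ZMod
import Mathlib.Tactic.Ring
import Mathlib.Tactic.LinearCombination
import Mathlib.Tactic.FieldSimp
import Mathlib.GroupTheory.Sylow

/-!
Transitive groups of prime degree: labelling by a `p`-cycle, and solvability of affine groups.
-/

set_option autoImplicit false

namespace CfsgLib.Perm

open MulAction

variable {α : Type*} {p : ℕ}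

/-- An element of order `p` of a group of degree `p` is a `p`-cycle, labelling the points. -/
theorem exists_equiv_zmod_of_orderOf [Fintype α] [DecidableEq α] [Fact p.Prime]
    (hα : Fintype.card α = p) (c : Equiv.Perm α) (hco : orderOf c = p) :
    ∃ e : ZMod p ≃ α, ∀ j, c (e j) = e (j + 1) := by
  have hp : p.Prime := Fact.out
  obtain ⟨a⟩ : Nonempty α := Fintype.card_pos_iff.mp (by rw [hα]; exact hp.pos)
  have hcyc : c.IsCycle := Equiv.Perm.isCycle_of_prime_order' (by rwa [hco])
    (by rw [hco, hα]; have := hp.pos; omega)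
  have hsupp : c.support = Finset.univ := by
    apply Finset.eq_univ_of_card
    rw [← hcyc.orderOf, hco, hα]
  have hne : ∀ x, c x ≠ x := fun x => Equiv.Perm.mem_support.mp (hsupp ▸ Finset.mem_univ x)
  have hinj : Function.Injective fun j : ZMod p => (c ^ j.val) a := by
    intro i j hij
    simp only at hij
    have h1 : ∀ m n : ℕ, m ≤ n → n < p → (c ^ m) a = (c ^ n) a → m = n := by
      intro m n hmn hn he
      by_contra hne'
      have h3 : (c ^ (n - m)) a = a := by
        apply (c ^ m).injective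
        rw [← Equiv.Perm.mul_apply, ← pow_add, Nat.add_sub_cancel' hmn]
        exact he.symm
      have h4 : c ^ (n - m) = 1 := hcyc.pow_eq_one_iff.mpr ⟨a, hne a, h3⟩
      have h5 := orderOf_dvd_of_pow_eq_one h4
      rw [hco] at h5
      have h6 := Nat.le_of_dvd (by omega) h5
      omega
    apply ZMod.val_injective p
    rcases le_total i.val j.val with h | h
    · exact h1 _ _ h (ZMod.val_lt j) hij
    · exact (h1 _ _ h (ZMod.val_lt i) hij.symm).symm
  let e : ZMod p ≃ α := Equiv.ofBijective _ ((Fintype.bijective_iff_injective_and_card _).mpr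
    ⟨hinj, by rw [ZMod.card, hα]⟩)
  refine ⟨e, fun j => ?_⟩
  show c ((c ^ j.val) a) = (c ^ (j + 1).val) a
  have hpow : c ^ p = 1 := by rw [← hco]; exact pow_orderOf_eq_one c
  rw [← Equiv.Perm.mul_apply, ← pow_succ', ZMod.val_add, ZMod.val_one, ← pow_eq_pow_mod _ hpow]

/-- A transitive group of prime degree contains a `p`-cycle, labelling the points by `ZMod p`. -/
theorem exists_equiv_zmod [Fintype α] [DecidableEq α] [Fact p.Prime] (hα : Fintype.card α = p)
    (G : Subgroup (Equiv.Perm α)) [IsPretransitive G α] :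
    ∃ (σ : G) (e : ZMod p ≃ α), orderOf σ = p ∧ ∀ j, (σ : Equiv.Perm α) (e j) = e (j + 1) := by
  have hp : p.Prime := Fact.out
  obtain ⟨a⟩ : Nonempty α := Fintype.card_pos_iff.mp (by rw [hα]; exact hp.pos)
  have hdvd : p ∣ Nat.card G := by
    rw [natCard_eq_mul_stabilizer a, Nat.card_eq_fintype_card (α := α), hα]
    exact dvd_mul_right _ _
  obtain ⟨σ, hσ⟩ := exists_prime_orderOf_dvd_card' (G := G) p hdvd
  obtain ⟨e, he⟩ := exists_equiv_zmod_of_orderOf hα (σ : Equiv.Perm α) (by rw [Subgroup.orderOf_coe, hσ])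
  exact ⟨σ, e, hσ, he⟩

/-- Iterates of the labelling cycle translate the labels. -/
theorem pow_apply_label (e : ZMod p ≃ α) (σ : Equiv.Perm α) (hσ : ∀ j, σ (e j) = e (j + 1)) (n : ℕ)
    (j : ZMod p) : (σ ^ n) (e j) = e (j + n) := by
  induction n with
  | zero => simp
  | succ n ih => rw [pow_succ', Equiv.Perm.mul_apply, ih, hσ]; push_cast; ring_nf

theorem zpow_apply_label (e : ZMod p ≃ α) (σ : Equiv.Perm α) (hσ : ∀ j, σ (e j) = e (j + 1)) (n : ℤ)
    (j : ZMod p) : (σ ^ n) (e j) = e (j + n) := by
  cases n with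
  | ofNat n => simp [pow_apply_label e σ hσ]
  | negSucc n =>
    rw [zpow_negSucc, Equiv.Perm.inv_eq_iff_eq, pow_apply_label e σ hσ]
    push_cast; ring_nf

/-- In a transitive group of odd prime degree with Sylow normalizer of even order some element
acts as negation in a suitable labelling. -/
theorem exists_neg_of_even_normalizer [Fintype α] [DecidableEq α] [Fact p.Prime]
    (hα : Fintype.card α = p) (hp2 : p ≠ 2) (G : Subgroup (Equiv.Perm α)) [IsPretransitive G α]
    (P : Sylow p G) (heven : Even (Nat.card (Subgroup.normalizer ((P : Subgroup G) : Set G)))) :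
    ∃ (σ τ : G) (e : ZMod p ≃ α), orderOf σ = p ∧ orderOf τ = 2 ∧
      (∀ j, (σ : Equiv.Perm α) (e j) = e (j + 1)) ∧ ∀ j, (τ : Equiv.Perm α) (e j) = e (-j) := by
  have hp : p.Prime := Fact.out
  obtain ⟨σ₀, -, hσ₀, -⟩ := exists_equiv_zmod hα G
  have hPcard : Nat.card (P : Subgroup G) = p := by
    rw [Sylow.card_eq_multiplicity]
    have h1 : (Nat.card G).factorization p ≤ 1 := by
      by_contra h
      have h2 : p ^ 2 ∣ Nat.card G :=
        (pow_dvd_pow p (not_le.mp h)).trans (Nat.ordProj_dvd _ p)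
      have h3 : Nat.card G ∣ p.factorial := by
        have := Subgroup.card_subgroup_dvd_card G
        rwa [Nat.card_perm, Nat.card_eq_fintype_card (α := α), hα] at this
      have h4 := h2.trans h3
      obtain ⟨m, rfl⟩ : ∃ m, p = m + 1 := ⟨p - 1, by have := hp.pos; omega⟩
      rw [Nat.factorial_succ, pow_two] at h4
      have h5 := Nat.dvd_of_mul_dvd_mul_left hp.pos h4
      rw [hp.dvd_factorial] at h5
      omega
    have h6 : 1 ≤ (Nat.card G).factorization p :=
      hp.factorization_pos_of_dvd Nat.card_pos.ne' (hσ₀ ▸ orderOf_dvd_natCard σ₀)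
    rw [le_antisymm h1 h6, pow_one]
  obtain ⟨⟨σ, hσP⟩, hσg⟩ := (isCyclic_of_prime_card hPcard).exists_generator
  have hσo : orderOf σ = p := by
    have := orderOf_eq_card_of_forall_mem_zpowers hσg
    rw [hPcard] at this
    exact (Subgroup.orderOf_coe (⟨σ, hσP⟩ : (P : Subgroup G))).trans this
  obtain ⟨e, he⟩ := exists_equiv_zmod_of_orderOf hα (σ : Equiv.Perm α) (by rw [Subgroup.orderOf_coe, hσo])
  obtain ⟨⟨τ, hτN⟩, hτo⟩ := exists_prime_orderOf_dvd_card'
    (G := Subgroup.normalizer ((P : Subgroup G) : Set G)) 2 heven.two_dvd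
  rw [Subgroup.orderOf_mk] at hτo
  have hconj : τ * σ * τ⁻¹ ∈ (P : Subgroup G) := (Subgroup.mem_normalizer_iff.mp hτN σ).mp hσP
  obtain ⟨k, hk⟩ := Subgroup.mem_zpowers_iff.mp (hσg ⟨_, hconj⟩)
  have hk' : (σ : Equiv.Perm α) ^ k = (τ : Equiv.Perm α) * σ * (τ : Equiv.Perm α)⁻¹ := by
    have := congrArg (fun x : (P : Subgroup G) => ((x : G) : Equiv.Perm α)) hk
    simpa using this
  let π : ZMod p → ZMod p := fun j => e.symm ((τ : Equiv.Perm α) (e j))
  have hπ : ∀ j, (τ : Equiv.Perm α) (e j) = e (π j) := fun j => (e.apply_symm_apply _).symm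
  have hstep : ∀ j, π (j + 1) = π j + k := by
    intro j
    apply e.injective
    rw [← hπ, ← he, ← zpow_apply_label e _ he, hk', ← hπ]
    simp
  have hlin : ∀ j, π j = k * j + π 0 := by
    intro j
    obtain ⟨n, rfl⟩ := ZMod.natCast_zmod_surjective j
    induction n with
    | zero => simp
    | succ n ih => rw [Nat.cast_succ, hstep, ih]; ring
  have hsq : ∀ j, π (π j) = j := by
    intro j
    apply e.injective
    rw [← hπ, ← hπ, ← Equiv.Perm.mul_apply]
    have : (τ : Equiv.Perm α) * (τ : Equiv.Perm α) = 1 := by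
      have h := pow_orderOf_eq_one τ
      rw [hτo, pow_two] at h
      exact congrArg Subtype.val h
    rw [this, Equiv.Perm.one_apply]
  have h20 : (2 : ZMod p) ≠ 0 := by
    intro h
    have : ((2 : ℕ) : ZMod p) = 0 := by exact_mod_cast h
    rw [ZMod.natCast_eq_zero_iff] at this
    exact hp2 (Nat.prime_dvd_prime_iff_eq hp Nat.prime_two |>.mp this)
  have hk2 : ((k : ZMod p) - 1) * ((k : ZMod p) + 1) = 0 := by
    have h1 := hsq 1
    have h0 := hsq 0
    rw [hlin, hlin 1] at h1
    rw [hlin, hlin 0] at h0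
    linear_combination h1 - h0
  have hkneg : (k : ZMod p) = -1 := by
    rcases mul_eq_zero.mp hk2 with h | h
    · exfalso
      have h0 := hsq 0
      rw [hlin, hlin 0, sub_eq_zero.mp h] at h0
      have hm : π 0 = 0 := (mul_eq_zero.mp (show (2 : ZMod p) * π 0 = 0 by linear_combination h0)).resolve_left h20
      have : τ = 1 := by
        apply Subtype.ext; apply Equiv.ext
        intro x
        obtain ⟨j, rfl⟩ := e.surjective x
        rw [hπ, hlin, sub_eq_zero.mp h, hm]; simp
      rw [this, orderOf_one] at hτo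
      omega
    · exact eq_neg_of_add_eq_zero_left h
  refine ⟨σ, τ, (Equiv.addRight (π 0 / 2)).trans e, hσo, hτo, fun j => ?_, fun j => ?_⟩
  · show (σ : Equiv.Perm α) (e (j + π 0 / 2)) = e (j + 1 + π 0 / 2)
    rw [he]; ring_nf
  · show (τ : Equiv.Perm α) (e (j + π 0 / 2)) = e (-j + π 0 / 2)
    rw [hπ, hlin, hkneg]
    congr 1
    field_simp
    ring

/-- An abelian transitive faithful action has trivial stabilizers. -/
theorem stabilizer_eq_bot_of_commute {G : Type*} [Group G] [MulAction G α] [FaithfulSMul G α]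
    [IsPretransitive G α] (hc : ∀ g h : G, g * h = h * g) (a : α) : stabilizer G a = ⊥ := by
  rw [Subgroup.eq_bot_iff_forall]
  intro g hg
  refine eq_of_smul_eq_smul fun x : α => ?_
  obtain ⟨h, rfl⟩ := exists_smul_eq G a x
  rw [one_smul, ← mul_smul, hc, mul_smul, hg]

/-- In a solvable transitive group of prime degree every element is affine. -/
theorem affine_of_isSolvable [Fintype α] [DecidableEq α] [Fact p.Prime] (hα : Fintype.card α = p)
    (G : Subgroup (Equiv.Perm α)) [IsPretransitive G α] [hs : Group.IsSolvable G] (σ : G)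
    (hσo : orderOf σ = p) (e : ZMod p ≃ α) (hσ : ∀ j, (σ : Equiv.Perm α) (e j) = e (j + 1)) :
    ∀ g ∈ G, ∃ a b : ZMod p, ∀ j, e.symm (g (e j)) = a * j + b := by
  have hp : p.Prime := Fact.out
  haveI : IsPreprimitive G α := IsPreprimitive.of_prime_card (by rwa [Nat.card_eq_fintype_card, hα])
  haveI : FaithfulSMul G α := ⟨fun {g k} h => Subtype.ext (Equiv.ext h)⟩
  haveI : Nontrivial G := ⟨⟨σ, 1, fun h => by rw [h, orderOf_one] at hσo; exact hp.one_lt.ne hσo⟩⟩
  obtain ⟨n, hn, hn'⟩ : ∃ n, derivedSeries G n ≠ ⊥ ∧ derivedSeries G (n + 1) = ⊥ := by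
    classical
    obtain ⟨m, hm⟩ := (Group.isSolvable_def G).mp hs
    have hex : ∃ m, derivedSeries G m = ⊥ := ⟨m, hm⟩
    refine ⟨Nat.find hex - 1, ?_, ?_⟩
    · refine Nat.find_min hex (Nat.sub_lt ?_ one_pos)
      rw [Nat.pos_iff_ne_zero]
      intro h0
      have := Nat.find_spec hex
      rw [h0, derivedSeries_zero] at this
      exact top_ne_bot this
    · have h0 : Nat.find hex ≠ 0 := by
        intro h0
        have := Nat.find_spec hex
        rw [h0, derivedSeries_zero] at this
        exact top_ne_bot this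
      rw [Nat.sub_add_cancel (Nat.pos_of_ne_zero h0)]
      exact Nat.find_spec hex
  set N := derivedSeries G n with hN
  haveI : N.Normal := derivedSeries_normal G n
  haveI := normal_isPretransitive (α := α) hn
  haveI : FaithfulSMul N α := ⟨fun {g k} h => Subtype.ext (eq_of_smul_eq_smul h)⟩
  have hcomm : ∀ g h : N, g * h = h * g := by
    intro g h
    have h1 : ((g : G) * h * (g : G)⁻¹ * (h : G)⁻¹) ∈ derivedSeries G (n + 1) := by
      rw [derivedSeries_succ]; exact Subgroup.commutator_mem_commutator g.2 h.2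
    rw [hn', Subgroup.mem_bot, mul_inv_eq_one, mul_inv_eq_iff_eq_mul] at h1
    exact Subtype.ext h1
  have hNcard : Nat.card N = p := by
    rw [natCard_eq_of_regular (stabilizer_eq_bot_of_commute hcomm (e 0)), Nat.card_eq_fintype_card, hα]
  have hσN : σ ∈ N := by
    let π : G →* G ⧸ N := QuotientGroup.mk' N
    have h1 : orderOf (π σ) ∣ p := hσo ▸ orderOf_map_dvd π σ
    rcases (Nat.dvd_prime hp).mp h1 with h | h
    · rw [orderOf_eq_one_iff] at h
      exact (QuotientGroup.eq_one_iff σ).mp h
    · exfalso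
      have h2 : p ∣ N.index := h ▸ orderOf_dvd_natCard (π σ)
      have h3 : p * p ∣ Nat.card G := by
        rw [← Subgroup.index_mul_card N, hNcard]; exact Nat.mul_dvd_mul_right h2 p
      have h4 : Nat.card G ∣ p.factorial := by
        have := Subgroup.card_subgroup_dvd_card G
        rwa [Nat.card_perm, Nat.card_eq_fintype_card (α := α), hα] at this
      have h5 := h3.trans h4
      obtain ⟨m, rfl⟩ : ∃ m, p = m + 1 := ⟨p - 1, by have := hp.pos; omega⟩
      rw [Nat.factorial_succ] at h5
      have h6 := Nat.dvd_of_mul_dvd_mul_left hp.pos h5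
      rw [hp.dvd_factorial] at h6
      omega
  have hgen : Subgroup.zpowers σ = N := by
    apply Subgroup.eq_of_le_of_card_ge (Subgroup.zpowers_le.mpr hσN)
    rw [hNcard, Nat.card_zpowers, hσo]
  intro g hg
  have hc : (⟨g, hg⟩ : G) * σ * (⟨g, hg⟩ : G)⁻¹ ∈ Subgroup.zpowers σ := by
    rw [hgen]; exact Subgroup.Normal.conj_mem inferInstance σ hσN _
  obtain ⟨k, hk⟩ := Subgroup.mem_zpowers_iff.mp hc
  have hk' : (σ : Equiv.Perm α) ^ k = g * σ * g⁻¹ := by
    have := congrArg (fun x : G => (x : Equiv.Perm α)) hk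
    simpa using this
  refine ⟨k, e.symm (g (e 0)), fun j => ?_⟩
  obtain ⟨m, rfl⟩ := ZMod.natCast_zmod_surjective j
  induction m with
  | zero => simp
  | succ m ih =>
    rw [Equiv.symm_apply_eq] at ih ⊢
    have : g (e ((m : ZMod p) + 1)) = ((σ : Equiv.Perm α) ^ k) (g (e (m : ZMod p))) := by
      rw [hk', ← hσ]; simp
    rw [Nat.cast_succ, this, ih, zpow_apply_label e _ hσ]
    congr 1; ring

/-- A permutation group acting by affine maps of `ZMod p` is solvable. -/
theorem isSolvable_of_affine [Fact p.Prime] (G : Subgroup (Equiv.Perm α)) (e : ZMod p ≃ α)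
    (h : ∀ g ∈ G, ∃ a b : ZMod p, ∀ j, e.symm (g (e j)) = a * j + b) : Group.IsSolvable G := by
  choose A B hAB using fun g : G => h (g : Equiv.Perm α) g.2
  have hA : ∀ g : G, A g = e.symm ((g : Equiv.Perm α) (e 1)) - e.symm ((g : Equiv.Perm α) (e 0)) := by
    intro g; rw [hAB g, hAB g]; ring
  have hmul : ∀ g k : G, ∀ j, A (g * k) * j + B (g * k) = A g * A k * j + (A g * B k + B g) := by
    intro g k j
    rw [← hAB (g * k) j]
    show e.symm ((g : Equiv.Perm α) ((k : Equiv.Perm α) (e j))) = _
    have := hAB k j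
    rw [Equiv.symm_apply_eq] at this
    rw [this, hAB g]; ring
  let φ : G →* ZMod p :=
    { toFun := A
      map_one' := by rw [hA]; simp
      map_mul' := fun g k => by
        have h1 := hmul g k 1
        have h0 := hmul g k 0
        linear_combination h1 - h0 }
  let ψ : G →* (ZMod p)ˣ := φ.toHomUnits
  have hker : ∀ g : ψ.ker, ∀ j, e.symm (((g : G) : Equiv.Perm α) (e j)) = j + B (g : G) := by
    intro g j
    have : A (g : G) = 1 := by
      have := congrArg Units.val (MonoidHom.mem_ker.mp g.2)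
      simpa [ψ, MonoidHom.coe_toHomUnits, φ] using this
    rw [hAB (g : G), this, one_mul]
  haveI : Group.IsSolvable ψ.ker := Group.isSolvable_of_comm fun g k => by
    apply Subtype.ext; apply Subtype.ext; apply Equiv.ext
    intro x
    obtain ⟨j, rfl⟩ := e.surjective x
    apply e.symm.injective
    show e.symm (((g : G) : Equiv.Perm α) (((k : G) : Equiv.Perm α) (e j))) =
      e.symm (((k : G) : Equiv.Perm α) (((g : G) : Equiv.Perm α) (e j)))
    have h1 := Equiv.eq_symm_apply e |>.mp (hker k j).symm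
    have h2 := Equiv.eq_symm_apply e |>.mp (hker g j).symm
    rw [← h1, ← h2, hker, hker]; ring
  exact Group.isSolvable_of_ker_le_range ψ.ker.subtype ψ (by rw [Subgroup.range_subtype])

theorem affine_zmod_two : ∀ f : ZMod 2 → ZMod 2, Function.Bijective f →
    ∃ a b : ZMod 2, ∀ j, f j = a * j + b := by decide

theorem affine_zmod_three : ∀ f : ZMod 3 → ZMod 3, Function.Bijective f →
    ∃ a b : ZMod 3, ∀ j, f j = a * j + b := by decide

/-- A transitive group of degree two or three is solvable. -/
theorem isSolvable_of_card_le_three [Fintype α] [DecidableEq α] [Fact p.Prime]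
    (hα : Fintype.card α = p) (hp : p ≤ 3) (G : Subgroup (Equiv.Perm α)) [IsPretransitive G α] :
    Group.IsSolvable G := by
  obtain ⟨σ, e, -, -⟩ := exists_equiv_zmod hα G
  refine isSolvable_of_affine G e fun g _ => ?_
  let π : ZMod p → ZMod p := fun j => e.symm (g (e j))
  have hπ : Function.Bijective π := (e.symm.bijective.comp g.bijective).comp e.bijective
  have key : ∀ f : ZMod p → ZMod p, Function.Bijective f → ∃ a b : ZMod p, ∀ j, f j = a * j + b := by
    rcases Nat.lt_or_ge p 3 with h | h
    · obtain rfl : p = 2 := le_antisymm (by omega) (Fact.out (p := p.Prime)).two_le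
      exact affine_zmod_two
    · obtain rfl : p = 3 := by omega
      exact affine_zmod_three
  exact key π hπ

end CfsgLib.Perm
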