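import Cfsg.Agent.Lib.Perm.Basic

/-!
Three point transitivity spelled out on points.
-/

set_option autoImplicit false

namespace CfsgLib.Perm

open MulAction

variable {G : Type*} [Group G] {α : Type*} [MulAction G α]

theorem is_three_pretransitive_iff :
    IsMultiplyPretransitive G α 3 ↔
      ∀ a b c a' b' c' : α, a ≠ b → a ≠ c → b ≠ c → a' ≠ b' → a' ≠ c' → b' ≠ c' →
        ∃ g : G, g • a = a' ∧ g • b = b' ∧ g • c = c' := by
  constructor
  · intro h a b c a' b' c' h1 h2 h3 h4 h5 h6
    obtain ⟨g, hg⟩ := h.exists_smul_eq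
      ⟨![a, b, c], fun i j e => by fin_cases i <;> fin_cases j <;> simp_all⟩
      ⟨![a', b', c'], fun i j e => by fin_cases i <;> fin_cases j <;> simp_all⟩
    exact ⟨g, congrArg (fun f : Fin 3 ↪ α => f 0) hg, congrArg (fun f : Fin 3 ↪ α => f 1) hg,
      congrArg (fun f : Fin 3 ↪ α => f 2) hg⟩
  · intro h
    constructor
    intro x y
    obtain ⟨g, h0, h1, h2⟩ := h (x 0) (x 1) (x 2) (y 0) (y 1) (y 2)
      (x.injective.ne (by decide)) (x.injective.ne (by decide)) (x.injective.ne (by decide))
      (y.injective.ne (by decide)) (y.injective.ne (by decide)) (y.injective.ne (by decide))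
    refine ⟨g, ?_⟩
    ext i
    fin_cases i <;> assumption

end CfsgLib.Perm
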