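import Cfsg.Agent.Lib.Invol.BrauerSuzuki
import Cfsg.Agent.Lib.Invol.Isolated
import Cfsg.Agent.Lib.Solvable.PCore
import Mathlib.GroupTheory.SchurZassenhaus

/-!
Glauberman's `Z*` theorem for elements of an abelian Sylow `2`-subgroup: an element fixed by the
Sylow normaliser is central modulo the odd core.
-/

set_option autoImplicit false

namespace CfsgLib.Perm.AbelianZStar

open Subgroup

universe u

variable {G : Type u} [Group G] [Finite G]

/-- The odd core stays trivial modulo a central subgroup of order two. -/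
theorem oddCore_quotient_eq_bot (hO : Cfsg.oddCore G = ⊥) (N : Subgroup G) [N.Normal]
    (hN : N ≤ center G) (hN2 : Nat.card N = 2) : Cfsg.oddCore (G ⧸ N) = ⊥ := by
  obtain ⟨R, hR⟩ : ∃ R, R = Cfsg.oddCore (G ⧸ N) := ⟨_, rfl⟩
  have hRn : R.Normal := hR ▸ CfsgLib.Solvable.pPrimeCore_normal 2 _
  have hRc : (Nat.card R).Coprime 2 := hR ▸ CfsgLib.Solvable.pPrimeCore_coprime 2
  rw [← hR]
  let π := QuotientGroup.mk' N
  let φ := π.subgroupComap R
  have hsurj : Function.Surjective φ :=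
    MonoidHom.subgroupComap_surjective_of_surjective π R (QuotientGroup.mk'_surjective N)
  have hNK : N ≤ R.comap π := fun x hx => by
    show π x ∈ R
    rw [(QuotientGroup.eq_one_iff x).2 hx |> (fun h => (h : π x = 1))]
    exact one_mem R
  have hker : φ.ker = N.subgroupOf (R.comap π) := by
    ext x
    rw [MonoidHom.mem_ker, mem_subgroupOf, Subtype.ext_iff]
    exact QuotientGroup.eq_one_iff (x : G)
  have hk2 : Nat.card φ.ker = 2 := by
    rw [hker, Nat.card_congr (subgroupOfEquivOfLe hNK).toEquiv, hN2]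
  have hidx : φ.ker.index = Nat.card R := by
    rw [Subgroup.index_ker, MonoidHom.range_eq_top.2 hsurj, Subgroup.card_top]
  obtain ⟨H, hH⟩ := Subgroup.exists_right_complement'_of_coprime (N := φ.ker)
    (by rw [hk2, hidx]; exact hRc.symm)
  have hHc : Nat.card H = Nat.card R := by rw [← hidx, hH.symm.index_eq_card]
  have hKn : (R.comap π).Normal := hRn.comap π
  have hnormal : (H.map (R.comap π).subtype).Normal := by
    refine ⟨?_⟩
    rintro _ ⟨x, hx, rfl⟩ g
    obtain ⟨y, hy⟩ : ∃ y : R.comap π, (y : G) = g * x * g⁻¹ :=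
      ⟨⟨_, hKn.conj_mem _ x.2 g⟩, rfl⟩
    obtain ⟨⟨a, h⟩, hah : (a : R.comap π) * h = y, -⟩ := hH.existsUnique y
    have hxr : x ^ Nat.card R = 1 := by
      rw [← hHc]
      exact congrArg Subtype.val (pow_card_eq_one' (x := (⟨x, hx⟩ : H)))
    have hyr : y ^ Nat.card R = 1 := Subtype.ext (by
      rw [SubmonoidClass.coe_pow, hy, conj_pow, ← SubmonoidClass.coe_pow, hxr, OneMemClass.coe_one,
        mul_one, mul_inv_cancel])
    have hhr : (h : R.comap π) ^ Nat.card R = 1 := by
      rw [← hHc]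
      exact congrArg Subtype.val (pow_card_eq_one' (x := h))
    have hac : Commute (a : R.comap π) h := by
      have haN : ((a : R.comap π) : G) ∈ N := mem_subgroupOf.1 (hker ▸ a.2)
      exact Subtype.ext ((mem_center_iff.1 (hN haN) _).symm)
    have har : (a : R.comap π) ^ Nat.card R = 1 := by
      have := hac.mul_pow (Nat.card R)
      rw [hah, hyr, hhr, mul_one] at this
      exact this.symm
    have ha2 : (a : R.comap π) ^ 2 = 1 := by
      rw [← hk2]
      exact congrArg Subtype.val (pow_card_eq_one' (x := a))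
    have ha1 : (a : R.comap π) = 1 := by
      have := pow_gcd_eq_one.2 ⟨har, ha2⟩
      rwa [hRc, pow_one] at this
    rw [ha1, one_mul] at hah
    exact ⟨y, hah ▸ h.2, hy⟩
  have hle : H.map (R.comap π).subtype ≤ Cfsg.oddCore G :=
    CfsgLib.Solvable.le_pPrimeCore hnormal (by
      rw [CfsgLib.Solvable.card_map_subtype, hHc]; exact hRc)
  rw [hO, le_bot_iff, map_eq_bot_iff_of_injective _ (R.comap π).subtype_injective] at hle
  rw [← card_eq_one, ← hHc, hle, card_bot]

/-- An element of an abelian Sylow `2`-subgroup fixed by its normaliser is central when the odd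
core is trivial. -/
theorem mem_center (hO : Cfsg.oddCore G = ⊥) (S : Sylow 2 G) [IsMulCommutative S] {c : G}
    (hc : c ∈ S) (hfix : ∀ g ∈ normalizer (S : Set G), g * c * g⁻¹ = c) : c ∈ center G := by
  induction h : Nat.card G using Nat.strong_induction_on generalizing G with
  | _ n ih =>
  subst h
  have : Fact (Nat.Prime 2) := ⟨Nat.prime_two⟩
  have hwc : ∀ e ∈ (S : Subgroup G), (∀ g ∈ normalizer (S : Set G), g * e * g⁻¹ = e) →
      ∀ g : G, g * e * g⁻¹ ∈ (S : Subgroup G) → g * e * g⁻¹ = e := by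
    intro e he hef g hg
    obtain ⟨n, hn, hne⟩ := S.conj_eq_normalizer_conj_of_mem e g⁻¹ he (by rwa [inv_inv])
    rw [inv_inv] at hne
    have := hef n⁻¹ (inv_mem hn)
    rw [inv_inv] at this
    exact hne.trans this
  by_cases hc1 : c = 1
  · exact hc1 ▸ one_mem _
  obtain ⟨k, hk⟩ := IsPGroup.iff_orderOf.1 S.isPGroup' ⟨c, hc⟩
  rw [orderOf_mk] at hk
  obtain ⟨j, rfl⟩ : ∃ j, k = j + 1 := ⟨k - 1, by
    have : k ≠ 0 := fun e => hc1 (orderOf_eq_one_iff.1 (by rw [hk, e, pow_zero]))
    omega⟩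
  obtain ⟨w, hw⟩ : ∃ w, w = c ^ 2 ^ j := ⟨_, rfl⟩
  have hw2 : orderOf w = 2 := by
    rw [hw, orderOf_pow_of_dvd (by positivity) (hk ▸ ⟨2, pow_succ 2 j⟩), hk, pow_succ,
      Nat.mul_div_cancel_left _ (by positivity)]
  have hwS : w ∈ (S : Subgroup G) := hw ▸ pow_mem hc _
  have hwfix : ∀ g ∈ normalizer (S : Set G), g * w * g⁻¹ = w := fun g hg => by
    rw [hw, ← conj_pow, hfix g hg]
  have hiso : Cfsg.IsIsolatedInvolution w :=
    CfsgLib.Invol.isolated_of_sylow S hw2 hwS (hwc w hwS hwfix)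
  have hwz : w ∈ center G := by
    rw [mem_center_iff]
    intro g
    have h := CfsgLib.Invol.zstar G hiso g
    rw [hO, mem_bot, mul_inv_eq_one, mul_inv_eq_iff_eq_mul] at h
    exact h.symm
  let N := zpowers w
  have hNc : N ≤ center G := zpowers_le.2 hwz
  haveI hNn : N.Normal :=
    ⟨fun x hx g => by rw [mem_center_iff.1 (hNc hx) g, mul_inv_cancel_right]; exact hx⟩
  have hN2 : Nat.card N = 2 := by rw [Nat.card_zpowers, hw2]
  have hlt : Nat.card (G ⧸ N) < Nat.card G := by
    rw [Subgroup.card_eq_card_quotient_mul_card_subgroup N, hN2]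
    have : 0 < Nat.card (G ⧸ N) := Nat.card_pos
    omega
  let π := QuotientGroup.mk' N
  have hNS : N ≤ (S : Subgroup G) := zpowers_le.2 hwS
  let S' : Sylow 2 (G ⧸ N) := S.mapSurjective (QuotientGroup.mk'_surjective N)
  have hS' : (S' : Subgroup (G ⧸ N)) = (S : Subgroup G).map π := rfl
  have hback : ∀ x, π x ∈ (S' : Subgroup (G ⧸ N)) ↔ x ∈ (S : Subgroup G) := fun x => by
    rw [hS', ← mem_comap, comap_map_eq, QuotientGroup.ker_mk', sup_of_le_left hNS]
  haveI : IsMulCommutative S' := ⟨⟨by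
    rintro ⟨x, hx⟩ ⟨y, hy⟩
    obtain ⟨x, hxS, rfl⟩ : x ∈ (S : Subgroup G).map π := hS' ▸ hx
    obtain ⟨y, hyS, rfl⟩ : y ∈ (S : Subgroup G).map π := hS' ▸ hy
    apply Subtype.ext
    show π x * π y = π y * π x
    rw [← map_mul, ← map_mul]
    exact congrArg π (congrArg Subtype.val
      (IsMulCommutative.is_comm.comm (⟨x, hxS⟩ : S) ⟨y, hyS⟩))⟩⟩
  have hfix' : ∀ q ∈ normalizer (S' : Set (G ⧸ N)), q * π c * q⁻¹ = π c := by
    intro q hq
    obtain ⟨g, rfl⟩ := QuotientGroup.mk'_surjective N q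
    have hg : g ∈ normalizer (S : Set G) := by
      show g ∈ normalizer ((S : Subgroup G) : Set G)
      rw [mem_normalizer_iff]
      intro x
      show x ∈ (S : Subgroup G) ↔ g * x * g⁻¹ ∈ (S : Subgroup G)
      rw [← hback x, ← hback (g * x * g⁻¹), map_mul, map_mul, map_inv]
      exact (mem_normalizer_iff (H := (S' : Subgroup (G ⧸ N)))).1 hq _
    rw [← map_inv, ← map_mul, ← map_mul, hfix g hg]
  have hcent : π c ∈ center (G ⧸ N) :=
    ih _ hlt (oddCore_quotient_eq_bot hO N hNc hN2) S' ((hback c).2 hc) hfix' rfl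
  rw [mem_center_iff]
  intro g
  have hd : g * c * g⁻¹ * c⁻¹ ∈ N := by
    refine (QuotientGroup.eq_one_iff _).1 ?_
    show π (g * c * g⁻¹ * c⁻¹) = 1
    rw [map_mul, map_mul, map_mul, mem_center_iff.1 hcent (π g), map_inv, map_inv,
      mul_inv_cancel_right, mul_inv_cancel]
  have hmem : g * c * g⁻¹ ∈ (S : Subgroup G) := by
    have h := mul_mem (hNS hd) hc
    rwa [inv_mul_cancel_right] at h
  have := hwc c hc hfix g hmem
  rwa [mul_inv_eq_iff_eq_mul] at this

end CfsgLib.Perm.AbelianZStar
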