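import Cfsg.Agent.Lib.Transfer.UniqueOrderP
import Mathlib.GroupTheory.GroupAction.Basic
import Mathlib.GroupTheory.PGroup
import Mathlib.Algebra.Module.NatInt
set_option autoImplicit false

/-!
An odd `p`-group acting on an elementary abelian `q`-group with stabilisers of equal order is cyclic
and acts semiregularly.
-/

namespace CfsgLib.Perm.HalfTransOdd

open MulAction

variable {P V : Type*} [Group P] [AddCommGroup V] [DistribMulAction P V]

/-- The sum of the images of `u` under the powers of `c`. -/
def orbitSum (p : ℕ) (c : P) (u : V) : V := ∑ k ∈ Finset.range p, c ^ k • u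

theorem smul_orbitSum {p : ℕ} {c : P} (hc : c ^ p = 1) (u : V) :
    c • orbitSum p c u = orbitSum p c u := by
  unfold orbitSum
  rw [Finset.smul_sum]
  simp only [← mul_smul, ← pow_succ']
  have h := Finset.sum_range_succ' (fun k => c ^ k • u) p
  rw [Finset.sum_range_succ, hc, pow_zero] at h
  exact (add_right_cancel h).symm

theorem orbitSum_fixed {p : ℕ} {c : P} {u : V} (h : c • u = u) : orbitSum p c u = p • u := by
  have : ∀ k : ℕ, c ^ k • u = u := fun k => by
    induction k with
    | zero => rw [pow_zero, one_smul]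
    | succ k ih => rw [pow_succ, mul_smul, h, ih]
  unfold orbitSum
  rw [Finset.sum_congr rfl fun k _ => this k, Finset.sum_const, Finset.card_range]

theorem orbitSum_add (p : ℕ) (c : P) (u v : V) :
    orbitSum p c (u + v) = orbitSum p c u + orbitSum p c v := by
  simp only [orbitSum, smul_add, Finset.sum_add_distrib]

theorem orbitSum_sub (p : ℕ) (c : P) (u v : V) :
    orbitSum p c (u - v) = orbitSum p c u - orbitSum p c v := by
  simp only [orbitSum, smul_sub, Finset.sum_sub_distrib]

theorem smul_orbitSum_conj (p : ℕ) (g c : P) (u : V) :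
    g • orbitSum p c u = orbitSum p (g * c * g⁻¹) (g • u) := by
  unfold orbitSum
  rw [Finset.smul_sum]
  refine Finset.sum_congr rfl fun k _ => ?_
  rw [conj_pow, ← mul_smul, ← mul_smul]
  congr 1
  group

theorem orbitSum_comm {p : ℕ} {c d : P} (h : Commute d c) (u : V) :
    d • orbitSum p c u = orbitSum p c (d • u) := by
  rw [smul_orbitSum_conj, h.eq, mul_inv_cancel_right]

variable [Finite P] {p : ℕ} [Fact p.Prime]

omit [AddCommGroup V] [DistribMulAction P V] [Finite P] in
/-- In a `p`-group an element normalising a subgroup of order `p` centralises it. -/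
theorem commute_of_conj_pow (hP : IsPGroup p P) {g a : P} (ha : a ^ p = 1) {i : ℕ}
    (h : g * a * g⁻¹ = a ^ i) : Commute g a := by
  obtain ⟨k, hk⟩ := hP g
  have hiter : ∀ j : ℕ, g ^ j * a * (g ^ j)⁻¹ = a ^ (i ^ j) := by
    intro j
    induction j with
    | zero => simp
    | succ j ih =>
      rw [pow_succ', mul_inv_rev, show g * g ^ j * a * ((g ^ j)⁻¹ * g⁻¹) =
        g * (g ^ j * a * (g ^ j)⁻¹) * g⁻¹ by group, ih, ← conj_pow, h, ← pow_mul, ← pow_succ']
  have h1 := hiter (p ^ k)
  rw [hk, one_mul, inv_one, mul_one] at h1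
  by_cases ha1 : a = 1
  · rw [ha1]; exact Commute.one_right g
  have hord : orderOf a = p := orderOf_eq_prime ha ha1
  have h2 : i ^ p ^ k ≡ 1 [MOD p] := by
    have h3 : a ^ (i ^ p ^ k) = a ^ 1 := by rw [pow_one, ← h1]
    rw [pow_eq_pow_iff_modEq, hord] at h3
    exact h3
  have h4 : ((i : ZMod p)) = 1 := by
    have := (ZMod.natCast_eq_natCast_iff (i ^ p ^ k) 1 p).mpr h2
    rwa [Nat.cast_pow, Nat.cast_one, ZMod.pow_card_pow] at this
  have h5 : a ^ i = a := by
    conv_rhs => rw [← pow_one a]
    rw [pow_eq_pow_iff_modEq, hord]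
    exact (ZMod.natCast_eq_natCast_iff i 1 p).mp (by rw [h4, Nat.cast_one])
  rw [h5] at h
  exact mul_inv_eq_iff_eq_mul.mp h

variable [FaithfulSMul P V]

/-- Equal stabiliser orders on the nonzero vectors, `p` prime to the exponent: semiregular, and
cyclic. -/
theorem semiregular_of_coprime (hp2 : p ≠ 2) (hP : IsPGroup p P)
    (hpV : ∀ u : V, p • u = 0 → u = 0)
    (hconst : ∀ u v : V, u ≠ 0 → v ≠ 0 →
      Nat.card (stabilizer P u) = Nat.card (stabilizer P v)) :
    IsCyclic P ∧ ∀ g : P, g ≠ 1 → ∀ u : V, g • u = u → u = 0 := by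
  classical
  -- central elements of order `p` have no fixed points
  have hcen : ∀ z : P, z ^ p = 1 → z ≠ 1 → (∀ g, Commute g z) → ∀ u : V, z • u = u → u = 0 := by
    intro z hz hz1 hzc u hu
    by_contra hu0
    obtain ⟨u', hu'⟩ : ∃ u' : V, z • u' ≠ u' := by
      by_contra hall
      simp only [not_exists, not_not] at hall
      exact hz1 (FaithfulSMul.eq_of_smul_eq_smul (α := V) fun v => by rw [hall v, one_smul])
    set w := z • u' - u' with hw
    have hw0 : w ≠ 0 := sub_ne_zero.mpr hu'
    have hπw : orbitSum p z w = 0 := by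
      rw [hw, orbitSum_sub, ← orbitSum_comm (Commute.refl z), smul_orbitSum hz, sub_self]
    have hπv : orbitSum p z (u + w) = p • u := by
      rw [orbitSum_add, hπw, add_zero, orbitSum_fixed hu]
    have huw : u + w ≠ 0 := fun h => hu0 (hpV u (by
      rw [← hπv, h]; simp [orbitSum]))
    have hle : ∀ g ∈ stabilizer P (u + w), g • u = u ∧ g • w = w := by
      intro g hg
      rw [mem_stabilizer_iff] at hg
      have h1 := orbitSum_comm (p := p) (hzc g) (u + w)
      rw [hg, hπv, smul_comm g p u] at h1
      have hgu : g • u = u := sub_eq_zero.mp (hpV _ (by rw [smul_sub, h1, sub_self]))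
      refine ⟨hgu, ?_⟩
      rw [smul_add, hgu] at hg
      exact add_left_cancel hg
    have e1 : stabilizer P (u + w) = stabilizer P u := Subgroup.eq_of_le_of_card_ge
      (fun g hg => (hle g hg).1) (hconst u _ hu0 huw).le
    have e2 : stabilizer P (u + w) = stabilizer P w := Subgroup.eq_of_le_of_card_ge
      (fun g hg => (hle g hg).2) (hconst w _ hw0 huw).le
    have hzw : z • w = w := by
      have hm : z ∈ stabilizer P u := hu
      rw [← e1, e2] at hm
      exact hm
    rw [orbitSum_fixed hzw] at hπw
    exact hw0 (hpV w hπw)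
  have hcyc : IsCyclic P := by
    by_contra hnc
    obtain ⟨E, hEn, hEc, hEe, hEcard⟩ :=
      CfsgLib.Transfer.exists_normal_elementary_sq hp2 hP hnc
    -- a central element of order `p` in `E`
    obtain ⟨z, hzE, hz1, hzc⟩ : ∃ z ∈ E, z ≠ 1 ∧ ∀ g, Commute g z := by
      obtain ⟨M, hMn, hME, hM⟩ :=
        CfsgLib.Transfer.exists_normal_le_card hP E (k := 1) (hEcard ▸ pow_dvd_pow p one_le_two)
      rw [pow_one] at hM
      obtain ⟨z, hzM, hz1⟩ : ∃ z ∈ M, z ≠ 1 := by
        refine M.bot_or_exists_ne_one.resolve_left fun h => ?_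
        rw [h, Subgroup.card_bot] at hM
        exact (Fact.out : p.Prime).ne_one hM.symm
      refine ⟨z, hME hzM, hz1, fun g => ?_⟩
      have hzM' : Subgroup.zpowers z = M := Subgroup.eq_of_le_of_card_ge
        (Subgroup.zpowers_le.mpr hzM)
        (by rw [hM, Nat.card_zpowers, orderOf_eq_prime (hEe z (hME hzM)) hz1])
      have hconj := hMn.conj_mem z hzM g
      rw [← hzM', ← mem_powers_iff_mem_zpowers] at hconj
      obtain ⟨i, hi⟩ := Submonoid.mem_powers_iff _ _ |>.mp hconj
      exact commute_of_conj_pow hP (hEe z (hME hzM)) hi.symm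
    have hzp := hEe z hzE
    have hcommE : ∀ a ∈ E, ∀ b ∈ E, Commute a b := fun a ha b hb =>
      congrArg Subtype.val (hEc.is_comm.comm ⟨a, ha⟩ ⟨b, hb⟩)
    -- two independent elements of `E` fix only zero
    have hindep : ∀ c ∈ E, ∀ d ∈ E, c ∉ Subgroup.zpowers d → d ≠ 1 → ∀ u : V,
        c • u = u → d • u = u → u = 0 := by
      intro c hc d hd hcd hd1 u hcu hdu
      refine hcen z hzp hz1 hzc u ?_
      suffices E ≤ stabilizer P u from this hzE
      have hle : Subgroup.closure ({c, d} : Set P) ≤ stabilizer P u ⊓ E := by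
        rw [Subgroup.closure_le]
        intro x hx
        rcases hx with rfl | rfl
        · exact ⟨hcu, hc⟩
        · exact ⟨hdu, hd⟩
      have hEeq : Subgroup.closure ({c, d} : Set P) = E := by
        refine Subgroup.eq_of_le_of_card_ge (hle.trans inf_le_right) ?_
        obtain ⟨j, hj⟩ := (hP.to_subgroup (Subgroup.closure ({c, d} : Set P))).exists_card_eq
        rw [hEcard, hj]
        refine Nat.pow_le_pow_right (Fact.out : p.Prime).pos ?_
        by_contra hj1
        have hsub : Subgroup.zpowers d ≤ Subgroup.closure ({c, d} : Set P) :=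
          Subgroup.zpowers_le.mpr (Subgroup.subset_closure (by simp))
        have := Subgroup.eq_of_le_of_card_ge hsub (by
          rw [hj, Nat.card_zpowers, orderOf_eq_prime (hEe d hd) hd1]
          exact (Nat.pow_le_pow_right (Fact.out : p.Prime).pos (by omega : j ≤ 1)).trans (pow_one p).le)
        exact hcd (this ▸ Subgroup.subset_closure (by simp))
      rw [← hEeq]
      exact hle.trans inf_le_left
    -- some noncentral element of `E` has a fixed point
    obtain ⟨a, haE, ha1, v, hv, hav⟩ : ∃ a ∈ E, a ≠ 1 ∧ ∃ v : V, v ≠ 0 ∧ a • v = v := by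
      by_contra hno
      simp only [not_exists, not_and] at hno
      -- all orbit sums over `E` vanish, so `p • u = 0`
      obtain ⟨b, hbE, hbz⟩ : ∃ b ∈ E, b ∉ Subgroup.zpowers z := by
        by_contra h
        simp only [not_exists, not_and, not_not] at h
        have := Subgroup.card_le_of_le (H := E) h
        rw [hEcard, Nat.card_zpowers, orderOf_eq_prime hzp hz1] at this
        nlinarith [(Fact.out : p.Prime).two_le]
      have hbne : b ≠ 1 := fun h => hbz (h ▸ one_mem _)
      have hzero : ∀ c ∈ E, c ≠ 1 → ∀ u : V, orbitSum p c u = 0 := fun c hc hc1 u => by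
        by_contra h
        exact hno c hc hc1 _ h (smul_orbitSum (hEe c hc) u)
      obtain ⟨u, hu⟩ : ∃ u : V, u ≠ 0 := by
        by_contra h
        simp only [not_exists, not_not] at h
        exact hz1 (FaithfulSMul.eq_of_smul_eq_smul (α := V) fun v => by rw [h (z • v), one_smul, h v])
      -- sum over `zⁱ b` of the orbit sums
      have hkey : ∑ k ∈ Finset.range p, orbitSum p (z ^ k * b) u = 0 :=
        Finset.sum_eq_zero fun k _ => hzero _ (mul_mem (pow_mem hzE k) hbE) (fun h => hbz (by
          rw [eq_inv_of_mul_eq_one_right h]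
          exact inv_mem (pow_mem (Subgroup.mem_zpowers z) k))) u
      rw [show (∑ k ∈ Finset.range p, orbitSum p (z ^ k * b) u) =
        ∑ j ∈ Finset.range p, orbitSum p (z ^ j) (b ^ j • u) from by
          simp only [orbitSum]
          rw [Finset.sum_comm]
          refine Finset.sum_congr rfl fun j _ => Finset.sum_congr rfl fun k _ => ?_
          rw [((hcommE _ (pow_mem hzE k) b hbE)).mul_pow, mul_smul, ← pow_mul, ← pow_mul, mul_comm],
        Finset.sum_eq_single 0] at hkey
      · rw [pow_zero, pow_zero, one_smul, orbitSum_fixed (one_smul P u)] at hkey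
        exact hu (hpV u hkey)
      · intro j hj hj0
        refine hzero _ (pow_mem hzE j) (fun h => ?_) _
        have := orderOf_dvd_of_pow_eq_one h
        rw [orderOf_eq_prime hzp hz1] at this
        exact absurd (Nat.le_of_dvd (Nat.pos_of_ne_zero hj0) this) (by
          have := Finset.mem_range.mp hj; omega)
      · intro h
        exact absurd (Finset.mem_range.mpr (Fact.out : p.Prime).pos) h
    have hap := hEe a haE
    have hanc : ¬ ∀ g, Commute g a := fun h => hv (hcen a hap ha1 h v hav)
    obtain ⟨h, hh⟩ := not_forall.mp hanc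
    set b := h * a * h⁻¹ with hb
    have hbE : b ∈ E := hEn.conj_mem a haE h
    have hba : b ∉ Subgroup.zpowers a := fun hm => by
      rw [← mem_powers_iff_mem_zpowers] at hm
      obtain ⟨i, hi⟩ := Submonoid.mem_powers_iff _ _ |>.mp hm
      exact hh (commute_of_conj_pow hP hap hi.symm)
    have hb1 : b ≠ 1 := fun e => hba (e ▸ one_mem _)
    have hab : a ∉ Subgroup.zpowers b := fun hm => by
      refine hba ?_
      have h1 : Subgroup.zpowers a = Subgroup.zpowers b := Subgroup.eq_of_le_of_card_ge
        (Subgroup.zpowers_le.mpr hm) (by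
          rw [Nat.card_zpowers, Nat.card_zpowers, orderOf_eq_prime hap ha1,
            orderOf_eq_prime (hEe b hbE) hb1])
      rw [h1]; exact Subgroup.mem_zpowers b
    set w := h • v with hwdef
    have hbw : b • w = w := by
      rw [hb, hwdef, ← mul_smul, inv_mul_cancel_right, mul_smul, hav]
    have hw : w ≠ 0 := fun e => hv (by rw [← inv_smul_smul h v, ← hwdef, e, smul_zero])
    have hπ : ∀ c ∈ E, ∀ d ∈ E, c ∉ Subgroup.zpowers d → d ≠ 1 → ∀ u : V, d • u = u →
        orbitSum p c u = 0 := fun c hc d hd hcd hd1 u hu =>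
      hindep c hc d hd hcd hd1 _ (smul_orbitSum (hEe c hc) u)
        (by rw [orbitSum_comm (hcommE d hd c hc), hu])
    have hπv : orbitSum p a (v + w) = p • v := by
      rw [orbitSum_add, hπ a haE b hbE hab hb1 w hbw, add_zero, orbitSum_fixed hav]
    have hvw : v + w ≠ 0 := fun e => hv (hpV v (by rw [← hπv, e]; simp [orbitSum]))
    -- the stabiliser of `v + w` fixes both
    have hstep : ∀ g : P, g • (v + w) = v + w → g * a * g⁻¹ ∈ Subgroup.zpowers a ∨
        g * a * g⁻¹ ∈ Subgroup.zpowers b := by
      intro g hg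
      by_contra hcon
      simp only [not_or] at hcon
      have hE' := hEn.conj_mem a haE g
      have h1 := smul_orbitSum_conj p g a (v + w)
      rw [hg, hπv, orbitSum_add, hπ _ hE' a haE hcon.1 ha1 v hav,
        hπ _ hE' b hbE hcon.2 hb1 w hbw, add_zero, smul_comm g p v] at h1
      exact hv (by rw [← inv_smul_smul g v, hpV _ h1, smul_zero])
    have hcomm : ∀ g : P, g • (v + w) = v + w → Commute g a := by
      intro g hg
      have hgg : (g * g) • (v + w) = v + w := by rw [mul_smul, hg, hg]
      have hone : ∀ g : P, g * a * g⁻¹ ∈ Subgroup.zpowers a → Commute g a := fun g hm => by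
        rw [← mem_powers_iff_mem_zpowers] at hm
        obtain ⟨i, hi⟩ := Submonoid.mem_powers_iff _ _ |>.mp hm
        exact commute_of_conj_pow hP hap hi.symm
      by_cases h2 : Commute (g * g) a
      · -- `g` is a power of `g ^ 2`
        have hodd : (2 : ℕ).Coprime (orderOf g) := by
          obtain ⟨k, hk⟩ := IsPGroup.iff_orderOf.mp hP g
          rw [hk]
          exact Nat.Coprime.pow_right k ((Nat.coprime_primes Nat.prime_two Fact.out).mpr hp2.symm)
        obtain ⟨m, hm⟩ := exists_pow_eq_self_of_coprime hodd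
        rw [← hm, pow_two]
        exact h2.pow_left m
      rcases hstep g hg with hga | hgb
      · exact hone g hga
      · exfalso
        rcases hstep (g * g) hgg with h3 | h3
        · exact h2 (hone _ h3)
        · refine hba ?_
          -- both `g a g⁻¹` and `g² a g⁻²` generate `⟨b⟩`, so `g` normalises it
          have hga1 : g * a * g⁻¹ ≠ 1 := fun e => ha1 (by
            have := congrArg (fun x => g⁻¹ * x * g) e
            simpa [mul_assoc] using this)
          obtain ⟨i, hi⟩ := Submonoid.mem_powers_iff _ _ |>.mp ((mem_powers_iff_mem_zpowers).mpr hgb)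
          obtain ⟨j, hj⟩ := Submonoid.mem_powers_iff _ _ |>.mp ((mem_powers_iff_mem_zpowers).mpr h3)
          -- `b` is a power of `g a g⁻¹`
          have hgen : Subgroup.zpowers (g * a * g⁻¹) = Subgroup.zpowers b :=
            Subgroup.eq_of_le_of_card_ge (Subgroup.zpowers_le.mpr hgb) (by
              rw [Nat.card_zpowers, Nat.card_zpowers, orderOf_eq_prime (hEe b hbE) hb1,
                orderOf_eq_prime (hEe _ (hEn.conj_mem a haE g)) hga1])
          have h4 : g * b * g⁻¹ ∈ Subgroup.zpowers b := by
            obtain ⟨l, hl⟩ := Subgroup.mem_zpowers_iff.mp (hgen ▸ Subgroup.mem_zpowers b :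
              b ∈ Subgroup.zpowers (g * a * g⁻¹))
            rw [show g * b * g⁻¹ = (g * g * a * (g * g)⁻¹) ^ l by
              rw [← hl, conj_zpow, conj_zpow, mul_inv_rev]; group]
            exact zpow_mem h3 l
          rw [← mem_powers_iff_mem_zpowers] at h4
          obtain ⟨l, hl⟩ := Submonoid.mem_powers_iff _ _ |>.mp h4
          have h5 := commute_of_conj_pow hP (hEe b hbE) hl.symm
          have h6 : a = b ^ i := by
            have e : g * (b ^ i) * g⁻¹ = b ^ i := by rw [(h5.pow_right i).eq, mul_inv_cancel_right]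
            have e2 : g * a * g⁻¹ = g * (b ^ i) * g⁻¹ := by rw [e, hi]
            exact mul_left_cancel (mul_right_cancel e2)
          exact absurd (h6 ▸ pow_mem (Subgroup.mem_zpowers b) i) hab
    have hle : ∀ g ∈ stabilizer P (v + w), g • v = v ∧ g • w = w := by
      intro g hg
      rw [mem_stabilizer_iff] at hg
      have h1 := orbitSum_comm (p := p) (hcomm g hg) (v + w)
      rw [hg, hπv, smul_comm g p v] at h1
      have hgv : g • v = v := sub_eq_zero.mp (hpV _ (by rw [smul_sub, h1, sub_self]))
      refine ⟨hgv, ?_⟩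
      rw [smul_add, hgv] at hg
      exact add_left_cancel hg
    have e1 : stabilizer P (v + w) = stabilizer P v := Subgroup.eq_of_le_of_card_ge
      (fun g hg => (hle g hg).1) (hconst v _ hv hvw).le
    have e2 : stabilizer P (v + w) = stabilizer P w := Subgroup.eq_of_le_of_card_ge
      (fun g hg => (hle g hg).2) (hconst w _ hw hvw).le
    refine hw (hindep a haE b hbE hab hb1 w ?_ hbw)
    have hm : a ∈ stabilizer P v := hav
    rw [← e1, e2] at hm
    exact hm
  refine ⟨hcyc, fun g hg u hu => ?_⟩
  -- a power of `g` is central of order `p`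
  obtain ⟨k, hk⟩ := IsPGroup.iff_orderOf.mp hP g
  have hk0 : k ≠ 0 := fun h => hg (orderOf_eq_one_iff.mp (by rw [hk, h, pow_zero]))
  set z := g ^ p ^ (k - 1) with hz
  have hzp : z ^ p = 1 := by
    rw [hz, ← pow_mul, ← pow_succ, show k - 1 + 1 = k by omega, ← hk, pow_orderOf_eq_one]
  have hz1 : z ≠ 1 := fun h => by
    have := orderOf_dvd_of_pow_eq_one h
    rw [hk, Nat.pow_dvd_pow_iff_le_right (Fact.out : p.Prime).one_lt] at this
    omega
  refine hcen z hzp hz1 (fun x => (IsCyclic.commGroup (α := P)).mul_comm x z) u ?_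
  have hg' : g ∈ stabilizer P u := hu
  exact pow_mem hg' _

end CfsgLib.Perm.HalfTransOdd
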