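import Cfsg.Agent.Lib.Perm.Basic
import Mathlib.GroupTheory.GroupAction.MultiplePrimitivity
import Mathlib.GroupTheory.GroupAction.FixingSubgroup

/-!
Induction tools for multiple transitivity.
-/

set_option autoImplicit false

namespace CfsgLib.Perm

open MulAction SubMulAction

variable {G : Type*} [Group G] {α : Type*} [MulAction G α]

/-- If all point stabilizers are transitive on the remaining points and there are at least
three points, then the action is transitive. -/
theorem isPretransitive_of_stabilizers (h3 : 3 ≤ Nat.card α)
    (h : ∀ a : α, IsPretransitive (stabilizer G a) (ofStabilizer G a)) : IsPretransitive G α := by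
  have : Finite α := Nat.finite_of_card_ne_zero (by omega)
  classical
  constructor
  intro a b
  obtain ⟨c, hca, hcb⟩ : ∃ c : α, c ≠ a ∧ c ≠ b := by
    by_contra hc
    push Not at hc
    have : (Set.univ : Set α) ⊆ {a, b} := fun x _ => by
      by_cases hx : x = a
      · exact Or.inl hx
      · exact Or.inr (hc x hx)
    have h1 := Set.ncard_le_ncard this
    have h2 : ({a, b} : Set α).ncard ≤ 2 := by
      refine (Set.ncard_insert_le _ _).trans ?_
      rw [Set.ncard_singleton]
    rw [Set.ncard_univ] at h1
    omega
  obtain ⟨g, hg⟩ := (h c).exists_smul_eq ⟨a, fun e => hca (Set.mem_singleton_iff.mp e).symm⟩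
    ⟨b, fun e => hcb (Set.mem_singleton_iff.mp e).symm⟩
  exact ⟨g, congrArg Subtype.val hg⟩

/-- Multiple transitivity from the multiple transitivity of all point stabilizers. -/
theorem isMultiplyPretransitive_succ_of_stabilizers {k : ℕ} (hk : 1 ≤ k)
    (hcard : k + 2 ≤ Nat.card α)
    (h : ∀ a : α, IsMultiplyPretransitive (stabilizer G a) (ofStabilizer G a) k) :
    IsMultiplyPretransitive G α (k + 1) := by
  have : Finite α := Nat.finite_of_card_ne_zero (by omega)
  have ht : IsPretransitive G α := by
    refine isPretransitive_of_stabilizers (by omega) fun a => ?_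
    rw [← is_one_pretransitive_iff]
    have := h a
    apply isMultiplyPretransitive_of_le (n := k) hk
    have := nat_card_ofStabilizer_add_one_eq G a
    omega
  obtain ⟨a⟩ : Nonempty α := Nat.card_pos_iff.mp (by omega) |>.1
  exact (ofStabilizer.isMultiplyPretransitive (a := a)).mpr (h a)

/-- Multiple transitivity from a transitive group with one multiply transitive stabilizer. -/
theorem isMultiplyPretransitive_succ [IsPretransitive G α] {k : ℕ} (a : α)
    (h : IsMultiplyPretransitive (stabilizer G a) (ofStabilizer G a) k) :
    IsMultiplyPretransitive G α (k + 1) :=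
  (ofStabilizer.isMultiplyPretransitive (a := a)).mpr h

/-- The image in `α` of a set of points of `ofStabilizer G a`, together with `a`. -/
theorem fixingSubgroup_insert_card [Finite G] (a : α) (t : Set (ofStabilizer G a)) :
    Nat.card (fixingSubgroup (stabilizer G a) t) =
      Nat.card (fixingSubgroup G (insert a (Subtype.val '' t))) :=
  Nat.card_congr (fixingSubgroupInsertEquiv a t).toEquiv.symm

end CfsgLib.Perm
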