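import Cfsg.Agent.Lib.Perm.Basic
import Cfsg.Agent.Lib.Perm.Multi
import Mathlib.GroupTheory.GroupAction.MultiplePrimitivity
import Mathlib.GroupTheory.PGroup
import Mathlib.GroupTheory.Perm.Cycle.Type

/-!
Regular normal subgroups of two-transitive, two-primitive and three-primitive groups.
-/

set_option autoImplicit false

namespace CfsgLib.Perm

open MulAction SubMulAction

open scoped Pointwise

variable {G : Type*} [Group G] {X : Type*} [MulAction G X]

/-- In a preprimitive action an equivariant involution that moves a point forces degree two. -/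
theorem natCard_eq_two_of_equivariant_involution [IsPreprimitive G X] (f : X → X)
    (hf : ∀ (g : G) (x : X), f (g • x) = g • f x) (hff : ∀ x, f (f x) = x) {x : X} (hx : f x ≠ x) :
    Nat.card X = 2 := by
  have hB : IsBlock G ({x, f x} : Set X) := by
    rw [isBlock_iff_smul_eq_of_mem]
    intro g y hy hgy
    have himg : g • ({x, f x} : Set X) = {g • x, f (g • x)} := by
      rw [Set.smul_set_insert, Set.smul_set_singleton, hf]
    rw [himg]
    have hgx : g • x = x ∨ g • x = f x := by
      rcases hy with rfl | rfl <;> rcases hgy with h | h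
      · exact Or.inl h
      · exact Or.inr h
      · exact Or.inr (by rw [← hff (g • x), hf, h])
      · refine Or.inl ?_
        have := congrArg f (Set.mem_singleton_iff.mp h)
        rw [hf, hff] at this
        exact this
    rcases hgx with h | h <;> rw [h]
    rw [hff, Set.pair_comm]
  rcases hB.subsingleton_or_eq_univ with h | h
  · exact absurd (h (Or.inr rfl) (Or.inl rfl)) hx
  · rw [← Set.ncard_univ, ← h, Set.ncard_pair (Ne.symm hx)]

variable {N : Subgroup G} [hN : N.Normal]

theorem smul_regular_eq {a : X} {h : G} (ha : h • a = a) (n : N) :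
    h • ((n : G) • a) = ((⟨h * n * h⁻¹, hN.conj_mem _ n.2 h⟩ : N) : G) • a := by
  have : h⁻¹ • a = a := by rw [inv_smul_eq_iff, ha]
  simp only [mul_smul, this]

/-- A regular normal subgroup of a two-transitive group is elementary abelian. -/
theorem regular_normal_two_transitive [Finite X] (hX : 2 ≤ Nat.card X)
    (h2 : IsMultiplyPretransitive G X 2) (ht : IsPretransitive N X)
    (hreg : ∀ x : X, stabilizer N x = ⊥) :
    IsMulCommutative N ∧ ∃ p m : ℕ, p.Prime ∧ (∀ n ∈ N, n ^ p = 1) ∧ Nat.card X = p ^ m := by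
  haveI := ht
  obtain ⟨a⟩ : Nonempty X := (Nat.card_pos_iff.mp (by omega)).1
  have hcard := natCard_eq_of_regular (hreg a)
  haveI : Finite N := Finite.of_equiv _ (regularEquiv (hreg a)).symm
  have hinj : ∀ u v : N, (u : G) • a = (v : G) • a → u = v :=
    fun u v e => (regularEquiv (hreg a)).injective e
  have hne : ∀ u : N, u ≠ 1 → (u : G) • a ≠ a := fun u hu e => hu (hinj u 1 (by simpa using e))
  have hconj : ∀ u v : N, u ≠ 1 → v ≠ 1 → ∃ g : G, g * u * g⁻¹ = v := by
    intro u v hu hv
    obtain ⟨g, hga, hgu⟩ := exists_smul_pair h2 (Ne.symm (hne u hu)) (Ne.symm (hne v hv))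
    rw [smul_regular_eq hga] at hgu
    exact ⟨g, congrArg Subtype.val (hinj _ _ hgu)⟩
  haveI : Nontrivial N := Finite.one_lt_card_iff_nontrivial.mp (by omega)
  obtain ⟨u₀, hu₀⟩ := exists_ne (1 : N)
  set p := orderOf u₀ with hp
  have hord : ∀ v : N, v ≠ 1 → orderOf v = p := by
    intro v hv
    obtain ⟨g, hg⟩ := hconj u₀ v hu₀ hv
    rw [← Subgroup.orderOf_coe, ← hg, hp, ← Subgroup.orderOf_coe u₀]
    exact MulEquiv.orderOf_eq (MulAut.conj g) (u₀ : G)
  have hpp : p.Prime := by
    obtain ⟨q, hq, hqN⟩ := Nat.exists_prime_and_dvd (n := Nat.card N) (by omega)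
    haveI : Fact q.Prime := ⟨hq⟩
    obtain ⟨v, hv⟩ := exists_prime_orderOf_dvd_card' q hqN
    have : v ≠ 1 := fun e => by rw [e, orderOf_one] at hv; exact hq.ne_one hv.symm
    rw [← hord v this, hv]; exact hq
  haveI : Fact p.Prime := ⟨hpp⟩
  have hpow : ∀ v : N, v ^ p = 1 := fun v => by
    by_cases hv : v = 1
    · rw [hv, one_pow]
    · rw [← hord v hv]; exact pow_orderOf_eq_one v
  have hpg : IsPGroup p N := fun v => ⟨1, by rw [pow_one]; exact hpow v⟩
  have hcomm : IsMulCommutative N := by
    haveI := hpg.center_nontrivial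
    obtain ⟨z, hz⟩ := exists_ne (1 : Subgroup.center N)
    have hall : ∀ v : N, v ∈ Subgroup.center N := by
      intro v
      by_cases hv : v = 1
      · rw [hv]; exact Subgroup.one_mem _
      obtain ⟨g, hg⟩ := hconj z.1 v (fun e => hz (Subtype.ext e)) hv
      rw [Subgroup.mem_center_iff]
      intro w
      apply Subtype.ext
      have hw : g⁻¹ * (w : G) * g ∈ N := by
        have := hN.conj_mem _ w.2 g⁻¹
        simpa using this
      have h := congrArg Subtype.val (Subgroup.mem_center_iff.mp z.2 ⟨_, hw⟩)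
      simp only [Subgroup.coe_mul] at h ⊢
      rw [← hg]
      have h' := congrArg (fun x => g * x * g⁻¹) h
      simpa [mul_assoc] using h'
    exact ⟨⟨fun u v => (Subgroup.mem_center_iff.mp (hall v) u)⟩⟩
  obtain ⟨m, hm⟩ := IsPGroup.iff_card.mp hpg
  exact ⟨hcomm, p, m, hpp, fun n hn => congrArg Subtype.val (hpow ⟨n, hn⟩), hcard ▸ hm⟩

/-- A regular normal subgroup of a two-primitive group is an elementary abelian two-group unless
the degree is three. -/
theorem regular_normal_two_primitive [Finite X] (hX : 2 ≤ Nat.card X)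
    (h2 : IsMultiplyPreprimitive G X 2) (ht : IsPretransitive N X)
    (hreg : ∀ x : X, stabilizer N x = ⊥) :
    Nat.card X = 3 ∨ (IsMulCommutative N ∧ (∀ n ∈ N, n ^ 2 = 1) ∧ ∃ m : ℕ, Nat.card X = 2 ^ m) := by
  have h2t : IsMultiplyPretransitive G X 2 := IsMultiplyPreprimitive.isMultiplyPretransitive G X 2
  obtain ⟨hc, p, m, hp, hpow, hcard⟩ := regular_normal_two_transitive hX h2t ht hreg
  by_cases hp2 : p = 2
  · subst hp2; exact Or.inr ⟨hc, hpow, m, hcard⟩
  left
  haveI := ht
  haveI := isPretransitive_of_is_two_pretransitive (h2 := h2t)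
  obtain ⟨a⟩ : Nonempty X := (Nat.card_pos_iff.mp (by omega)).1
  have : IsPreprimitive (stabilizer G a) (ofStabilizer G a) := by
    rw [← is_one_preprimitive_iff]
    exact isMultiplyPreprimitive_ofStabilizer G X
  let φ := regularEquiv (hreg a)
  have hφ : ∀ n : N, φ n = (n : G) • a := fun n => rfl
  have hmem : ∀ x : ofStabilizer G a, φ (φ.symm (x : X))⁻¹ ≠ a := by
    intro x e
    apply x.2
    rw [Set.mem_singleton_iff]
    have h1 : φ 1 = a := one_smul _ a
    have h2' := φ.injective (e.trans h1.symm)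
    rw [inv_eq_one, Equiv.symm_apply_eq] at h2'
    rw [h2', h1]
  let f : ofStabilizer G a → ofStabilizer G a := fun x => ⟨φ (φ.symm (x : X))⁻¹, hmem x⟩
  have key : ∀ (g : stabilizer G a) (x : X), φ.symm ((g : G) • x) =
      ⟨(g : G) * φ.symm x * (g : G)⁻¹, hN.conj_mem _ (φ.symm x).2 _⟩ := by
    intro g x
    rw [Equiv.symm_apply_eq, hφ, ← smul_regular_eq (a := a) g.2, ← hφ, Equiv.apply_symm_apply]
  have hf : ∀ (g : stabilizer G a) x, f (g • x) = g • f x := by
    intro g x
    apply Subtype.ext
    show φ (φ.symm ((g : G) • (x : X)))⁻¹ = (g : G) • φ (φ.symm (x : X))⁻¹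
    rw [key, hφ, hφ, smul_regular_eq (a := a) g.2]
    simp only [Subgroup.coe_inv, mul_inv_rev, inv_inv, mul_assoc]
  have hff : ∀ x, f (f x) = x := by
    intro x; apply Subtype.ext
    show φ (φ.symm (φ (φ.symm (x : X))⁻¹))⁻¹ = x
    simp
  obtain ⟨x, hx⟩ : ∃ x : X, x ≠ a := by
    haveI : Nontrivial X := Finite.one_lt_card_iff_nontrivial.mp (by omega)
    exact exists_ne a
  have hfx : f ⟨x, by simpa [mem_ofStabilizer_iff] using hx⟩ ≠ ⟨x, by simpa [mem_ofStabilizer_iff] using hx⟩ := by
    intro e
    have e' : φ (φ.symm x)⁻¹ = x := congrArg Subtype.val e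
    set u := φ.symm x with hu
    have h1 : u⁻¹ = u := φ.injective (by rw [e', hu, Equiv.apply_symm_apply])
    have h2' : u ^ 2 = 1 := by rw [pow_two]; nth_rewrite 1 [← h1]; exact inv_mul_cancel u
    have hu1 : u ≠ 1 := fun e1 => hx (by rw [← φ.apply_symm_apply x, ← hu, e1]; exact one_smul _ a)
    apply hp2
    haveI : Fact p.Prime := ⟨hp⟩
    have h3 : orderOf u = p := orderOf_eq_prime (Subtype.ext (by simpa using hpow u u.2)) hu1
    have h4 := orderOf_dvd_of_pow_eq_one h2'
    rw [h3] at h4
    exact (Nat.prime_dvd_prime_iff_eq hp Nat.prime_two).mp h4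
  have h3 := natCard_eq_two_of_equivariant_involution f hf hff hfx
  have := nat_card_ofStabilizer_add_one_eq G a
  omega

/-- A three-primitive group with a regular normal subgroup has degree three or four. -/
theorem regular_normal_three_primitive [Finite X] (hX : 3 ≤ Nat.card X)
    (h3 : IsMultiplyPreprimitive G X 3) (ht : IsPretransitive N X)
    (hreg : ∀ x : X, stabilizer N x = ⊥) : Nat.card X = 3 ∨ Nat.card X = 4 := by
  have hE : (3 : ℕ∞) ≤ ENat.card X := by
    rw [ENat.card_eq_coe_natCard]; exact_mod_cast hX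
  have h2 : IsMultiplyPreprimitive G X 2 := isMultiplyPreprimitive_of_le G X h3 (by omega) hE
  rcases regular_normal_two_primitive (by omega) h2 ht hreg with h | ⟨hc, hsq, -⟩
  · exact Or.inl h
  right
  haveI := ht
  haveI := isPretransitive_of_is_two_pretransitive (h2 := IsMultiplyPreprimitive.isMultiplyPretransitive G X 2)
  obtain ⟨a⟩ : Nonempty X := (Nat.card_pos_iff.mp (by omega)).1
  have h2' : IsMultiplyPreprimitive (stabilizer G a) (ofStabilizer G a) 2 :=
    isMultiplyPreprimitive_ofStabilizer G X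
  haveI := isPretransitive_of_is_two_pretransitive
    (h2 := IsMultiplyPreprimitive.isMultiplyPretransitive (stabilizer G a) (ofStabilizer G a) 2)
  have hcA := nat_card_ofStabilizer_add_one_eq G a
  obtain ⟨y⟩ : Nonempty (ofStabilizer G a) := (Nat.card_pos_iff.mp (by omega)).1
  have : IsPreprimitive (stabilizer (stabilizer G a) y) (ofStabilizer (stabilizer G a) y) := by
    rw [← is_one_preprimitive_iff]
    exact isMultiplyPreprimitive_ofStabilizer _ _
  let φ := regularEquiv (hreg a)
  have hφ : ∀ n : N, φ n = (n : G) • a := fun n => rfl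
  set u := φ.symm (y : X) with hu
  have hu1 : u ≠ 1 := fun e => y.2 (by
    rw [Set.mem_singleton_iff, ← φ.apply_symm_apply (y : X), ← hu, e]; exact one_smul _ a)
  have huu : ∀ v : N, u * (u * v) = v := by
    intro v
    rw [← mul_assoc, ← pow_two, show u ^ 2 = 1 from Subtype.ext (by simpa using hsq u u.2), one_mul]
  have hmem1 : ∀ x : ofStabilizer (stabilizer G a) y, φ (u * φ.symm ((x : ofStabilizer G a) : X)) ≠ a := by
    intro x e
    apply x.2
    rw [Set.mem_singleton_iff]
    apply Subtype.ext
    have h1 : φ 1 = a := one_smul _ a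
    have e' := φ.injective (e.trans h1.symm)
    have : φ.symm ((x : ofStabilizer G a) : X) = u := by
      rw [← huu (φ.symm _), e', mul_one]
    exact φ.symm.injective (this.trans hu)
  have hmem2 : ∀ x : ofStabilizer (stabilizer G a) y,
      (⟨_, hmem1 x⟩ : ofStabilizer G a) ≠ y := by
    intro x e
    have e' : φ (u * φ.symm ((x : ofStabilizer G a) : X)) = (y : X) := congrArg Subtype.val e
    rw [← φ.apply_symm_apply (y : X)] at e'
    have e'' := φ.injective e'
    rw [← hu, mul_eq_left, Equiv.symm_apply_eq] at e''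
    exact (x : ofStabilizer G a).2 (by rw [Set.mem_singleton_iff, e'']; exact one_smul _ a)
  let f : ofStabilizer (stabilizer G a) y → ofStabilizer (stabilizer G a) y :=
    fun x => ⟨⟨_, hmem1 x⟩, hmem2 x⟩
  have key : ∀ (g : stabilizer G a) (x : X), φ.symm ((g : G) • x) =
      ⟨(g : G) * φ.symm x * (g : G)⁻¹, hN.conj_mem _ (φ.symm x).2 _⟩ := by
    intro g x
    rw [Equiv.symm_apply_eq, hφ, ← smul_regular_eq (a := a) g.2, ← hφ, Equiv.apply_symm_apply]
  have hf : ∀ (g : stabilizer (stabilizer G a) y) x, f (g • x) = g • f x := by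
    intro g x
    apply Subtype.ext; apply Subtype.ext
    show φ (u * φ.symm (((g : stabilizer G a) : G) • ((x : ofStabilizer G a) : X))) =
      ((g : stabilizer G a) : G) • φ (u * φ.symm ((x : ofStabilizer G a) : X))
    have hgu : ((g : stabilizer G a) : G) * u * ((g : stabilizer G a) : G)⁻¹ = u := by
      have h1 : ((g : stabilizer G a) : G) • (y : X) = (y : X) := congrArg Subtype.val g.2
      have h2 := key (g : stabilizer G a) (y : X)
      rw [h1] at h2
      exact (congrArg Subtype.val h2).symm
    rw [key, hφ, hφ, smul_regular_eq (a := a) (g : stabilizer G a).2]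
    simp only [Subgroup.coe_mul]
    conv_lhs => rw [← hgu]
    simp [mul_assoc]
  have hff : ∀ x, f (f x) = x := by
    intro x; apply Subtype.ext; apply Subtype.ext
    show φ (u * φ.symm (φ (u * φ.symm ((x : ofStabilizer G a) : X)))) = _
    rw [Equiv.symm_apply_apply, huu, Equiv.apply_symm_apply]
  have hcB := nat_card_ofStabilizer_add_one_eq (stabilizer G a) y
  obtain ⟨x⟩ : Nonempty (ofStabilizer (stabilizer G a) y) := (Nat.card_pos_iff.mp (by omega)).1
  have hfx : f x ≠ x := by
    intro e
    have e' : φ (u * φ.symm ((x : ofStabilizer G a) : X)) = ((x : ofStabilizer G a) : X) :=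
      congrArg (fun z : ofStabilizer (stabilizer G a) y => ((z : ofStabilizer G a) : X)) e
    rw [← Equiv.eq_symm_apply, mul_eq_right] at e'
    exact hu1 e'
  have h4 := natCard_eq_two_of_equivariant_involution f hf hff hfx
  omega

end CfsgLib.Perm
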