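import Cfsg.Agent.Lib.Perm.Basic
import Mathlib.GroupTheory.PGroup
import Mathlib.GroupTheory.Sylow
import Mathlib.GroupTheory.GroupAction.ConjAct

/-!
Finite sharply two-transitive groups: the fixed point free elements with the identity form a
regular normal elementary abelian subgroup.
-/

set_option autoImplicit false

namespace CfsgLib.Perm

open MulAction

variable {α : Type*} [Fintype α] [DecidableEq α]

theorem eq_one_of_fix_two (G : Subgroup (Equiv.Perm α))
    (hsharp : ∀ x : Fin 2 ↪ α, stabilizer G x = ⊥) {g : G} {a b : α} (hab : a ≠ b)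
    (ha : g • a = a) (hb : g • b = b) : g = 1 := by
  have h := hsharp ⟨![a, b], fun i j e => by fin_cases i <;> fin_cases j <;> simp_all⟩
  rw [← Subgroup.mem_bot, ← h, mem_stabilizer_iff]
  ext i
  fin_cases i <;> assumption

theorem sharply_two_structure (G : Subgroup (Equiv.Perm α))
    (h2t : IsMultiplyPretransitive G α 2) (hsharp : ∀ x : Fin 2 ↪ α, stabilizer G x = ⊥)
    (h2 : 2 ≤ Fintype.card α) :
    ∃ (T : Subgroup G) (p j : ℕ), p.Prime ∧ 1 ≤ j ∧ Fintype.card α = p ^ j ∧ T.Normal ∧
      IsMulCommutative T ∧ (∀ x ∈ T, x ^ p = 1) ∧ IsPretransitive T α ∧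
      (∀ a : α, stabilizer T a = ⊥) ∧ (∀ g : G, g ∈ T ↔ g = 1 ∨ ∀ a : α, g • a ≠ a) ∧
      Nat.card T = Fintype.card α ∧ Nat.card G = Fintype.card α * (Fintype.card α - 1) := by
  classical
  haveI := isPretransitive_of_is_two_pretransitive (h2 := h2t)
  haveI := Fintype.ofFinite G
  set n := Fintype.card α with hn
  have hstab : ∀ a : α, (Finset.univ.filter fun g : G => g • a = a).card = n - 1 := by
    intro a
    obtain ⟨b, hb⟩ := Fintype.exists_ne_of_one_lt_card h2 a
    rw [show n - 1 = (Finset.univ.erase a).card by rw [Finset.card_erase_of_mem (Finset.mem_univ a), Finset.card_univ]]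
    refine Finset.card_bij (fun g _ => g • b) (fun g hg => ?_) (fun g hg k hk e => ?_) (fun c hc => ?_)
    · rw [Finset.mem_filter] at hg
      rw [Finset.mem_erase]
      exact ⟨fun e => hb (MulAction.injective g (e.trans hg.2.symm)), Finset.mem_univ _⟩
    · rw [Finset.mem_filter] at hg hk
      have : k⁻¹ * g = 1 := by
        refine eq_one_of_fix_two G hsharp (Ne.symm hb) ?_ ?_
        · rw [mul_smul, hg.2, inv_smul_eq_iff, hk.2]
        · rw [mul_smul, e, inv_smul_smul]
      exact (inv_mul_eq_one.mp this).symm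
    · rw [Finset.mem_erase] at hc
      obtain ⟨g, hga, hgb⟩ := exists_smul_pair h2t (Ne.symm hb) (Ne.symm hc.1)
      exact ⟨g, by simp [hga], hgb⟩
  have hG : Nat.card G = n * (n - 1) := by
    obtain ⟨a⟩ : Nonempty α := Fintype.card_pos_iff.mp (by omega)
    rw [natCard_eq_mul_stabilizer a, Nat.card_eq_fintype_card (α := α), ← hn, ← hstab a,
      Nat.card_eq_fintype_card, Fintype.card_subtype]
    rfl
  set D : Finset G := Finset.univ.filter fun g => ∀ a : α, g • a ≠ a with hDdef
  have hmemD : ∀ g : G, g ∈ D ↔ ∀ a : α, g • a ≠ a := fun g => by simp [hDdef]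
  let F : α → Finset G := fun a => (Finset.univ.filter fun g : G => g • a = a).erase 1
  have hF : ∀ a, (F a).card = n - 2 := by
    intro a
    rw [Finset.card_erase_of_mem (by simp), hstab]
    omega
  have hD : D.card = n - 1 := by
    have hpart : (Finset.univ.erase (1 : G)) = D ∪ Finset.univ.biUnion F := by
      ext g
      simp only [Finset.mem_erase, Finset.mem_univ, and_true, Finset.mem_union, Finset.mem_biUnion,
        true_and, hmemD, F, Finset.mem_filter]
      constructor
      · intro hg
        by_cases h : ∀ a : α, g • a ≠ a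
        · exact Or.inl h
        · push Not at h
          obtain ⟨a, ha⟩ := h
          exact Or.inr ⟨a, hg, ha⟩
      · rintro (h | ⟨a, hg, -⟩)
        · intro e
          obtain ⟨a⟩ : Nonempty α := Fintype.card_pos_iff.mp (by omega)
          exact h a (by rw [e, one_smul])
        · exact hg
    have hdisj : Disjoint D (Finset.univ.biUnion F) := by
      rw [Finset.disjoint_left]
      intro g hg hg'
      simp only [Finset.mem_biUnion, Finset.mem_univ, true_and, F, Finset.mem_erase, Finset.mem_filter] at hg'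
      obtain ⟨a, -, ha⟩ := hg'
      exact (hmemD g).mp hg a ha
    have hpd : ∀ a ∈ (Finset.univ : Finset α), ∀ b ∈ (Finset.univ : Finset α), a ≠ b → Disjoint (F a) (F b) := by
      intro a _ b _ hab
      rw [Finset.disjoint_left]
      intro g hg hg'
      simp only [F, Finset.mem_erase, Finset.mem_filter, Finset.mem_univ, true_and] at hg hg'
      exact hg.1 (eq_one_of_fix_two G hsharp hab hg.2 hg'.2)
    have h1 := congrArg Finset.card hpart
    rw [Finset.card_union_of_disjoint hdisj, Finset.card_biUnion (fun a ha b hb hab => hpd a ha b hb hab)] at h1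
    simp only [hF, Finset.sum_const, smul_eq_mul, Finset.card_univ] at h1
    rw [Finset.card_erase_of_mem (Finset.mem_univ _), Finset.card_univ, ← Nat.card_eq_fintype_card, hG, ← hn] at h1
    obtain ⟨m, hm⟩ : ∃ m, n = m + 2 := ⟨n - 2, by omega⟩
    rw [hm] at h1 ⊢
    simp only [Nat.add_sub_cancel, show m + 2 - 1 = m + 1 by omega] at h1 ⊢
    have h4 : (m + 2) * (m + 1) = (m + 2) * m + (m + 2) := Nat.mul_succ _ _
    omega
  have hconjD : ∀ (g x : G), x ∈ D → g * x * g⁻¹ ∈ D := by
    intro g x hx
    rw [hmemD] at hx ⊢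
    intro a ha
    apply hx (g⁻¹ • a)
    rw [mul_smul, mul_smul] at ha
    rw [eq_inv_smul_iff, ha]
  have key : ∀ x ∈ D, (∀ g : G, g ∈ Subgroup.centralizer {x} ↔ g = 1 ∨ g ∈ D) ∧
      ∀ y ∈ D, ∃ g : G, g * x * g⁻¹ = y := by
    intro x hx
    set C : Finset G := Finset.univ.filter fun g => g ∈ Subgroup.centralizer {x}
    have hCsub : C ⊆ insert 1 D := by
      intro g hg
      simp only [C, Finset.mem_filter, Finset.mem_univ, true_and, Subgroup.mem_centralizer_singleton_iff] at hg
      rw [Finset.mem_insert, hmemD]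
      by_cases h : ∀ a : α, g • a ≠ a
      · exact Or.inr h
      · push Not at h
        obtain ⟨a, ha⟩ := h
        refine Or.inl (eq_one_of_fix_two G hsharp (Ne.symm ((hmemD x).mp hx a)) ha ?_)
        rw [← mul_smul, hg, mul_smul, ha]
    let O : Finset G := Finset.univ.image fun g : G => g * x * g⁻¹
    have hOsub : O ⊆ D := by
      intro y hy
      obtain ⟨g, -, rfl⟩ := Finset.mem_image.mp hy
      exact hconjD g x hx
    have hcount : O.card * C.card = Nat.card G := by
      have h := Finset.card_eq_sum_card_fiberwise (f := fun g : G => g * x * g⁻¹)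
        (s := (Finset.univ : Finset G)) (t := O) (fun g _ => Finset.mem_coe.mpr (Finset.mem_image_of_mem _ (Finset.mem_univ g)))
      rw [Finset.card_univ, ← Nat.card_eq_fintype_card] at h
      rw [h, Finset.sum_const_nat]
      intro y hy
      obtain ⟨g₀, -, rfl⟩ := Finset.mem_image.mp hy
      refine Finset.card_bij (fun g _ => g₀⁻¹ * g) (fun g hg => ?_) (fun _ _ _ _ e => mul_left_cancel e)
        (fun c hc => ⟨g₀ * c, ?_, by group⟩)
      · simp only [Finset.mem_filter, Finset.mem_univ, true_and, C, Subgroup.mem_centralizer_singleton_iff] at hg ⊢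
        have h' : g₀⁻¹ * (g * x * g⁻¹) * g = g₀⁻¹ * (g₀ * x * g₀⁻¹) * g := by rw [hg]
        simpa [mul_assoc] using h'
      · simp only [Finset.mem_filter, Finset.mem_univ, true_and, C, Subgroup.mem_centralizer_singleton_iff] at hc ⊢
        rw [show g₀ * c * x * (g₀ * c)⁻¹ = g₀ * (c * x) * c⁻¹ * g₀⁻¹ by group, hc]
        group
    have h1D : (1 : G) ∉ D := by
      rw [hmemD]; intro h
      obtain ⟨a⟩ : Nonempty α := Fintype.card_pos_iff.mp (by omega)
      exact h a (one_smul _ a)
    have hins : (insert 1 D).card = n := by rw [Finset.card_insert_of_notMem h1D, hD]; omega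
    have h3 := Finset.card_le_card hCsub
    have h4 := Finset.card_le_card hOsub
    rw [hins] at h3
    rw [hD] at h4
    rw [hG] at hcount
    have hC : C.card = n := by
      by_contra hne
      have h5 : O.card * C.card ≤ (n - 1) * C.card := Nat.mul_le_mul_right _ h4
      have h6 : (n - 1) * C.card < (n - 1) * n :=
        Nat.mul_lt_mul_of_pos_left (lt_of_le_of_ne h3 hne) (by omega)
      rw [Nat.mul_comm (n - 1) n] at h6
      omega
    have hOc : O.card = n - 1 := by
      rw [hC, Nat.mul_comm n (n - 1)] at hcount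
      exact Nat.eq_of_mul_eq_mul_right (by omega) hcount
    have hCeq := Finset.eq_of_subset_of_card_le hCsub (by rw [hins, hC])
    have hOeq := Finset.eq_of_subset_of_card_le hOsub (by rw [hD, hOc])
    refine ⟨fun g => ?_, fun y hy => ?_⟩
    · have h7 := Finset.ext_iff.mp hCeq g
      simpa [C] using h7
    · rw [← hOeq] at hy
      obtain ⟨g, -, rfl⟩ := Finset.mem_image.mp hy
      exact ⟨g, rfl⟩
  obtain ⟨x₀, hx₀⟩ : D.Nonempty := Finset.card_pos.mp (by omega)
  set T := Subgroup.centralizer ({x₀} : Set G) with hT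
  have hTmem : ∀ g : G, g ∈ T ↔ g = 1 ∨ g ∈ D := (key x₀ hx₀).1
  have hTn : T.Normal := ⟨fun t ht g => by
    rw [hTmem] at ht ⊢
    rcases ht with rfl | ht
    · left; group
    · exact Or.inr (hconjD g t ht)⟩
  have hTc : ∀ x ∈ T, ∀ y ∈ T, x * y = y * x := by
    intro x hx y hy
    rcases (hTmem x).mp hx with rfl | hxD
    · simp
    · have : y ∈ Subgroup.centralizer {x} := ((key x hxD).1 y).mpr ((hTmem y).mp hy)
      exact (Subgroup.mem_centralizer_singleton_iff.mp this).symm
  have hTord : ∀ x ∈ D, orderOf x = orderOf x₀ := by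
    intro x hx
    obtain ⟨g, rfl⟩ := (key x₀ hx₀).2 x hx
    exact MulEquiv.orderOf_eq (MulAut.conj g) x₀
  set p := orderOf x₀ with hpdef
  have hx1 : x₀ ≠ 1 := by
    intro e
    obtain ⟨a⟩ : Nonempty α := Fintype.card_pos_iff.mp (by omega)
    exact (hmemD _).mp hx₀ a (by rw [e, one_smul])
  have hp1 : p ≠ 1 := by rw [hpdef, ne_eq, orderOf_eq_one_iff]; exact hx1
  have hp0 : 0 < p := orderOf_pos x₀
  have hp : p.Prime := by
    by_contra hnp
    obtain ⟨q, hq, hqp⟩ := Nat.exists_prime_and_dvd hp1
    have hord : orderOf (x₀ ^ (p / q)) = q := by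
      rw [orderOf_pow' _ (Nat.div_pos (Nat.le_of_dvd hp0 hqp) hq.pos).ne', ← hpdef,
        Nat.gcd_eq_right (Nat.div_dvd_of_dvd hqp), Nat.div_div_self hqp hp0.ne']
    have hmem : x₀ ^ (p / q) ∈ T := T.pow_mem ((hTmem x₀).mpr (Or.inr hx₀)) _
    rcases (hTmem _).mp hmem with h | h
    · rw [h, orderOf_one] at hord; exact hq.one_lt.ne hord
    · exact hnp (((hTord _ h).symm.trans hord) ▸ hq)
  have hTp : ∀ x ∈ T, x ^ p = 1 := by
    intro x hx
    rcases (hTmem x).mp hx with rfl | h
    · exact one_pow p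
    · rw [← hTord x h]; exact pow_orderOf_eq_one x
  have hTcard : Nat.card T = n := by
    rw [Nat.card_eq_fintype_card, Fintype.card_of_subtype (insert 1 D) (fun g => by
      rw [Finset.mem_insert]; exact (hTmem g).symm)]
    rw [Finset.card_insert_of_notMem, hD]
    · omega
    · rw [hmemD]; intro h
      obtain ⟨a⟩ : Nonempty α := Fintype.card_pos_iff.mp (by omega)
      exact h a (one_smul _ a)
  have hTreg : ∀ a : α, stabilizer T a = ⊥ := by
    intro a
    rw [Subgroup.eq_bot_iff_forall]
    rintro ⟨g, hg⟩ hga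
    rcases (hTmem g).mp hg with rfl | h
    · rfl
    · exact absurd hga ((hmemD g).mp h a)
  have hTt : IsPretransitive T α := by
    obtain ⟨a⟩ : Nonempty α := Fintype.card_pos_iff.mp (by omega)
    rw [isPretransitive_iff_orbit_eq_univ a]
    apply Set.eq_of_subset_of_ncard_le (Set.subset_univ _)
    rw [Set.ncard_univ, Nat.card_eq_fintype_card, ← index_stabilizer, hTreg, Subgroup.index_bot, hTcard]
  haveI : Fact p.Prime := ⟨hp⟩
  have hpg : IsPGroup p T := fun x => ⟨1, Subtype.ext (by simpa using hTp x x.2)⟩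
  obtain ⟨j, hj⟩ := IsPGroup.iff_card.mp hpg
  rw [hTcard] at hj
  refine ⟨T, p, j, hp, ?_, hj, hTn, ⟨⟨fun x y => Subtype.ext (hTc x x.2 y y.2)⟩⟩, hTp, hTt, hTreg,
    fun g => by rw [hTmem, hmemD], hTcard, hG⟩
  rcases Nat.eq_zero_or_pos j with rfl | h
  · simp at hj; omega
  · exact h

end CfsgLib.Perm
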