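import Cfsg.Agent.Lib.Perm.ZassenhausOddBound
import Cfsg.Agent.Lib.Perm.RegularNormal
import Cfsg.Agent.Lib.Perm.SharplyTwo
import Cfsg.Agent.S0739

/-!
Zassenhaus groups with abelian kernel and odd two point stabiliser: `q - 1 ≤ 2 h`.
-/

set_option autoImplicit false

namespace CfsgLib.Perm

open MulAction

universe u v

section Unique

variable {G : Type u} {Ω : Type v} [Group G] [Finite G] [MulAction G Ω] [FaithfulSMul G Ω] [Finite Ω]

/-- A two-transitive group has at most one regular normal subgroup. -/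
theorem regular_normal_unique (hΩ : 2 ≤ Nat.card Ω) (h2 : IsMultiplyPretransitive G Ω 2)
    (R R' : Subgroup G) [R.Normal] [R'.Normal] (ht : IsPretransitive R Ω)
    (hreg : ∀ x : Ω, stabilizer R x = ⊥) (ht' : IsPretransitive R' Ω)
    (hreg' : ∀ x : Ω, stabilizer R' x = ⊥) : R = R' := by
  obtain ⟨a⟩ : Nonempty Ω := (Nat.card_pos_iff.mp (by omega)).1
  obtain ⟨hc, -⟩ := regular_normal_two_transitive (G := G) (N := R) hΩ h2 ht hreg
  haveI := ht
  haveI := ht'
  have hcard : Nat.card R = Nat.card R' := by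
    rw [natCard_eq_of_regular (hreg a), natCard_eq_of_regular (hreg' a)]
  have hfree : ∀ u ∈ R, u • a = a → u = 1 := by
    intro u hu e
    have : (⟨u, hu⟩ : R) ∈ stabilizer R a := e
    rw [hreg a, Subgroup.mem_bot] at this
    exact congrArg Subtype.val this
  by_cases hcap : ∃ u ∈ R, u ∈ R' ∧ u ≠ 1
  · obtain ⟨u, hu, hu', hu1⟩ := hcap
    haveI : Finite R' := Subtype.finite
    refine Subgroup.eq_of_le_of_card_ge (fun v hv => ?_) hcard.ge
    by_cases hv1 : v = 1
    · rw [hv1]; exact one_mem _
    obtain ⟨g, hga, hgu⟩ := exists_smul_pair h2 (a := a) (b := u • a) (c := a) (d := v • a)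
      (fun e => hu1 (hfree u hu e.symm)) (fun e => hv1 (hfree v hv e.symm))
    have e : g * u * g⁻¹ = v := by
      refine inv_mul_eq_one.mp (hfree _ (mul_mem (inv_mem (Subgroup.Normal.conj_mem ‹_› u hu g)) hv) ?_)
      have hga' : g⁻¹ • a = a := by rw [inv_smul_eq_iff, hga]
      have e1 : (g * u * g⁻¹) • a = v • a := by rw [mul_smul, mul_smul, hga', hgu]
      rw [mul_smul, ← e1, inv_smul_smul]
    rw [← e]
    exact Subgroup.Normal.conj_mem ‹_› u hu' g
  · exfalso
    push Not at hcap
    have hdis : Disjoint R R' := Subgroup.disjoint_def.mpr fun {x} hx hx' => hcap x hx hx'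
    have htriv : ∀ v ∈ R', v • a = a := by
      intro v hv
      obtain ⟨⟨u, hu⟩, e⟩ := exists_smul_eq R a (v • a)
      have e' : u • a = v • a := e
      have hw : ∀ x ∈ R, Commute (u⁻¹ * v) x := fun x hx =>
        ((show Commute u x from congrArg Subtype.val (hc.is_comm.comm ⟨u, hu⟩ ⟨x, hx⟩)).inv_left).mul_left
          (Subgroup.commute_of_normal_of_disjoint R R' ‹_› ‹_› hdis x v hx hv).symm
      have hw1 : u⁻¹ * v = 1 := by
        refine eq_of_smul_eq_smul fun y : Ω => ?_
        obtain ⟨⟨x, hx⟩, rfl⟩ := exists_smul_eq R a y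
        show (u⁻¹ * v) • x • a = (1 : G) • x • a
        rw [← mul_smul, (hw x hx).eq, mul_smul, mul_smul, ← e', inv_smul_smul, one_smul]
      have huv : u = v := inv_mul_eq_one.mp hw1
      have hv1 : v = 1 := hcap v (huv ▸ hu) hv
      rw [hv1, one_smul]
    obtain ⟨b, hb⟩ : ∃ b : Ω, b ≠ a := by
      haveI : Nontrivial Ω := Finite.one_lt_card_iff_nontrivial.mp (by omega)
      exact exists_ne a
    obtain ⟨⟨v, hv⟩, e⟩ := exists_smul_eq R' a b
    exact hb (e.symm.trans (htriv v hv))

end Unique

theorem abelian_kernel_bound_aux : ∀ N : ℕ, ∀ {G : Type u} [Group G] [Finite G] {Ω : Type v}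
    [MulAction G Ω] [Fintype Ω], Nat.card G = N → Cfsg.IsZassenhausGroup G Ω →
    ∀ (a b : Ω) (F : Subgroup G), a ≠ b → (∀ x ∈ F, x • a = a) →
    (∀ g : G, g • a = a → ∀ x ∈ F, g * x * g⁻¹ ∈ F) →
    (∀ x ∈ F, ∀ y ∈ F, x * y = y * x) →
    (∀ y z : Ω, y ≠ a → z ≠ a → ∃! u : F, (u : G) • y = z) →
    Odd (Nat.card (stabilizer G a ⊓ stabilizer G b : Subgroup G)) →
    OddKernel G Ω a b F ∧
      Nat.card F ≤ 2 * Nat.card (stabilizer G a ⊓ stabilizer G b : Subgroup G) + 1 := by
  intro N
  induction N using Nat.strong_induction_on with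
  | _ N ih =>
    intro G _ _ Ω _ _ hcard hZ a b F hab hFa hFn hFc hreg hodd
    classical
    obtain ⟨hf, h2t, h3, ⟨g₀, hg₀, c₀, d₀, hcd, hg₀c, hg₀d⟩, hreg'⟩ := hZ
    haveI := hf
    set H : Subgroup G := stabilizer G a ⊓ stabilizer G b with hH
    obtain ⟨k₀, hk₀, hk₀1⟩ : ∃ k ∈ H, k ≠ 1 := by
      obtain ⟨t, t1, t2⟩ := exists_smul_pair h2t hcd hab
      refine ⟨t * g₀ * t⁻¹, ⟨?_, ?_⟩, fun e => hg₀ (conj_eq_one_iff.mp e)⟩
      · show (t * g₀ * t⁻¹) • a = a
        rw [mul_smul, mul_smul, inv_smul_eq_iff.mpr t1.symm, hg₀c, t1]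
      · show (t * g₀ * t⁻¹) • b = b
        rw [mul_smul, mul_smul, inv_smul_eq_iff.mpr t2.symm, hg₀d, t2]
    obtain ⟨w, hwa, hwb⟩ : ∃ w : Ω, w ≠ a ∧ w ≠ b := by
      by_contra h
      push Not at h
      refine hk₀1 (eq_of_smul_eq_smul fun x : Ω => ?_)
      rw [one_smul]
      by_cases hx : x = a
      · rw [hx]; exact hk₀.1
      · rw [h x hx]; exact hk₀.2
    have hbig : 3 ≤ Fintype.card Ω := by
      have hc : ({a, b, w} : Finset Ω).card = 3 := by
        rw [Finset.card_insert_of_notMem (by simp [hab, Ne.symm hwa]), Finset.card_pair (Ne.symm hwb)]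
      exact hc ▸ Finset.card_le_univ _
    have h1H : 1 < Nat.card H := by
      refine Finite.one_lt_card_iff_nontrivial.mpr ⟨⟨⟨k₀, hk₀⟩, 1, fun e => hk₀1 (congrArg Subtype.val e)⟩⟩
    have hG := natCard_two_transitive (G := G) h2t hab
    rw [← hH] at hG
    obtain ⟨q, hq⟩ : ∃ q, q = Nat.card F := ⟨_, rfl⟩
    have hqn : q + 1 = Fintype.card Ω := by
      rw [hq]
      have e : Nat.card F = Nat.card {z : Ω // z ≠ a} := by
        refine Nat.card_eq_of_bijective (fun u => ⟨(u : G) • b, fun h => hab
          (MulAction.injective (u : G) ((hFa u u.2).trans h.symm))⟩) ⟨fun u v h => ?_, fun z => ?_⟩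
        · exact (hreg b ((v : G) • b) hab.symm (fun h' => hab (MulAction.injective (v : G)
            ((hFa v v.2).trans h'.symm)))).unique (congrArg Subtype.val h) rfl
        · obtain ⟨u, hu, -⟩ := hreg b z.1 hab.symm z.2
          exact ⟨u, Subtype.ext hu⟩
      rw [e, Nat.card_eq_fintype_card, Fintype.card_subtype_compl, Fintype.card_subtype_eq]
      omega
    have hHle : Nat.card H + 1 ≤ q := by
      have h1 : Nat.card H ≤ ((Finset.univ.erase a).erase b).card := by
        letI := Fintype.ofFinite H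
        rw [Nat.card_eq_fintype_card, ← Finset.card_univ]
        refine Finset.card_le_card_of_injOn (fun k : H => (k : G) • w) (fun k _ => ?_) ?_
        · refine Finset.mem_coe.mpr (Finset.mem_erase.mpr ⟨fun e => hwb ?_, Finset.mem_erase.mpr
            ⟨fun e => hwa ?_, Finset.mem_univ _⟩⟩)
          · exact MulAction.injective (k : G) (e.trans k.2.2.symm)
          · exact MulAction.injective (k : G) (e.trans k.2.1.symm)
        · intro k _ l _ e
          refine Subtype.ext (inv_mul_eq_one.mp (h3 _ a b w hab (Ne.symm hwb) (Ne.symm hwa) ?_ ?_ ?_)).symm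
          · exact (mul_mem (inv_mem l.2) k.2).1
          · exact (mul_mem (inv_mem l.2) k.2).2
          · rw [mul_smul, show (k : G) • w = (l : G) • w from e, inv_smul_smul]
      rw [Finset.card_erase_of_mem (Finset.mem_erase.mpr ⟨hab.symm, Finset.mem_univ _⟩),
        Finset.card_erase_of_mem (Finset.mem_univ _), Finset.card_univ, ← hqn] at h1
      omega
    have hnil : ∀ r : ℕ, r.Prime → r ∣ Nat.card H →
        ¬ ∃ M : Subgroup G, M.Normal ∧ M.index = r ^ (Nat.card G).factorization r := by
      rintro r hr hrh ⟨M, hMn, hMi⟩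
      haveI := hMn
      haveI : Fact r.Prime := ⟨hr⟩
      have hr3 : 3 ≤ r := by
        have h2 := hr.two_le
        by_contra hc
        have hr2 : r = 2 := by omega
        exact (Nat.not_even_iff_odd.mpr hodd) (even_iff_two_dvd.mpr (hr2 ▸ hrh))
      have hrq : ¬ r ∣ q := by
        obtain ⟨k, hk⟩ := exists_prime_orderOf_dvd_card' r hrh
        have hk1 : (k : G) ≠ 1 := fun e => by
          rw [← Subgroup.orderOf_coe, e, orderOf_one] at hk; exact hr.ne_one hk.symm
        have hpg : IsPGroup r (Subgroup.zpowers (k : G)) := IsPGroup.of_card (n := 1) (by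
          rw [Nat.card_zpowers, Subgroup.orderOf_coe, hk, pow_one])
        have hmod := hpg.card_modEq_card_fixedPoints Ω
        have hfix : fixedPoints (Subgroup.zpowers (k : G)) Ω = {a, b} := by
          ext x
          simp only [mem_fixedPoints, Set.mem_insert_iff, Set.mem_singleton_iff]
          constructor
          · intro hx
            by_contra hc
            push Not at hc
            exact hk1 (h3 _ a b x hab hc.2.symm hc.1.symm k.2.1 k.2.2 (hx ⟨_, Subgroup.mem_zpowers _⟩))
          · rintro (rfl | rfl) ⟨g, hg⟩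
            · exact mem_stabilizer_iff.mp ((Subgroup.zpowers_le.mpr k.2.1) hg)
            · exact mem_stabilizer_iff.mp ((Subgroup.zpowers_le.mpr k.2.2) hg)
        rw [Nat.card_eq_fintype_card, ← hqn, hfix, Nat.card_coe_set_eq, Set.ncard_pair hab] at hmod
        intro hd
        have h0 : q % r = 0 := Nat.mod_eq_zero_of_dvd hd
        unfold Nat.ModEq at hmod
        rw [Nat.add_mod, h0, zero_add, Nat.mod_mod, Nat.mod_eq_of_lt (by omega),
          Nat.mod_eq_of_lt (by omega : 2 < r)] at hmod
        omega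
      -- the kernel lies in `M`
      have hFM : F ≤ M := by
        intro x hx
        have h1 : orderOf (QuotientGroup.mk' M x) ∣ q := by
          refine (orderOf_map_dvd _ x).trans ?_
          rw [hq]
          exact Subgroup.orderOf_dvd_natCard F hx
        have h2 : orderOf (QuotientGroup.mk' M x) ∣ r ^ (Nat.card G).factorization r := by
          rw [← hMi, Subgroup.index_eq_card]; exact orderOf_dvd_natCard _
        have h3 : orderOf (QuotientGroup.mk' M x) = 1 :=
          Nat.eq_one_of_dvd_coprimes (Nat.Coprime.pow_right _ (Nat.Coprime.symm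
            ((Nat.Prime.coprime_iff_not_dvd hr).mpr hrq))) h1 h2
        exact (QuotientGroup.eq_one_iff x).mp (orderOf_eq_one_iff.mp h3)
      -- two transitivity
      haveI hMt : IsPretransitive M Ω := by
        have horb : ∀ z, z ∈ orbit M b := by
          intro z
          by_cases hz : z = a
          · rw [hz]
            obtain ⟨t, ht⟩ : ∃ t : G, t • a = b := ⟨_, (exists_smul_pair h2t hab hab.symm).choose_spec.1⟩
            obtain ⟨u, hu, -⟩ := hreg b w hab.symm hwa
            have hu1 : (u : G) ≠ 1 := fun e => hwb (by rw [← hu, e, one_smul])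
            have hm : t * u * t⁻¹ ∈ M := hMn.conj_mem _ (hFM u.2) t
            have hne : (t * u * t⁻¹) • a ≠ a := by
              intro e
              rw [mul_smul, mul_smul, smul_eq_iff_eq_inv_smul] at e
              have hta : t⁻¹ • a ≠ a := fun h => hab (by rw [← ht, ← h, smul_inv_smul, h])
              exact hu1 (congrArg Subtype.val ((hreg _ _ hta hta).unique (y₁ := u) e
                (show ((1 : F) : G) • t⁻¹ • a = t⁻¹ • a from one_smul _ _)))
            obtain ⟨v, hv, -⟩ := hreg b _ hab.symm hne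
            exact ⟨⟨(t * u * t⁻¹)⁻¹ * v, mul_mem (inv_mem hm) (hFM v.2)⟩, by
              show ((t * u * t⁻¹)⁻¹ * v) • b = a
              rw [mul_smul, hv, inv_smul_smul]⟩
          · obtain ⟨u, hu, -⟩ := hreg b z hab.symm hz
            exact ⟨⟨u, hFM u.2⟩, hu⟩
        exact isPretransitive_iff_base b |>.mpr horb
      have hM2 : IsMultiplyPretransitive M Ω 2 := isTwoPretransitive_of_stabilizer a fun x y hx hy => by
        obtain ⟨u, hu, -⟩ := hreg x y hx hy
        exact ⟨⟨u, hFM u.2⟩, hFa u u.2, hu⟩
      have hMc := natCard_two_transitive (G := M) hM2 hab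
      set m := Nat.card (stabilizer M a ⊓ stabilizer M b : Subgroup M) with hm
      have hmh : Nat.card H = m * r ^ (Nat.card G).factorization r := by
        have h1 := Subgroup.card_mul_index M
        obtain ⟨R₀, hR₀⟩ : ∃ R₀, R₀ = r ^ (Nat.card G).factorization r := ⟨_, rfl⟩
        rw [hMi, ← hR₀, hMc, hG] at h1
        rw [← hR₀]
        have : 0 < Fintype.card Ω * (Fintype.card Ω - 1) := Nat.mul_pos (by omega) (by omega)
        refine Nat.eq_of_mul_eq_mul_right this ?_
        rw [← h1]; ring
      have hv1 : 0 < (Nat.card G).factorization r :=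
        hr.factorization_pos_of_dvd Nat.card_pos.ne' (hrh.trans (Subgroup.card_subgroup_dvd_card H))
      have hm3 : 3 * m ≤ Nat.card H := by
        rw [hmh, mul_comm 3 m]
        exact Nat.mul_le_mul_left _ (hr3.trans (Nat.le_self_pow hv1.ne' r))
      haveI hMf : FaithfulSMul M Ω := ⟨fun {x y} h => Subtype.ext (eq_of_smul_eq_smul h)⟩
      -- no regular normal subgroup in `M`
      have hMreg : ∀ R : Subgroup M, R.Normal → IsPretransitive R Ω → ∃ c : Ω, stabilizer R c ≠ ⊥ := by
        intro R hRn hRt
        by_contra hc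
        push Not at hc
        have hRn' : (R.map M.subtype).Normal := by
          refine ⟨fun x hx g => ?_⟩
          obtain ⟨x, hxR, rfl⟩ := hx
          let R₂ : Subgroup M := R.map (MulAut.conjNormal g : M ≃* M).toMonoidHom
          haveI : R₂.Normal := hRn.map _ (MulAut.conjNormal g : M ≃* M).surjective
          haveI := hRn
          have hR2 : R = R₂ := by
            refine regular_normal_unique (by rw [Nat.card_eq_fintype_card]; omega) hM2 R R₂ hRt hc ?_ ?_
            · refine isPretransitive_iff_base (g • a) |>.mpr fun z => ?_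
              obtain ⟨u, hu⟩ := exists_smul_eq R a (g⁻¹ • z)
              refine ⟨⟨MulAut.conjNormal g u.1, ⟨u.1, u.2, rfl⟩⟩, ?_⟩
              show ((MulAut.conjNormal g u.1 : M) : G) • g • a = z
              rw [MulAut.conjNormal_apply, mul_smul, mul_smul, inv_smul_smul,
                show ((u.1 : M) : G) • a = g⁻¹ • z from hu, smul_inv_smul]
            · intro c
              rw [Subgroup.eq_bot_iff_forall]
              rintro ⟨_, u, hu, rfl⟩ hc'
              have hc'' : ((MulAut.conjNormal g u : M) : G) • c = c := hc'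
              rw [MulAut.conjNormal_apply, mul_smul, mul_smul, smul_eq_iff_eq_inv_smul] at hc''
              have h1 : (⟨u, hu⟩ : R) ∈ stabilizer R (g⁻¹ • c) := hc''
              rw [hc, Subgroup.mem_bot] at h1
              refine Subtype.ext ?_
              show (MulAut.conjNormal g : M ≃* M) u = 1
              rw [show u = 1 from congrArg Subtype.val h1, map_one]
          exact ⟨MulAut.conjNormal g x, hR2 ▸ ⟨x, hxR, rfl⟩, by simp⟩
        obtain ⟨c, hc'⟩ := hreg' _ hRn' (by
          refine isPretransitive_iff_base a |>.mpr fun z => ?_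
          obtain ⟨u, hu⟩ := exists_smul_eq R a z
          exact ⟨⟨_, u.1, u.2, rfl⟩, hu⟩)
        refine hc' ((Subgroup.eq_bot_iff_forall _).mpr ?_)
        rintro ⟨_, u, hu, rfl⟩ hu'
        have h1 : (⟨u, hu⟩ : R) ∈ stabilizer R c := hu'
        rw [hc, Subgroup.mem_bot] at h1
        refine Subtype.ext ?_
        show M.subtype u = 1
        rw [show u = 1 from congrArg Subtype.val h1, map_one]
      have hM3 : ∀ g : M, ∀ x y z : Ω, x ≠ y → y ≠ z → x ≠ z → g • x = x → g • y = y → g • z = z → g = 1 :=
        fun g x y z h1 h2 h4 h5 h6 h7 => Subtype.ext (h3 g x y z h1 h2 h4 h5 h6 h7)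
      by_cases hm1 : m = 1
      · -- sharply two transitive: a regular normal subgroup
        have hbot : ∀ g : M, g • a = a → g • b = b → g = 1 := by
          intro g h1 h2
          have hb : (stabilizer M a ⊓ stabilizer M b : Subgroup M) = ⊥ := Subgroup.card_eq_one.mp hm1
          exact Subgroup.mem_bot.mp (hb ▸ (⟨h1, h2⟩ : g ∈ stabilizer M a ⊓ stabilizer M b))
        let φ := MulAction.toPermHom M Ω
        have hsm : ∀ (g : M) (x : Ω), (φ.rangeRestrict g) • x = g • x := fun g x => rfl
        have hP2 : IsMultiplyPretransitive φ.range Ω 2 := by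
          rw [is_two_pretransitive_iff]
          intro x y x' y' hxy hxy'
          obtain ⟨g, h1, h2⟩ := exists_smul_pair hM2 hxy hxy'
          exact ⟨φ.rangeRestrict g, h1, h2⟩
        have hPs : ∀ x : Fin 2 ↪ Ω, stabilizer φ.range x = ⊥ := by
          intro x
          rw [Subgroup.eq_bot_iff_forall]
          intro p hp
          obtain ⟨g, rfl⟩ := φ.rangeRestrict_surjective p
          have h1 : g • x 0 = x 0 := congrArg (fun e : Fin 2 ↪ Ω => e 0) hp
          have h2 : g • x 1 = x 1 := congrArg (fun e : Fin 2 ↪ Ω => e 1) hp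
          obtain ⟨t, t1, t2⟩ := exists_smul_pair hM2 hab (fun e => absurd (x.injective e) (by decide) :
            x 0 ≠ x 1)
          have h4 : t⁻¹ * g * t = 1 := hbot _ (by rw [mul_smul, mul_smul, t1, h1, inv_smul_eq_iff, t1])
            (by rw [mul_smul, mul_smul, t2, h2, inv_smul_eq_iff, t2])
          rw [show g = t * (t⁻¹ * g * t) * t⁻¹ by group, h4]
          simp
        obtain ⟨T, p, j, -, -, -, hTn, -, -, hTt, hTs, -, -, -⟩ :=
          sharply_two_structure φ.range hP2 hPs (by omega)
        haveI := hTt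
        obtain ⟨c, hc⟩ := hMreg (T.comap φ.rangeRestrict) (hTn.comap _) (by
          refine isPretransitive_iff_base a |>.mpr fun z => ?_
          obtain ⟨⟨s, hs⟩, hsz⟩ := exists_smul_eq T a z
          obtain ⟨g, rfl⟩ := φ.rangeRestrict_surjective s
          exact ⟨⟨g, hs⟩, hsz⟩)
        refine hc ((Subgroup.eq_bot_iff_forall _).mpr ?_)
        rintro ⟨g, hg⟩ hgc
        have h1 : (⟨φ.rangeRestrict g, hg⟩ : T) ∈ stabilizer T c := hgc
        rw [hTs, Subgroup.mem_bot] at h1
        refine Subtype.ext (eq_of_smul_eq_smul fun x : Ω => ?_)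
        show g • x = (1 : M) • x
        rw [← hsm, show φ.rangeRestrict g = 1 from congrArg Subtype.val h1, one_smul, one_smul]
      · -- a smaller Zassenhaus group
        have hZM : Cfsg.IsZassenhausGroup M Ω := by
          refine ⟨hMf, hM2, hM3, ?_, hMreg⟩
          have hm0 : 1 < m := by have : 0 < m := Nat.card_pos; omega
          obtain ⟨⟨g, hg⟩, hne⟩ := (Finite.one_lt_card_iff_nontrivial.mp hm0).exists_pair_ne.elim
            fun x ⟨y, hxy⟩ => (show ∃ g : (stabilizer M a ⊓ stabilizer M b : Subgroup M), g ≠ 1 from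
              if hx : x = 1 then ⟨y, fun e => hxy (hx.trans e.symm)⟩ else ⟨x, hx⟩)
          exact ⟨g, fun e => hne (Subtype.ext e), a, b, hab, hg.1, hg.2⟩
        have hmlt : Nat.card M < N := by
          rw [← hcard, ← Subgroup.card_mul_index M, hMi]
          exact lt_mul_of_one_lt_right Nat.card_pos (Nat.one_lt_pow hv1.ne' hr.one_lt)
        have hFcard : Nat.card (F.subgroupOf M) = q := by
          rw [hq]; exact Nat.card_congr (Subgroup.subgroupOfEquivOfLe hFM).toEquiv
        obtain ⟨-, hb⟩ := ih _ hmlt rfl hZM a b (F.subgroupOf M) hab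
          (fun x hx => hFa x (Subgroup.mem_subgroupOf.mp hx))
          (fun g hg x hx => Subgroup.mem_subgroupOf.mpr (hFn g hg x (Subgroup.mem_subgroupOf.mp hx)))
          (fun x hx y hy => Subtype.ext (hFc x (Subgroup.mem_subgroupOf.mp hx) y (Subgroup.mem_subgroupOf.mp hy)))
          (fun y z hy hz => by
            obtain ⟨u, hu, huu⟩ := hreg y z hy hz
            refine ⟨⟨⟨u, hFM u.2⟩, Subgroup.mem_subgroupOf.mpr u.2⟩, hu, fun v hv => ?_⟩
            have e := congrArg (fun x : F => (x : G)) (huu ⟨(v : M), Subgroup.mem_subgroupOf.mp v.2⟩ hv)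
            exact Subtype.ext (Subtype.ext e))
          (by
            rw [← hm]
            have : Odd (m * r ^ (Nat.card G).factorization r) := hmh ▸ hodd
            exact (Nat.odd_mul.mp this).1)
        rw [hFcard, ← hm] at hb
        omega
    obtain ⟨-, -, hinv⟩ := Cfsg.Agent.S0739.result (G := G) ⟨hf, h2t, h3,
      ⟨g₀, hg₀, c₀, d₀, hcd, hg₀c, hg₀d⟩, hreg'⟩ hab hodd hnil
    have C : OddKernel G Ω a b F :=
      ⟨hab, h2t, h3, hFa, hFn, hFc, hreg, hbig, hodd, hinv, h1H⟩
    letI := Fintype.ofFinite G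
    exact ⟨C, C.bound⟩

end CfsgLib.Perm
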