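import Cfsg.Agent.Lib.Perm.IcoBridge
import Mathlib.GroupTheory.SchurZassenhaus

/-!
Non-solvable fixed-point-free linear groups.
-/

set_option autoImplicit false
set_option linter.unusedSectionVars false

namespace CfsgLib.Perm.Ico

open CfsgLib.Recog

/-- An element of `SL(2,5)` inverting both standard elements. -/
def signElt : SL25 := ⟨!![2, 0; 2, 3], by decide⟩

theorem signElt_spec : signElt * binIcoGen 0 * signElt⁻¹ = (binIcoGen 0)⁻¹ ∧
    signElt * stdU * signElt⁻¹ = stdU⁻¹ := by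
  decide +kernel

theorem stdPair_spec : (binIcoGen 0 * stdU) ^ 2 = binIcoGen 1 ∧
    (binIcoGen 0 * stdU) ^ 5 = binIcoGen 2 ∧
    (binIcoGen 0 * stdU) ^ 2 ≠ binIcoGen 2 ∧ (binIcoGen 0 * stdU⁻¹) ^ 2 ≠ binIcoGen 2 ∧
    binIcoGen 0 ^ 3 = 1 ∧ binIcoGen 0 ≠ 1 ∧ stdU ^ 3 = 1 ∧ stdU ≠ 1 ∧
    binIcoGen 1 ^ 5 = 1 ∧ binIcoGen 1 ≠ 1 ∧
    stdU ≠ binIcoGen 0 ∧ stdU ≠ (binIcoGen 0)⁻¹ := by
  decide +kernel

theorem stdThree_complete : ∀ x : SL25, x * x * x = 1 → x = 1 ∨ x ∈ stdThree ∨ x⁻¹ ∈ stdThree := by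
  decide +kernel

theorem stdPair_closure : Subgroup.closure ({binIcoGen 0, stdU} : Set SL25) = ⊤ := by
  rw [eq_top_iff]
  intro g _
  obtain ⟨w, rfl⟩ := binIco_hom_surjective g
  obtain ⟨v, rfl⟩ := PresentedGroup.mk_surjective _ w
  have hr : (FreeGroup.lift binIcoGen).range ≤ Subgroup.closure ({binIcoGen 0, stdU} : Set SL25) := by
    rw [FreeGroup.range_lift_eq_closure, Subgroup.closure_le]
    rintro _ ⟨i, rfl⟩
    have hA : binIcoGen 0 ∈ Subgroup.closure ({binIcoGen 0, stdU} : Set SL25) :=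
      Subgroup.subset_closure (by simp)
    have hB : binIcoGen 0 * stdU ∈ Subgroup.closure ({binIcoGen 0, stdU} : Set SL25) :=
      Subgroup.mul_mem _ hA (Subgroup.subset_closure (by simp))
    fin_cases i
    · exact hA
    · exact stdPair_spec.1 ▸ Subgroup.pow_mem _ hB 2
    · exact stdPair_spec.2.1 ▸ Subgroup.pow_mem _ hB 5
  exact hr ⟨v, rfl⟩

variable {G : Type*} [Group G] {V : Type*} [AddCommGroup V] [Module ℂ V] [FiniteDimensional ℂ V]
  [Nontrivial V] {f : G →* Module.End ℂ V}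

theorem commute_prime [Finite G] (hf : Fpf f) {x y : G} (hxy : orderOf x = orderOf y)
    (hc : Commute x y) : Subgroup.zpowers x = Subgroup.zpowers y := by
  have : IsMulCommutative (Subgroup.closure ({x, y} : Set G)) := by
    refine Subgroup.isMulCommutative_closure fun a ha b hb => ?_
    rcases ha with rfl | rfl <;> rcases hb with rfl | rfl
    exacts [rfl, hc.eq, hc.eq.symm, rfl]
  have := isCyclic_of_comm hf _ (fun g hg h hh =>
    congrArg Subtype.val (this.is_comm.comm ⟨g, hg⟩ ⟨h, hh⟩))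
  have hx : x ∈ Subgroup.closure ({x, y} : Set G) := Subgroup.subset_closure (by simp)
  have hy : y ∈ Subgroup.closure ({x, y} : Set G) := Subgroup.subset_closure (by simp)
  have e := cyclic_zpowers_eq (A := Subgroup.closure ({x, y} : Set G)) (x := ⟨x, hx⟩) (c := ⟨y, hy⟩)
    (by rw [Subgroup.orderOf_mk, Subgroup.orderOf_mk, hxy])
  have e' := congrArg (Subgroup.map (Subgroup.closure ({x, y} : Set G)).subtype) e
  rwa [MonoidHom.map_zpowers, MonoidHom.map_zpowers] at e'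

/-- A non-solvable fixed-point-free group has a normal `SL(2,5)`. -/
theorem exists_sl25_normal [Finite G] (hf : Fpf f) (hns : ¬ Group.IsSolvable G) :
    ∃ ψ : SL25 →* G, Function.Injective ψ ∧ ψ.range.Normal := by
  classical
  have hex : ∃ c, ∃ n, Nat.card (derivedSeries G n) = c := ⟨_, 0, rfl⟩
  obtain ⟨n, hn⟩ := Nat.find_spec hex
  have hle : derivedSeries G (n + 1) ≤ derivedSeries G n := derivedSeries_antitone G n.le_succ
  have heq : derivedSeries G (n + 1) = derivedSeries G n :=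
    Subgroup.eq_of_le_of_card_ge hle (hn.le.trans (Nat.find_min' hex ⟨n + 1, rfl⟩))
  obtain ⟨D, hD⟩ : ∃ D, D = derivedSeries G n := ⟨_, rfl⟩
  have hDne : D ≠ ⊥ := fun e => hns (isSolvable_def G |>.2 ⟨n, hD ▸ e⟩)
  have : Nontrivial D := (Subgroup.nontrivial_iff_ne_bot D).2 hDne
  have hperf : commutator D = ⊤ := by
    apply Subgroup.map_injective D.subtype_injective
    rw [Subgroup.map_subtype_commutator, ← MonoidHom.range_eq_map, Subgroup.range_subtype, hD]
    exact heq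
  have hfD : Fpf (f.comp D.subtype) := fun g hg v hv => hf g (fun h => hg (Subtype.ext h)) v hv
  obtain ⟨e⟩ := perfect_fpf hfD hperf
  refine ⟨D.subtype.comp e.symm.toMonoidHom, D.subtype_injective.comp e.symm.injective, ?_⟩
  rw [MonoidHom.range_comp, MonoidHom.range_eq_top.2 e.symm.surjective, ← MonoidHom.range_eq_map,
    Subgroup.range_subtype, hD]
  exact derivedSeries_normal G n

/-- Structure of non-solvable fixed-point-free groups. -/
theorem nonsolvable_structure [Finite G] (hf : Fpf f) (hns : ¬ Group.IsSolvable G) :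
    ∃ (ψ : SL25 →* G) (M : Subgroup G), Function.Injective ψ ∧ ψ.range.Normal ∧ M.Normal ∧
      ψ.range ⊓ M = ⊥ ∧ (∀ s ∈ ψ.range, ∀ x ∈ M, s * x = x * s) ∧
      (∀ (p : ℕ) [Fact p.Prime] (P : Sylow p M), IsCyclic P) ∧ (Nat.card M).Coprime 30 ∧
      (ψ.range ⊔ M).Normal ∧ ((ψ.range ⊔ M).index = 1 ∨ (ψ.range ⊔ M).index = 2) := by
  classical
  obtain ⟨ψ, hinj, hXn⟩ := exists_sl25_normal hf hns
  obtain ⟨-, -, hA1, hA2, hA3, hA4, hU3, hU4, hB5, hB1, hne, hne'⟩ := stdPair_spec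
  have : Fact (Nat.Prime 2) := ⟨Nat.prime_two⟩
  have : Fact (Nat.Prime 3) := ⟨Nat.prime_three⟩
  have : Fact (Nat.Prime 5) := ⟨by norm_num⟩
  obtain ⟨a₀, ha₀'⟩ : ∃ a, a = ψ (binIcoGen 0) := ⟨_, rfl⟩
  obtain ⟨u, hu'⟩ : ∃ a, a = ψ stdU := ⟨_, rfl⟩
  obtain ⟨z, hz'⟩ : ∃ a, a = ψ (binIcoGen 2) := ⟨_, rfl⟩
  obtain ⟨b₅, hb'⟩ : ∃ a, a = ψ (binIcoGen 1) := ⟨_, rfl⟩
  have ha₀ : orderOf a₀ = 3 := by rw [ha₀', orderOf_injective ψ hinj, orderOf_eq_prime hA3 hA4]
  have hu : orderOf u = 3 := by rw [hu', orderOf_injective ψ hinj, orderOf_eq_prime hU3 hU4]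
  have hb5 : orderOf b₅ = 5 := by rw [hb', orderOf_injective ψ hinj, orderOf_eq_prime hB5 hB1]
  have hz : orderOf z = 2 := by rw [hz', orderOf_injective ψ hinj, orderOf_eq_prime z_sq.1 z_sq.2.1]
  have hzz : z * z = 1 := by rw [← pow_two, ← hz, pow_orderOf_eq_one]
  have hz1 : z ≠ 1 := fun e => by rw [e, orderOf_one] at hz; omega
  have hzc := invol_center hf hz
  obtain ⟨X, hX⟩ : ∃ X : Subgroup G, X = ψ.range := ⟨_, rfl⟩
  rw [← hX] at hXn
  have hmemX : ∀ p, ψ p ∈ X := fun p => by rw [hX]; exact ⟨p, rfl⟩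
  have hinv₀ : orderOf a₀⁻¹ = 3 := by rwa [orderOf_inv]
  have hmem3 : ∀ g : G, orderOf g = 3 → g ∈ X := by
    intro g hg
    obtain ⟨t, ht⟩ := conjV_transitive hf hz (mk ha₀) (mk hg)
    rw [conjV_mk] at ht
    rcases (mk_eq_mk_iff hg _).1 ht with e | e
    · rw [← e]; exact hXn.conj_mem _ (ha₀' ▸ hmemX _) t
    · rw [← inv_inv g, ← e]; exact X.inv_mem (hXn.conj_mem _ (ha₀' ▸ hmemX _) t)
  have hall : ∀ g : G, orderOf g = 3 → ∃ w ∈ stdThree, g = ψ w ∨ g = (ψ w)⁻¹ := by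
    intro g hg
    have hgX := hmem3 g hg
    rw [hX] at hgX
    obtain ⟨p, rfl⟩ := hgX
    rw [orderOf_injective ψ hinj] at hg
    rcases stdThree_complete p (by rw [← pow_three', ← hg, pow_orderOf_eq_one]) with h | h | h
    · rw [h, orderOf_one] at hg; omega
    · exact ⟨p, h, Or.inl rfl⟩
    · exact ⟨p⁻¹, h, Or.inr (by rw [map_inv, inv_inv])⟩
  -- the centralizer
  obtain ⟨C, hC⟩ : ∃ C : Subgroup G, C = Subgroup.centralizer (X : Set G) := ⟨_, rfl⟩
  have hCn : C.Normal := by rw [hC]; infer_instance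
  have hCX : ∀ c ∈ C, ∀ y ∈ X, y * c = c * y := fun c hc y hy => by
    rw [hC, Subgroup.mem_centralizer_iff] at hc; exact hc y hy
  have hzC : z ∈ C := by
    rw [hC, Subgroup.mem_centralizer_iff]
    exact fun y _ => Subgroup.mem_center_iff.1 hzc y
  have hcentre : ∀ c ∈ C, c ∈ X → c = 1 ∨ c = z := by
    intro c hc hcX
    rw [hX] at hcX
    obtain ⟨p, rfl⟩ := hcX
    have hp : p ∈ Subgroup.center SL25 := Subgroup.mem_center_iff.2 fun q => hinj (by
      rw [map_mul, map_mul]; exact hCX _ hc _ (hmemX q))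
    rw [Matrix.SpecialLinearGroup.mem_center_iff] at hp
    obtain ⟨b, hb, hbp⟩ := hp
    rw [Fintype.card_fin] at hb
    rcases zmodFive_sq_eq_one b hb with rfl | rfl
    · left
      rw [show p = 1 from Subtype.ext (by rw [← hbp]; simp), map_one]
    · right
      rw [show p = binIcoGen 2 from Subtype.ext (hbp.symm.trans scalar_neg_one_five), hz']
  have hnoprime : ∀ c ∈ C, orderOf c ≠ 3 ∧ orderOf c ≠ 5 := by
    intro c hc
    have key : ∀ y ∈ X, orderOf c = orderOf y → orderOf y ≠ 1 → orderOf y ≠ 2 → False := by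
      intro y hy h h1 h2
      have hcy : c ∈ Subgroup.zpowers y :=
        commute_prime hf h (hCX c hc y hy).symm ▸ Subgroup.mem_zpowers c
      rcases hcentre c hc ((Subgroup.zpowers_le.2 hy) hcy) with rfl | rfl
      · exact h1 (by rw [← h, orderOf_one])
      · exact h2 (by rw [← h, hz])
    exact ⟨fun h => key a₀ (ha₀' ▸ hmemX _) (h.trans ha₀.symm) (by omega) (by omega),
      fun h => key b₅ (hb' ▸ hmemX _) (h.trans hb5.symm) (by omega) (by omega)⟩
  obtain ⟨q₀, hq₀⟩ : ∃ q₀, q₀ = ψ (binIcoGen 0 * binIcoGen 1) := ⟨_, rfl⟩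
  have hq₀z : q₀ * q₀ = z := by rw [hq₀, ← pow_two, ← map_pow, z_sq.2.2, hz']
  have hno4 : ∀ b ∈ C, b * b = z → False := by
    intro b hb hbb
    have hq₀X : q₀ ∈ X := hq₀ ▸ hmemX _
    have hbq : (b * q₀) * (b * q₀) = 1 := by
      rw [mul_assoc b q₀, ← mul_assoc q₀ b, hCX b hb q₀ hq₀X, mul_assoc b q₀, hq₀z, ← mul_assoc,
        hbb, hzz]
    have hbX : b ∈ X := by
      by_cases h1 : b * q₀ = 1
      · rw [eq_inv_of_mul_eq_one_left h1]; exact X.inv_mem hq₀X
      · rw [eq_mul_inv_of_mul_eq (invol_unique hf hz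
          (orderOf_eq_prime (by rw [pow_two]; exact hbq) h1))]
        exact X.mul_mem (hz' ▸ hmemX _) (X.inv_mem hq₀X)
    rcases hcentre b hb hbX with rfl | rfl
    · exact hz1 (by rw [← hbb, one_mul])
    · exact hz1 (by rw [← hbb, hzz])
  -- the odd part of the centralizer
  obtain ⟨Z', hZ'⟩ : ∃ Z' : Subgroup C, Z' = Subgroup.zpowers (⟨z, hzC⟩ : C) := ⟨_, rfl⟩
  have hZ'c : Nat.card Z' = 2 := by rw [hZ', Nat.card_zpowers, Subgroup.orderOf_mk, hz]
  have hZ'mem : ∀ y : C, y ∈ Z' → y = 1 ∨ (y : G) = z := by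
    intro y hy
    rw [hZ'] at hy
    obtain ⟨k, rfl⟩ := hy
    dsimp only
    rcases Int.even_or_odd k with ⟨j, rfl⟩ | ⟨j, rfl⟩
    · left
      rw [← two_mul, zpow_mul]
      have : (⟨z, hzC⟩ : C) ^ (2 : ℤ) = 1 := (zpow_two _).trans (Subtype.ext hzz)
      rw [this, one_zpow]
    · right
      rw [zpow_add, zpow_one, zpow_mul]
      have : (⟨z, hzC⟩ : C) ^ (2 : ℤ) = 1 := (zpow_two _).trans (Subtype.ext hzz)
      rw [this, one_zpow, one_mul]
  have hZn : Z'.Normal := ⟨fun y hy g => by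
    rcases hZ'mem y hy with rfl | h
    · simp
    · have : g * y * g⁻¹ = y := Subtype.ext (by
        simp only [Subgroup.coe_mul, Subgroup.coe_inv, h]
        rw [Subgroup.mem_center_iff.1 hzc (g : G), mul_inv_cancel_right])
      rw [this]; exact hy⟩
  have hodd : Odd Z'.index := by
    rw [← Nat.not_even_iff_odd, even_iff_two_dvd]
    intro h2
    rw [Subgroup.index_eq_card] at h2
    obtain ⟨yb, hy⟩ := exists_prime_orderOf_dvd_card' 2 h2
    obtain ⟨y, rfl⟩ := QuotientGroup.mk'_surjective Z' yb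
    have hyZ : y ∉ Z' := fun hm => by
      rw [show QuotientGroup.mk' Z' y = 1 from (QuotientGroup.eq_one_iff y).2 hm, orderOf_one] at hy
      omega
    have hy2 : y * y ∈ Z' := by
      rw [← QuotientGroup.eq_one_iff, QuotientGroup.mk_mul, ← pow_two]
      exact hy ▸ pow_orderOf_eq_one _
    rcases hZ'mem _ hy2 with h | h
    · by_cases h1 : (y : G) = 1
      · exact hyZ (by rw [show y = 1 from Subtype.ext h1]; exact Z'.one_mem)
      · have hyz := invol_unique hf hz (orderOf_eq_prime (p := 2)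
          (by rw [pow_two, ← Subgroup.coe_mul, h]; rfl) h1)
        exact hyZ (by rw [hZ', show y = ⟨z, hzC⟩ from Subtype.ext hyz]; exact Subgroup.mem_zpowers _)
    · exact hno4 y y.2 h
  obtain ⟨M', hM'⟩ := Subgroup.exists_right_complement'_of_coprime (N := Z')
    (by rw [hZ'c]; exact (Nat.coprime_two_left).2 hodd)
  obtain ⟨M, hM⟩ : ∃ M : Subgroup G, M = M'.map C.subtype := ⟨_, rfl⟩
  have hMC : M ≤ C := hM ▸ Subgroup.map_subtype_le M'
  have hMcard : Nat.card M' = Z'.index := hM'.symm.index_eq_card.symm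
  have hMc : Nat.card M = Z'.index := by
    rw [hM, Subgroup.card_map_of_injective C.subtype_injective, hMcard]
  have hdecC : ∀ c ∈ C, c ∈ M ∨ ∃ m ∈ M, c = z * m := by
    intro c hc
    obtain ⟨⟨s, m⟩, hsm⟩ := hM'.surjective (⟨c, hc⟩ : C)
    have hmM : ((m : C) : G) ∈ M := hM ▸ ⟨(m : C), m.2, rfl⟩
    have hcs : c = ((s : C) : G) * ((m : C) : G) := congrArg Subtype.val hsm.symm
    rcases hZ'mem s s.2 with h | h
    · left; rw [hcs, h, Subgroup.coe_one, one_mul]; exact hmM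
    · exact Or.inr ⟨_, hmM, by rw [hcs, h]⟩
  have hMiff : ∀ c ∈ C, c ^ Z'.index = 1 → c ∈ M := by
    intro c hc hck
    rcases hdecC c hc with h | ⟨m, hm, rfl⟩
    · exact h
    · exfalso
      have hcomm : Commute z m := (Subgroup.mem_center_iff.1 hzc m).symm
      obtain ⟨j, hj⟩ := hodd
      have hm1 : m ^ Z'.index = 1 := by
        have := pow_card_eq_one' (x := (⟨m, hm⟩ : M))
        rw [hMc] at this
        exact congrArg Subtype.val this
      rw [hcomm.mul_pow, hm1, mul_one, hj, pow_succ, pow_mul, pow_two, hzz, one_pow, one_mul] at hck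
      exact hz1 hck
  have hMn : M.Normal := by
    refine ⟨fun m hm g => hMiff _ (hCn.conj_mem m (hMC hm) g) ?_⟩
    have := pow_card_eq_one' (x := (⟨m, hm⟩ : M))
    rw [hMc] at this
    rw [conj_pow, show m ^ Z'.index = 1 from congrArg Subtype.val this, mul_one, mul_inv_cancel]
  have hzM : z ∉ M := by
    intro h
    have := orderOf_dvd_natCard (⟨z, h⟩ : M)
    rw [Subgroup.orderOf_mk, hz, hMc] at this
    exact (Nat.not_even_iff_odd.2 hodd) (even_iff_two_dvd.2 this)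
  have hsupC : X ⊔ M = X ⊔ C := by
    refine le_antisymm (sup_le_sup_left hMC X) (sup_le le_sup_left fun c hc => ?_)
    rcases hdecC c hc with h | ⟨m, hm, rfl⟩
    · exact Subgroup.mem_sup_right h
    · exact (X ⊔ M).mul_mem (Subgroup.mem_sup_left (hz' ▸ hmemX _)) (Subgroup.mem_sup_right hm)
  -- sign decomposition
  have hadj : ¬ Adj z a₀ u := by
    rintro (h | h)
    · exact hA1 (hinj (by rw [map_pow, map_mul, ← ha₀', ← hu', ← hz', h]))
    · exact hA2 (hinj (by rw [map_pow, map_mul, map_inv, ← ha₀', ← hu', ← hz', h]))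
  have hpm : ∀ g b c : G, (g * b * g⁻¹ = c ∨ g * b * g⁻¹ = c⁻¹) →
      g⁻¹ * c * g = b ∨ g⁻¹ * c * g = b⁻¹ := by
    intro g b c h
    rcases h with h | h
    · left; rw [← h]; group
    · right; rw [← inv_inv c, ← h]; group
  have hdec : ∀ g : G, ∃ n, (∃ x ∈ X, g = x * n) ∧ (n * a₀ * n⁻¹ = a₀ ∨ n * a₀ * n⁻¹ = a₀⁻¹) ∧
      (n * u * n⁻¹ = u ∨ n * u * n⁻¹ = u⁻¹) := by
    intro g
    obtain ⟨w, hw, hgw⟩ := hall _ (conj_ctx (a := g) ha₀)
    obtain ⟨p, -, hp⟩ := conjList_spec w hw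
    have hP : ψ p * a₀ * (ψ p)⁻¹ = g * a₀ * g⁻¹ ∨ ψ p * a₀ * (ψ p)⁻¹ = (g * a₀ * g⁻¹)⁻¹ := by
      rcases hgw with e | e <;> rcases hp with e' | e' <;>
        [left; right; right; left] <;> rw [e, ha₀', ← map_inv, ← map_mul, ← map_mul, e'] <;> simp
    obtain ⟨n, hn⟩ : ∃ n, n = (ψ p)⁻¹ * g := ⟨_, rfl⟩
    have hna : n * a₀ * n⁻¹ = a₀ ∨ n * a₀ * n⁻¹ = a₀⁻¹ := by
      rcases hpm (ψ p) a₀ _ hP with e | e
      · left; refine Eq.trans ?_ e; rw [hn]; group
      · right; refine Eq.trans ?_ e; rw [hn]; group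
    obtain ⟨w', hw', hnw⟩ := hall _ (conj_ctx (a := n) hu)
    have hnadj : ¬ Adj z a₀ (n * u * n⁻¹) := by
      intro h
      apply hadj
      have h' : Adj z (n * a₀ * n⁻¹) (n * u * n⁻¹) := by
        rcases hna with e | e <;> rw [e]
        · exact h
        · exact adj_inv_left hf hz h
      have := adj_conj hzc n⁻¹ h'
      simpa [mul_assoc] using this
    have hh : ∀ b, (b = a₀ ∨ b = a₀⁻¹) → n * u * n⁻¹ ≠ b := by
      intro b hb e
      have hu2 : u = n⁻¹ * b * n := by rw [← e]; group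
      have hinv : n⁻¹ * a₀⁻¹ * n = (n⁻¹ * a₀ * n)⁻¹ := by simp [mul_assoc]
      have : u = a₀ ∨ u = a₀⁻¹ := by
        rcases hpm n a₀ a₀ hna with e1 | e1 <;> rcases hb with e2 | e2 <;>
          rw [e2] at hu2 <;> rw [hu2] <;> simp only [e1, hinv, inv_inv, true_or, or_true]
      rcases this with e3 | e3
      · exact hne (hinj (by rw [← hu', ← ha₀', e3]))
      · exact hne' (hinj (by rw [← hu', map_inv, ← ha₀', e3]))
    rcases stabList_spec w' hw' with e | e | e | e | ⟨q, -, hqa, hqu⟩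
    · exfalso
      rcases hnw with e' | e' <;> rw [e, ← ha₀'] at e'
      exacts [hh _ (Or.inl rfl) e', hh _ (Or.inr rfl) e']
    · exfalso
      rw [inv_eq_iff_eq_inv] at e
      rcases hnw with e' | e' <;> rw [e, map_inv, ← ha₀'] at e'
      exacts [hh _ (Or.inr rfl) e', hh _ (Or.inl rfl) (e'.trans (inv_inv _))]
    · exfalso; apply hnadj
      have : Adj z a₀ (ψ w') := Or.inl (by rw [ha₀', hz', ← e, map_pow, map_mul])
      rcases hnw with e' | e' <;> rw [e']
      exacts [this, adj_inv_right this]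
    · exfalso; apply hnadj
      have : Adj z a₀ (ψ w') := Or.inr (by rw [ha₀', hz', ← e, map_pow, map_mul, map_inv])
      rcases hnw with e' | e' <;> rw [e']
      exacts [this, adj_inv_right this]
    · refine ⟨(ψ q)⁻¹ * n, ⟨ψ p * ψ q, X.mul_mem (hmemX p) (hmemX q), by rw [hn]; group⟩, ?_, ?_⟩
      · have hA : ψ q * a₀ * (ψ q)⁻¹ = n * a₀ * n⁻¹ ∨ ψ q * a₀ * (ψ q)⁻¹ = (n * a₀ * n⁻¹)⁻¹ := by
          rcases hna with e | e <;> rcases hqa with e' | e' <;>
            [left; right; right; left] <;> rw [e, ha₀', ← map_inv, ← map_mul, ← map_mul, e'] <;> simp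
        rcases hpm (ψ q) a₀ _ hA with e | e
        · left; refine Eq.trans ?_ e; group
        · right; refine Eq.trans ?_ e; group
      · have hU : ψ q * u * (ψ q)⁻¹ = n * u * n⁻¹ ∨ ψ q * u * (ψ q)⁻¹ = (n * u * n⁻¹)⁻¹ := by
          rcases hnw with e | e <;> rcases hqu with e' | e' <;>
            [left; right; right; left] <;> rw [e, hu', ← map_inv, ← map_mul, ← map_mul, e'] <;> simp
        rcases hpm (ψ q) u _ hU with e | e
        · left; refine Eq.trans ?_ e; group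
        · right; refine Eq.trans ?_ e; group
  have hCfix : ∀ n, n * a₀ * n⁻¹ = a₀ → n * u * n⁻¹ = u → n ∈ C := by
    intro n h1 h2
    rw [hC, Subgroup.mem_centralizer_iff]
    intro y hy
    rw [hX] at hy
    obtain ⟨p, rfl⟩ := hy
    have hle : Subgroup.closure ({binIcoGen 0, stdU} : Set SL25) ≤
        (Subgroup.centralizer ({n} : Set G)).comap ψ := by
      rw [Subgroup.closure_le]
      rintro b (rfl | rfl) <;>
        rw [SetLike.mem_coe, Subgroup.mem_comap, Subgroup.mem_centralizer_singleton_iff]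
      · rw [← ha₀']; exact (mul_inv_eq_iff_eq_mul.1 h1).symm
      · rw [← hu']; exact (mul_inv_eq_iff_eq_mul.1 h2).symm
    exact Subgroup.mem_centralizer_singleton_iff.1 (hle (stdPair_closure ▸ Subgroup.mem_top p))
  obtain ⟨H, hH⟩ : ∃ H : Subgroup G, H = X ⊔ M := ⟨_, rfl⟩
  have hXH : X ≤ H := hH ▸ le_sup_left
  have hCH : C ≤ H := by rw [hH, hsupC]; exact le_sup_right
  have hHn : H.Normal := by rw [hH]; exact Subgroup.sup_normal X M
  have hx₀ : ψ signElt * a₀ * (ψ signElt)⁻¹ = a₀⁻¹ ∧ ψ signElt * u * (ψ signElt)⁻¹ = u⁻¹ := by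
    rw [ha₀', hu', ← map_inv, ← map_mul, ← map_mul, ← map_inv, ← map_mul, ← map_mul,
      signElt_spec.1, signElt_spec.2, map_inv, map_inv]
    exact ⟨rfl, rfl⟩
  have hinvconj : ∀ t b : G, t * b⁻¹ * t⁻¹ = (t * b * t⁻¹)⁻¹ := fun t b => by simp [mul_assoc]
  have hcomp : ∀ t s b : G, (t * s) * b * (t * s)⁻¹ = t * (s * b * s⁻¹) * t⁻¹ := fun t s b => by group
  have hboth : ∀ n, n * a₀ * n⁻¹ = a₀⁻¹ → n * u * n⁻¹ = u⁻¹ → n ∈ H := by
    intro n h1 h2
    have := hCH (hCfix (ψ signElt * n)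
      (by rw [hcomp, h1, hinvconj, hx₀.1, inv_inv]) (by rw [hcomp, h2, hinvconj, hx₀.2, inv_inv]))
    have h' := H.mul_mem (H.inv_mem (hXH (hmemX signElt))) this
    rwa [inv_mul_cancel_left] at h'
  have hprod : ∀ g g' : G, g ∉ H → g' ∉ H → g * g' ∈ H := by
    intro g g' hg hg'
    obtain ⟨n, ⟨x, hx, rfl⟩, hna, hnu⟩ := hdec g
    obtain ⟨m, ⟨y, hy, rfl⟩, hma, hmu⟩ := hdec g'
    have hn : n ∉ H := fun h => hg (H.mul_mem (hXH hx) h)
    have hm : m ∉ H := fun h => hg' (H.mul_mem (hXH hy) h)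
    have key : ∀ n, n ∉ H → (n * a₀ * n⁻¹ = a₀ ∨ n * a₀ * n⁻¹ = a₀⁻¹) →
        (n * u * n⁻¹ = u ∨ n * u * n⁻¹ = u⁻¹) →
        (n * a₀ * n⁻¹ = a₀ ∧ n * u * n⁻¹ = u⁻¹) ∨ (n * a₀ * n⁻¹ = a₀⁻¹ ∧ n * u * n⁻¹ = u) := by
      intro n hn h1 h2
      rcases h1 with e1 | e1 <;> rcases h2 with e2 | e2
      exacts [absurd (hCH (hCfix n e1 e2)) hn, Or.inl ⟨e1, e2⟩, Or.inr ⟨e1, e2⟩,
        absurd (hboth n e1 e2) hn]
    have hnm : n * m ∈ H := by
      rcases key n hn hna hnu with ⟨a1, u1⟩ | ⟨a1, u1⟩ <;>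
        rcases key m hm hma hmu with ⟨a2, u2⟩ | ⟨a2, u2⟩
      · exact hCH (hCfix _ (by rw [hcomp, a2, a1]) (by rw [hcomp, u2, hinvconj, u1, inv_inv]))
      · exact hboth _ (by rw [hcomp, a2, hinvconj, a1]) (by rw [hcomp, u2, u1])
      · exact hboth _ (by rw [hcomp, a2, a1]) (by rw [hcomp, u2, hinvconj, u1])
      · exact hCH (hCfix _ (by rw [hcomp, a2, hinvconj, a1, inv_inv]) (by rw [hcomp, u2, u1]))
    rw [show x * n * (y * m) = x * (n * y * n⁻¹) * (n * m) by group]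
    exact H.mul_mem (H.mul_mem (hXH hx) (hHn.conj_mem y (hXH hy) n)) hnm
  refine ⟨ψ, M, hinj, hX ▸ hXn, hMn, ?_, fun s hs x hx => hCX x (hMC hx) s (hX ▸ hs), ?_, ?_,
    by rw [← hX, ← hH]; exact hHn, ?_⟩
  · rw [← hX, eq_bot_iff]
    intro x hx
    obtain ⟨h1, h2⟩ := Subgroup.mem_inf.1 hx
    rcases hcentre x (hMC h2) h1 with rfl | rfl
    · exact Subgroup.one_mem _
    · exact absurd h2 hzM
  · intro p hp P
    have hfM : Fpf (f.comp M.subtype) := fun g hg v hv => hf g (fun h => hg (Subtype.ext h)) v hv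
    rcases sylow_cases hfM P with h | ⟨rfl, n, ⟨e⟩⟩
    · exact h
    · exfalso
      have h2 : 2 ∣ Nat.card M := by
        refine dvd_trans ?_ (Subgroup.card_subgroup_dvd_card (P : Subgroup M))
        rw [Nat.card_congr e.toEquiv, Nat.card_eq_fintype_card, QuaternionGroup.card]
        exact dvd_mul_of_dvd_left (by norm_num) _
      rw [hMc] at h2
      exact (Nat.not_even_iff_odd.2 hodd) (even_iff_two_dvd.2 h2)
  · have h2 : (Nat.card M).Coprime 2 := by rw [hMc]; exact (Nat.coprime_two_right).2 hodd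
    have hp : ∀ p : ℕ, [Fact p.Prime] → (∀ c ∈ C, orderOf c ≠ p) → (Nat.card M).Coprime p := by
      intro p hp hne
      rw [Nat.coprime_comm, hp.out.coprime_iff_not_dvd]
      intro hd
      obtain ⟨⟨c, hc⟩, hcp⟩ := exists_prime_orderOf_dvd_card' p hd
      rw [Subgroup.orderOf_mk] at hcp
      exact hne c (hMC hc) hcp
    have h3 := hp 3 (fun c hc => (hnoprime c hc).1)
    have h5 := hp 5 (fun c hc => (hnoprime c hc).2)
    exact Nat.Coprime.mul_right (k := Nat.card M) (Nat.Coprime.mul_right h2 h3) h5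
  · rw [← hX, ← hH]
    by_cases hHt : H = ⊤
    · exact Or.inl (Subgroup.index_eq_one.2 hHt)
    · right
      obtain ⟨a, ha⟩ : ∃ a, a ∉ H := by
        by_contra h
        simp only [not_exists, not_not] at h
        exact hHt ((Subgroup.eq_top_iff' H).2 h)
      refine Subgroup.index_eq_two_iff.2 ⟨a, fun b => ?_⟩
      by_cases hb : b ∈ H
      · exact Or.inr ⟨hb, fun h => ha ((H.mul_mem_cancel_left hb).1 h)⟩
      · exact Or.inl ⟨hprod b a hb ha, hb⟩

end CfsgLib.Perm.Ico
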