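import Cfsg.Agent.Lib.Perm.ZassenhausFeitChar
import Cfsg.Agent.Lib.Perm.ZassenhausAbelian
import Cfsg.Agent.Lib.Clifford.Zass
import Cfsg.Agent.S0878

/-!
Feit's theorem on Zassenhaus groups with two point stabiliser of odd order.
-/

set_option autoImplicit false
set_option linter.style.haveILetI false

namespace CfsgLib.Perm.FeitCoherent

open MulAction
open scoped commutatorElement Pointwise

universe u v

variable {G : Type u} {Ω : Type v} [Group G] [Finite G] [MulAction G Ω] [Fintype Ω]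

/-- A normal subgroup meeting the kernel of a point stabiliser contains that kernel. -/
theorem kernel_le_normal (hZ : Cfsg.IsZassenhausGroup G Ω) {a b : Ω} (hab : a ≠ b) (H : Subgroup G)
    (hfix : ∀ x ∈ H, x • a = a) (hnorm : ∀ g : G, g • a = a → ∀ x ∈ H, g * x * g⁻¹ ∈ H)
    (hfree : ∀ x ∈ H, ∀ y : Ω, y ≠ a → x • y = y → x = 1)
    (hreg : ∀ y z : Ω, y ≠ a → z ≠ a → ∃! u : H, (u : G) • y = z)
    (hmf : ∀ g : G, g • a = a → g ∈ H ∨ ∃ y : Ω, y ≠ a ∧ g • y = y)
    (N : Subgroup G) [N.Normal] {x : G} (hxN : x ∈ N) (hxH : x ∈ H) (hx1 : x ≠ 1) : H ≤ N := by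
  classical
  obtain ⟨hf, h2t, h3, -, hnoreg⟩ := hZ
  haveI := hf
  haveI := h2t
  haveI : IsPreprimitive G Ω := isPreprimitive_of_is_two_pretransitive h2t
  haveI hNt : IsPretransitive N Ω := normal_isPretransitive fun h =>
    hx1 (Subgroup.mem_bot.mp (h ▸ hxN))
  by_cases hcase : ∀ g ∈ N, g • a = a → g ∈ H
  · -- the action of `N` is a Frobenius action
    exfalso
    set A : Subgroup N := stabilizer N a with hA
    have hFC : Cfsg.IsFrobeniusComplement A := by
      refine ⟨fun e => hx1 ?_, fun e => ?_, fun g hg => ?_⟩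
      · have : (⟨x, hxN⟩ : N) ∈ A := hfix x hxH
        rw [e, Subgroup.mem_bot] at this
        exact congrArg Subtype.val this
      · obtain ⟨g, hg⟩ := exists_smul_eq N a b
        have : g ∈ A := e ▸ Subgroup.mem_top g
        exact hab ((mem_stabilizer_iff.mp this).symm.trans hg)
      · rw [eq_bot_iff]
        rintro t ⟨ht, htg⟩
        replace htg := Subgroup.mem_pointwise_smul_iff_inv_smul_mem.mp htg
        rw [MulAut.smul_def, MulAut.inv_apply, MulAut.conj_symm_apply] at htg
        have ht' : t • g • a = g • a := by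
          have h : (g⁻¹ * t * g) • a = a := htg
          rwa [mul_smul, mul_smul, inv_smul_eq_iff] at h
        refine Subgroup.mem_bot.mpr (Subtype.ext ?_)
        exact hfree t (hcase t t.2 ht) (g • a) (fun h => hg h) ht'
    obtain ⟨R, hRset, hRn, hRc⟩ := CfsgLib.Solvable.exists_frobeniusKernel hFC
    have hmemR : ∀ r : N, r ∈ R ↔ (r = 1 ∨ ∀ c : Ω, r • c ≠ c) := by
      intro r
      rw [← SetLike.mem_coe, hRset]
      show (r = 1 ∨ ∀ g : N, r ∉ MulAut.conj g • A) ↔ _
      refine or_congr_right ⟨fun h c hc => ?_, fun h g hg => ?_⟩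
      · obtain ⟨g, rfl⟩ := exists_smul_eq N a c
        refine h g (Subgroup.mem_pointwise_smul_iff_inv_smul_mem.mpr ?_)
        rw [MulAut.smul_def, MulAut.inv_apply, MulAut.conj_symm_apply]
        show (g⁻¹ * r * g) • a = a
        rw [mul_smul, mul_smul, inv_smul_eq_iff]
        exact hc
      · replace hg := Subgroup.mem_pointwise_smul_iff_inv_smul_mem.mp hg
        rw [MulAut.smul_def, MulAut.inv_apply, MulAut.conj_symm_apply] at hg
        refine h (g • a) ?_
        have h' : (g⁻¹ * r * g) • a = a := hg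
        rwa [mul_smul, mul_smul, inv_smul_eq_iff] at h'
    have hRG : (R.map N.subtype).Normal := by
      refine ⟨fun r hr g => ?_⟩
      obtain ⟨r, hr, rfl⟩ := hr
      refine ⟨⟨g * r * g⁻¹, Subgroup.Normal.conj_mem ‹_› _ r.2 g⟩, (hmemR _).mpr ?_, rfl⟩
      rcases (hmemR r).mp hr with h | h
      · left; refine Subtype.ext ?_; simp [h]
      · right
        intro c hc
        refine h (g⁻¹ • c) ?_
        have h' : (g * (r : G) * g⁻¹) • c = c := hc
        rw [mul_smul, mul_smul, smul_eq_iff_eq_inv_smul] at h'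
        exact h'
    obtain ⟨c, hc⟩ := hnoreg _ hRG (by
      refine (isPretransitive_iff_base a).mpr fun z => ?_
      obtain ⟨g, hg⟩ := exists_smul_eq N a z
      obtain ⟨⟨⟨r, hr⟩, ⟨t, ht⟩⟩, e, -⟩ := hRc.existsUnique g
      refine ⟨⟨(r : G), r, hr, rfl⟩, ?_⟩
      show r • a = z
      have e' : r * t = g := e
      rw [← hg, ← e', mul_smul, (show t • a = a from ht)])
    apply hc
    rw [Subgroup.eq_bot_iff_forall]
    rintro ⟨_, r, hr, rfl⟩ hrc
    rcases (hmemR r).mp hr with h | h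
    · refine Subtype.ext ?_; simp [h]
    · exact absurd hrc (h c)
  · push Not at hcase
    obtain ⟨g, hgN, hga, hgH⟩ := hcase
    obtain ⟨y, hya, hgy⟩ := (hmf g hga).resolve_left hgH
    obtain ⟨u, hu, -⟩ := hreg b y hab.symm hya
    set k : G := (u : G)⁻¹ * g * u with hk
    have hkN : k ∈ N := by
      have := Subgroup.Normal.conj_mem ‹N.Normal› g hgN (u : G)⁻¹
      simpa [hk] using this
    have hka : k • a = a := by
      rw [hk, mul_smul, mul_smul, hfix u u.2, hga, inv_smul_eq_iff, hfix u u.2]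
    have hkb : k • b = b := by rw [hk, mul_smul, mul_smul, hu, hgy, ← hu, inv_smul_smul]
    have hk1 : k ≠ 1 := fun e => hgH (by
      have : g = u * k * (u : G)⁻¹ := by rw [hk]; group
      rw [this, e]; simp)
    let f : H → H := fun v => ⟨(v : G) * (k * (v : G) * k⁻¹)⁻¹,
      mul_mem v.2 (inv_mem (hnorm k hka v v.2))⟩
    have hfi : Function.Injective f := by
      intro v w e
      have e' : (v : G) * (k * (v : G) * k⁻¹)⁻¹ = (w : G) * (k * (w : G) * k⁻¹)⁻¹ :=
        congrArg Subtype.val e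
      refine Subtype.ext (inv_mul_eq_one.mp ?_)
      set z : G := (v : G)⁻¹ * w with hz
      have hzH : z ∈ H := mul_mem (inv_mem v.2) w.2
      have h4 : k * z * k⁻¹ = z := by
        have h5 : (k * (v : G) * k⁻¹)⁻¹ * (k * (w : G) * k⁻¹) = z := by
          have h6 := congrArg (fun q => (v : G)⁻¹ * q * (k * (w : G) * k⁻¹)) e'
          simpa [hz, mul_assoc] using h6
        conv_rhs => rw [← h5]
        rw [hz]; group
      by_contra hz1
      have hzb : z • b ≠ b := fun h => hz1 (hfree z hzH b hab.symm h)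
      have hza : z • b ≠ a := fun h => hab (MulAction.injective z ((hfix z hzH).trans h.symm))
      refine hk1 (h3 k a b (z • b) hab (Ne.symm hzb) (Ne.symm hza) hka hkb ?_)
      rw [← mul_smul, mul_inv_eq_iff_eq_mul.mp h4, mul_smul, hkb]
    intro v hv
    obtain ⟨w, hw⟩ := (Finite.injective_iff_surjective.mp hfi) ⟨v, hv⟩
    rw [show v = (w : G) * k * (w : G)⁻¹ * k⁻¹ by
      rw [show v = (w : G) * (k * (w : G) * k⁻¹)⁻¹ from (congrArg Subtype.val hw).symm]; group]
    exact mul_mem (Subgroup.Normal.conj_mem ‹N.Normal› k hkN w) (inv_mem hkN)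

omit [MulAction G Ω] [Fintype Ω] in
/-- The index of the derived group of a subgroup, computed in an overgroup. -/
theorem relIndex_derived (H L : Subgroup G) (hHL : H ≤ L) :
    ⁅H.subgroupOf L, H.subgroupOf L⁆.relIndex (H.subgroupOf L) = (commutator H).index := by
  letI := Fintype.ofFinite G
  rw [← Subgroup.relIndex_map_map_of_injective (f := L.subtype) _ _ L.subtype_injective,
    Subgroup.map_commutator, Subgroup.map_subgroupOf_eq_of_le hHL, Subgroup.relIndex,
    CfsgLib.Coherent.commutator_subgroupOf]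

/-- Feit's theorem. -/
theorem feit_bound (hZ : Cfsg.IsZassenhausGroup G Ω) {a b : Ω} (hab : a ≠ b) (h e : ℕ)
    (hh : Fintype.card Ω = h + 1)
    (he : Nat.card ↥(stabilizer G a ⊓ stabilizer G b : Subgroup G) = e) (hodd : Odd e)
    (H : Subgroup G) (hHa : H ≤ stabilizer G a) (hHcard : Nat.card H + 1 = Fintype.card Ω)
    (hHfix : ∀ u ∈ H, u ≠ 1 → ∀ c : Ω, u • c = c → c = a) :
    h - 1 ≤ 2 * e ∨ (IsPGroup 2 H ∧ (∃ u v : H, u * v ≠ v * u) ∧
      (commutator H).index ≤ 4 * e ^ 2 + 1) := by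
  classical
  letI := Fintype.ofFinite G
  obtain ⟨hTI, hnz⟩ := Cfsg.Agent.S0878.result hZ a H hHa hHcard hHfix
  have hHh : Nat.card H = h := by omega
  have he2 : 1 < e := he ▸ (CfsgLib.Clifford.zass_big hZ hab).1
  have h3 := hZ.2.2.1
  have h2t := hZ.2.1
  have hfix : ∀ x ∈ H, x • a = a := fun x hx => hHa hx
  have hnorm : ∀ g : G, g • a = a → ∀ x ∈ H, g * x * g⁻¹ ∈ H := fun g hg x hx =>
    (Subgroup.mem_normalizer_iff.mp (hnz.symm ▸ (hg : g ∈ stabilizer G a)) x).mp hx
  have hfree : ∀ x ∈ H, ∀ y : Ω, y ≠ a → x • y = y → x = 1 := fun x hx y hy e' =>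
    by_contra fun hx1 => hy (hHfix x hx hx1 y e')
  have hreg : ∀ y z : Ω, y ≠ a → z ≠ a → ∃! u : H, (u : G) • y = z := by
    intro y z hy hz
    let f : H → {c : Ω // c ≠ a} := fun u => ⟨(u : G) • y, fun h' => hy
      (MulAction.injective (u : G) (h'.trans (hfix u u.2).symm))⟩
    have hf : Function.Bijective f := by
      refine (Nat.bijective_iff_injective_and_card f).mpr ⟨fun u v h' => ?_, ?_⟩
      · have h'' : (u : G) • y = (v : G) • y := congr_arg Subtype.val h'
        refine Subtype.ext (inv_mul_eq_one.mp (hfree _ (H.mul_mem (H.inv_mem v.2) u.2) y hy ?_)).symm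
        rw [mul_smul, h'', inv_smul_smul]
      · have := Fintype.card_subtype_compl (fun c : Ω => c = a)
        rw [Fintype.card_subtype_eq] at this
        rw [Nat.card_eq_fintype_card (α := {c : Ω // c ≠ a})]
        simp only [ne_eq]
        omega
    obtain ⟨u, hu⟩ := hf.2 ⟨z, hz⟩
    exact ⟨u, congr_arg Subtype.val hu, fun v hv => hf.1 (Subtype.ext (hv.trans
      (congr_arg Subtype.val hu).symm))⟩
  by_cases hcomm : ∀ x ∈ H, ∀ y ∈ H, x * y = y * x
  · obtain ⟨-, hb⟩ := abelian_kernel_bound_aux _ rfl hZ a b H hab hfix hnorm hcomm hreg (he ▸ hodd)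
    left
    omega
  push Not at hcomm
  obtain ⟨u₀, hu₀, v₀, hv₀, huv⟩ := hcomm
  have hnc : ∃ u v : H, u * v ≠ v * u :=
    ⟨⟨u₀, hu₀⟩, ⟨v₀, hv₀⟩, fun e' => huv (congrArg Subtype.val e')⟩
  by_cases hexc : IsPGroup 2 H ∧ (commutator H).index ≤ 4 * e ^ 2 + 1
  · exact Or.inr ⟨hexc.1, hnc, hexc.2⟩
  exfalso
  -- elements of the stabiliser
  set L : Subgroup G := stabilizer G a with hL
  have hmf : ∀ g : G, g • a = a → g ∈ H ∨ ∃ y : Ω, y ≠ a ∧ g • y = y := by
    intro g hg
    by_contra hcon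
    push Not at hcon
    obtain ⟨hgH, hnofix⟩ := hcon
    obtain ⟨u, hu, -⟩ := hreg b (g • b) hab.symm
      (fun h' => hab (MulAction.injective g (hg.trans h'.symm)))
    set k : G := (u : G)⁻¹ * g with hk'
    have hka : k • a = a := by rw [hk', mul_smul, hg, inv_smul_eq_iff, hfix u u.2]
    have hkb : k • b = b := by rw [hk', mul_smul, ← hu, inv_smul_smul]
    have hk1 : k ≠ 1 := fun e' => hgH (by
      rw [show g = (u : G) * k by rw [hk']; group, e', mul_one]; exact u.2)
    let f : H → H := fun v => ⟨(v : G) * (k * (v : G) * k⁻¹)⁻¹,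
      mul_mem v.2 (inv_mem (hnorm k hka v v.2))⟩
    have hfi : Function.Injective f := by
      intro v w e'
      have e'' : (v : G) * (k * (v : G) * k⁻¹)⁻¹ = (w : G) * (k * (w : G) * k⁻¹)⁻¹ :=
        congrArg Subtype.val e'
      refine Subtype.ext (inv_mul_eq_one.mp ?_)
      set z : G := (v : G)⁻¹ * w with hz
      have hzH : z ∈ H := mul_mem (inv_mem v.2) w.2
      have h4 : k * z * k⁻¹ = z := by
        have h5 : (k * (v : G) * k⁻¹)⁻¹ * (k * (w : G) * k⁻¹) = z := by
          have h6 := congrArg (fun q => (v : G)⁻¹ * q * (k * (w : G) * k⁻¹)) e''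
          simpa [hz, mul_assoc] using h6
        conv_rhs => rw [← h5]
        rw [hz]; group
      by_contra hz1
      have hzb : z • b ≠ b := fun h' => hz1 (hfree z hzH b hab.symm h')
      have hza : z • b ≠ a := fun h' => hab (MulAction.injective z ((hfix z hzH).trans h'.symm))
      refine hk1 (h3 k a b (z • b) hab (Ne.symm hzb) (Ne.symm hza) hka hkb ?_)
      rw [← mul_smul, mul_inv_eq_iff_eq_mul.mp h4, mul_smul, hkb]
    obtain ⟨w, hw⟩ := (Finite.injective_iff_surjective.mp hfi) u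
    have hgw : g = (w : G) * k * (w : G)⁻¹ := by
      have e' : (w : G) * (k * (w : G) * k⁻¹)⁻¹ = (u : G) := congrArg Subtype.val hw
      rw [show g = (u : G) * k by rw [hk']; group, ← e']; group
    refine hnofix ((w : G) • b) (fun h' => hab (MulAction.injective (w : G)
      ((hfix w w.2).trans h'.symm))) ?_
    rw [hgw, mul_smul, mul_smul, inv_smul_smul, hkb]
  set K := H.subgroupOf L with hK
  haveI : K.Normal := ⟨fun x hx g => Subgroup.mem_subgroupOf.mpr
    (hnorm g g.2 x (Subgroup.mem_subgroupOf.mp hx))⟩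
  letI := Fintype.ofFinite L
  letI := Fintype.ofFinite K
  have hC : ∀ x ∈ K, x ≠ 1 → Subgroup.centralizer ({x} : Set L) ≤ K := by
    intro x hx hx1 g hg
    have e' : (g : G) * x = x * g :=
      congrArg Subtype.val (Subgroup.mem_centralizer_singleton_iff.mp hg)
    rw [Subgroup.mem_subgroupOf] at hx ⊢
    rcases hmf g g.2 with hgH | ⟨y, hy, hgy⟩
    · exact hgH
    have hxy : (x : G) • y ≠ y := fun h' => hx1 (Subtype.ext (hfree x hx y hy h'))
    have hxa : (x : G) • y ≠ a := fun h' => hy (MulAction.injective (x : G)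
      (h'.trans (hfix x hx).symm))
    have hg1 : (g : G) = 1 := h3 g a y ((x : G) • y) hy.symm (Ne.symm hxy) (Ne.symm hxa) g.2 hgy
      (by rw [← mul_smul, e', mul_smul, hgy])
    rw [hg1]; exact one_mem _
  have hHH : ¬ ⁅K, K⁆ = ⊥ := by
    intro h0
    have h1 := congrArg (Subgroup.map L.subtype) h0
    rw [Subgroup.map_bot, Subgroup.map_commutator, hK, Subgroup.map_subgroupOf_eq_of_le hHa] at h1
    have h2 := Subgroup.commutator_mem_commutator hu₀ hv₀
    rw [h1, Subgroup.mem_bot, commutatorElement_eq_one_iff_mul_comm] at h2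
    exact huv h2
  have hK1 : K ≠ ⊥ := fun h0 => hHH (le_bot_iff.mp ((Subgroup.commutator_le_self K).trans h0.le))
  have hcardK : Nat.card K = h :=
    (Nat.card_congr (Subgroup.subgroupOfEquivOfLe hHa).toEquiv).trans hHh
  haveI := h2t
  haveI := isPretransitive_of_is_two_pretransitive (h2 := h2t)
  have hLi : L.index = Nat.card H + 1 := by
    rw [hL, index_stabilizer_of_transitive, Nat.card_eq_fintype_card, hHcard]
  have hidxK : K.index = e := by
    have h1 := Subgroup.card_mul_index L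
    rw [hLi, natCard_two_transitive h2t hab, he, hh, hHh, Nat.add_sub_cancel] at h1
    have h2 := Subgroup.card_mul_index K
    rw [hcardK] at h2
    rw [← h2] at h1
    have h4 : h * K.index * (h + 1) = h * e * (h + 1) := by rw [h1]; ring
    have hpos : 0 < h := hHh ▸ Nat.card_pos
    exact Nat.eq_of_mul_eq_mul_left hpos (Nat.eq_of_mul_eq_mul_right (Nat.succ_pos h) h4)
  have hK2 : K ≠ ⊤ := fun h0 => by rw [h0, Subgroup.index_top] at hidxK; omega
  have hne : Nat.card K ≠ K.index + 1 := fun h0 =>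
    hHH (CfsgLib.Coherent.elementary_of_card_eq hC hK1 h0).1
  have hrel := relIndex_derived H L hHa
  rw [← hK] at hrel
  have h2 : ∀ m, Nat.card K = 2 ^ m → ⁅K, K⁆ ≠ ⊥ →
      4 * K.index ^ 2 + 1 < ⁅K, K⁆.relIndex K := by
    intro m hm _
    by_contra hle
    refine hexc ⟨IsPGroup.of_card (n := m) (by rw [hHh, ← hcardK, hm]), ?_⟩
    rw [← hrel, ← hidxK]; omega
  have hcoh := CfsgLib.Coherent.coherent_ti_kernel H L hnz
    (fun g hg x hx hgx => hTI g (hnz ▸ hg) x hx hgx) hK1 hK2 hC hne h2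
  have hnil := CfsgLib.Coherent.frobenius_kernel_nilpotent hC hK2
  -- the kernel is large
  have hsplit : Nat.card ↥⁅K, K⁆ * ⁅K, K⁆.relIndex K = h := by
    rw [← hcardK, ← Nat.card_congr (Subgroup.subgroupOfEquivOfLe
      (Subgroup.commutator_le_self K)).toEquiv]
    exact Subgroup.card_mul_index _
  have hD : e + 1 ≤ Nat.card ↥⁅K, K⁆ := by
    have h1 := CfsgLib.Coherent.index_dvd_card_sub_one hC (A := ⁅K, K⁆) (Subgroup.commutator_le_self K)
    rw [hidxK] at h1
    have h4 : Nat.card ↥⁅K, K⁆ ≠ 1 := fun h' => hHH (Subgroup.card_eq_one.mp h')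
    have h5 : 0 < Nat.card ↥⁅K, K⁆ := Nat.card_pos
    have := Nat.le_of_dvd (by omega) h1
    omega
  have hQ : 2 * e + 1 ≤ ⁅K, K⁆.relIndex K := by
    obtain ⟨p, hp, hpd⟩ := Nat.exists_prime_and_dvd (fun e' => hK1 (Subgroup.card_eq_one.mp e'))
    haveI := Fact.mk hp
    by_cases hq : ∃ q, q.Prime ∧ q ∣ Nat.card K ∧ q ≠ p
    · obtain ⟨q, hq, hqd, hqp⟩ := hq
      haveI := Fact.mk hq
      have := CfsgLib.Coherent.section_large hC hnil hqp.symm hpd hqd (A := ⁅K, K⁆) le_rfl
      rw [hidxK] at this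
      nlinarith
    · push Not at hq
      have hpk := Nat.eq_prime_pow_of_unique_prime_dvd (Nat.card_pos (α := K)).ne'
        fun {q} hq' hqd => hq q hq' hqd
      by_cases hp2 : p = 2
      · have := h2 _ (hp2 ▸ hpk) hHH
        rw [hidxK] at this
        nlinarith
      · obtain ⟨c, hc⟩ := CfsgLib.Coherent.index_dvd_section hC
          (A := ⁅K, K⁆) (B := K) (Subgroup.commutator_le_self K) le_rfl
        rw [hidxK] at hc
        have hr1 := (CfsgLib.Coherent.index_lt_section hC
          (CfsgLib.Coherent.derived_lt hnil hK1) le_rfl).trans' le_rfl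
        rw [hidxK] at hr1
        have hodd' : Odd (⁅K, K⁆.relIndex K) := by
          refine Odd.of_dvd_nat (hpk ▸ (hp.odd_of_ne_two hp2).pow) ?_
          exact ⟨Nat.card ↥⁅K, K⁆, by rw [hcardK, ← hsplit]; ring⟩
        obtain ⟨i, hi⟩ := hodd'
        obtain ⟨j, hj⟩ := hodd
        have hc2 : 2 ≤ c := by
          by_contra hlt
          interval_cases c <;> omega
        have : e * 2 ≤ e * c := Nat.mul_le_mul_left _ hc2
        omega
  have hbig : (K.index + 1) ^ 2 < Nat.card H := by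
    rw [hidxK, hHh, ← hsplit]
    calc (e + 1) ^ 2 < (e + 1) * (2 * e + 1) := by nlinarith
      _ ≤ _ := Nat.mul_le_mul hD hQ
  obtain ⟨χ, hχ, hker, x, hxH, hne'⟩ := exists_char_derived H L hHa
    (fun g hg => hTI g hg) hK1 hK2 hC hcoh hLi hbig
  obtain ⟨n, ρ, hρ⟩ := CfsgLib.Char.irr_isCharacter hχ
  have hmemN : ∀ g : G, g ∈ MonoidHom.ker ρ ↔ χ g = χ 1 := fun g => by
    rw [CfsgLib.Char.mem_ker_iff_char, hρ]
  obtain ⟨y, hy, hy1⟩ : ∃ y ∈ ⁅H, H⁆, y ≠ (1 : G) :=
    ⟨_, Subgroup.commutator_mem_commutator hu₀ hv₀,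
      fun e' => huv (commutatorElement_eq_one_iff_mul_comm.mp e')⟩
  haveI : (MonoidHom.ker ρ).Normal := MonoidHom.normal_ker ρ
  exact hne' ((hmemN x).mp (kernel_le_normal hZ hab H hfix hnorm hfree hreg hmf (MonoidHom.ker ρ)
    ((hmemN y).mpr (hker y hy)) (Subgroup.commutator_le_self H hy) hy1 hxH))

end CfsgLib.Perm.FeitCoherent
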