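import Cfsg.Agent.Lib.Perm.IcoMain
import Cfsg.Agent.S3357
import Cfsg.Agent.Lib.StructC.FrobSemi

/-!
Frobenius complements as fixed-point-free complex linear groups.
-/

set_option autoImplicit false

namespace CfsgLib.Perm.Ico

universe u

/-- A Frobenius complement has a fixed-point-free complex representation. -/
theorem exists_fpf_complex {G : Type u} [Group G] [Finite G]
    (hFC : ∃ (L : Type) (_ : Group L) (_ : Finite L) (H : Subgroup L),
      Cfsg.IsFrobeniusComplement H ∧ Nonempty (G ≃* H)) :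
    ∃ (m : ℕ) (f : G →* Module.End ℂ (Fin m → ℂ)), 0 < m ∧ Fpf f := by
  classical
  obtain ⟨L, _, _, H, hH, ⟨e⟩⟩ := hFC
  obtain ⟨V, φ, hVc, hVne, hco, hfpf⟩ := CfsgLib.Solvable.exists_fpf_abelian hH
  letI : CommGroup V := { (inferInstance : Group V) with mul_comm := hVc.is_comm.comm }
  haveI : Nontrivial V := V.nontrivial_iff_ne_bot.mpr hVne
  obtain ⟨p, hp, n, hn, ρ, hρ, hpG⟩ := Cfsg.Agent.S3357.fpf_matrices (G := G)
    (φ.comp e.toMonoidHom)
    (fun g hg => hfpf (e g) (fun h => hg (e.injective (h.trans (map_one e).symm))))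
    (by rw [Nat.card_congr e.toEquiv]; exact hco)
  haveI := hp
  obtain ⟨m, τ, hm, -, hfix⟩ := CfsgLib.Recog.exists_irreducible_fpf ℂ hpG hn ρ hρ
  refine ⟨m, (Matrix.toLinAlgEquiv' (R := ℂ) (n := Fin m)).toMonoidHom.comp
    ((Units.coeHom _).comp τ), hm, fun g hg v hv => hfix g hg v ?_⟩
  simpa using hv

/-- A nontrivial perfect Frobenius complement is `SL(2,5)`. -/
theorem perfect_complement {G : Type u} [Group G] [Finite G] [Nontrivial G]
    (hFC : ∃ (L : Type) (_ : Group L) (_ : Finite L) (H : Subgroup L),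
      Cfsg.IsFrobeniusComplement H ∧ Nonempty (G ≃* H))
    (hperf : commutator G = ⊤) :
    Nonempty (G ≃* Matrix.SpecialLinearGroup (Fin 2) (ZMod 5)) := by
  obtain ⟨m, f, hm, hf⟩ := exists_fpf_complex hFC
  have : Nonempty (Fin m) := ⟨⟨0, hm⟩⟩
  exact perfect_fpf hf hperf

end CfsgLib.Perm.Ico
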