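import Mathlib

/-!
Maximality in the alternating group of the stabilizer of a partition into blocks of equal size (degree not 8).
-/

set_option autoImplicit false

set_option linter.unusedSectionVars false

namespace CfsgLib.Perm.PartitionMax

open Equiv Equiv.Perm MulAction
open scoped Pointwise

variable {Ω : Type*} [Fintype Ω] [DecidableEq Ω] {b : ℕ} (f : Ω → Fin b)

/-- `g` preserves the partition -/
def Pres (g : Perm Ω) : Prop := ∀ x y : Ω, f x = f y ↔ f (g x) = f (g y)

theorem pres_of_mem_closure {g : Perm Ω} (h : g ∈ Subgroup.closure {g | Pres f g}) : Pres f g := by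
  induction h using Subgroup.closure_induction with
  | mem x hx => exact hx
  | one => exact fun _ _ => Iff.rfl
  | mul p q _ _ hp hq => exact fun x y => (hq x y).trans (hp (q x) (q y))
  | inv p _ hp =>
    intro x y
    have := hp (p⁻¹ x) (p⁻¹ y)
    simpa using this.symm

theorem pres_mul {p q : Perm Ω} (hp : Pres f p) (hq : Pres f q) : Pres f (p * q) :=
  fun x y => (hq x y).trans (hp (q x) (q y))

theorem pres_of_comp {g : Perm Ω} (π : Perm (Fin b)) (h : ∀ z, f (g z) = π (f z)) : Pres f g := fun x y => by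
  rw [h, h, π.injective.eq_iff]

theorem pres_swap {x y : Ω} (h : f x = f y) : Pres f (swap x y) := by
  refine pres_of_comp f 1 fun z => ?_
  rw [Perm.one_apply, swap_apply_def]
  split_ifs with h1 h2
  · rw [h1, h]
  · rw [h2, h]
  · rfl

/-- `g` maps fibres into fibres, so preserves the partition. -/
theorem pres_of_maps (hsurj : Function.Surjective f) {g : Perm Ω} (h : ∀ x y, f x = f y → f (g x) = f (g y)) :
    Pres f g := by
  choose s hs using hsurj
  have hcomp : ∀ z, f (g z) = f (g (s (f z))) := fun z => h _ _ (hs (f z)).symm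
  have hinj : Function.Injective (fun i => f (g (s i))) := Finite.injective_iff_surjective.2 fun j => by
    obtain ⟨z, hz⟩ := g.surjective (s j)
    refine ⟨f z, ?_⟩
    show f (g (s (f z))) = j
    rw [← hcomp, hz, hs]
  exact pres_of_comp f (Equiv.ofBijective _ hinj.bijective_of_finite) fun z => hcomp z

theorem swap_fix_of_fibre {z z' w : Ω} (h : f z' = f z) (hw : f w ≠ f z) : swap z z' w = w :=
  swap_apply_of_ne_of_ne (fun e => hw (by rw [e])) (fun e => hw (by rw [e, h]))

theorem sign_swap_mul_swap {x y z w : Ω} (h : x ≠ y) (h' : z ≠ w) : sign (swap x y * swap z w) = 1 := by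
  rw [Perm.sign_mul, sign_swap h, sign_swap h']; decide

variable {a : ℕ} (hf : ∀ i, Nat.card {x : Ω // f x = i} = a)
include hf

theorem exists_mate (ha : 2 ≤ a) (x : Ω) : ∃ y, y ≠ x ∧ f y = f x := by
  classical
  have h : 1 < Fintype.card {z : Ω // f z = f x} := by
    rw [← Nat.card_eq_fintype_card, hf]; omega
  obtain ⟨⟨y, hy⟩, hne⟩ := Fintype.exists_ne_of_one_lt_card h ⟨x, rfl⟩
  exact ⟨y, fun e => hne (Subtype.ext e), hy⟩

theorem exists_mate_ne (ha : 3 ≤ a) (x y : Ω) : ∃ z, z ≠ x ∧ z ≠ y ∧ f z = f x := by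
  classical
  by_contra h
  push Not at h
  have h2 : (Finset.univ.filter fun z => f z = f x) ⊆ {x, y} := fun z hz => by
    rw [Finset.mem_filter] at hz
    by_cases h1 : z = x
    · simp [h1]
    · by_cases h3 : z = y
      · simp [h3]
      · exact absurd hz.2 (h z h1 h3)
  have h4 := (Finset.card_le_card h2).trans Finset.card_le_two
  rw [← Fintype.card_subtype, ← Nat.card_eq_fintype_card, hf] at h4
  omega

theorem fibre_two (ha : a = 2) {x y z : Ω} (hxy : x ≠ y) (hf' : f y = f x) (hz : f z = f x) : z = x ∨ z = y := by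
  classical
  by_contra h
  push Not at h
  have h3 : ({x, y, z} : Finset Ω) ⊆ Finset.univ.filter fun w => f w = f x := by
    intro w hw
    simp only [Finset.mem_insert, Finset.mem_singleton] at hw
    rcases hw with rfl | rfl | rfl <;> simp [hf', hz]
  have h4 := Finset.card_le_card h3
  rw [← Fintype.card_subtype, ← Nat.card_eq_fintype_card, hf, ha,
    Finset.card_eq_three.2 ⟨x, y, z, hxy, h.1.symm, h.2.symm, rfl⟩] at h4
  omega

theorem surjective (ha : 2 ≤ a) : Function.Surjective f := fun i => by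
  have h : 0 < Nat.card {x : Ω // f x = i} := by rw [hf]; omega
  obtain ⟨⟨⟨x, hx⟩⟩, -⟩ := Nat.card_pos_iff.1 h
  exact ⟨x, hx⟩

omit hf in
theorem exists_avoid (s : Finset (Fin b)) (h : s.card < b) : ∃ k, k ∉ s := by
  obtain ⟨k, -, hk⟩ := Finset.exists_mem_notMem_of_card_lt_card (s := s) (t := Finset.univ) (by simpa using h)
  exact ⟨k, hk⟩

theorem exists_other (ha : 2 ≤ a) (s : Finset (Fin b)) (h : s.card < b) :
    ∃ z z', z ≠ z' ∧ f z' = f z ∧ f z ∉ s := by
  obtain ⟨k, hk⟩ := exists_avoid s h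
  obtain ⟨z, hz⟩ := surjective f hf ha k
  obtain ⟨z', hne, hz'⟩ := exists_mate f hf ha z
  exact ⟨z, z', hne.symm, hz', hz ▸ hk⟩

/-- a permutation of the blocks lifts to a partition-preserving permutation -/
theorem exists_lift (π : Perm (Fin b)) : ∃ g : Perm Ω, ∀ x, f (g x) = π (f x) := by
  classical
  have e : ∀ i, {x : Ω // f x = i} ≃ Fin a := fun i =>
    Fintype.equivFinOfCardEq (by rw [← Nat.card_eq_fintype_card, hf])
  let φ : Ω ≃ (_ : Fin b) × Fin a := (Equiv.sigmaFiberEquiv f).symm.trans (Equiv.sigmaCongrRight e)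
  have hφ : ∀ p, f (φ.symm p) = p.1 := fun p => ((e p.1).symm p.2).2
  have hφ' : ∀ x, (φ x).1 = f x := fun x => rfl
  refine ⟨φ.trans ((Equiv.sigmaEquivProd _ _).trans ((π.prodCongr (Equiv.refl _)).trans
    ((Equiv.sigmaEquivProd _ _).symm.trans φ.symm))), fun x => ?_⟩
  simp [hφ, hφ']

variable {K : Subgroup (Perm Ω)} (hK : ∀ g, Pres f g → sign g = 1 → g ∈ K) (ha : 2 ≤ a) (hb : 2 ≤ b)
include hK ha hb

/-- an element moving the blocks as prescribed, even, and mapping `x` into the block prescribed -/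
theorem exists_even_lift (π : Perm (Fin b)) : ∃ g ∈ K, ∀ x, f (g x) = π (f x) := by
  obtain ⟨g, hg⟩ := exists_lift f hf π
  rcases Int.units_eq_one_or (sign g) with h | h
  · exact ⟨g, hK g (pres_of_comp f π hg) h, hg⟩
  · obtain ⟨z, hz⟩ := surjective f hf ha ⟨0, by omega⟩
    obtain ⟨z', hne, hz'⟩ := exists_mate f hf ha z
    have hsw : ∀ w, f (swap z z' w) = f w := fun w => by
      rw [swap_apply_def]
      split_ifs with h1 h2
      · rw [h1, hz']
      · rw [h2, hz']
      · rfl
    have hg' : ∀ x, f ((swap z z' * g) x) = π (f x) := fun x => by rw [Perm.mul_apply, hsw, hg]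
    exact ⟨_, hK _ (pres_of_comp f π hg') (by rw [Perm.sign_mul, sign_swap hne.symm, h]; decide), hg'⟩

theorem swap_pair_mem {x y z w : Ω} (hxy : x ≠ y) (hf1 : f x = f y) (hzw : z ≠ w) (hf2 : f z = f w) :
    swap x y * swap z w ∈ K :=
  hK _ (pres_mul f (pres_swap f hf1) (pres_swap f hf2)) (sign_swap_mul_swap hxy hzw)

theorem exists_move (x y : Ω) : ∃ g ∈ K, g x = y := by
  obtain ⟨g, hgK, hg⟩ := exists_even_lift f hf hK ha hb (swap (f x) (f y))
  by_cases h : g x = y
  · exact ⟨g, hgK, h⟩
  have hfy : f (g x) = f y := by rw [hg, swap_apply_left]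
  obtain ⟨z, z', hne, hz', hz⟩ := exists_other f hf ha {f y} (by simp; omega)
  rw [Finset.mem_singleton] at hz
  refine ⟨swap (g x) y * swap z z' * g, mul_mem (swap_pair_mem f hf hK ha hb h hfy hne hz'.symm) hgK, ?_⟩
  have h1 : g x ≠ z := fun e => hz (by rw [← e, hfy])
  have h2 : g x ≠ z' := fun e => hz (by rw [← hfy, e, hz'])
  rw [Perm.mul_apply, Perm.mul_apply, swap_apply_of_ne_of_ne h1 h2, swap_apply_left]

theorem isPretransitive : IsPretransitive K Ω :=
  ⟨fun x y => by obtain ⟨g, hg, h⟩ := exists_move f hf hK ha hb x y; exact ⟨⟨g, hg⟩, h⟩⟩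

omit hb in
theorem isPreprimitive_four (hb : b = 2) (ha' : a = 2) {g : Perm Ω} (hg : g ∈ K) (h3 : g.IsThreeCycle) :
    IsPreprimitive K Ω := by
  have := isPretransitive f hf hK ha (by omega)
  have hcard : Fintype.card Ω = 4 := by
    rw [← Nat.card_eq_fintype_card, ← Nat.card_congr (Equiv.sigmaFiberEquiv f), Nat.card_sigma]
    simp only [hf, Finset.sum_const, Finset.card_univ, Fintype.card_fin, smul_eq_mul, hb, ha']
  refine ⟨fun {B} hB => ?_⟩
  rcases Set.subsingleton_or_nontrivial B with h | h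
  · exact Or.inl h
  right
  obtain ⟨x, hx, y, hy, hxy⟩ := h
  obtain ⟨w, hw⟩ : ∃ w, w ∉ g.support := by
    obtain ⟨w, -, hw⟩ := Finset.exists_mem_notMem_of_card_lt_card (s := g.support) (t := Finset.univ)
      (by rw [card_support_eq_three_iff.2 h3, Finset.card_univ, hcard]; omega)
    exact ⟨w, hw⟩
  have huniq : ∀ v, v ∉ g.support → v = w := by
    intro v hv
    by_contra hne
    have h1 : g.support ⊆ Finset.univ \ {v, w} := fun u hu => by
      simp only [Finset.mem_sdiff, Finset.mem_univ, Finset.mem_insert, Finset.mem_singleton, true_and, not_or]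
      exact ⟨fun e => hv (e ▸ hu), fun e => hw (e ▸ hu)⟩
    have h2 := Finset.card_le_card h1
    rw [card_support_eq_three_iff.2 h3, Finset.card_univ_sdiff, hcard, Finset.card_pair hne] at h2
    omega
  obtain ⟨k, hk, hkw⟩ := exists_move f hf hK ha (by omega) x w
  have hB' : IsBlock K ((⟨k, hk⟩ : K) • B) := hB.translate _
  set B' := (⟨k, hk⟩ : K) • B with hB'def
  have hwB : w ∈ B' := ⟨x, hx, hkw⟩
  have hyB : k y ∈ B' := ⟨y, hy, rfl⟩
  have hne : k y ≠ w := fun e => hxy (k.injective (hkw.trans e.symm))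
  have hmove : k y ∈ g.support := by_contra fun h => hne (huniq _ h)
  have hfix : (⟨g, hg⟩ : K) • B' = B' := by
    by_contra hne'
    have hd := hB' (g₁ := (⟨g, hg⟩ : K)) (g₂ := 1) (by rwa [one_smul])
    rw [one_smul] at hd
    exact hd.le_bot ⟨⟨w, hwB, notMem_support.1 hw⟩, hwB⟩
  have hpow : ∀ m : ℕ, (g ^ m) (k y) ∈ B' := by
    intro m
    induction m with
    | zero => exact hyB
    | succ m ih =>
      rw [pow_succ', Perm.mul_apply]
      exact hfix ▸ ⟨_, ih, rfl⟩
  have huniv : B' = Set.univ := by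
    refine Set.eq_univ_of_forall fun v => ?_
    by_cases hv : v ∈ g.support
    · obtain ⟨m, hm⟩ := h3.isCycle.exists_pow_eq (mem_support.1 hmove) (mem_support.1 hv)
      exact hm ▸ hpow m
    · exact huniq v hv ▸ hwB
  have := congrArg (fun S : Set Ω => (⟨k, hk⟩ : K)⁻¹ • S) huniv
  simpa [hB'def] using this

theorem isPreprimitive (hab : 3 ≤ a ∨ 3 ≤ b) {g : Perm Ω} (hg : g ∈ K) (hgp : ¬ Pres f g) :
    IsPreprimitive K Ω := by
  have := isPretransitive f hf hK ha hb
  refine ⟨fun {B} hB => ?_⟩
  rcases Set.subsingleton_or_nontrivial B with h | h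
  · exact Or.inl h
  right
  obtain ⟨x₀, hx₀, y₀, hy₀, hxy₀⟩ := h
  have hstab : ∀ k ∈ K, ∀ u ∈ B, k u ∈ B → ∀ v ∈ B, k v ∈ B := by
    intro k hk u hu hku v hv
    have hfix : (⟨k, hk⟩ : K) • B = B := by
      by_contra hne'
      have hd := hB (g₁ := (⟨k, hk⟩ : K)) (g₂ := 1) (by rwa [one_smul])
      rw [one_smul] at hd
      exact hd.le_bot ⟨⟨u, hu, rfl⟩, hku⟩
    exact hfix ▸ ⟨v, hv, rfl⟩
  by_cases hcase : ∃ x ∈ B, ∃ y ∈ B, f y ≠ f x
  · have hfib : ∀ x ∈ B, ∀ y ∈ B, f y ≠ f x → ∀ y'', f y'' = f y → y'' ∈ B := by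
      intro x hx y hy hne y'' hy''
      by_cases e : y'' = y
      · rwa [e]
      obtain ⟨z, z', hzz, hz', hzx, hz'x, hzy⟩ :
          ∃ z z', z ≠ z' ∧ f z' = f z ∧ z ≠ x ∧ z' ≠ x ∧ f z ≠ f y := by
        rcases hab with ha3 | hb3
        · obtain ⟨z, hz, -, hzf⟩ := exists_mate_ne f hf ha3 x x
          obtain ⟨z', hz', hz'z, hz'f⟩ := exists_mate_ne f hf ha3 x z
          exact ⟨z, z', hz'z.symm, hz'f.trans hzf.symm, hz, hz', by rw [hzf]; exact hne.symm⟩
        · obtain ⟨z, z', hzz, hz', hz⟩ := exists_other f hf ha {f x, f y}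
            (Finset.card_le_two.trans_lt (by omega))
          simp only [Finset.mem_insert, Finset.mem_singleton, not_or] at hz
          exact ⟨z, z', hzz, hz', fun e => hz.1 (by rw [e]), fun e => hz.1 (by rw [← hz', e]), hz.2⟩
      have hk := swap_pair_mem f hf hK ha hb (Ne.symm e) hy''.symm hzz hz'.symm
      have h1 : (swap y y'' * swap z z') x = x := by
        rw [Perm.mul_apply, swap_apply_of_ne_of_ne hzx.symm hz'x.symm, swap_fix_of_fibre f hy'' hne.symm]
      have h2 : (swap y y'' * swap z z') y = y'' := by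
        rw [Perm.mul_apply, swap_fix_of_fibre f hz' (Ne.symm hzy), swap_apply_left]
      exact h2 ▸ hstab _ hk x hx (by rw [h1]; exact hx) y hy
    obtain ⟨x, hx, y, hy, hne⟩ := hcase
    refine Set.eq_univ_of_forall fun w => ?_
    by_cases h1 : f w = f x
    · exact hfib y hy x hx hne.symm w h1
    by_cases h2 : f w = f y
    · exact hfib x hx y hy hne w h2
    obtain ⟨k, hk, hkf⟩ := exists_even_lift f hf hK ha hb (swap (f y) (f w))
    have hkx : k x ∈ B := hfib y hy x hx hne.symm _ (by
      rw [hkf, swap_apply_of_ne_of_ne hne.symm (Ne.symm h1)])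
    have hky : k y ∈ B := hstab k hk x hx hkx y hy
    exact hfib x hx (k y) hky (by rw [hkf, swap_apply_left]; exact h1) w (by rw [hkf, swap_apply_left])
  · exfalso
    push Not at hcase
    have hfull : ∀ y, f y = f x₀ → y ∈ B := by
      intro y hy
      by_cases e : y = y₀
      · rwa [e]
      by_cases e' : y = x₀
      · rwa [e']
      obtain ⟨z, z', hzz, hz', hz⟩ := exists_other f hf ha {f x₀} (by simp; omega)
      rw [Finset.mem_singleton] at hz
      have hk := swap_pair_mem f hf hK ha hb (Ne.symm e) ((hcase x₀ hx₀ y₀ hy₀).trans hy.symm) hzz hz'.symm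
      have h1 : (swap y₀ y * swap z z') x₀ = x₀ := by
        rw [Perm.mul_apply, swap_fix_of_fibre f hz' (Ne.symm hz), swap_apply_of_ne_of_ne hxy₀ (Ne.symm e')]
      have h2 : (swap y₀ y * swap z z') y₀ = y := by
        have hy0 : f y₀ ≠ f z := by rw [hcase x₀ hx₀ y₀ hy₀]; exact Ne.symm hz
        rw [Perm.mul_apply, swap_fix_of_fibre f hz' hy0, swap_apply_left]
      exact h2 ▸ hstab _ hk x₀ hx₀ (by rw [h1]; exact hx₀) y₀ hy₀
    refine hgp (pres_of_maps f (surjective f hf ha) fun p q hpq => ?_)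
    obtain ⟨k, hk, hkf⟩ := exists_even_lift f hf hK ha hb (swap (f x₀) (f p))
    obtain ⟨k', hk', hkf'⟩ := exists_even_lift f hf hK ha hb (swap (f x₀) (f (g p)))
    have key : ∀ u, f u = f p → ∃ v ∈ B, k v = u := fun u hu => ⟨k⁻¹ u, hfull _ (by
      have := hkf (k⁻¹ u)
      rw [← Perm.mul_apply, mul_inv_cancel, Perm.one_apply, hu] at this
      exact (swap (f x₀) (f p)).injective (by rw [← this, swap_apply_left])), by
        rw [← Perm.mul_apply, mul_inv_cancel, Perm.one_apply]⟩
    obtain ⟨v, hv, hkv⟩ := key p rfl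
    obtain ⟨v', hv', hkv'⟩ := key q hpq.symm
    have hmem : k'⁻¹ * (g * k) ∈ K := mul_mem (inv_mem hk') (mul_mem hg hk)
    have hval : ∀ t, f (g (k t)) = f (g p) → (k'⁻¹ * (g * k)) t ∈ B := fun t ht => hfull _ (by
      have := hkf' ((k'⁻¹ * (g * k)) t)
      rw [← Perm.mul_apply, ← mul_assoc, mul_inv_cancel, one_mul, Perm.mul_apply, ht] at this
      exact (swap (f x₀) (f (g p))).injective (by rw [← this, swap_apply_left]))
    have h3 := hcase x₀ hx₀ _ (hstab _ hmem v hv (hval v (by rw [hkv])) v' hv')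
    have h4 := hkf' ((k'⁻¹ * (g * k)) v')
    rw [← Perm.mul_apply, ← mul_assoc, mul_inv_cancel, one_mul, Perm.mul_apply, hkv', h3, swap_apply_left] at h4
    exact h4.symm

theorem exists_threeCycle (h8 : Fintype.card Ω ≠ 8) {g : Perm Ω} (hg : g ∈ K) (hgs : sign g = 1)
    (hgp : ¬ Pres f g) : ∃ c ∈ K, c.IsThreeCycle := by
  rcases Nat.lt_or_ge a 3 with ha3 | ha3
  swap
  · obtain ⟨x, -⟩ := surjective f hf ha ⟨0, by omega⟩
    obtain ⟨y, hy, -, hyf⟩ := exists_mate_ne f hf ha3 x x
    obtain ⟨z, hz, hzy, hzf⟩ := exists_mate_ne f hf ha3 x y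
    exact ⟨_, swap_pair_mem f hf hK ha hb hy.symm hyf.symm hz.symm hzf.symm,
      isThreeCycle_swap_mul_swap_same hy.symm hz.symm hzy.symm⟩
  have ha2 : a = 2 := by omega
  have hcard : Fintype.card Ω = 2 * b := by
    rw [← Nat.card_eq_fintype_card, ← Nat.card_congr (Equiv.sigmaFiberEquiv f), Nat.card_sigma]
    simp only [hf, Finset.sum_const, Finset.card_univ, Fintype.card_fin, smul_eq_mul, ha2, mul_comm]
  obtain ⟨x, x', hxx, hsplit⟩ : ∃ x x', f x = f x' ∧ f (g x) ≠ f (g x') := by
    by_contra h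
    push Not at h
    exact hgp (pres_of_maps f (surjective f hf ha) h)
  have hx'x : x ≠ x' := fun e => hsplit (by rw [e])
  rcases Nat.lt_or_ge b 3 with hb3 | hb3
  · -- four points
    refine ⟨g, hg, card_support_eq_three_iff.1 ?_⟩
    have h4 : g.support.card ≤ 4 := g.support.card_le_univ.trans (by omega)
    have h1 : g.support.card ≠ 1 := card_support_ne_one g
    have h0 : g.support.card ≠ 0 := fun e => hgp (by
      rw [card_support_eq_zero.1 e]; exact fun _ _ => Iff.rfl)
    have h2 : g.support.card ≠ 2 := fun e => by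
      rw [(card_support_eq_two.1 e).sign_eq] at hgs
      exact absurd hgs (by decide)
    by_contra h3
    have h44 : g.support.card = 4 := by omega
    have huniv : g.support = Finset.univ := Finset.eq_univ_of_card _ (by omega)
    have hsum : g.cycleType.sum = 4 := by rw [sum_cycleType, h44]
    have hge : ∀ m ∈ g.cycleType, 2 ≤ m := fun m hm => two_le_of_mem_cycleType hm
    have hs := sign_of_cycleType g
    rw [hgs, hsum] at hs
    have hc2 : Multiset.card g.cycleType ≤ 2 := by
      have := Multiset.card_nsmul_le_sum hge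
      rw [hsum, smul_eq_mul] at this
      omega
    have hall : ∀ m ∈ g.cycleType, m = 2 := by
      intro m hm
      obtain ⟨t, ht⟩ := Multiset.exists_cons_of_mem hm
      rw [ht, Multiset.sum_cons] at hsum
      have h5 : ∀ v ∈ t, 2 ≤ v := fun v hv => hge v (ht ▸ Multiset.mem_cons_of_mem hv)
      have h6 := Multiset.card_nsmul_le_sum h5
      rw [smul_eq_mul] at h6
      rw [ht, Multiset.card_cons] at hs hc2
      rcases Nat.eq_zero_or_pos (Multiset.card t) with h7 | h7
      · rw [h7] at hs
        exact absurd hs (by decide)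
      · have := hge m hm
        omega
    have hg2 : g ^ 2 = 1 := orderOf_dvd_iff_pow_eq_one.1 (by
      rw [← lcm_cycleType, Multiset.lcm_dvd]
      exact fun m hm => (hall m hm) ▸ dvd_rfl)
    have hgg : ∀ u, g (g u) = u := fun u => by
      rw [← Perm.mul_apply, ← pow_two, hg2, Perm.one_apply]
    have hmov : ∀ u, g u ≠ u := fun u => mem_support.1 (huniv ▸ Finset.mem_univ u)
    have hne3 : g x ≠ g x' := fun e => hsplit (by rw [e])
    obtain ⟨w, w', hw, hw', hwx⟩ := exists_other f hf ha {f x} (by simp; omega)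
    rw [Finset.mem_singleton] at hwx
    have hcov : ∀ u, f u = f x ∨ f u = f w := by
      intro u
      have h5 : ∀ i j k : Fin b, i ≠ j → k = i ∨ k = j := fun i j k hij => by
        rcases i with ⟨i, hi⟩; rcases j with ⟨j, hj⟩; rcases k with ⟨k, hk⟩
        simp only [Fin.mk.injEq, ne_eq] at hij ⊢
        omega
      exact h5 _ _ _ (Ne.symm hwx)
    have hin : ∀ u, f u = f x → u = x ∨ u = x' := fun u hu => fibre_two f hf ha2 hx'x hxx.symm hu
    rcases hcov (g x) with h | h <;> rcases hcov (g x') with h' | h'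
    · exact hsplit (h.trans h'.symm)
    · rcases hin _ h with e | e
      · exact hmov x e
      · have e2 : g x' = x := by rw [← e, hgg]
        exact hwx (by rw [← h', e2])
    · rcases hin _ h' with e | e
      · have e2 : g x = x' := by rw [← e, hgg]
        exact hwx (by rw [← h, e2, hxx])
      · exact hmov x' e
    · exact hsplit (h.trans h'.symm)
  set u := g x with hu
  set v := g x' with hv
  have huv : u ≠ v := fun e => hsplit (by rw [e])
  obtain ⟨u', hu'u, hu'f⟩ := exists_mate f hf ha u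
  obtain ⟨v', hv'v, hv'f⟩ := exists_mate f hf ha v
  obtain ⟨z, z', hzz, hz', hz⟩ := exists_other f hf ha {f x, f (g⁻¹ u')} (Finset.card_le_two.trans_lt (by omega))
  simp only [Finset.mem_insert, Finset.mem_singleton, not_or] at hz
  set p := g z with hp
  set q := g z' with hq
  have hd : swap u v * swap p q ∈ K := by
    have h := mul_mem (mul_mem hg (swap_pair_mem f hf hK ha hb hx'x hxx hzz hz'.symm)) (inv_mem hg)
    have e : g * (swap x x' * swap z z') * g⁻¹ = swap u v * swap p q := by
      rw [hu, hv, hp, hq, Equiv.swap_apply_apply, Equiv.swap_apply_apply]; group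
    rwa [e] at h
  have hpq : p ≠ q := fun e => hzz (g.injective e)
  have hne_p : ∀ w, f w = f z → w ≠ x ∧ w ≠ x' := fun w hw =>
    ⟨fun e => hz.1 (by rw [← hw, e]), fun e => hz.1 (by rw [← hw, e, hxx])⟩
  have hpu : p ≠ u := fun e => (hne_p z rfl).1 (g.injective e)
  have hpv : p ≠ v := fun e => (hne_p z rfl).2 (g.injective e)
  have hqu : q ≠ u := fun e => (hne_p z' hz').1 (g.injective e)
  have hqv : q ≠ v := fun e => (hne_p z' hz').2 (g.injective e)
  have hpu' : p ≠ u' := fun e => hz.2 (by rw [← e, hp, ← Perm.mul_apply, inv_mul_cancel, Perm.one_apply])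
  have hqu' : q ≠ u' := fun e => hz.2 (by rw [← e, hq, ← Perm.mul_apply, inv_mul_cancel, Perm.one_apply, hz'])
  have hu'v : u' ≠ v := fun e => hsplit (by rw [← hu'f, e])
  rcases Nat.lt_or_ge b 5 with hb5 | hb5
  · have hb' : b = 3 := by
      by_contra hne
      have : b = 4 := by omega
      exact h8 (by rw [hcard, this])
    by_cases hfpq : f p = f q
    · refine ⟨_, mul_mem hd (swap_pair_mem f hf hK ha hb hpq hfpq hu'u.symm hu'f.symm), ?_⟩
      have e : swap u v * swap p q * (swap p q * swap u u') = swap u v * swap u u' := by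
        rw [mul_assoc, ← mul_assoc (swap p q), swap_mul_self, one_mul]
      rw [e]
      exact isThreeCycle_swap_mul_swap_same huv hu'u.symm hu'v.symm
    · have hcov : f p = f v ∨ f q = f v := by
        by_contra h
        push Not at h
        have h1 : f p ≠ f u := fun e => by
          rcases fibre_two f hf ha2 hu'u.symm hu'f e with e | e
          · exact hpu e
          · exact hpu' e
        have h2 : f q ≠ f u := fun e => by
          rcases fibre_two f hf ha2 hu'u.symm hu'f e with e | e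
          · exact hqu e
          · exact hqu' e
        have h5 : ∀ i j k l : Fin b, i ≠ j → k ≠ l → k ≠ i → k ≠ j → l ≠ i → l ≠ j → False := by
          rintro ⟨i, hi⟩ ⟨j, hj⟩ ⟨k, hk⟩ ⟨l, hl⟩
          simp only [Fin.mk.injEq, ne_eq]
          omega
        exact h5 _ _ _ _ hsplit hfpq h1 h.1 h2 h.2
      obtain ⟨r, hr, hd'⟩ : ∃ r, r ≠ v' ∧ (r ≠ u ∧ r ≠ v ∧ r ≠ u') ∧ swap u v * swap v' r ∈ K := by
        rcases hcov with h | h
        · rcases fibre_two f hf ha2 hv'v.symm hv'f h with e | e
          · exact absurd e hpv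
          · exact ⟨q, e ▸ hpq.symm, ⟨hqu, hqv, hqu'⟩, e ▸ hd⟩
        · rcases fibre_two f hf ha2 hv'v.symm hv'f h with e | e
          · exact absurd e hqv
          · exact ⟨p, e ▸ hpq, ⟨hpu, hpv, hpu'⟩, by rw [swap_comm v' p, ← e]; exact hd⟩
      obtain ⟨⟨hru, hrv, hru'⟩, hd'⟩ := hd'
      have hne1 : v' ≠ u := fun e => hsplit (by rw [← e, hv'f])
      have hne2 : v' ≠ u' := fun e => hsplit (by rw [← hu'f, ← e, hv'f])
      have hS : Pres f (swap u v * swap u' v') := by
        refine pres_of_comp f (swap (f u) (f v)) fun w => ?_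
        by_cases h1 : w = u
        · subst h1
          rw [Perm.mul_apply, swap_apply_of_ne_of_ne hu'u.symm hne1.symm, swap_apply_left, swap_apply_left]
        by_cases h2 : w = v
        · subst h2
          rw [Perm.mul_apply, swap_apply_of_ne_of_ne hu'v.symm hv'v.symm, swap_apply_right, swap_apply_right]
        by_cases h3 : w = u'
        · subst h3
          rw [Perm.mul_apply, swap_apply_left, swap_apply_of_ne_of_ne hne1 hv'v, hu'f, swap_apply_left, hv'f]
        by_cases h4 : w = v'
        · subst h4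
          rw [Perm.mul_apply, swap_apply_right, swap_apply_of_ne_of_ne hu'u hu'v, hv'f, swap_apply_right, hu'f]
        rw [Perm.mul_apply, swap_apply_of_ne_of_ne h3 h4, swap_apply_of_ne_of_ne h1 h2, swap_apply_of_ne_of_ne]
        · exact fun e => (fibre_two f hf ha2 hu'u.symm hu'f e).elim h1 h3
        · exact fun e => (fibre_two f hf ha2 hv'v.symm hv'f e).elim h2 h4
      have hdis : Commute (swap u v) (swap u' v') := by
        refine Disjoint.commute fun w => ?_
        by_cases h1 : w = u
        · exact Or.inr (by rw [h1]; exact swap_apply_of_ne_of_ne hu'u.symm hne1.symm)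
        by_cases h2 : w = v
        · exact Or.inr (by rw [h2]; exact swap_apply_of_ne_of_ne hu'v.symm hv'v.symm)
        exact Or.inl (swap_apply_of_ne_of_ne h1 h2)
      refine ⟨_, mul_mem (hK _ hS (sign_swap_mul_swap huv hne2.symm)) hd', ?_⟩
      have e : swap u v * swap u' v' * (swap u v * swap v' r) = swap v' u' * swap v' r := by
        rw [hdis.eq, mul_assoc, ← mul_assoc (swap u v), swap_mul_self, one_mul, swap_comm u' v']
      rw [e]
      exact isThreeCycle_swap_mul_swap_same hne2 hr.symm hru'.symm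
  · obtain ⟨l, l', hll, hl', hl⟩ := exists_other f hf ha {f u, f v, f p, f q}
      (Finset.card_le_four.trans_lt (by omega))
    simp only [Finset.mem_insert, Finset.mem_singleton, not_or] at hl
    have hoff : ∀ w, f w = f l → (w ≠ u ∧ w ≠ v) ∧ w ≠ p ∧ w ≠ q := fun w hw =>
      ⟨⟨fun e => hl.1 (by rw [← hw, e]), fun e => hl.2.1 (by rw [← hw, e])⟩,
        fun e => hl.2.2.1 (by rw [← hw, e]), fun e => hl.2.2.2 (by rw [← hw, e])⟩
    set d := swap u v * swap p q with hddef
    have hD := swap_pair_mem f hf hK ha hb hu'u.symm hu'f.symm hll hl'.symm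
    have hfix : ∀ w, f w = f l → d w = w := fun w hw => by
      obtain ⟨⟨h1, h2⟩, h3, h4⟩ := hoff w hw
      rw [hddef, Perm.mul_apply, swap_apply_of_ne_of_ne h3 h4, swap_apply_of_ne_of_ne h1 h2]
    have h1 : d u = v := by rw [hddef, Perm.mul_apply, swap_apply_of_ne_of_ne hpu.symm hqu.symm, swap_apply_left]
    have h2 : d u' = u' := by
      rw [hddef, Perm.mul_apply, swap_apply_of_ne_of_ne hpu'.symm hqu'.symm, swap_apply_of_ne_of_ne hu'u hu'v]
    have hdis : Commute (swap l l') (swap u u') := by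
      refine Disjoint.commute fun w => ?_
      by_cases h3 : f w = f l
      · refine Or.inr (swap_apply_of_ne_of_ne (hoff w h3).1.1 fun e => hl.1 ?_)
        rw [← h3, e, hu'f]
      · exact Or.inl (swap_apply_of_ne_of_ne (fun e => h3 (by rw [e])) (fun e => h3 (by rw [e, hl'])))
    refine ⟨_, mul_mem (mul_mem (mul_mem hd hD) (inv_mem hd)) hD, ?_⟩
    have e : d * (swap u u' * swap l l') * d⁻¹ * (swap u u' * swap l l') = swap u' v * swap u' u := by
      have e1 : d * (swap u u' * swap l l') * d⁻¹ = swap v u' * swap l l' := by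
        conv_rhs => rw [← h1, ← h2, ← hfix l rfl, ← hfix l' hl', Equiv.swap_apply_apply, Equiv.swap_apply_apply]
        group
      rw [e1, mul_assoc, ← mul_assoc (swap l l'), hdis.eq, mul_assoc (swap u u'), swap_mul_self, mul_one,
        swap_comm v u', swap_comm u u']
    rw [e]
    exact isThreeCycle_swap_mul_swap_same hu'v hu'u huv.symm

/-- A subgroup of the alternating group strictly above the partition stabilizer is everything. -/
theorem alternating_le (h8 : Fintype.card Ω ≠ 8) {g : Perm Ω} (hg : g ∈ K) (hgs : sign g = 1)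
    (hgp : ¬ Pres f g) : alternatingGroup Ω ≤ K := by
  obtain ⟨c, hc, h3⟩ := exists_threeCycle f hf hK ha hb h8 hg hgs hgp
  refine alternatingGroup_le_of_isPreprimitive_of_isThreeCycle_mem ?_ h3 hc
  by_cases hab : 3 ≤ a ∨ 3 ≤ b
  · exact isPreprimitive f hf hK ha hb hab hg hgp
  · exact isPreprimitive_four f hf hK ha (by omega) (by omega) hc h3

end CfsgLib.Perm.PartitionMax
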