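import Cfsg.Agent.Lib.Perm.DerivedLength

/-!
A `p`-group of linear transformations of a `d`-dimensional space has derived length at most
`log 2 d + 1`.
-/

set_option autoImplicit false

namespace CfsgLib.Perm.DerivedLengthLinear

open Subgroup
open scoped commutatorElement

universe u v w

/-- Derived series and a subgroup containing the commutator subgroup. -/
theorem derivedSeries_succ_le_map {P : Type u} [Group P] {M : Subgroup P} (h : commutator P ≤ M) :
    ∀ i, derivedSeries P (i + 1) ≤ (derivedSeries M i).map M.subtype := by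
  intro i
  induction i with
  | zero =>
    rw [derivedSeries_zero, ← MonoidHom.range_eq_map, M.range_subtype, derivedSeries_one]
    exact h
  | succ i hi =>
    rw [derivedSeries_succ P (i + 1), derivedSeries_succ M i, map_commutator]
    exact commutator_mono hi hi

variable {P : Type u} [Group P] {F : Type v} [Field F] {V : Type w} [AddCommGroup V] [Module F V]

/-- The restriction of a representation to an invariant subspace. -/
def subRep (ρ : Representation F P V) (W : Submodule F V) (hW : ∀ g, ∀ v ∈ W, ρ g v ∈ W) :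
    Representation F P W where
  toFun g := (ρ g).restrict (hW g)
  map_one' := LinearMap.ext fun v => Subtype.ext (by simp [LinearMap.restrict_apply])
  map_mul' g h := LinearMap.ext fun v => Subtype.ext (by simp [LinearMap.restrict_apply])

/-- The representation on the quotient by an invariant subspace. -/
def quotRep (ρ : Representation F P V) (W : Submodule F V) (hW : ∀ g, ∀ v ∈ W, ρ g v ∈ W) :
    Representation F P (V ⧸ W) where
  toFun g := W.mapQ W (ρ g) (fun v hv => hW g v hv)
  map_one' := by ext v; simp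
  map_mul' g h := by ext v; simp

theorem sub_mem_of_quot {ρ : Representation F P V} {W : Submodule F V} {hW : ∀ g, ∀ v ∈ W, ρ g v ∈ W}
    {g : P} (h : quotRep ρ W hW g = 1) (v : V) : ρ g v - v ∈ W :=
  (Submodule.Quotient.eq W).1 (LinearMap.congr_fun h (Submodule.Quotient.mk v))

theorem apply_of_sub {ρ : Representation F P V} {W : Submodule F V} {hW : ∀ g, ∀ v ∈ W, ρ g v ∈ W}
    {g : P} (h : subRep ρ W hW g = 1) {v : V} (hv : v ∈ W) : ρ g v = v :=
  congrArg Subtype.val (LinearMap.congr_fun h ⟨v, hv⟩)

/-- An element central in the image acts on an irreducible space by a scalar. -/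
theorem exists_scalar [IsAlgClosed F] [FiniteDimensional F V] [Nontrivial V] {ρ : Representation F P V}
    (hirr : ∀ W : Submodule F V, (∀ g, ∀ v ∈ W, ρ g v ∈ W) → W = ⊥ ∨ W = ⊤) {z : P}
    (hz : ∀ g, ρ z * ρ g = ρ g * ρ z) : ∃ c : F, ∀ v, ρ z v = c • v := by
  obtain ⟨c, hc⟩ := Module.End.exists_eigenvalue (ρ z)
  refine ⟨c, fun v => Module.End.mem_eigenspace_iff.1 (?_ : v ∈ Module.End.eigenspace (ρ z) c)⟩
  have htop : Module.End.eigenspace (ρ z) c = ⊤ := by
    refine (hirr _ fun g w hw => ?_).resolve_left hc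
    rw [Module.End.mem_eigenspace_iff] at hw ⊢
    have h1 : ρ z (ρ g w) = ρ g (ρ z w) := LinearMap.congr_fun (hz g) w
    rw [h1, hw, map_smul]
  rw [htop]
  exact Submodule.mem_top

/-- An element outside a proper normal subgroup of a `p`-group, central modulo it. -/
theorem exists_central_mod [Finite P] {p : ℕ} [Fact p.Prime] (hP : IsPGroup p P) {Z : Subgroup P}
    [Z.Normal] (hne : Z ≠ ⊤) : ∃ a, a ∉ Z ∧ ∀ g : P, ⁅g, a⁆ ∈ Z := by
  haveI : Nontrivial (P ⧸ Z) := QuotientGroup.nontrivial_iff.2 hne
  haveI := (hP.to_quotient Z).center_nontrivial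
  obtain ⟨⟨q, hq⟩, hq1⟩ := exists_ne (1 : center (P ⧸ Z))
  obtain ⟨a, rfl⟩ := QuotientGroup.mk_surjective q
  refine ⟨a, fun ha => hq1 (Subtype.ext ((QuotientGroup.eq_one_iff a).2 ha)), fun g => ?_⟩
  rw [← QuotientGroup.eq_one_iff, ← QuotientGroup.mk'_apply, map_commutatorElement,
    commutatorElement_eq_one_iff_mul_comm]
  exact mem_center_iff.1 hq _

theorem smul_eq_one_of_pow {W : Type w} [AddCommGroup W] [Module F W] [Nontrivial W] {c : F}
    {f : W →ₗ[F] W} (hf : ∀ v, f v = c • v) {N : ℕ} (hN : f ^ N = 1) : c ^ N = 1 := by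
  have key : ∀ (j : ℕ) (v : W), (f ^ j) v = c ^ j • v := by
    intro j
    induction j with
    | zero => simp
    | succ j ih =>
      intro v
      rw [pow_succ, Module.End.mul_apply, hf, map_smul, ih, smul_smul, pow_succ']
  obtain ⟨v, hv⟩ := exists_ne (0 : W)
  have h1 := key N v
  rw [hN, Module.End.one_apply] at h1
  exact smul_left_injective F hv (show c ^ N • v = (1 : F) • v by rw [one_smul, ← h1])

/-- In the defining characteristic an irreducible representation of a `p`-group is trivial. -/
theorem eq_one_of_irreducible [IsAlgClosed F] [FiniteDimensional F V] [Nontrivial V] [Finite P] {p : ℕ}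
    [hp : Fact p.Prime] [CharP F p] (hP : IsPGroup p P) {ρ : Representation F P V}
    (hirr : ∀ W : Submodule F V, (∀ g, ∀ v ∈ W, ρ g v ∈ W) → W = ⊥ ∨ W = ⊤) (g : P) : ρ g = 1 := by
  by_contra hne
  have htop : ρ.ker ≠ ⊤ := fun e => hne (MonoidHom.mem_ker.1 (e ▸ mem_top g))
  obtain ⟨z, hz, hcomm⟩ := exists_central_mod hP htop
  have hzc : ∀ h, ρ z * ρ h = ρ h * ρ z := fun h => by
    have h1 : ρ ⁅h, z⁆ = 1 := MonoidHom.mem_ker.1 (hcomm h)
    rw [← map_mul, ← map_mul, show h * z = ⁅h, z⁆ * (z * h) by group, map_mul ρ ⁅h, z⁆, h1, one_mul]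
  obtain ⟨c, hc⟩ := exists_scalar hirr hzc
  obtain ⟨N, hN⟩ := hP z
  have h1 : c ^ p ^ N = 1 := smul_eq_one_of_pow hc (by rw [← map_pow, hN, map_one])
  haveI : ExpChar F p := ExpChar.prime hp.out
  have h2 : c = 1 := iterateFrobenius_inj F p N (by rw [iterateFrobenius_def, iterateFrobenius_def, h1, one_pow])
  exact hz (MonoidHom.mem_ker.2 (LinearMap.ext fun v => by rw [hc, h2, one_smul, Module.End.one_apply]))

/-- In the defining characteristic a `p`-group fixes a nonzero vector. -/
theorem exists_fixed [IsAlgClosed F] [Finite P] {p : ℕ} [Fact p.Prime] [CharP F p] (hP : IsPGroup p P) :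
    ∀ (d : ℕ) {V : Type w} [AddCommGroup V] [Module F V] [FiniteDimensional F V] [Nontrivial V]
      (ρ : Representation F P V), Module.finrank F V ≤ d → ∃ v : V, v ≠ 0 ∧ ∀ g, ρ g v = v := by
  intro d
  induction d with
  | zero =>
    intro V _ _ _ _ ρ hd
    have := Module.finrank_pos (R := F) (M := V)
    omega
  | succ d ih =>
    intro V _ _ _ _ ρ hd
    by_cases hirr : ∀ W : Submodule F V, (∀ g, ∀ v ∈ W, ρ g v ∈ W) → W = ⊥ ∨ W = ⊤
    · obtain ⟨v, hv⟩ := exists_ne (0 : V)
      exact ⟨v, hv, fun g => by rw [eq_one_of_irreducible hP hirr g, Module.End.one_apply]⟩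
    · simp only [not_forall, not_or] at hirr
      obtain ⟨W, hW, hb, ht⟩ := hirr
      haveI : Nontrivial W := Submodule.nontrivial_iff_ne_bot.2 hb
      have hlt := Submodule.finrank_lt ht
      obtain ⟨v, hv, hfix⟩ := ih (subRep ρ W hW) (by omega)
      exact ⟨v, fun e => hv (Subtype.ext e), fun g => congrArg Subtype.val (hfix g)⟩

/-- In the defining characteristic there are invariant subspaces of each dimension. -/
theorem exists_invariant [IsAlgClosed F] [Finite P] [FiniteDimensional F V] {p : ℕ} [Fact p.Prime]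
    [CharP F p] (hP : IsPGroup p P) (ρ : Representation F P V) :
    ∀ i, i ≤ Module.finrank F V →
      ∃ W : Submodule F V, (∀ g, ∀ v ∈ W, ρ g v ∈ W) ∧ Module.finrank F W = i := by
  intro i
  induction i with
  | zero =>
    exact fun _ => ⟨⊥, fun g v hv => by rw [Submodule.mem_bot] at hv ⊢; rw [hv, map_zero], finrank_bot F V⟩
  | succ i ih =>
    intro hi
    obtain ⟨W, hW, hWd⟩ := ih (by omega)
    have hq := W.finrank_quotient_add_finrank
    haveI : Nontrivial (V ⧸ W) := Module.nontrivial_of_finrank_pos (R := F) (by omega)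
    obtain ⟨q, hq0, hqf⟩ := exists_fixed hP _ (quotRep ρ W hW) le_rfl
    refine ⟨(F ∙ q).comap W.mkQ, fun g v hv => ?_, ?_⟩
    · rw [Submodule.mem_comap, Submodule.mem_span_singleton] at hv ⊢
      obtain ⟨c, hc⟩ := hv
      refine ⟨c, ?_⟩
      show c • q = quotRep ρ W hW g (W.mkQ v)
      rw [← hc, map_smul, hqf]
    · have hle : W ≤ (F ∙ q).comap W.mkQ := fun v hv => by
        rw [Submodule.mem_comap, Submodule.mkQ_apply, (Submodule.Quotient.mk_eq_zero W).2 hv]
        exact zero_mem _
      have h1 : ((F ∙ q).comap W.mkQ).map W.mkQ = F ∙ q :=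
        Submodule.map_comap_eq_of_surjective W.mkQ_surjective _
      have h2 := LinearMap.finrank_range_add_finrank_ker (W.mkQ.domRestrict ((F ∙ q).comap W.mkQ))
      rw [LinearMap.range_domRestrict, h1, finrank_span_singleton hq0, LinearMap.ker_domRestrict,
        Submodule.ker_mkQ] at h2
      rw [← (Submodule.comapSubtypeEquivOfLe hle).finrank_eq] at hWd
      omega

/-- Two elements trivial on `W` and on `V ⧸ W` commute. -/
theorem commute_of_unipotent {ρ : Representation F P V} {W : Submodule F V} {hW : ∀ g, ∀ v ∈ W, ρ g v ∈ W}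
    {g h : P} (hg1 : subRep ρ W hW g = 1) (hg2 : quotRep ρ W hW g = 1) (hh1 : subRep ρ W hW h = 1)
    (hh2 : quotRep ρ W hW h = 1) : ρ g * ρ h = ρ h * ρ g := by
  refine LinearMap.ext fun v => ?_
  rw [Module.End.mul_apply, Module.End.mul_apply]
  have a1 := sub_mem_of_quot hg2 v
  have a2 := sub_mem_of_quot hh2 v
  have e1 : ρ g (ρ h v) = ρ g v + (ρ h v - v) := by
    rw [← apply_of_sub hg1 a2, ← map_add, add_sub_cancel]
  have e2 : ρ h (ρ g v) = ρ h v + (ρ g v - v) := by
    rw [← apply_of_sub hh1 a1, ← map_add, add_sub_cancel]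
  rw [e1, e2]; abel

/-- Defining characteristic: derived length at most `clog 2 d`. -/
theorem bound_char [IsAlgClosed F] [Finite P] {p : ℕ} [Fact p.Prime] [CharP F p] (hP : IsPGroup p P) :
    ∀ (d : ℕ) {V : Type w} [AddCommGroup V] [Module F V] [FiniteDimensional F V]
      (ρ : Representation F P V), Module.finrank F V = d →
      ∀ g ∈ derivedSeries P (Nat.clog 2 d), ρ g = 1 := by
  intro d
  induction d using Nat.strong_induction_on with
  | _ d ih =>
    intro V _ _ _ ρ hd g hg
    by_cases h2 : d ≤ 1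
    · rcases Nat.eq_zero_or_pos d with h0 | h0
      · haveI : Subsingleton V := Module.finrank_zero_iff.1 (hd.trans h0)
        exact LinearMap.ext fun v => Subsingleton.elim _ _
      · haveI : Nontrivial V := Module.nontrivial_of_finrank_pos (R := F) (by omega)
        refine eq_one_of_irreducible hP (fun W _ => ?_) g
        rcases eq_or_ne W ⊥ with hb | hb
        · exact Or.inl hb
        · right
          have h3 : 0 < Module.finrank F W := by
            haveI : Nontrivial W := Submodule.nontrivial_iff_ne_bot.2 hb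
            exact Module.finrank_pos
          exact Submodule.eq_top_of_finrank_eq (le_antisymm W.finrank_le (by omega))
    · obtain ⟨W, hW, hWd⟩ := exists_invariant hP ρ (d / 2) (by omega)
      have hq := W.finrank_quotient_add_finrank
      have hc := Nat.clog_of_two_le (b := 2) (n := d) one_lt_two (by omega)
      rw [hc, derivedSeries_succ] at hg
      have hm : ∀ a ∈ derivedSeries P (Nat.clog 2 ((d + 2 - 1) / 2)),
          subRep ρ W hW a = 1 ∧ quotRep ρ W hW a = 1 := fun a ha =>
        ⟨ih (d / 2) (by omega) _ hWd a (derivedSeries_antitone P (Nat.clog_mono_right 2 (by omega)) ha),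
          ih ((d + 2 - 1) / 2) (by omega) _ (by omega) a ha⟩
      rw [← MonoidHom.mem_ker]
      refine (commutator_le.2 fun a ha b hb => ?_) hg
      have h1 := commute_of_unipotent (hm a ha).1 (hm a ha).2 (hm b hb).1 (hm b hb).2
      rw [MonoidHom.mem_ker, commutatorElement_def, map_mul, map_mul, map_mul, h1]
      simp [mul_assoc, ← map_mul]

/-- Coprime characteristic: trivial on `W` and on `V ⧸ W` implies trivial. -/
theorem eq_one_of_unipotent {ρ : Representation F P V} {W : Submodule F V} {hW : ∀ g, ∀ v ∈ W, ρ g v ∈ W}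
    {g : P} (hg1 : subRep ρ W hW g = 1) (hg2 : quotRep ρ W hW g = 1) {N : ℕ} (hN : g ^ N = 1)
    (hN0 : (N : F) ≠ 0) : ρ g = 1 := by
  refine LinearMap.ext fun v => ?_
  have key : ∀ j : ℕ, ρ (g ^ j) v = v + (j : F) • (ρ g v - v) := by
    intro j
    induction j with
    | zero => simp
    | succ j ih =>
      rw [pow_succ', map_mul, Module.End.mul_apply, ih, map_add, map_smul,
        apply_of_sub hg1 (sub_mem_of_quot hg2 v), Nat.cast_succ, add_smul, one_smul]
      abel
  have h1 := key N
  rw [hN, map_one, Module.End.one_apply, left_eq_add, smul_eq_zero] at h1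
  rw [Module.End.one_apply, ← sub_eq_zero]
  exact h1.resolve_left hN0

/-- Coprime characteristic: derived length at most `log 2 d + 1`. -/
theorem bound_coprime [IsAlgClosed F] {p : ℕ} [Fact p.Prime] (hpF : (p : F) ≠ 0) :
    ∀ (d : ℕ) {P : Type u} [Group P] [Finite P] (_ : IsPGroup p P) {V : Type w} [AddCommGroup V]
      [Module F V] [FiniteDimensional F V] (ρ : Representation F P V), Module.finrank F V = d →
      ∀ g ∈ derivedSeries P (Nat.log 2 d + 1), ρ g = 1 := by
  intro d
  induction d using Nat.strong_induction_on with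
  | _ d ih =>
    intro P _ _ hP V _ _ _ ρ hd g hg
    rcases Nat.eq_zero_or_pos d with h0 | h0
    · haveI : Subsingleton V := Module.finrank_zero_iff.1 (hd.trans h0)
      exact LinearMap.ext fun v => Subsingleton.elim _ _
    haveI : Nontrivial V := Module.nontrivial_of_finrank_pos (R := F) (by omega)
    by_cases hirr : ∀ W : Submodule F V, (∀ g, ∀ v ∈ W, ρ g v ∈ W) → W = ⊥ ∨ W = ⊤
    swap
    · simp only [not_forall, not_or] at hirr
      obtain ⟨W, hW, hb, ht⟩ := hirr
      haveI : Nontrivial W := Submodule.nontrivial_iff_ne_bot.2 hb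
      have h1 := Submodule.finrank_lt ht
      have h2 := W.finrank_quotient_add_finrank
      have h3 : 0 < Module.finrank F W := Module.finrank_pos
      obtain ⟨N, hN⟩ := hP g
      refine eq_one_of_unipotent (hW := hW)
        (ih _ (by omega) hP _ rfl g (derivedSeries_antitone P (Nat.add_le_add_right (Nat.log_mono_right (by omega)) 1) hg))
        (ih _ (by omega) hP _ rfl g (derivedSeries_antitone P (Nat.add_le_add_right (Nat.log_mono_right (by omega)) 1) hg))
        hN ?_
      rw [Nat.cast_pow]; exact pow_ne_zero N hpF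
    -- irreducible
    obtain ⟨Z, hZ⟩ : ∃ Z : Subgroup P, ∀ a, a ∈ Z ↔ ∀ h, ρ a * ρ h = ρ h * ρ a :=
      ⟨{ carrier := {a | ∀ h, ρ a * ρ h = ρ h * ρ a}
         one_mem' := fun h => by simp
         mul_mem' := fun {a b} ha hb h => by
           rw [map_mul, mul_assoc, hb h, ← mul_assoc, ha h, mul_assoc]
         inv_mem' := fun {a} ha h => by
           calc ρ a⁻¹ * ρ h = ρ a⁻¹ * (ρ h * ρ a) * ρ a⁻¹ := by simp [mul_assoc, ← map_mul]
             _ = ρ a⁻¹ * (ρ a * ρ h) * ρ a⁻¹ := by rw [ha h]
             _ = ρ h * ρ a⁻¹ := by rw [← mul_assoc, ← map_mul, inv_mul_cancel, map_one, one_mul] },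
       fun a => Iff.rfl⟩
    by_cases htop : Z = ⊤
    · have h1 : g ∈ commutator P := by
        rw [← derivedSeries_one P]; exact derivedSeries_antitone P (by omega) hg
      rw [← MonoidHom.mem_ker]
      rw [commutator_def] at h1
      refine (commutator_le.2 fun a _ b _ => ?_) h1
      rw [MonoidHom.mem_ker, commutatorElement_def, map_mul, map_mul, map_mul,
        (hZ a).1 (htop ▸ mem_top a) b]
      simp [mul_assoc, ← map_mul]
    haveI : Z.Normal := ⟨fun a ha b => (hZ _).2 fun h => by
      have h1 := (hZ a).1 ha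
      have h2 : ρ (b * a * b⁻¹) = ρ a := by
        rw [map_mul, map_mul, ← h1 b, mul_assoc, ← map_mul, mul_inv_cancel, map_one, mul_one]
      rw [h2]; exact h1 h⟩
    obtain ⟨a, haZ, hcomm⟩ := exists_central_mod hP htop
    have hscal : ∀ h, ∃ c : F, ∀ v, ρ h (ρ a v) = c • ρ a (ρ h v) := fun h => by
      obtain ⟨c, hc⟩ := exists_scalar hirr ((hZ _).1 (hcomm h))
      refine ⟨c, fun v => ?_⟩
      rw [← hc, ← Module.End.mul_apply, ← Module.End.mul_apply, ← Module.End.mul_apply, ← map_mul,
        ← map_mul, ← map_mul]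
      congr 2
      group
    choose c hc using hscal
    obtain ⟨K, hK⟩ : ∃ K : Subgroup P, ∀ h, h ∈ K ↔ ρ h * ρ a = ρ a * ρ h :=
      ⟨{ carrier := {h | ρ h * ρ a = ρ a * ρ h}
         one_mem' := by simp
         mul_mem' := fun {x y} hx hy => by
           simp only [Set.mem_setOf_eq] at hx hy ⊢
           rw [map_mul, mul_assoc, hy, ← mul_assoc, hx, mul_assoc]
         inv_mem' := fun {x} hx => by
           simp only [Set.mem_setOf_eq] at hx ⊢
           calc ρ x⁻¹ * ρ a = ρ x⁻¹ * (ρ a * ρ x) * ρ x⁻¹ := by simp [mul_assoc, ← map_mul]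
             _ = ρ x⁻¹ * (ρ x * ρ a) * ρ x⁻¹ := by rw [hx]
             _ = ρ a * ρ x⁻¹ := by rw [← mul_assoc, ← map_mul, inv_mul_cancel, map_one, one_mul] },
       fun a => Iff.rfl⟩
    have hKc : commutator P ≤ K := by
      rw [commutator_def, commutator_le]
      intro x _ y _
      rw [hK]
      refine LinearMap.ext fun v => ?_
      have inv : ∀ x w, c x⁻¹ * c x = 1 ∨ ρ a w = 0 := fun x w => by
        have h1 := hc x⁻¹ (ρ x w)
        rw [← Module.End.mul_apply (ρ x⁻¹) (ρ x), ← map_mul, inv_mul_cancel, map_one, Module.End.one_apply] at h1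
        have h2 := hc x w
        have h3 : ρ x (ρ a w) = c x • ρ a (ρ x w) := h2
        have h4 : ρ a w = ρ x⁻¹ (c x • ρ a (ρ x w)) := by
          rw [← h3, ← Module.End.mul_apply, ← map_mul, inv_mul_cancel, map_one, Module.End.one_apply]
        rw [map_smul, h1, smul_smul, mul_comm] at h4
        rcases eq_or_ne (c x⁻¹ * c x) 1 with e | e
        · exact Or.inl e
        · right
          have h5 : (c x⁻¹ * c x - 1) • ρ a w = 0 := by rw [sub_smul, ← h4, one_smul, sub_self]
          exact (smul_eq_zero.1 h5).resolve_left (sub_ne_zero.2 e)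
      rw [Module.End.mul_apply, Module.End.mul_apply, commutatorElement_def]
      simp only [map_mul, Module.End.mul_apply]
      rw [hc y⁻¹]
      simp only [map_smul]
      rw [hc x⁻¹]
      simp only [map_smul]
      rw [hc y]
      simp only [map_smul]
      rw [hc x]
      simp only [smul_smul]
      obtain ⟨u, hu⟩ : ∃ u, u = ρ x (ρ y (ρ x⁻¹ (ρ y⁻¹ v))) := ⟨_, rfl⟩
      rw [← hu]
      rcases inv x u with e | e
      · rcases inv y u with e' | e'
        · rw [show c y⁻¹ * (c x⁻¹ * (c y * c x)) = (c y⁻¹ * c y) * (c x⁻¹ * c x) by ring, e, e', mul_one,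
            one_smul]
        · rw [e', smul_zero]
      · rw [e, smul_zero]
    -- the eigenspaces
    obtain ⟨μ, hμ⟩ := Module.End.exists_eigenvalue (ρ a)
    obtain ⟨x, hx⟩ : ∃ x, x ∉ K := by
      by_contra hcon
      simp only [not_exists, not_not] at hcon
      exact haZ ((hZ a).2 fun h => ((hK h).1 (hcon h)).symm)
    have hcx : c x ≠ 1 := fun e => hx ((hK x).2 (LinearMap.ext fun v => by
      rw [Module.End.mul_apply, Module.End.mul_apply, hc, e, one_smul]))
    have hinj : ∀ h : P, Function.Injective (ρ h) := fun h v w e => by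
      have := congrArg (ρ h⁻¹) e
      rwa [← Module.End.mul_apply, ← Module.End.mul_apply, ← map_mul, inv_mul_cancel, map_one] at this
    have hμ0 : μ ≠ 0 := fun e => hμ (eq_bot_iff.2 fun v hv => by
      rw [Module.End.mem_eigenspace_iff, e, zero_smul] at hv
      exact (Submodule.mem_bot F).2 (hinj a (hv.trans (map_zero _).symm)))
    have hcne : ∀ h, c h ≠ 0 := fun h e => by
      obtain ⟨v, hv⟩ := exists_ne (0 : V)
      have h1 := hc h v
      rw [e, zero_smul] at h1
      exact hv (hinj a (hinj h (by rw [h1, map_zero, map_zero])))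
    have hmap : ∀ h : P, ∀ ν : F, ∀ v ∈ Module.End.eigenspace (ρ a) ν,
        ρ h v ∈ Module.End.eigenspace (ρ a) ((c h)⁻¹ * ν) := by
      intro h ν v hv
      rw [Module.End.mem_eigenspace_iff] at hv ⊢
      have h1 := hc h v
      rw [hv, map_smul] at h1
      rw [← smul_smul, h1, inv_smul_smul₀ (hcne h)]
    have hhalf : ∀ ν : F, ν ≠ 0 → 2 * Module.finrank F (Module.End.eigenspace (ρ a) ν) ≤ d := by
      intro ν hν
      have h1 : (Module.End.eigenspace (ρ a) ν).map (ρ x) ≤
          Module.End.eigenspace (ρ a) ((c x)⁻¹ * ν) := by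
        rintro _ ⟨v, hv, rfl⟩; exact hmap x ν v hv
      have h2 : Disjoint (Module.End.eigenspace (ρ a) ν) (Module.End.eigenspace (ρ a) ((c x)⁻¹ * ν)) :=
        Module.End.eigenspaces_iSupIndep (ρ a) |>.pairwiseDisjoint fun e => hcx (by
          have := mul_eq_right₀ hν |>.1 e.symm
          rwa [inv_eq_one] at this)
      have h3 := (Submodule.finrank_mono h1)
      rw [← (Submodule.equivMapOfInjective _ (hinj x) _).finrank_eq] at h3
      have h4 := Submodule.finrank_sup_add_finrank_inf_eq (Module.End.eigenspace (ρ a) ν)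
        (Module.End.eigenspace (ρ a) ((c x)⁻¹ * ν))
      rw [h2.eq_bot, finrank_bot, add_zero] at h4
      have h5 := Submodule.finrank_le (Module.End.eigenspace (ρ a) ν ⊔ Module.End.eigenspace (ρ a) ((c x)⁻¹ * ν))
      omega
    have hdp : 2 ≤ d := by
      have := hhalf μ hμ0
      have : 0 < Module.finrank F (Module.End.eigenspace (ρ a) μ) := by
        haveI : Nontrivial (Module.End.eigenspace (ρ a) μ) := Submodule.nontrivial_iff_ne_bot.2 hμ
        exact Module.finrank_pos
      omega
    obtain ⟨k, hk, rfl⟩ := derivedSeries_succ_le_map hKc _ hg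
    have hEinv : ∀ ν : F, ∀ h : K, ∀ v ∈ Module.End.eigenspace (ρ a) ν,
        (ρ.comp K.subtype) h v ∈ Module.End.eigenspace (ρ a) ν := fun ν h v hv => by
      rw [Module.End.mem_eigenspace_iff] at hv ⊢
      show ρ a (ρ (h : P) v) = ν • ρ (h : P) v
      rw [← Module.End.mul_apply, ← (hK h).1 h.2, Module.End.mul_apply, hv, map_smul]
    have hlog : Nat.log 2 d = Nat.log 2 (d / 2) + 1 := Nat.log_of_one_lt_of_le one_lt_two hdp
    have hfix : ∀ ν : F, ν ≠ 0 → ∀ v ∈ Module.End.eigenspace (ρ a) ν, ρ (k : P) v = v := by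
      intro ν hν v hv
      have hd2 := hhalf ν hν
      have := ih _ (by omega) (hP.to_subgroup K) (subRep (ρ.comp K.subtype) _ (hEinv ν)) rfl k
        (derivedSeries_antitone K (by
          rw [hlog]; exact Nat.add_le_add_right (Nat.log_mono_right (by omega)) 1) hk)
      exact apply_of_sub this hv
    obtain ⟨S, hS⟩ : ∃ S : Submodule F V, S = ⨆ h : P, (Module.End.eigenspace (ρ a) μ).map (ρ h) := ⟨_, rfl⟩
    have hStop : S = ⊤ := by
      refine (hirr S fun h v hv => ?_).resolve_left fun e => hμ (eq_bot_iff.2 fun v hv => ?_)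
      · have h1 : S.map (ρ h) ≤ S := by
          rw [hS, Submodule.map_iSup]
          refine iSup_le fun h' => ?_
          rintro _ ⟨_, ⟨u, hu, rfl⟩, rfl⟩
          exact Submodule.mem_iSup_of_mem (h * h') ⟨u, hu, by rw [map_mul]; rfl⟩
        exact h1 ⟨v, hv, rfl⟩
      · rw [← e, hS]
        exact Submodule.mem_iSup_of_mem 1 ⟨v, hv, by rw [map_one]; rfl⟩
    refine LinearMap.ext fun v => ?_
    show ρ (k : P) v = v
    have hle : S ≤ LinearMap.eqLocus (ρ (k : P)) LinearMap.id := by
      rw [hS]
      refine iSup_le fun h => ?_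
      rintro _ ⟨u, hu, rfl⟩
      exact hfix _ (mul_ne_zero (inv_ne_zero (hcne h)) hμ0) _ (hmap h μ u hu)
    exact hle (hStop ▸ Submodule.mem_top)

/-- A finite `p`-subgroup of `GL_n(F)` has derived length at most `log 2 n + 1`. -/
theorem derivedSeries_gl_eq_bot [Finite P] {p : ℕ} [hp : Fact p.Prime] (hP : IsPGroup p P) {n : ℕ}
    (ρ : P →* Matrix.GeneralLinearGroup (Fin n) F) (hρ : Function.Injective ρ) :
    derivedSeries P (Nat.log 2 n + 1) = ⊥ := by
  let K := AlgebraicClosure F
  let σ : Representation K P (Fin n → K) := (Matrix.toLinAlgEquiv' (R := K)).toRingEquiv.toMonoidHom.comp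
    ((Units.coeHom _).comp ((Matrix.GeneralLinearGroup.map (algebraMap F K)).comp ρ))
  have hσ : Function.Injective σ := (Matrix.toLinAlgEquiv' (R := K)).injective.comp
    (Units.val_injective.comp ((Units.map_injective (Matrix.map_injective (algebraMap F K).injective)).comp hρ))
  have hd : Module.finrank K (Fin n → K) = n := Module.finrank_fin_fun K
  rw [eq_bot_iff]
  intro g hg
  refine mem_bot.2 (hσ ((?_ : σ g = 1).trans (map_one σ).symm))
  by_cases hpF : (p : K) = 0
  · haveI : CharP K p := (CharP.charP_iff_prime_eq_zero hp.out).2 hpF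
    refine bound_char hP n σ hd g (derivedSeries_antitone P ?_ hg)
    exact Nat.clog_le_of_le_pow (Nat.lt_pow_succ_log_self one_lt_two n).le
  · exact bound_coprime hpF n hP σ hd g hg

end CfsgLib.Perm.DerivedLengthLinear
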