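import Cfsg.Prelude.Def_Solvable
import Cfsg.Agent.Lib.BlockA.KleinOrder
import Cfsg.Agent.Lib.BlockB.PModular
import Cfsg.Agent.S0948

/-!
Finite groups with a Klein four Sylow `2`-subgroup equal to the centraliser of each of its
involutions: they have order at most `72`, a Sylow normaliser of order `12` and no nontrivial
normal subgroup of odd order.
-/

set_option autoImplicit false

namespace CfsgLib.Perm.KleinSmall

open Subgroup

variable {G : Type*} [Group G] [Finite G]

/-- In a group whose involutions are conjugate to `z`, with `C(z)` a Klein four group, every element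
commuting with an involution squares to one. -/
theorem sq_eq_one_of_commute {P : Sylow 2 G} (hK : IsKleinFour (P : Subgroup G))
    (hone : ∀ s t : G, orderOf s = 2 → orderOf t = 2 → IsConj s t) {z : G} (hz : orderOf z = 2)
    (hc : centralizer ({z} : Set G) = (P : Subgroup G)) {j x : G} (hj : orderOf j = 2)
    (hx : x * j = j * x) : x * x = 1 := by
  obtain ⟨g, hg⟩ := isConj_iff.1 (hone z j hz hj)
  have hy : g⁻¹ * x * g ∈ (P : Subgroup G) := by
    rw [← hc, mem_centralizer_singleton_iff]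
    calc g⁻¹ * x * g * z = g⁻¹ * (x * (g * z * g⁻¹)) * g := by group
      _ = g⁻¹ * ((g * z * g⁻¹) * x) * g := by rw [hg, hx]
      _ = z * (g⁻¹ * x * g) := by group
  have h := congrArg Subtype.val (IsKleinFour.mul_self (⟨_, hy⟩ : (P : Subgroup G)))
  calc x * x = g * (g⁻¹ * x * g * (g⁻¹ * x * g)) * g⁻¹ := by group
    _ = 1 := by rw [show g⁻¹ * x * g * (g⁻¹ * x * g) = 1 from h]; group

theorem card_le {P : Sylow 2 G} (hK : IsKleinFour (P : Subgroup G))
    (hone : ∀ s t : G, orderOf s = 2 → orderOf t = 2 → IsConj s t) {z : G} (hz : orderOf z = 2)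
    (hc : centralizer ({z} : Set G) = (P : Subgroup G)) : Nat.card G ≤ 72 := by
  have hzP : z ∈ (P : Subgroup G) := hc ▸ mem_centralizer_singleton_iff.2 rfl
  have hz1 : z ≠ 1 := fun h => by rw [h, orderOf_one] at hz; norm_num at hz
  have hPP : centralizer ((P : Subgroup G) : Set G) = (P : Subgroup G) := by
    refine le_antisymm (fun x hx => hc ▸ mem_centralizer_singleton_iff.2
      ((mem_centralizer_iff.1 hx z hzP).symm)) fun x hx => mem_centralizer_iff.2 fun y hy => ?_
    exact congrArg Subtype.val ((IsKleinFour.isMulCommutative (G := (P : Subgroup G))).is_comm.comm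
      ⟨y, hy⟩ ⟨x, hx⟩)
  obtain ⟨M, hM⟩ := CfsgLib.BlockB.exists_isPModular Nat.prime_two
  have := hM.2.1.isPrime
  obtain ⟨ζ₂, ζ₃, ζ₄, ε, hε, h2ne, h3ne, h23, h24, h34, hB, hval, ha, hb, hc', -⟩ :=
    Cfsg.Agent.S0948.result M hM P hK hone
  have h4ne : (ζ₄ : G → ℂ) ≠ fun _ => 1 := fun h => by
    have := (hval z hz).2.2
    rw [h] at this
    norm_num at this
  have h := CfsgLib.BlockA.klein_order_formula hM hK hone hzP hz1 hB
    ⟨h2ne, h3ne, h4ne, h23, h24, h34⟩
    (ε₁ := 1) (ε₂ := ε) (ε₃ := -1)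
    ⟨by rw [(hval z hz).1]; norm_num, (hval z hz).2.1, by rw [(hval z hz).2.2]; norm_num⟩
    ⟨Or.inl rfl, hε, Or.inr rfl⟩
  have hP4 : Nat.card (P : Subgroup G) = 4 := hK.card_four
  rw [hPP, hc, hP4] at h
  obtain ⟨a, hae⟩ : ∃ a : ℤ, a = Cfsg.charDegree (ζ₂ : G → ℂ) := ⟨_, rfl⟩
  obtain ⟨b, hbe⟩ : ∃ b : ℤ, b = Cfsg.charDegree (ζ₃ : G → ℂ) := ⟨_, rfl⟩
  obtain ⟨c, hce⟩ : ∃ c : ℤ, c = Cfsg.charDegree (ζ₄ : G → ℂ) := ⟨_, rfl⟩
  have hpos : ∀ χ : Cfsg.IrrCharacter G, (1 : ℤ) ≤ Cfsg.charDegree (χ : G → ℂ) := fun χ => by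
    have := CfsgLib.BlockB.irr_degree_ne_zero χ
    omega
  rw [← hae] at ha h
  rw [← hbe] at hb h
  rw [← hce] at hc' h
  have ha1 : 1 ≤ a := hae ▸ hpos _
  have hb1 : 1 ≤ b := hbe ▸ hpos _
  have hc1 : 1 ≤ c := hce ▸ hpos _
  push_cast at h
  have hb2 : 2 * b ≤ 3 * (b + ε) ∧ 0 ≤ b + ε := by rcases hε with rfl | rfl <;> omega
  have hc2 : 2 * c ≤ 3 * (c + -1) := by omega
  have h1 : 4 * (a * b * c) ≤ 9 * ((a + 1) * (b + ε) * (c + -1)) := by
    have e1 : a * (2 * b) ≤ (a + 1) * (3 * (b + ε)) :=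
      mul_le_mul (by omega) hb2.1 (by omega) (by omega)
    have e2 : a * (2 * b) * (2 * c) ≤ (a + 1) * (3 * (b + ε)) * (3 * (c + -1)) :=
      mul_le_mul e1 hc2 (by omega) (mul_nonneg (by omega) (by omega))
    linear_combination e2
  have hn : (0 : ℤ) ≤ Nat.card G := Int.natCast_nonneg _
  have h2 := mul_le_mul_of_nonneg_left h1 hn
  have habc : 0 < a * b * c := by positivity
  have : (Nat.card G : ℤ) ≤ 72 := by
    refine le_of_mul_le_mul_right ?_ (mul_pos (by norm_num : (0 : ℤ) < 4) habc)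
    linarith
  omega

theorem card_normalizer {P : Sylow 2 G} (hK : IsKleinFour (P : Subgroup G))
    (hone : ∀ s t : G, orderOf s = 2 → orderOf t = 2 → IsConj s t) {z : G} (hz : orderOf z = 2)
    (hc : centralizer ({z} : Set G) = (P : Subgroup G)) :
    Nat.card (normalizer ((P : Subgroup G) : Set G)) = 12 := by
  classical
  have : Fact (Nat.Prime 2) := ⟨Nat.prime_two⟩
  have hzP : z ∈ (P : Subgroup G) := hc ▸ mem_centralizer_singleton_iff.2 rfl
  obtain ⟨H, hH⟩ : ∃ H, H = normalizer ((P : Subgroup G) : Set G) := ⟨_, rfl⟩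
  rw [← hH]
  have hPH : (P : Subgroup G) ≤ H := hH ▸ Subgroup.le_normalizer
  letI : MulAction ↥H G := MulAction.compHom G ((MulAut.conj (G := G)).comp H.subtype)
  have hact : ∀ (h : ↥H) (x : G), h • x = (h : G) * x * (h : G)⁻¹ := fun _ _ => rfl
  have hcent : ∀ x : G, x ∈ (P : Subgroup G) → ∀ y ∈ (P : Subgroup G), y * x = x * y :=
    fun x hx y hy => congrArg Subtype.val
      ((IsKleinFour.isMulCommutative (G := (P : Subgroup G))).is_comm.comm ⟨y, hy⟩ ⟨x, hx⟩)
  have horb : MulAction.orbit ↥H z = ((P : Subgroup G) : Set G) \ {1} := by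
    ext x
    constructor
    · rintro ⟨h, rfl⟩
      refine ⟨(mem_normalizer_iff.1 (hH ▸ h.2) z).1 hzP, fun e => ?_⟩
      rw [Set.mem_singleton_iff] at e
      simp only [hact, conj_eq_one_iff] at e
      rw [e, orderOf_one] at hz
      norm_num at hz
    · rintro ⟨hx, hx1⟩
      have hxo : orderOf x = 2 := orderOf_eq_prime (by
        rw [sq]; exact congrArg Subtype.val (IsKleinFour.mul_self (⟨x, hx⟩ : (P : Subgroup G)))) hx1
      obtain ⟨g, hg⟩ := isConj_iff.1 (hone z x hz hxo)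
      obtain ⟨n, hn, hne⟩ := P.conj_eq_normalizer_conj_of_mem_centralizer z g⁻¹
        (mem_centralizer_iff.2 fun y hy => hcent z hzP y hy)
        (by rw [inv_inv, hg]; exact mem_centralizer_iff.2 fun y hy => hcent x hx y hy)
      rw [inv_inv, hg] at hne
      exact ⟨⟨n⁻¹, hH ▸ inv_mem hn⟩, by simp only [hact, hne, inv_inv]⟩
  have hstab : MulAction.stabilizer ↥H z = (P : Subgroup G).subgroupOf H := by
    ext h
    rw [MulAction.mem_stabilizer_iff, hact, mem_subgroupOf, ← hc, mem_centralizer_singleton_iff,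
      mul_inv_eq_iff_eq_mul]
  have h3 := MulAction.index_stabilizer (G := ↥H) (x := z)
  rw [horb, hstab, Set.ncard_diff_singleton_of_mem (one_mem (P : Subgroup G)),
    ← Nat.card_coe_set_eq, show Nat.card ((P : Subgroup G) : Set G) = 4 from hK.card_four] at h3
  have h4 := ((P : Subgroup G).subgroupOf H).card_mul_index
  rw [Nat.card_congr (subgroupOfEquivOfLe hPH).toEquiv, hK.card_four, h3] at h4
  omega

theorem eq_bot_of_odd {P : Sylow 2 G} (hK : IsKleinFour (P : Subgroup G))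
    (hone : ∀ s t : G, orderOf s = 2 → orderOf t = 2 → IsConj s t) {z : G} (hz : orderOf z = 2)
    (hc : centralizer ({z} : Set G) = (P : Subgroup G)) (W : Subgroup G) [W.Normal]
    (hodd : Odd (Nat.card W)) : W = ⊥ := by
  have hzP : z ∈ (P : Subgroup G) := hc ▸ mem_centralizer_singleton_iff.2 rfl
  have hz1 : z ≠ 1 := fun h => by rw [h, orderOf_one] at hz; norm_num at hz
  have hord : ∀ x ∈ (P : Subgroup G), x ≠ 1 → orderOf x = 2 := fun x hx hx1 =>
    orderOf_eq_prime (by
      rw [sq]; exact congrArg Subtype.val (IsKleinFour.mul_self (⟨x, hx⟩ : (P : Subgroup G)))) hx1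
  have hfix : ∀ j : G, orderOf j = 2 → ∀ w ∈ W, w * j = j * w → w = 1 := by
    intro j hj w hw hwj
    have h2 : orderOf w ∣ 2 := orderOf_dvd_of_pow_eq_one (by
      rw [sq]; exact sq_eq_one_of_commute hK hone hz hc hj hwj)
    refine orderOf_eq_one_iff.1 (Nat.eq_one_of_dvd_coprimes ?_ h2 (W.orderOf_dvd_natCard hw))
    exact (Nat.coprime_two_left).2 hodd
  have hinv : ∀ j : G, orderOf j = 2 → ∀ w ∈ W, j * w * j⁻¹ = w⁻¹ := by
    intro j hj w hw
    have h := MonoidHom.FixedPointFree.coe_eq_inv_of_involutive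
      (φ := (MulAut.conjNormal j : MulAut W)) (fun v hv => ?_) (fun v => ?_)
    · exact congrArg Subtype.val (congrFun h ⟨w, hw⟩)
    · have he : j * (v : G) * j⁻¹ = v := congrArg Subtype.val hv
      exact Subtype.ext (hfix j hj _ v.2 (mul_inv_eq_iff_eq_mul.1 he).symm)
    · apply Subtype.ext
      show j * (j * (v : G) * j⁻¹) * j⁻¹ = v
      calc j * (j * (v : G) * j⁻¹) * j⁻¹ = (j * j) * v * (j * j)⁻¹ := by group
        _ = v := by rw [← sq, ← hj, pow_orderOf_eq_one]; group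
  obtain ⟨u, huP, hu1, huz⟩ : ∃ u ∈ (P : Subgroup G), u ≠ 1 ∧ u ≠ z := by
    by_contra h
    push Not at h
    have hsub : ((P : Subgroup G) : Set G) ⊆ {1, z} := fun x hx => by
      rcases eq_or_ne x 1 with e | e
      · exact Or.inl e
      · exact Or.inr (h x hx e)
    have h2 := Set.ncard_le_ncard hsub (Set.toFinite _)
    rw [← Nat.card_coe_set_eq, show Nat.card ((P : Subgroup G) : Set G) = 4 from hK.card_four,
      Set.ncard_pair (Ne.symm hz1)] at h2
    omega
  have hzu : z * u ≠ 1 := fun h => huz (by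
    rw [← inv_eq_of_mul_eq_one_right h]
    exact inv_eq_of_mul_eq_one_right (by rw [← sq, ← hz, pow_orderOf_eq_one]))
  rw [eq_bot_iff]
  intro w hw
  rw [mem_bot]
  refine hfix (z * u) (hord _ (mul_mem hzP huP) hzu) w hw ?_
  have e1 := hinv u (hord u huP hu1) w hw
  have e2 := hinv z hz _ (inv_mem hw)
  have e3 : z * u * w * (z * u)⁻¹ = w := by
    calc z * u * w * (z * u)⁻¹ = z * (u * w * u⁻¹) * z⁻¹ := by group
      _ = w := by rw [e1, e2, inv_inv]
  exact (mul_inv_eq_iff_eq_mul.1 e3).symm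

end CfsgLib.Perm.KleinSmall
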