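import Mathlib.LinearAlgebra.Matrix.SpecialLinearGroup
import Mathlib.FieldTheory.Finite.Basic

/-!
Elements of order `4` in `SL₂` over a finite field of odd order: they form one class, have abelian
centralisers, and are inverted by elements of order `4`.
-/

set_option autoImplicit false
set_option linter.unusedSimpArgs false

namespace CfsgLib.Perm.SLInvol

open Matrix

variable {F : Type*} [Field F] [Fintype F]

local notation "SL" => Matrix.SpecialLinearGroup (Fin 2) F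

theorem two_ne_zero_of_odd (hF : Odd (Fintype.card F)) : (2 : F) ≠ 0 :=
  Ring.two_ne_zero (by
    intro h2
    have := FiniteField.even_card_of_char_two h2
    rw [Nat.odd_iff] at hF
    omega)

theorem exists_sum_squares (hF : Odd (Fintype.card F)) (c : F) : ∃ a b : F, a ^ 2 + b ^ 2 = c := by
  obtain ⟨a, b, h⟩ := FiniteField.exists_root_sum_quadratic (R := F)
    (f := Polynomial.X ^ 2) (g := Polynomial.X ^ 2 - Polynomial.C c)
    (Polynomial.degree_X_pow 2) (Polynomial.degree_X_pow_sub_C two_pos c) (Nat.odd_iff.mp hF)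
  refine ⟨a, b, ?_⟩
  simp only [Polynomial.eval_pow, Polynomial.eval_X, Polynomial.eval_sub, Polynomial.eval_C] at h
  linear_combination h

/-- The standard element of order `4`. -/
def rot : SL := ⟨!![0, 1; -1, 0], by simp [Matrix.det_fin_two]⟩

omit [Fintype F] in
theorem eq_iff (A B : SL) : A = B ↔
    A 0 0 = B 0 0 ∧ A 0 1 = B 0 1 ∧ A 1 0 = B 1 0 ∧ A 1 1 = B 1 1 := by
  constructor
  · rintro rfl; exact ⟨rfl, rfl, rfl, rfl⟩
  · rintro ⟨h1, h2, h3, h4⟩
    ext i k
    fin_cases i <;> fin_cases k <;> assumption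

omit [Fintype F] in
theorem det_eq (A : SL) : A 0 0 * A 1 1 - A 0 1 * A 1 0 = 1 := by
  have := A.2
  rwa [Matrix.det_fin_two] at this

omit [Fintype F] in
theorem mul_entry (A B : SL) (i k : Fin 2) : (A * B) i k = A i 0 * B 0 k + A i 1 * B 1 k := by
  rw [Matrix.SpecialLinearGroup.coe_mul, Matrix.mul_apply, Fin.sum_univ_two]

omit [Fintype F] in
theorem rot_entries : (rot : SL) 0 0 = 0 ∧ (rot : SL) 0 1 = 1 ∧ (rot : SL) 1 0 = -1 ∧
    (rot : SL) 1 1 = 0 := by
  simp [rot]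

omit [Fintype F] in
theorem neg_entries : ((-1 : SL)) 0 0 = -1 ∧ (-1 : SL) 0 1 = 0 ∧ (-1 : SL) 1 0 = 0 ∧
    (-1 : SL) 1 1 = -1 := by
  simp [Matrix.SpecialLinearGroup.coe_neg]

omit [Fintype F] in
theorem exists_of_entries (a b c d : F) (h : a * d - b * c = 1) :
    ∃ A : SL, A 0 0 = a ∧ A 0 1 = b ∧ A 1 0 = c ∧ A 1 1 = d :=
  ⟨⟨!![a, b; c, d], by simp [Matrix.det_fin_two, h]⟩, rfl, rfl, rfl, rfl⟩

omit [Fintype F] in
theorem rot_mul_rot : (rot : SL) * rot = -1 := by
  obtain ⟨h1, h2, h3, h4⟩ := rot_entries (F := F)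
  obtain ⟨k1, k2, k3, k4⟩ := neg_entries (F := F)
  rw [eq_iff]
  simp [mul_entry, h1, h2, h3, h4, k1, k2, k3, k4]

omit [Fintype F] in
theorem commute_rot {A : SL} (h : A * rot = rot * A) : A 1 1 = A 0 0 ∧ A 1 0 = -A 0 1 := by
  obtain ⟨h1, h2, h3, h4⟩ := rot_entries (F := F)
  rw [eq_iff] at h
  simp only [mul_entry, h1, h2, h3, h4] at h
  exact ⟨by linear_combination (-1 : F) * h.2.1, by linear_combination (-1 : F) * h.1⟩

omit [Fintype F] in
theorem commute_of_commute_rot {A B : SL} (hA : A * rot = rot * A) (hB : B * rot = rot * B) :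
    A * B = B * A := by
  obtain ⟨a1, a2⟩ := commute_rot hA
  obtain ⟨b1, b2⟩ := commute_rot hB
  rw [eq_iff]
  simp only [mul_entry, a1, a2, b1, b2]
  refine ⟨?_, ?_, ?_, ?_⟩ <;> ring

theorem exists_inverting (hF : Odd (Fintype.card F)) :
    ∃ s : SL, s * s = -1 ∧ ∀ A : SL, A * rot = rot * A → s * A * s⁻¹ = A⁻¹ := by
  obtain ⟨a, b, hab⟩ := exists_sum_squares hF (-1 : F)
  obtain ⟨k1, k2, k3, k4⟩ := neg_entries (F := F)
  obtain ⟨S, s1, s2, s3, s4⟩ := exists_of_entries a b b (-a) (by linear_combination -hab)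
  refine ⟨S, ?_, ?_⟩
  · rw [eq_iff]
    simp only [mul_entry, k1, k2, k3, k4, s1, s2, s3, s4]
    refine ⟨?_, ?_, ?_, ?_⟩
    · linear_combination hab
    · ring
    · ring
    · linear_combination hab
  · intro A hA
    obtain ⟨a1, a2⟩ := commute_rot hA
    have hd := det_eq A
    rw [a1, a2] at hd
    suffices h : A * (S * A) = S from mul_inv_eq_iff_eq_mul.mpr (eq_inv_mul_of_mul_eq h)
    rw [eq_iff]
    simp only [mul_entry, s1, s2, s3, s4, a1, a2]
    refine ⟨?_, ?_, ?_, ?_⟩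
    · linear_combination a * hd
    · linear_combination b * hd
    · linear_combination b * hd
    · linear_combination (-a) * hd

omit [Fintype F] in
theorem trace_relation {M : SL} (h : M * M = -1) (h2 : (2 : F) ≠ 0) : M 1 1 = -M 0 0 := by
  obtain ⟨k1, k2, k3, k4⟩ := neg_entries (F := F)
  have hd := det_eq M
  rw [eq_iff] at h
  simp only [mul_entry, k1, k2, k3, k4] at h
  obtain ⟨e1, e2, e3, e4⟩ := h
  by_contra hne
  have hne' : M 0 0 + M 1 1 ≠ 0 := fun he => hne (by linear_combination he)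
  have hb : M 0 1 = 0 := by
    have : M 0 1 * (M 0 0 + M 1 1) = 0 := by linear_combination e2
    exact (mul_eq_zero.mp this).resolve_right hne'
  have hc : M 1 0 = 0 := by
    have : M 1 0 * (M 0 0 + M 1 1) = 0 := by linear_combination e3
    exact (mul_eq_zero.mp this).resolve_right hne'
  rw [hb, hc] at e1 e4 hd
  have : (M 0 0 + M 1 1) ^ 2 = 0 := by linear_combination e1 + e4 + 2 * hd
  exact hne' (pow_eq_zero_iff two_ne_zero |>.mp this)

theorem exists_conj_rot (hF : Odd (Fintype.card F)) {M : SL} (h : M * M = -1) :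
    ∃ P : SL, M * P = P * rot := by
  have h2 := two_ne_zero_of_odd hF
  have ht := trace_relation h h2
  have hd := det_eq M
  rw [ht] at hd
  obtain ⟨v1, v2, hv⟩ : ∃ v1 v2 : F,
      (M 0 0 * v1 + M 0 1 * v2) * v2 - (M 1 0 * v1 + M 1 1 * v2) * v1 = 1 := by
    by_cases hc : M 1 0 = 0
    · rw [hc] at hd
      have ha : M 0 0 ≠ 0 := fun h0 => by rw [h0] at hd; simp at hd
      refine ⟨(1 - M 0 1) / (2 * M 0 0), 1, ?_⟩
      rw [ht, hc]
      field_simp
      ring
    · obtain ⟨X, Y, hXY⟩ := exists_sum_squares hF (-M 1 0)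
      refine ⟨(X + M 0 0 * Y) / M 1 0, Y, ?_⟩
      rw [ht]
      field_simp
      linear_combination (-1 : F) * hXY - Y ^ 2 * hd
  obtain ⟨P, p1, p2, p3, p4⟩ := exists_of_entries (M 0 0 * v1 + M 0 1 * v2) v1
    (M 1 0 * v1 + M 1 1 * v2) v2 (by linear_combination hv)
  refine ⟨P, ?_⟩
  obtain ⟨r1, r2, r3, r4⟩ := rot_entries (F := F)
  rw [eq_iff]
  simp only [mul_entry, r1, r2, r3, r4, p1, p2, p3, p4, ht]
  refine ⟨?_, ?_, ?_, ?_⟩
  · linear_combination (-v1) * hd
  · ring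
  · linear_combination (-v2) * hd
  · ring

theorem eq_or_eq_neg_of_mul_self (hF : Odd (Fintype.card F)) {M : SL} (h : M * M = 1) :
    M = 1 ∨ M = -1 := by
  have h2 := two_ne_zero_of_odd hF
  have hd := det_eq M
  obtain ⟨k1, k2, k3, k4⟩ := neg_entries (F := F)
  have hM := h
  rw [eq_iff] at hM
  simp only [mul_entry] at hM
  simp at hM
  obtain ⟨e1, e2, e3, e4⟩ := hM
  have hne' : M 0 0 + M 1 1 ≠ 0 := by
    intro he
    have : (2 : F) = 0 := by linear_combination (-1 : F) * e1 - hd + M 0 0 * he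
    exact h2 this
  have hb : M 0 1 = 0 := by
    have : M 0 1 * (M 0 0 + M 1 1) = 0 := by linear_combination e2
    exact (mul_eq_zero.mp this).resolve_right hne'
  have hc : M 1 0 = 0 := by
    have : M 1 0 * (M 0 0 + M 1 1) = 0 := by linear_combination e3
    exact (mul_eq_zero.mp this).resolve_right hne'
  rw [hb, hc] at e1 hd
  simp at e1 hd
  rcases mul_self_eq_one_iff.mp e1 with ha | ha <;> rw [ha] at hd
  · left; rw [eq_iff]; simp [ha, hb, hc]; linear_combination hd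
  · right; rw [eq_iff]; simp [ha, hb, hc, k1, k2, k3, k4]; linear_combination (-1 : F) * hd

theorem neg_one_ne_one (hF : Odd (Fintype.card F)) : (-1 : SL) ≠ 1 := fun h => by
  obtain ⟨k1, -, -, -⟩ := neg_entries (F := F)
  have : ((-1 : SL)) 0 0 = (1 : SL) 0 0 := by rw [h]
  rw [k1] at this
  simp at this
  exact two_ne_zero_of_odd hF (by linear_combination (-1 : F) * this)

/-- The facts about `SL₂` used for a subgroup `L` of an ambient group. -/
theorem subgroup_facts {G : Type*} [Group G] (L : Subgroup G) (e : L ≃* SL)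
    (hF : Odd (Fintype.card F)) {j : G} (hjL : j ∈ L) (hj : j * j = 1) (hj1 : j ≠ 1) :
    ∃ x s : G, x ∈ L ∧ s ∈ L ∧ x * x = j ∧ s * s = j ∧
      (∀ a ∈ L, a * a = j → ∃ c ∈ L, c * a * c⁻¹ = x) ∧
      (∀ a ∈ L, a * a = 1 → a = 1 ∨ a = j) ∧
      (∀ a ∈ L, ∀ b ∈ L, a * x = x * a → b * x = x * b → a * b = b * a) ∧
      (∀ a ∈ L, a * x = x * a → s * a * s⁻¹ = a⁻¹) := by
  have hej : e ⟨j, hjL⟩ = -1 := by
    rcases eq_or_eq_neg_of_mul_self hF (M := e ⟨j, hjL⟩) (by
      rw [← map_mul, show (⟨j, hjL⟩ : L) * ⟨j, hjL⟩ = 1 from Subtype.ext hj, map_one]) with h | h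
    · exact absurd (congrArg Subtype.val (e.injective (h.trans e.map_one.symm))) hj1
    · exact h
  have tr : ∀ {a b : L}, e a = e b → (a : G) = b := fun h => congrArg Subtype.val (e.injective h)
  obtain ⟨s, hs, hsA⟩ := exists_inverting hF
  refine ⟨(e.symm rot : L), (e.symm s : L), (e.symm rot).2, (e.symm s).2, ?_, ?_, ?_, ?_, ?_, ?_⟩
  · exact tr (a := e.symm rot * e.symm rot) (b := ⟨j, hjL⟩) (by simp [hej, rot_mul_rot])
  · exact tr (a := e.symm s * e.symm s) (b := ⟨j, hjL⟩) (by simp [hej, hs])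
  · intro a ha haj
    obtain ⟨P, hP⟩ := exists_conj_rot hF (M := e ⟨a, ha⟩) (by
      rw [← map_mul, show (⟨a, ha⟩ : L) * ⟨a, ha⟩ = ⟨j, hjL⟩ from Subtype.ext haj, hej])
    refine ⟨(e.symm P⁻¹ : L), (e.symm P⁻¹).2, ?_⟩
    exact tr (a := e.symm P⁻¹ * ⟨a, ha⟩ * (e.symm P⁻¹)⁻¹) (b := e.symm rot) (by
      simp [mul_assoc, hP])
  · intro a ha ha1
    rcases eq_or_eq_neg_of_mul_self hF (M := e ⟨a, ha⟩) (by
      rw [← map_mul, show (⟨a, ha⟩ : L) * ⟨a, ha⟩ = 1 from Subtype.ext ha1, map_one]) with h | h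
    · exact Or.inl (congrArg Subtype.val (e.injective (h.trans e.map_one.symm)))
    · exact Or.inr (congrArg Subtype.val (e.injective (h.trans hej.symm)))
  · intro a ha b hb hax hbx
    have ha' : (⟨a, ha⟩ : L) * e.symm rot = e.symm rot * ⟨a, ha⟩ := Subtype.ext hax
    have hb' : (⟨b, hb⟩ : L) * e.symm rot = e.symm rot * ⟨b, hb⟩ := Subtype.ext hbx
    apply_fun e at ha' hb'
    simp at ha' hb'
    exact tr (a := ⟨a, ha⟩ * ⟨b, hb⟩) (b := ⟨b, hb⟩ * ⟨a, ha⟩) (by
      rw [map_mul, map_mul]; exact commute_of_commute_rot ha' hb')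
  · intro a ha hax
    have ha' : (⟨a, ha⟩ : L) * e.symm rot = e.symm rot * ⟨a, ha⟩ := Subtype.ext hax
    apply_fun e at ha'
    simp at ha'
    exact tr (a := e.symm s * ⟨a, ha⟩ * (e.symm s)⁻¹) (b := (⟨a, ha⟩ : L)⁻¹) (by
      simp [hsA _ ha'])

end CfsgLib.Perm.SLInvol
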