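import Cfsg.Agent.Lib.Invol.BrauerSuzuki
import Cfsg.Agent.Lib.Solvable.PCore
import Cfsg.Agent.Lib.Perm.SLTwoInvolution

/-!
An involution whose centraliser is a central product of two copies of `SL₂` interchanged by an
element squaring to it is isolated (root counting in the centraliser of two commuting conjugates).
-/

set_option autoImplicit false

namespace CfsgLib.Perm.SwappedPair

open Subgroup

variable {G : Type*} [Group G]

/-- An isolated involution with `[j, G] ≤ O(G)`: `G = C(j) O(G)`. -/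
theorem sup_oddCore_eq_top [Finite G] {j : G} (hj : Cfsg.IsIsolatedInvolution j) :
    centralizer ({j} : Set G) ⊔ Cfsg.oddCore G = ⊤ := by
  have hjj : j * j = 1 := by rw [← sq, ← hj.1, pow_orderOf_eq_one]
  have hji : j⁻¹ = j := inv_eq_of_mul_eq_one_right hjj
  rw [eq_top_iff]
  intro g _
  obtain ⟨x, hx⟩ : ∃ x, x = g * j * g⁻¹ * j := ⟨_, rfl⟩
  have hxO : x ∈ Cfsg.oddCore G := by
    have h := inv_mem (CfsgLib.Invol.zstar G hj g)
    rw [hx]
    convert h using 1
    rw [mul_inv_rev, mul_inv_rev, mul_inv_rev, inv_inv, inv_inv, hji]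
    group
  have hxj : j * x * j = x⁻¹ := by
    rw [hx, mul_inv_rev, hji, show (g * j * g⁻¹)⁻¹ = g * j⁻¹ * g⁻¹ by group, hji]
    calc j * (g * j * g⁻¹ * j) * j = j * (g * j * g⁻¹) * (j * j) := by group
      _ = j * (g * j * g⁻¹) := by rw [hjj, mul_one]
  have hodd : Odd (orderOf x) :=
    Odd.of_dvd_nat (Nat.coprime_two_right.mp (CfsgLib.Solvable.pPrimeCore_coprime 2))
      ((Subgroup.orderOf_dvd_natCard _ hxO))
  obtain ⟨m, hm⟩ := hodd
  obtain ⟨y, hy⟩ : ∃ y, y = x ^ (m + 1) := ⟨_, rfl⟩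
  have hyy : y * y = x := by
    rw [hy, ← pow_add, show m + 1 + (m + 1) = orderOf x + 1 by omega, pow_succ, pow_orderOf_eq_one,
      one_mul]
  have hyj : j * y * j = y⁻¹ := by
    have h1 := conj_pow (a := j) (b := x) (i := m + 1)
    rw [hji, hxj, inv_pow, ← hy] at h1
    exact h1.symm
  have key : y * j * y⁻¹ = g * j * g⁻¹ := by
    calc y * j * y⁻¹ = y * j * (j * y * j) := by rw [hyj]
      _ = y * (j * j) * y * j := by group
      _ = x * j := by rw [hjj, mul_one, hyy]
      _ = g * j * g⁻¹ * (j * j) := by rw [hx]; group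
      _ = g * j * g⁻¹ := by rw [hjj, mul_one]
  have hc : y⁻¹ * g ∈ centralizer ({j} : Set G) := by
    rw [mem_centralizer_singleton_iff]
    calc y⁻¹ * g * j = y⁻¹ * (g * j * g⁻¹) * g := by group
      _ = y⁻¹ * (y * j * y⁻¹) * g := by rw [key]
      _ = j * (y⁻¹ * g) := by group
  have hyO : y ∈ Cfsg.oddCore G := hy ▸ pow_mem hxO _
  have : g = y * (y⁻¹ * g) := by group
  rw [this]
  exact mul_mem (mem_sup_right hyO) (mem_sup_left hc)

variable {L₁ L₂ : Subgroup G}

theorem exists_mul_of_mem_sup (hc : ∀ x ∈ L₁, ∀ y ∈ L₂, x * y = y * x) {k : G}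
    (hk : k ∈ L₁ ⊔ L₂) : ∃ a ∈ L₁, ∃ b ∈ L₂, a * b = k := by
  let P : Subgroup G :=
    { carrier := {k | ∃ a ∈ L₁, ∃ b ∈ L₂, a * b = k}
      one_mem' := ⟨1, one_mem _, 1, one_mem _, one_mul 1⟩
      mul_mem' := by
        rintro _ _ ⟨a, ha, b, hb, rfl⟩ ⟨a', ha', b', hb', rfl⟩
        refine ⟨a * a', mul_mem ha ha', b * b', mul_mem hb hb', ?_⟩
        calc a * a' * (b * b') = a * (a' * b) * b' := by group
          _ = a * (b * a') * b' := by rw [hc a' ha' b hb]
          _ = a * b * (a' * b') := by group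
      inv_mem' := by
        rintro _ ⟨a, ha, b, hb, rfl⟩
        refine ⟨a⁻¹, inv_mem ha, b⁻¹, inv_mem hb, ?_⟩
        rw [mul_inv_rev, hc a⁻¹ (inv_mem ha) b⁻¹ (inv_mem hb)] }
  have hP : L₁ ⊔ L₂ ≤ P := sup_le (fun a ha => ⟨a, ha, 1, one_mem _, mul_one a⟩)
    (fun b hb => ⟨1, one_mem _, b, hb, one_mul b⟩)
  exact hP hk

section core

variable (hc : ∀ x ∈ L₁, ∀ y ∈ L₂, x * y = y * x) {j n x s : G}
  (hm : L₁ ⊓ L₂ = zpowers j) (hj : orderOf j = 2)
  (hjc : L₁ ⊔ L₂ ≤ centralizer ({j} : Set G))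
  (hn2 : n * n = j) (hswap : ∀ a ∈ L₁, n * a * n⁻¹ ∈ L₂) (hswap' : ∀ b ∈ L₂, n * b * n⁻¹ ∈ L₁)
  (hx : x ∈ L₁) (hxx : x * x = j) (hs : s ∈ L₁) (hss : s * s = j)

include hc hm hj hjc hn2 hswap hswap' hx hxx hs hss

theorem isolated [Finite G]
    (hYn : ∀ k : G, k * j = j * k → k ∈ L₁ ⊔ L₂ ∨ k * n⁻¹ ∈ L₁ ⊔ L₂)
    (hn : n ∉ L₁ ⊔ L₂)
    (hconj : ∀ a ∈ L₁, a * a = j → ∃ c ∈ L₁, c * a * c⁻¹ = x)
    (hsq : ∀ a ∈ L₁, a * a = 1 → a = 1 ∨ a = j)
    (hab : ∀ a ∈ L₁, ∀ b ∈ L₁, a * x = x * a → b * x = x * b → a * b = b * a)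
    (hsx : ∀ a ∈ L₁, a * x = x * a → s * a * s⁻¹ = a⁻¹) :
    Cfsg.IsIsolatedInvolution j := by
  classical
  have hjj : j * j = 1 := by rw [← sq, ← hj, pow_orderOf_eq_one]
  have hj1 : j ≠ 1 := fun h => by rw [h, orderOf_one] at hj; omega
  have hji : j⁻¹ = j := inv_eq_of_mul_eq_one_right hjj
  have hj12 : ∀ c, c ∈ L₁ → c ∈ L₂ → c = 1 ∨ c = j := by
    intro c h1 h2
    have : c ∈ zpowers j := hm ▸ mem_inf.mpr ⟨h1, h2⟩
    obtain ⟨i, rfl⟩ := this
    rcases Int.even_or_odd i with ⟨k, rfl⟩ | ⟨k, rfl⟩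
    · left
      show j ^ (k + k) = 1
      rw [← two_mul, zpow_mul, show j ^ (2 : ℤ) = 1 by rw [zpow_two, hjj], one_zpow]
    · right
      show j ^ (2 * k + 1) = j
      rw [zpow_add, zpow_mul, show j ^ (2 : ℤ) = 1 by rw [zpow_two, hjj], one_zpow, one_mul, zpow_one]
  have hjL₁ : j ∈ L₁ := (mem_inf.mp (hm.ge (mem_zpowers j))).1
  have hjL₂ : j ∈ L₂ := (mem_inf.mp (hm.ge (mem_zpowers j))).2
  have hjcomm : ∀ a ∈ L₁ ⊔ L₂, a * j = j * a := fun a ha => mem_centralizer_singleton_iff.mp (hjc ha)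
  obtain ⟨φ, hφ⟩ : ∃ φ : G →* G, φ = (MulAut.conj n).toMonoidHom := ⟨_, rfl⟩
  have hφa : ∀ a, φ a = n * a * n⁻¹ := fun a => by rw [hφ]; rfl
  have hφj : φ j = j := by
    rw [hφa, ← hn2]; group
  have hφ1 : ∀ a ∈ L₁, φ a ∈ L₂ := fun a ha => by rw [hφa]; exact hswap a ha
  have hφ2 : ∀ b ∈ L₂, φ b ∈ L₁ := fun b hb => by rw [hφa]; exact hswap' b hb
  have hφφ : ∀ a ∈ L₁ ⊔ L₂, φ (φ a) = a := fun a ha => by
    rw [hφa, hφa, show n * (n * a * n⁻¹) * n⁻¹ = (n * n) * a * (n * n)⁻¹ by group, hn2, ← hjcomm a ha]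
    group
  have hφinj : ∀ a b, φ a = φ b → a = b := fun a b h => by
    rw [hφa, hφa] at h; exact mul_left_cancel (mul_right_cancel h)
  obtain ⟨y, hy⟩ : ∃ y, y = φ x := ⟨_, rfl⟩
  have hyL : y ∈ L₂ := hy ▸ hφ1 x hx
  have hyy : y * y = j := by rw [hy, ← map_mul, hxx, hφj]
  have hxy : x * y = y * x := hc x hx y hyL
  obtain ⟨t, ht⟩ : ∃ t, t = x * y := ⟨_, rfl⟩
  have htt : t * t = 1 := by
    rw [ht, show x * y * (x * y) = x * (y * x) * y by group, ← hxy,
      show x * (x * y) * y = (x * x) * (y * y) by group, hxx, hyy, hjj]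
  have htY : t ∈ L₁ ⊔ L₂ := ht ▸ mul_mem (mem_sup_left hx) (mem_sup_right hyL)
  have htj : t * j = j * t := hjcomm t htY
  have hprod : ∀ k, k ∈ L₁ ⊔ L₂ → ∃ a ∈ L₁, ∃ b ∈ L₁, a * φ b = k := fun k hk => by
    obtain ⟨a, ha, b, hb, rfl⟩ := exists_mul_of_mem_sup hc hk
    exact ⟨a, ha, φ b, hφ2 b hb, by rw [hφφ b (mem_sup_right hb)]⟩
  -- a product `a φ(b)` of elements squaring into the centre
  have hsplit : ∀ a ∈ L₁, ∀ b ∈ L₁, ∀ a' ∈ L₁, ∀ b' ∈ L₁, a * φ b = a' * φ b' →
      (a = a' ∧ b = b') ∨ (a = a' * j ∧ b = j * b') := by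
    intro a ha b hb a' ha' b' hb' h
    have h2 : a'⁻¹ * a = φ (b' * b⁻¹) := by
      rw [map_mul, map_inv]
      calc a'⁻¹ * a = a'⁻¹ * (a * φ b) * (φ b)⁻¹ := by group
        _ = a'⁻¹ * (a' * φ b') * (φ b)⁻¹ := by rw [h]
        _ = φ b' * (φ b)⁻¹ := by group
    rcases hj12 _ (mul_mem (inv_mem ha') ha) (h2 ▸ hφ1 _ (mul_mem hb' (inv_mem hb))) with h3 | h3
    · left
      rw [h3] at h2
      exact ⟨(inv_mul_eq_one.mp h3).symm,
        (mul_inv_eq_one.mp (hφinj _ 1 (by rw [← h2, map_one]))).symm⟩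
    · right
      rw [h3] at h2
      refine ⟨by rw [← h3, mul_inv_cancel_left], ?_⟩
      have := hφinj _ j (by rw [← h2, hφj])
      have e : b' = j * b := by rw [← this]; group
      rw [e, ← mul_assoc, hjj, one_mul]
  -- every involution other than `j` commuting with `j` is conjugate to `t` in the centraliser
  have hclass : ∀ u : G, u * u = 1 → u * j = j * u → u ≠ 1 → u ≠ j →
      ∃ c : G, c * j = j * c ∧ c * u * c⁻¹ = t := by
    intro u huu huj hu1 huj'
    rcases hYn u huj with huY | huY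
    · obtain ⟨a, ha, b, hb, rfl⟩ := hprod u huY
      have hab2 : a * a * φ (b * b) = 1 * φ 1 := by
        rw [map_one, mul_one, map_mul, ← huu]
        calc a * a * (φ b * φ b) = a * (a * φ b) * φ b := by group
          _ = a * (φ b * a) * φ b := by rw [hc a ha _ (hφ1 b hb)]
          _ = a * φ b * (a * φ b) := by group
      rcases hsplit _ (mul_mem ha ha) _ (mul_mem hb hb) 1 (one_mem _) 1 (one_mem _) hab2 with
        ⟨h1, h2⟩ | ⟨h1, h2⟩
      · exfalso
        rcases hsq a ha h1 with rfl | rfl <;> rcases hsq b hb h2 with rfl | rfl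
        · exact hu1 (by rw [map_one, mul_one])
        · exact huj' (by rw [hφj, one_mul])
        · exact huj' (by rw [map_one, mul_one])
        · exact hu1 (by rw [hφj, hjj])
      · rw [one_mul] at h1
        rw [mul_one] at h2
        obtain ⟨c, hcL, hca⟩ := hconj a ha h1
        obtain ⟨d, hdL, hdb⟩ := hconj b hb h2
        refine ⟨c * φ d, hjcomm _ (mul_mem (mem_sup_left hcL) (mem_sup_right (hφ1 d hdL))), ?_⟩
        rw [ht, hy]
        nth_rewrite 2 [← hdb]
        nth_rewrite 1 [← hca]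
        rw [map_mul, map_mul, map_inv]
        have e1 := hc a ha _ (hφ1 d hdL)
        have e2 := hc _ (inv_mem hcL) _ (hφ1 d hdL)
        have e3 := hc _ (inv_mem hcL) _ (hφ1 b hb)
        calc c * φ d * (a * φ b) * (c * φ d)⁻¹
            = c * (φ d * a) * φ b * (φ d)⁻¹ * c⁻¹ := by group
          _ = c * a * (φ d * φ b * (φ d)⁻¹) * c⁻¹ := by rw [← e1]; group
          _ = c * a * ((φ d * φ b * (φ d)⁻¹) * c⁻¹) := by group
          _ = c * a * (c⁻¹ * (φ d * φ b * (φ d)⁻¹)) := by
              rw [hc c⁻¹ (inv_mem hcL) _ (mul_mem (mul_mem (hφ1 d hdL) (hφ1 b hb))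
                (inv_mem (hφ1 d hdL)))]
          _ = _ := by group
    · exfalso
      obtain ⟨a, ha, b, hb, hu⟩ := hprod _ huY
      have hu' : u = a * φ b * n := by rw [hu]; group
      rw [hu'] at huu
      -- `(a φ(b) n)² = a b φ(b a) j`
      have e : a * φ b * n * (a * φ b * n) = (a * b * j) * φ (b * a) := by
        have h1 : n * (a * φ b) * n⁻¹ = b * φ a := by
          rw [← hφa, map_mul, hφφ b (mem_sup_left hb), hc b hb _ (hφ1 a ha)]
        calc a * φ b * n * (a * φ b * n) = a * φ b * (n * (a * φ b) * n⁻¹) * (n * n) := by group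
          _ = a * (φ b * b) * φ a * j := by rw [h1, hn2]; group
          _ = a * b * (φ (b * a) * j) := by rw [← hc b hb _ (hφ1 b hb), map_mul]; group
          _ = a * b * j * φ (b * a) := by rw [hjcomm _ (mem_sup_right (hφ1 _ (mul_mem hb ha)))]; group
      rw [e] at huu
      rcases hsplit _ (mul_mem (mul_mem ha hb) hjL₁) _ (mul_mem hb ha) 1 (one_mem _) 1 (one_mem _)
        (by rw [huu, map_one, mul_one]) with ⟨h1, h2⟩ | ⟨h1, h2⟩
      · apply hj1
        have : a = b⁻¹ := eq_inv_of_mul_eq_one_right h2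
        rw [this, inv_mul_cancel, one_mul] at h1
        exact h1
      · rw [one_mul] at h1
        rw [mul_one] at h2
        have h3 : a * b = 1 := mul_right_cancel (h1.trans (one_mul j).symm)
        exact hj1 (h2.symm.trans (mul_eq_one_comm.mp h3))
  refine ⟨hj, fun g hg => ?_⟩
  by_contra hne
  obtain ⟨u, hu⟩ : ∃ u, u = g * j * g⁻¹ := ⟨_, rfl⟩
  rw [← hu] at hne hg
  have huu : u * u = 1 := by rw [hu, show g * j * g⁻¹ * (g * j * g⁻¹) = g * (j * j) * g⁻¹ by group, hjj]; group
  have hu1 : u ≠ 1 := fun h => hj1 (by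
    have : j = g⁻¹ * u * g := by rw [hu]; group
    rw [this, h]; group)
  obtain ⟨c, hcj, hcu⟩ := hclass u huu hg.eq.symm hu1 hne
  obtain ⟨g', hg'⟩ : ∃ g', g' = c * g := ⟨_, rfl⟩
  have hg't : g' * j * g'⁻¹ = t := by rw [hg', ← hcu, hu]; group
  have htne : t ≠ j := by
    intro h
    apply hne
    have : c⁻¹ * j * c = j := by rw [mul_assoc, ← hcj]; group
    rw [← this, ← h, ← hcu]; group
  obtain ⟨v, hv⟩ : ∃ v, v = g'⁻¹ * j * g' := ⟨_, rfl⟩
  have hvv : v * v = 1 := by rw [hv, show g'⁻¹ * j * g' * (g'⁻¹ * j * g') = g'⁻¹ * (j * j) * g' by group, hjj]; group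
  have hvj : v * j = j * v := by
    rw [hv]
    have e := congrArg (fun k => g'⁻¹ * k * g') htj
    rw [← hg't] at e
    simp only [mul_assoc, inv_mul_cancel_left, inv_mul_cancel, mul_one] at e ⊢
    exact e.symm
  have hv1 : v ≠ 1 := fun h => hj1 (by
    have : j = g' * v * g'⁻¹ := by rw [hv]; group
    rw [this, h]; group)
  have hvj' : v ≠ j := fun h => htne (by
    rw [← hg't]
    nth_rewrite 1 [← h]
    rw [hv]; group)
  obtain ⟨c', hc'j, hc'v⟩ := hclass v hvv hvj hv1 hvj'
  obtain ⟨h, hh⟩ : ∃ h, h = c' * g'⁻¹ := ⟨_, rfl⟩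
  have hht : h * t * h⁻¹ = j := by
    rw [hh, ← hg't, show c' * g'⁻¹ * (g' * j * g'⁻¹) * (c' * g'⁻¹)⁻¹ = c' * j * c'⁻¹ by group,
      hc'j]
    group
  have hhj : h * j * h⁻¹ = t := by rw [hh, ← hc'v, hv]; group
  -- roots of `j` and of `t` among the elements commuting with both
  have hK : ∀ k : G, k * j = j * k → k * t = t * k →
      (k ∈ L₁ ⊔ L₂ → ∃ a ∈ L₁, ∃ b ∈ L₁, a * x = x * a ∧ b * x = x * b ∧
        (k = a * φ b ∨ k = (a * s) * φ (b * s))) := by
    intro k _ hkt hkY
    obtain ⟨a, ha, b, hb, rfl⟩ := hprod k hkY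
    have h1 : (a * x * a⁻¹) * φ (b * x * b⁻¹) = x * φ x := by
      rw [map_mul, map_mul, map_inv, ← hy, ← ht]
      have e1 := hc x hx _ (hφ1 b hb)
      calc a * x * a⁻¹ * (φ b * y * (φ b)⁻¹) = a * x * (a⁻¹ * (φ b * y * (φ b)⁻¹)) := by group
        _ = a * x * ((φ b * y * (φ b)⁻¹) * a⁻¹) := by
            rw [hc a⁻¹ (inv_mem ha) _ (mul_mem (mul_mem (hφ1 b hb) hyL) (inv_mem (hφ1 b hb)))]
        _ = a * (x * φ b) * y * (φ b)⁻¹ * a⁻¹ := by group
        _ = (a * φ b * t) * (a * φ b)⁻¹ := by rw [e1, ht]; group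
        _ = t := by rw [hkt]; group
    rcases hsplit _ (mul_mem (mul_mem ha hx) (inv_mem ha)) _ (mul_mem (mul_mem hb hx) (inv_mem hb))
      x hx x hx h1 with ⟨h2, h3⟩ | ⟨h2, h3⟩
    · exact ⟨a, ha, b, hb, mul_inv_eq_iff_eq_mul.mp h2,
        mul_inv_eq_iff_eq_mul.mp h3, Or.inl rfl⟩
    · have hsxs : s * x * s⁻¹ = x * j := by
        rw [hsx x hx rfl, inv_eq_iff_mul_eq_one, ← mul_assoc, hxx, hjj]
      have hjx : j * x = x * j := (hjcomm x (mem_sup_left hx)).symm
      refine ⟨a * s⁻¹, mul_mem ha (inv_mem hs), b * s⁻¹, mul_mem hb (inv_mem hs), ?_, ?_,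
        Or.inr (by rw [inv_mul_cancel_right, inv_mul_cancel_right])⟩
      · have : a * s⁻¹ * x * (a * s⁻¹)⁻¹ = x := by
          have e : s⁻¹ * x * s = x * j := by
            have hsj : s⁻¹ = s * j := inv_eq_of_mul_eq_one_right (by rw [← mul_assoc, hss, hjj])
            rw [hsj]
            calc s * j * x * s = s * (j * x) * s := by group
              _ = s * x * (j * s) := by rw [hjx]; group
              _ = s * x * s⁻¹ := by rw [hsj, hjcomm s (mem_sup_left hs)]
              _ = x * j := hsxs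
          calc a * s⁻¹ * x * (a * s⁻¹)⁻¹ = a * (s⁻¹ * x * s) * a⁻¹ := by group
            _ = a * x * (j * a⁻¹) := by rw [e]; group
            _ = a * x * a⁻¹ * j := by rw [← hjcomm _ (mem_sup_left (inv_mem ha))]; group
            _ = x * (j * j) := by rw [h2]; group
            _ = x := by rw [hjj, mul_one]
        exact mul_inv_eq_iff_eq_mul.mp this
      · have : b * s⁻¹ * x * (b * s⁻¹)⁻¹ = x := by
          have e : s⁻¹ * x * s = x * j := by
            have hsj : s⁻¹ = s * j := inv_eq_of_mul_eq_one_right (by rw [← mul_assoc, hss, hjj])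
            rw [hsj]
            calc s * j * x * s = s * (j * x) * s := by group
              _ = s * x * (j * s) := by rw [hjx]; group
              _ = s * x * s⁻¹ := by rw [hsj, hjcomm s (mem_sup_left hs)]
              _ = x * j := hsxs
          calc b * s⁻¹ * x * (b * s⁻¹)⁻¹ = b * (s⁻¹ * x * s) * b⁻¹ := by group
            _ = b * x * (j * b⁻¹) := by rw [e]; group
            _ = b * x * b⁻¹ * j := by rw [← hjcomm _ (mem_sup_left (inv_mem hb))]; group
            _ = j * (x * j) := by rw [h3]; group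
            _ = x := by rw [← hjx, ← mul_assoc, hjj, one_mul]
        exact mul_inv_eq_iff_eq_mul.mp this
  -- the abelian part
  obtain ⟨A, hA⟩ : ∃ A : G → Prop, A = fun k => ∃ a ∈ L₁, ∃ b ∈ L₁, a * x = x * a ∧ b * x = x * b ∧
      k = a * φ b := ⟨_, rfl⟩
  have hAY : ∀ k, A k → k ∈ L₁ ⊔ L₂ := by
    intro k hk
    rw [hA] at hk
    obtain ⟨a, ha, b, hb, -, -, rfl⟩ := hk
    exact mul_mem (mem_sup_left ha) (mem_sup_right (hφ1 b hb))
  have hAcomm : ∀ k l, A k → A l → k * l = l * k := by
    intro k l hk hl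
    rw [hA] at hk hl
    obtain ⟨a, ha, b, hb, hax, hbx, rfl⟩ := hk
    obtain ⟨a', ha', b', hb', hax', hbx', rfl⟩ := hl
    calc a * φ b * (a' * φ b') = a * (φ b * a') * φ b' := by group
      _ = (a * a') * (φ b * φ b') := by rw [← hc a' ha' _ (hφ1 b hb)]; group
      _ = (a' * a) * (φ b' * φ b) := by
          rw [hab a ha a' ha' hax hax', ← map_mul, hab b hb b' hb' hbx hbx', map_mul]
      _ = a' * (a * φ b') * φ b := by group
      _ = a' * φ b' * (a * φ b) := by rw [hc a ha _ (hφ1 b' hb')]; group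
  have hAx : A x := by
    rw [hA]; exact ⟨x, hx, 1, one_mem _, rfl, by group, by rw [map_one, mul_one]⟩
  obtain ⟨R, hR⟩ : ∃ R : G → Set G, R = fun v => {k : G | k * j = j * k ∧ k * t = t * k ∧ k * k = v} :=
    ⟨_, rfl⟩
  have hmap : ∀ v, (fun k => h * k * h⁻¹) '' R v ⊆ R (h * v * h⁻¹) := by
    intro v
    rintro _ ⟨k, hk, rfl⟩
    rw [hR] at hk ⊢
    obtain ⟨hkj, hkt, hkk⟩ := hk
    refine ⟨?_, ?_, ?_⟩
    · rw [← hht]
      calc h * k * h⁻¹ * (h * t * h⁻¹) = h * (k * t) * h⁻¹ := by group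
        _ = h * t * h⁻¹ * (h * k * h⁻¹) := by rw [hkt]; group
    · rw [← hhj]
      calc h * k * h⁻¹ * (h * j * h⁻¹) = h * (k * j) * h⁻¹ := by group
        _ = h * j * h⁻¹ * (h * k * h⁻¹) := by rw [hkj]; group
    · calc h * k * h⁻¹ * (h * k * h⁻¹) = h * (k * k) * h⁻¹ := by group
        _ = _ := by rw [hkk]
  have hle : (R j).ncard ≤ (R t).ncard := by
    rw [← Set.ncard_image_of_injective (R j)
      (fun a b hab' => mul_left_cancel (mul_right_cancel hab') : Function.Injective fun k => h * k * h⁻¹),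
      ← hhj]
    exact Set.ncard_le_ncard (hmap j) (Set.toFinite _)
  -- `n` is a root of `j`
  have hnR : n ∈ R j := by
    rw [hR]
    refine ⟨by rw [← hn2]; group, ?_, hn2⟩
    have e : n * t * n⁻¹ = t := by
      rw [ht, hy, ← hφa, map_mul, hφφ x (mem_sup_left hx), ← hy, ← hxy]
    exact mul_inv_eq_iff_eq_mul.mp e
  -- the roots of `t` lie in the abelian part or satisfy `(x k)² = j`
  have hcases : ∀ k ∈ R t, (A k ∧ (A k)) ∨ (x * k * (x * k) = j ∧ ¬ A k ∧ x * k ≠ n) := by
    intro k hk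
    rw [hR] at hk
    obtain ⟨hkj, hkt, hkk⟩ := hk
    rcases hYn k hkj with hkY | hkY
    · obtain ⟨a, ha, b, hb, hax, hbx, hab' | hab'⟩ := hK k hkj hkt hkY
      · exact Or.inl ⟨hA ▸ ⟨a, ha, b, hb, hax, hbx, hab'⟩, hA ▸ ⟨a, ha, b, hb, hax, hbx, hab'⟩⟩
      · exfalso
        have h0 : ∀ a ∈ L₁, a * x = x * a → (a * s) * (a * s) = j := fun a ha hax => by
          calc (a * s) * (a * s) = a * (s * a * s⁻¹) * (s * s) := by group
            _ = j := by rw [hsx a ha hax, hss, mul_inv_cancel, one_mul]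
        have : k * k = 1 := by
          rw [hab']
          calc a * s * φ (b * s) * (a * s * φ (b * s))
              = a * s * (φ (b * s) * (a * s)) * φ (b * s) := by group
            _ = (a * s * (a * s)) * (φ (b * s) * φ (b * s)) := by
                rw [← hc (a * s) (mul_mem ha hs) _ (hφ1 _ (mul_mem hb hs))]; group
            _ = 1 := by rw [← map_mul, h0 a ha hax, h0 b hb hbx, hφj, hjj]
        rw [hkk] at this
        exact htne (by
          exfalso
          rw [this] at hg't
          exact hj1 (by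
            have e : j = g'⁻¹ * (g' * j * g'⁻¹) * g' := by group
            rw [e, hg't]; group))
    · have hkn : (k * n⁻¹) * t = t * (k * n⁻¹) := by
        rw [hR] at hnR
        have : n⁻¹ * t = t * n⁻¹ := by
          rw [inv_mul_eq_iff_eq_mul, ← mul_assoc, hnR.2.1, mul_inv_cancel_right]
        rw [mul_assoc, this, ← mul_assoc, hkt, mul_assoc]
      obtain ⟨a, ha, b, hb, hax, hbx, hab' | hab'⟩ := hK _ (hjcomm _ hkY) hkn hkY
      · exfalso
        have hk' : k = a * φ b * n := by rw [← hab']; group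
        have e : k * k = (a * b * j) * φ (a * b) := by
          have h1 : n * (a * φ b) * n⁻¹ = b * φ a := by
            rw [← hφa, map_mul, hφφ b (mem_sup_left hb), hc b hb _ (hφ1 a ha)]
          rw [hk', map_mul]
          calc a * φ b * n * (a * φ b * n) = a * φ b * (n * (a * φ b) * n⁻¹) * (n * n) := by group
            _ = a * (φ b * b) * φ a * j := by rw [h1, hn2]; group
            _ = a * b * (φ b * φ a) * j := by rw [← hc b hb _ (hφ1 b hb)]; group
            _ = a * b * (φ a * φ b) * j := by rw [← map_mul, hab b hb a ha hbx hax, map_mul]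
            _ = a * b * (φ (a * b) * j) := by rw [map_mul]; group
            _ = a * b * (j * φ (a * b)) := by rw [hjcomm _ (mem_sup_right (hφ1 _ (mul_mem ha hb)))]
            _ = _ := by rw [map_mul]; group
        rw [hkk, ht, hy] at e
        rcases hsplit x hx x hx _ (mul_mem (mul_mem ha hb) hjL₁) _ (mul_mem ha hb) e with
          ⟨h1, h2⟩ | ⟨h1, h2⟩
        · apply hj1
          rw [← h2] at h1
          exact mul_eq_left.mp h1.symm
        · apply hj1
          rw [mul_assoc (a * b), hjj, mul_one] at h1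
          rw [← h1] at h2
          exact mul_eq_right.mp h2.symm
      · right
        have hk' : k = a * s * φ (b * s) * n := by rw [← hab']; group
        have hkx : k * x * k⁻¹ = j * y := by
          rw [hk']
          have e1 : n * x * n⁻¹ = y := by rw [hy, hφa]
          have e2 : φ (b * s) * y * (φ (b * s))⁻¹ = j * y := by
            rw [hy, ← map_inv, ← map_mul, ← map_mul]
            have : b * s * x * (b * s)⁻¹ = j * x := by
              calc b * s * x * (b * s)⁻¹ = b * (s * x * s⁻¹) * b⁻¹ := by group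
                _ = b * x⁻¹ * b⁻¹ := by rw [hsx x hx rfl]
                _ = (b * x * b⁻¹)⁻¹ := by group
                _ = x⁻¹ := by rw [mul_inv_eq_iff_eq_mul.mpr hbx]
                _ = j * x := by
                  rw [inv_eq_iff_mul_eq_one, ← mul_assoc, hjcomm x (mem_sup_left hx), mul_assoc,
                    hxx, hjj]
            rw [this, map_mul, hφj]
          calc a * s * φ (b * s) * n * x * (a * s * φ (b * s) * n)⁻¹
              = a * s * (φ (b * s) * (n * x * n⁻¹) * (φ (b * s))⁻¹) * (a * s)⁻¹ := by group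
            _ = a * s * (j * y) * (a * s)⁻¹ := by rw [e1, e2]
            _ = (j * y) * (a * s) * (a * s)⁻¹ := by
                rw [hc (a * s) (mul_mem ha hs) _ (mul_mem hjL₂ hyL)]
            _ = j * y := by group
        refine ⟨?_, fun hAk => hn ?_, fun hxk => ?_⟩
        · calc x * k * (x * k) = x * (k * x * k⁻¹) * (k * k) := by group
            _ = x * (j * y) * t := by rw [hkx, hkk]
            _ = j * (x * y) * t := by rw [← mul_assoc x j, hjcomm x (mem_sup_left hx)]; group
            _ = j := by rw [← ht, mul_assoc, htt, mul_one]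
        · have := mul_mem (inv_mem hkY) (hAY k hAk)
          rwa [show (k * n⁻¹)⁻¹ * k = n by group] at this
        · -- `k n⁻¹` would lie in the abelian part
          have e : k * n⁻¹ = x⁻¹ := by rw [← hxk]; group
          rw [hab'] at e
          have e' : (a * s) * φ (b * s) = x⁻¹ * φ 1 := by rw [map_one, mul_one]; exact e
          rcases hsplit _ (mul_mem ha hs) _ (mul_mem hb hs) _ (inv_mem hx) 1 (one_mem _) e' with
            ⟨-, h2⟩ | ⟨-, h2⟩
          · have : s = b⁻¹ := eq_inv_of_mul_eq_one_right h2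
            have hsx' : s * x = x * s := by
              rw [this, inv_mul_eq_iff_eq_mul, ← mul_assoc, hbx, mul_inv_cancel_right]
            have := hsx x hx rfl
            rw [hsx', mul_inv_cancel_right] at this
            exact hj1 (by rw [← hxx]; nth_rewrite 2 [this]; group)
          · rw [mul_one] at h2
            have : s = b⁻¹ * j := by rw [← h2]; group
            have hsx' : s * x = x * s := by
              have hjx := (hjcomm x (mem_sup_left hx)).symm
              rw [this, mul_assoc, hjx, ← mul_assoc, ← mul_assoc]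
              congr 1
              rw [inv_mul_eq_iff_eq_mul, ← mul_assoc, hbx, mul_inv_cancel_right]
            have := hsx x hx rfl
            rw [hsx', mul_inv_cancel_right] at this
            exact hj1 (by rw [← hxx]; nth_rewrite 2 [this]; group)
  -- the injection
  have hlt : (R t).ncard < (R j).ncard := by
    obtain ⟨w, hw⟩ : ∃ w : G, ∀ k ∈ R t, A k → A (k * w) ∧ k * w * (k * w) = j := by
      by_cases hex : ∃ k₀, k₀ ∈ R t ∧ A k₀
      · obtain ⟨k₀, hk₀, hA₀⟩ := hex
        refine ⟨k₀⁻¹ * x, fun k hk hAk => ?_⟩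
        have hc0 : k₀ * x = x * k₀ := hAcomm _ _ hA₀ hAx
        have hc1 : k * k₀ = k₀ * k := hAcomm _ _ hAk hA₀
        have hc2 : k * x = x * k := hAcomm _ _ hAk hAx
        rw [hR] at hk hk₀
        refine ⟨?_, ?_⟩
        · have hclosed : ∀ k l, A k → A l → A (k⁻¹ * l) := by
            intro k l hk hl
            rw [hA] at hk hl ⊢
            obtain ⟨a, ha, b, hb, hax, hbx, rfl⟩ := hk
            obtain ⟨a', ha', b', hb', hax', hbx', rfl⟩ := hl
            have hinv : ∀ a, a * x = x * a → a⁻¹ * x = x * a⁻¹ := fun a h =>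
              (Commute.inv_left (show Commute a x from h)).eq
            refine ⟨a⁻¹ * a', mul_mem (inv_mem ha) ha', b⁻¹ * b', mul_mem (inv_mem hb) hb', ?_, ?_, ?_⟩
            · exact ((show Commute a⁻¹ x from hinv a hax).mul_left (show Commute a' x from hax')).eq
            · exact ((show Commute b⁻¹ x from hinv b hbx).mul_left (show Commute b' x from hbx')).eq
            · rw [map_mul, map_inv]
              calc (a * φ b)⁻¹ * (a' * φ b') = (φ b)⁻¹ * (a⁻¹ * a') * φ b' := by group
                _ = _ := by rw [← hc _ (mul_mem (inv_mem ha) ha') _ (inv_mem (hφ1 b hb))]; group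
          have h1 : A (1 : G) := by
            rw [hA]; exact ⟨1, one_mem _, 1, one_mem _, by group, by group, by rw [map_one, mul_one]⟩
          have : A (k⁻¹ * 1) := hclosed _ _ hAk h1
          have h3 := hclosed _ _ this (hclosed _ _ hA₀ hAx)
          simpa using h3
        · have C0 : Commute k₀⁻¹ x := (show Commute k₀ x from hc0).inv_left
          have C1 : Commute k (k₀⁻¹ * x) :=
            (show Commute k k₀ from hc1).inv_right.mul_right (show Commute k x from hc2)
          rw [← sq, C1.mul_pow, C0.mul_pow, sq, sq, sq, hk.2.2, hxx,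
            show k₀⁻¹ * k₀⁻¹ = (k₀ * k₀)⁻¹ by group, hk₀.2.2, ← mul_assoc, mul_inv_cancel, one_mul]
      · exact ⟨1, fun k hk hAk => absurd ⟨k, hk, hAk⟩ hex⟩
    obtain ⟨f, hf⟩ : ∃ f : G → G, f = fun k => if A k then k * w else x * k := ⟨_, rfl⟩
    have hxR : x * j = j * x ∧ x * t = t * x :=
      ⟨hjcomm x (mem_sup_left hx), by rw [ht, mul_assoc x y x, hxy]⟩
    have hfR : ∀ k ∈ R t, f k ∈ R j ∧ (A k ↔ A (f k)) ∧ f k ≠ n := by
      intro k hk
      rcases hcases k hk with ⟨hAk, -⟩ | ⟨hxk, hnA, hne'⟩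
      · obtain ⟨h1, h2⟩ := hw k hk hAk
        have hfk : f k = k * w := by rw [hf]; simp [hAk]
        rw [hfk]
        refine ⟨?_, by simp [hAk, h1], fun h => hn (h ▸ hAY _ h1)⟩
        rw [hR]
        refine ⟨hjcomm _ (hAY _ h1), ?_, h2⟩
        have hAt : A t := by rw [hA]; exact ⟨x, hx, x, hx, rfl, rfl, by rw [ht, hy]⟩
        exact hAcomm _ _ h1 hAt
      · have hfk : f k = x * k := by rw [hf]; simp [hnA]
        rw [hfk]
        rw [hR] at hk
        refine ⟨?_, ?_, hne'⟩
        · rw [hR]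
          exact ⟨((show Commute x j from hxR.1).mul_left (show Commute k j from hk.1)).eq,
            ((show Commute x t from hxR.2).mul_left (show Commute k t from hk.2.1)).eq, hxk⟩
        · constructor
          · exact fun h => absurd h hnA
          · intro h
            exfalso
            have hkY : k ∈ L₁ ⊔ L₂ := by
              have := mul_mem (inv_mem (mem_sup_left (T := L₂) hx)) (hAY _ h)
              rwa [inv_mul_cancel_left] at this
            obtain ⟨a, ha, b, hb, hax, hbx, hab' | hab'⟩ := hK k hk.1 hk.2.1 hkY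
            · exact hnA (hA ▸ ⟨a, ha, b, hb, hax, hbx, hab'⟩)
            · rw [hA] at h
              obtain ⟨a', ha', b', hb', hax', hbx', he⟩ := h
              rw [hab', ← mul_assoc] at he
              rcases hsplit _ (mul_mem hx (mul_mem ha hs)) _ (mul_mem hb hs) _ ha' _ hb' he with
                ⟨-, h2⟩ | ⟨-, h2⟩
              · have : s = b⁻¹ * b' := by rw [← h2]; group
                have hsx' : s * x = x * s := by
                  rw [this]
                  exact ((show Commute b x from hbx).inv_left.mul_left (show Commute b' x from hbx')).eq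
                have := hsx x hx rfl
                rw [hsx', mul_inv_cancel_right] at this
                exact hj1 (by rw [← hxx]; nth_rewrite 2 [this]; group)
              · have : s = b⁻¹ * (j * b') := by rw [← h2]; group
                have hsx' : s * x = x * s := by
                  rw [this]
                  exact ((show Commute b x from hbx).inv_left.mul_left
                    ((show Commute j x from (hjcomm x (mem_sup_left hx)).symm).mul_left
                      (show Commute b' x from hbx'))).eq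
                have := hsx x hx rfl
                rw [hsx', mul_inv_cancel_right] at this
                exact hj1 (by rw [← hxx]; nth_rewrite 2 [this]; group)
    have hinj : Set.InjOn f (R t) := by
      intro k hk l hl hkl
      have e1 := (hfR k hk).2.1
      have e2 := (hfR l hl).2.1
      rw [hkl] at e1
      by_cases hAk : A k
      · have hAl : A l := e2.mpr (e1.mp hAk)
        rw [hf] at hkl; simp [hAk, hAl] at hkl
        exact hkl
      · have hAl : ¬ A l := fun h => hAk (e1.mpr (e2.mp h))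
        rw [hf] at hkl; simp [hAk, hAl] at hkl
        exact hkl
    calc (R t).ncard = (f '' R t).ncard := (Set.ncard_image_of_injOn hinj).symm
      _ < (R j).ncard := by
          refine Set.ncard_lt_ncard ⟨?_, fun hsub => ?_⟩ (Set.toFinite _)
          · rintro _ ⟨k, hk, rfl⟩; exact (hfR k hk).1
          · obtain ⟨k, hk, hkn⟩ := hsub hnR
            exact (hfR k hk).2.2 hkn
  omega

end core

end CfsgLib.Perm.SwappedPair
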