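import Cfsg.Agent.Lib.Perm.DegreeElevenSharp
import Cfsg.Agent.S0676
import Cfsg.Agent.S3681
import Cfsg.Agent.Lib.ClassK.SmallSimple

/-!
The insoluble transitive groups of degree 11 other than `A₁₁` and `S₁₁`.
-/

set_option autoImplicit false

namespace CfsgLib.Perm.DegreeEleven

open Subgroup MulAction

universe u

variable {α : Type u} [Fintype α] [DecidableEq α]

local instance factElevenDegreeEleven : Fact (Nat.Prime 11) := ⟨by decide +kernel⟩

theorem div_cases : ∀ n ∈ (3456 : ℕ).divisors, n % 11 = 1 → n = 1 ∨ n = 12 ∨ n = 144 ∨ n = 1728 := by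
  decide +kernel

theorem fac_perm : ∀ q ∈ [2, 3, 5, 7], (q, (39916800 : ℕ).factorization q) ∈ [(2, 8), (3, 4), (5, 2), (7, 1)] := by
  have h2 : (39916800 : ℕ).factorization 2 = 8 := by
    rw [show (39916800 : ℕ) = 2 ^ 8 * 155925 by norm_num, Nat.factorization_mul (by norm_num) (by norm_num),
      Finsupp.add_apply, Nat.Prime.factorization_pow Nat.prime_two, Finsupp.single_eq_same,
      Nat.factorization_eq_zero_of_not_dvd (by norm_num)]
  have h3 : (39916800 : ℕ).factorization 3 = 4 := by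
    rw [show (39916800 : ℕ) = 3 ^ 4 * 492800 by norm_num, Nat.factorization_mul (by norm_num) (by norm_num),
      Finsupp.add_apply, Nat.Prime.factorization_pow Nat.prime_three, Finsupp.single_eq_same,
      Nat.factorization_eq_zero_of_not_dvd (by norm_num)]
  have h5 : (39916800 : ℕ).factorization 5 = 2 := by
    rw [show (39916800 : ℕ) = 5 ^ 2 * 1596672 by norm_num, Nat.factorization_mul (by norm_num) (by norm_num),
      Finsupp.add_apply, Nat.Prime.factorization_pow Nat.prime_five, Finsupp.single_eq_same,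
      Nat.factorization_eq_zero_of_not_dvd (by norm_num)]
  have h7 : (39916800 : ℕ).factorization 7 = 1 := by
    rw [show (39916800 : ℕ) = 7 ^ 1 * 5702400 by norm_num, Nat.factorization_mul (by norm_num) (by norm_num),
      Finsupp.add_apply, Nat.Prime.factorization_pow (by norm_num), Finsupp.single_eq_same,
      Nat.factorization_eq_zero_of_not_dvd (by norm_num)]
  intro q hq
  simp only [List.mem_cons, List.not_mem_nil, or_false] at hq
  rcases hq with rfl | rfl | rfl | rfl <;> simp [h2, h3, h5, h7]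

/-- Full Sylow subgroups for the primes `2, 3, 5, 7` are excluded. -/
theorem not_full (hα : Fintype.card α = 11) (G : Subgroup (Equiv.Perm α)) (hprim : IsPreprimitive G α)
    (hA : ¬ alternatingGroup α ≤ G) {q v : ℕ} (hqv : (q, v) ∈ [(2, 8), (3, 4), (5, 2), (7, 1)]) :
    ¬ q ^ v ∣ Nat.card G := by
  intro hd
  have hq : q.Prime := by
    simp only [List.mem_cons, List.not_mem_nil, or_false, Prod.mk.injEq] at hqv
    rcases hqv with ⟨rfl, -⟩ | ⟨rfl, -⟩ | ⟨rfl, -⟩ | ⟨rfl, -⟩ <;> norm_num
  have hq7 : q ≤ 7 := by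
    simp only [List.mem_cons, List.not_mem_nil, or_false, Prod.mk.injEq] at hqv
    omega
  haveI : Fact q.Prime := ⟨hq⟩
  have hv : (Nat.card (Equiv.Perm α)).factorization q = v := by
    rw [Nat.card_perm, Nat.card_eq_fintype_card, hα, show Nat.factorial 11 = 39916800 from rfl]
    have h1 := fac_perm q (by
      simp only [List.mem_cons, List.not_mem_nil, or_false, Prod.mk.injEq] at hqv ⊢
      omega)
    simp only [List.mem_cons, List.not_mem_nil, or_false, Prod.mk.injEq] at h1 hqv
    omega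
  -- a cycle of length `q`
  obtain ⟨S, -, hS⟩ := Finset.exists_subset_card_eq (s := (Finset.univ : Finset α)) (n := q)
    (by rw [Finset.card_univ, hα]; omega)
  obtain ⟨c, hc, hcS⟩ := S.exists_cycleOn
  have hsup : c.support = S := by
    refine Finset.Subset.antisymm hcS fun x hx => Equiv.Perm.mem_support.2 ?_
    exact hc.apply_ne (Finset.one_lt_card_iff_nontrivial.1 (hS ▸ hq.one_lt)) hx
  have hcyc : c.IsCycle := Equiv.Perm.isCycle_iff_exists_isCycleOn.2
    ⟨S, Finset.one_lt_card_iff_nontrivial.1 (hS ▸ hq.one_lt), hc, fun x hx =>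
      hsup ▸ Equiv.Perm.mem_support.2 hx⟩
  have hco : orderOf c = q := by rw [hcyc.orderOf, hsup, hS]
  obtain ⟨g, hg, hct, hgq⟩ := exists_conj_of_full_sylow G hv hd (c := c) (hco ▸ pow_orderOf_eq_one c)
  refine support_ne_prime hα G hprim hA hq hq7 hg hgq ?_
  rw [← g.sum_cycleType, hct, c.sum_cycleType, hsup, hS]

/-- The order of an even insoluble transitive group of degree 11 not containing `A₁₁`. -/
theorem card_even (hα : Fintype.card α = 11) (G : Subgroup (Equiv.Perm α)) [IsPretransitive G α]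
    (hG : ¬ Group.IsSolvable G) (hA : ¬ alternatingGroup α ≤ G) (hE : G ≤ alternatingGroup α) :
    Nat.card G = 660 ∨ Nat.card G = 7920 := by
  have h11 : Nat.card α = 11 := by rw [Nat.card_eq_fintype_card, hα]
  haveI hprim : IsPreprimitive G α := IsPreprimitive.of_prime_card (by rw [h11]; exact Fact.out)
  obtain ⟨P⟩ : Nonempty (Sylow 11 G) := inferInstance
  obtain ⟨n, d, hc, hn, hd, hN, hnS⟩ := CfsgLib.Perm.exists_sylow_decomposition hα G P
  have hd1 : d ≠ 1 := fun e => hG (CfsgLib.Perm.isSolvable_of_normalizer_card_eq hα G P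
    (by rw [hN, e, mul_one]))
  have hd2 : ¬ 2 ∣ d := by
    intro h2
    haveI : Fact (Nat.Prime 2) := ⟨Nat.prime_two⟩
    obtain ⟨t, ht⟩ := exists_prime_orderOf_dvd_card' 2 (hN.symm ▸ h2.mul_left 11 :
      2 ∣ Nat.card (normalizer ((P : Subgroup G) : Set G)))
    obtain ⟨T, hT⟩ : ∃ T : Equiv.Perm α, T = ((t : G) : Equiv.Perm α) := ⟨_, rfl⟩
    have hT2 : T ^ 2 = 1 := by
      rw [hT, ← SubmonoidClass.coe_pow, ← SubmonoidClass.coe_pow, ← ht, pow_orderOf_eq_one]; rfl
    have hT1 : T ≠ 1 := by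
      intro e
      have : t = 1 := Subtype.ext (Subtype.ext (hT ▸ e))
      rw [this, orderOf_one] at ht
      omega
    have h8 := support_invol hα G hA hE (hT ▸ (t : G).2) hT2 hT1
    have hF : 1 < (T.supportᶜ).card := by rw [Finset.card_compl, hα, h8]; norm_num
    obtain ⟨a, ha, b, hb, hab⟩ := Finset.one_lt_card.1 hF
    rw [Finset.mem_compl, Equiv.Perm.notMem_support] at ha hb
    have hPc := CfsgLib.Perm.sylow_card_eq hα G P
    obtain ⟨q, hq⟩ := (isCyclic_of_prime_card hPc).exists_generator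
    have hqo : orderOf (((q : G)) : Equiv.Perm α) = 11 := by
      rw [orderOf_coe, orderOf_coe, orderOf_eq_card_of_forall_mem_zpowers hq, hPc]
    obtain ⟨σ, hσdef⟩ : ∃ σ : Equiv.Perm α, σ = ((q : G) : Equiv.Perm α) := ⟨_, rfl⟩
    obtain ⟨e, he⟩ := CfsgLib.Perm.exists_equiv_zmod_of_orderOf hα σ (hσdef ▸ hqo)
    have hconj : (⟨_, (mem_normalizer_iff.1 t.2 q).1 q.2⟩ : (P : Subgroup G)) ∈ zpowers q := hq _
    obtain ⟨j, hj⟩ := hconj
    have hj' : T * σ * T⁻¹ = σ ^ j := by
      have h1 := congrArg (fun z : (P : Subgroup G) => ((z : G) : Equiv.Perm α)) hj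
      rw [hT, hσdef]
      simpa using h1.symm
    have hlab : ∀ (z : ℤ) i, (σ ^ z) (e i) = e (i + z) := fun z i =>
      CfsgLib.Perm.zpow_apply_label e σ he z i
    have hTe : ∀ (i : ZMod 11) (m : ℤ), T (e i) = e i → T (e (i + m)) = e (i + j * m) := by
      intro i m hi
      rw [← hlab, ← Int.cast_mul, ← hlab, zpow_mul, ← hj', conj_zpow, Equiv.Perm.mul_apply, Equiv.Perm.mul_apply]
      congr 2
      conv_rhs => rw [← hi]
      rw [← Equiv.Perm.mul_apply, inv_mul_cancel, Equiv.Perm.one_apply]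
    obtain ⟨i, rfl⟩ := e.surjective a
    obtain ⟨k, rfl⟩ := e.surjective b
    obtain ⟨m, hm⟩ := ZMod.intCast_surjective (k - i)
    have hk : k = i + m := by rw [hm]; ring
    have h1 := hTe i m ha
    rw [← hk, hb, e.injective.eq_iff, hk, add_right_inj] at h1
    have hm0 : (m : ZMod 11) ≠ 0 := fun h0 => hab (by rw [hk, h0, add_zero])
    have hj1 : (j : ZMod 11) = 1 := by
      have h2 : ((j : ZMod 11) - 1) * m = 0 := by rw [sub_mul, one_mul, ← h1, sub_self]
      exact sub_eq_zero.1 ((mul_eq_zero.1 h2).resolve_right hm0)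
    apply hT1
    refine Equiv.ext fun x => ?_
    obtain ⟨l, rfl⟩ := e.surjective x
    obtain ⟨m', hm'⟩ := ZMod.intCast_surjective (l - i)
    have hl : l = i + m' := by rw [hm']; ring
    rw [Equiv.Perm.one_apply, hl, hTe i m' ha, hj1, one_mul]
  have hd5 : d = 5 := by
    have h10 : d ≤ 10 := Nat.le_of_dvd (by norm_num) hd
    interval_cases d <;> omega
  subst hd5
  have hnpos : 0 < n := by
    rcases Nat.eq_zero_or_pos n with rfl | h
    · simp at hn
    · exact h
  have hdvd : Nat.card G ∣ 39916800 := by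
    have := card_subgroup_dvd_card G
    rwa [Nat.card_perm, h11, show Nat.factorial 11 = 39916800 from rfl] at this
  have hn11 : n ∣ 725760 := by
    rw [hc] at hdvd
    exact Nat.dvd_of_mul_dvd_mul_right (show 0 < 11 * 5 by norm_num) hdvd
  have h7 : n ∣ 103680 := by
    refine Nat.Coprime.dvd_of_dvd_mul_left (Nat.Coprime.symm ?_) (show n ∣ 7 * 103680 from hn11)
    refine (Nat.Prime.coprime_iff_not_dvd (by norm_num)).2 fun h => not_full hα G hprim hA (q := 7) (v := 1)
      (by simp) (by rw [hc, pow_one]; exact h.mul_right _)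
  have h5 : n ∣ 20736 := by
    refine Nat.Coprime.dvd_of_dvd_mul_left (Nat.Coprime.symm ?_) (show n ∣ 5 * 20736 from h7)
    refine (Nat.Prime.coprime_iff_not_dvd (by norm_num)).2 fun h => not_full hα G hprim hA (q := 5) (v := 2)
      (by simp) (by rw [hc]; exact mul_dvd_mul h (show (5 : ℕ) ∣ 11 * 5 by norm_num))
  have h3 : n ∣ 3456 := by
    obtain ⟨a, ha⟩ : ∃ a, a = n.gcd 81 := ⟨_, rfl⟩
    have ha81 : a ∣ 3 ^ 4 := ha ▸ Nat.gcd_dvd_right n 81
    obtain ⟨l, hl4, hl⟩ := (Nat.dvd_prime_pow Nat.prime_three).1 ha81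
    have hl3 : l ≤ 3 := by
      by_contra h
      obtain rfl : l = 4 := by omega
      exact not_full hα G hprim hA (q := 3) (v := 4) (by simp)
        (by rw [hc]; exact ((hl ▸ ha ▸ Nat.gcd_dvd_left n 81 : 3 ^ 4 ∣ n)).mul_right _)
    have h1 : n ∣ 256 * a := by
      rw [ha]
      have h2 : n ∣ (256 * n).gcd (256 * 81) :=
        Nat.dvd_gcd (dvd_mul_left n 256) (show n ∣ 256 * 81 from h5)
      rwa [Nat.gcd_mul_left] at h2
    have h2 : n ∣ 256 * 27 := h1.trans (mul_dvd_mul_left 256 (hl ▸ pow_dvd_pow 3 hl3))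
    obtain ⟨b, hb⟩ : ∃ b, b = n.gcd 256 := ⟨_, rfl⟩
    obtain ⟨l', hl8, hl'⟩ := (Nat.dvd_prime_pow Nat.prime_two).1 (hb ▸ Nat.gcd_dvd_right n 256 : b ∣ 2 ^ 8)
    have hl7 : l' ≤ 7 := by
      by_contra h
      obtain rfl : l' = 8 := by omega
      exact not_full hα G hprim hA (q := 2) (v := 8) (by simp)
        (by rw [hc]; exact ((hl' ▸ hb ▸ Nat.gcd_dvd_left n 256 : 2 ^ 8 ∣ n)).mul_right _)
    have h4 : n ∣ b * 27 := by
      rw [hb]
      have h3 : n ∣ (n * 27).gcd (256 * 27) := Nat.dvd_gcd (dvd_mul_right n 27) h2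
      rwa [Nat.gcd_mul_right] at h3
    exact h4.trans (mul_dvd_mul_right (hl' ▸ pow_dvd_pow 2 hl7) 27)
  rcases div_cases n (Nat.mem_divisors.2 ⟨h3, by norm_num⟩) hn with rfl | rfl | rfl | rfl
  · exfalso
    have hPn : (P : Subgroup G).Normal := by
      haveI : Subsingleton (Sylow 11 G) := (Nat.card_eq_one_iff_unique.1 hnS.symm).1
      exact P.normal_of_subsingleton
    haveI := hPn
    have hPb : (P : Subgroup G) ≠ ⊥ := by
      intro e
      have := CfsgLib.Perm.sylow_card_eq hα G P
      rw [e, card_bot] at this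
      omega
    refine (CfsgLib.Perm.normal_not_isSolvable hα G hG (P : Subgroup G) hPb).2 ?_
    have hcard : Nat.card ((P : Subgroup G).map G.subtype) = 11 := by
      rw [card_subtype]; exact CfsgLib.Perm.sylow_card_eq hα G P
    haveI := isCyclic_of_prime_card hcard
    letI := IsCyclic.commGroup (α := ((P : Subgroup G).map G.subtype))
    exact Group.isSolvable_of_comm fun a b => mul_comm a b
  · left; rw [hc]
  · right; rw [hc]
  · exfalso
    haveI : FaithfulSMul G α := ⟨fun {g k} h => Subtype.ext (Equiv.ext h)⟩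
    have hA' : ¬ alternatingGroup α ≤ (MulAction.toPermHom G α).range := by
      intro h
      refine hA fun x hx => ?_
      obtain ⟨g, rfl⟩ := h hx
      have : MulAction.toPermHom G α g = (g : Equiv.Perm α) := Equiv.ext fun _ => rfl
      rw [this]; exact g.2
    have h := Cfsg.Agent.S3681.result (G := G) (Ω := α) hprim hA'
    rw [hc, hα] at h
    norm_num [Nat.factorial] at h

theorem even_part (hα : Fintype.card α = 11) (G : Subgroup (Equiv.Perm α)) [IsPretransitive G α]
    (hG : ¬ Group.IsSolvable G) :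
    IsPretransitive (G ⊓ alternatingGroup α : Subgroup (Equiv.Perm α)) α ∧
      ¬ Group.IsSolvable (G ⊓ alternatingGroup α : Subgroup (Equiv.Perm α)) := by
  haveI : (alternatingGroup α).Normal := inferInstance
  obtain ⟨N, hN⟩ : ∃ N, N = (alternatingGroup α).subgroupOf G := ⟨_, rfl⟩
  haveI : N.Normal := hN ▸ inferInstance
  have hNb : N ≠ ⊥ := by
    intro e
    apply hG
    let φ := (Equiv.Perm.sign (α := α)).comp G.subtype
    have hinj : Function.Injective φ := (MonoidHom.ker_eq_bot_iff φ).1 (eq_bot_iff.2 fun g hg => e ▸ hN ▸ hg)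
    exact Group.isSolvable_of_comm fun a b => hinj (by rw [map_mul, map_mul, mul_comm])
  have h := CfsgLib.Perm.normal_not_isSolvable hα G hG N hNb
  rwa [hN, subgroupOf_map_subtype, inf_comm] at h

open Fin.NatCast in
theorem main (hα : Fintype.card α = 11) (G : Subgroup (Equiv.Perm α)) [IsPretransitive G α]
    (hG : ¬ Group.IsSolvable G) (hA : ¬ alternatingGroup α ≤ G) :
    (IsMultiplyPretransitive G α 4 ∧ ∀ x : Fin 4 ↪ α, stabilizer G x = ⊥) ∨
      Nonempty (G ≃* Matrix.ProjectiveSpecialLinearGroup (Fin 2) (ZMod 11)) := by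
  have h11 : Nat.card α = 11 := by rw [Nat.card_eq_fintype_card, hα]
  obtain ⟨G₀, hG₀⟩ : ∃ G₀, G₀ = G ⊓ alternatingGroup α := ⟨_, rfl⟩
  obtain ⟨ht0, hns0⟩ := even_part hα G hG
  rw [← hG₀] at ht0 hns0
  haveI := ht0
  have hE0 : G₀ ≤ alternatingGroup α := hG₀ ▸ inf_le_right
  have hle : G₀ ≤ G := hG₀ ▸ inf_le_left
  have hA0 : ¬ alternatingGroup α ≤ G₀ := fun h => hA (h.trans hle)
  have hc0 := card_even hα G₀ hns0 hA0 hE0
  by_cases hE : G ≤ alternatingGroup α
  · have heq : G₀ = G := hG₀ ▸ inf_eq_left.2 hE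
    rw [heq] at hc0 hns0
    rcases hc0 with hc | hc
    · right
      have hne : ∃ g : G, g ≠ 1 := by
        by_contra hn
        push Not at hn
        exact hns0 (Group.isSolvable_of_comm fun a b => by rw [hn a, hn b])
      obtain ⟨g, hg⟩ := hne
      haveI : Nontrivial G := ⟨g, 1, hg⟩
      haveI : IsSimpleGroup G := ⟨fun N hN => by
        by_cases hb : N = ⊥
        · exact Or.inl hb
        haveI := hN
        obtain ⟨hMt, hMs⟩ := CfsgLib.Perm.normal_not_isSolvable hα G hns0 N hb
        haveI := hMt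
        have hMle : N.map G.subtype ≤ G := map_subtype_le N
        have hcM := card_even hα (N.map G.subtype) hMs (fun h => hA (h.trans hMle)) (hMle.trans hE)
        have hd := card_subgroup_dvd_card N
        rw [card_subtype] at hcM
        rw [hc] at hd
        refine Or.inr (eq_top_of_card_eq N (hc ▸ ?_))
        rcases hcM with e | e
        · exact e
        · rw [e] at hd; norm_num at hd⟩
      haveI : IsSimpleGroup (Matrix.ProjectiveSpecialLinearGroup (Fin 2) (ZMod 11)) :=
        CfsgLib.ClassK.isSimpleGroup_psl_two (by simp [ZMod.card])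
      exact CfsgLib.ClassK.nonempty_equiv_660 hc
        (CfsgLib.Classical.card_psl_two_eq (F := ZMod 11) (ZMod.card 11) 660 (by norm_num))
    · exact Or.inl (sharp hα G hA hE hc hG)
  exfalso
  obtain ⟨s, hsG, hsA⟩ := Set.not_subset.1 hE
  replace hsA : s ∉ alternatingGroup α := hsA
  have hcard : Nat.card G = 2 * Nat.card G₀ := by
    have hidx : ((alternatingGroup α).subgroupOf G).index = 2 := by
      rw [index_eq_two_iff']
      refine ⟨⟨s, hsG⟩, fun b => ?_⟩
      simp only [mem_subgroupOf, Subgroup.coe_mul, Equiv.Perm.mem_alternatingGroup, map_mul, Xor']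
      rw [Equiv.Perm.mem_alternatingGroup] at hsA
      have h1 : Equiv.Perm.sign s = -1 := (Int.units_eq_one_or _).resolve_left hsA
      rcases Int.units_eq_one_or (Equiv.Perm.sign (b : Equiv.Perm α)) with e | e <;> rw [h1, e] <;> decide
    rw [← card_mul_index ((alternatingGroup α).subgroupOf G), hidx, mul_comm,
      ← card_subtype G ((alternatingGroup α).subgroupOf G), subgroupOf_map_subtype, inf_comm, hG₀]
  obtain ⟨P⟩ : Nonempty (Sylow 11 G) := inferInstance
  obtain ⟨n, d, hc, hn, hd, hN, -⟩ := CfsgLib.Perm.exists_sylow_decomposition hα G P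
  have hd10 : d = 10 := by
    have hle10 : d ≤ 10 := Nat.le_of_dvd (by norm_num) hd
    rcases hc0 with e | e <;> rw [e, hc] at hcard <;> interval_cases d <;> omega
  subst hd10
  have h3 : IsMultiplyPretransitive G α 3 := Cfsg.Agent.S0676.result hα G hG P
    ⟨55, by rw [hN]⟩
  rcases hc0 with e | e
  · obtain ⟨T, -, hT⟩ := Finset.exists_subset_card_eq (s := (Finset.univ : Finset α)) (n := 3)
      (by rw [Finset.card_univ, hα]; norm_num)
    have h := IsMultiplyPretransitive.index_of_fixingSubgroup_mul h3 (s := (↑T : Set α))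
      (by rw [Set.ncard_coe_finset, hT])
    have hd' := index_dvd_card (fixingSubgroup G (↑T : Set α))
    rw [h11] at h
    norm_num [Nat.factorial] at h
    rw [hcard, e, show (fixingSubgroup G (↑T : Set α)).index = 990 by omega] at hd'
    norm_num at hd'
  · obtain ⟨h4, hs4⟩ := sharp hα G₀ hA0 hE0 e hns0
    haveI hG4 : IsMultiplyPretransitive G α 4 := by
      rw [isMultiplyPretransitive_iff] at h4 ⊢
      intro x y
      obtain ⟨g, hg⟩ := h4 x y
      exact ⟨⟨g, hle g.2⟩, hg⟩
    haveI hprim : IsPreprimitive G α := IsPreprimitive.of_prime_card (by rw [h11]; exact Fact.out)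
    obtain ⟨x₀⟩ : Nonempty (Fin 4 ↪ α) := Function.Embedding.nonempty_of_card_le (by simp [hα])
    have hst : ∀ x : Fin 4 ↪ α, Nat.card (stabilizer G x) = 2 := by
      intro x
      have h1 := card_mul_index (stabilizer G x)
      have hidx : (stabilizer G x).index = 7920 := by
        have horb : orbit G x = Set.univ := Set.eq_univ_of_forall fun y => hG4.exists_smul_eq x y
        refine (index_stabilizer G x).trans ((congrArg Set.ncard horb).trans ?_)
        rw [Set.ncard_univ, Nat.card_eq_fintype_card (α := Fin 4 ↪ α),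
          Fintype.card_embedding_eq, Fintype.card_fin, hα]
        decide
      rw [hidx, hcard, e] at h1
      omega
    haveI : Fact (Nat.Prime 2) := ⟨Nat.prime_two⟩
    obtain ⟨t, ht⟩ := exists_prime_orderOf_dvd_card' 2 (by rw [hst x₀] : 2 ∣ Nat.card (stabilizer G x₀))
    obtain ⟨T, hT⟩ : ∃ T : Equiv.Perm α, T = ((t : G) : Equiv.Perm α) := ⟨_, rfl⟩
    have hT2 : T ^ 2 = 1 := by
      rw [hT, ← SubmonoidClass.coe_pow, ← SubmonoidClass.coe_pow, ← ht, pow_orderOf_eq_one]; rfl
    have hT1 : T ≠ 1 := by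
      intro e
      have : t = 1 := Subtype.ext (Subtype.ext (hT ▸ e))
      rw [this, orderOf_one] at ht
      omega
    have hTx : ∀ i, T (x₀ i) = x₀ i := fun i => hT ▸ DFunLike.congr_fun (mem_stabilizer_iff.1 t.2) i
    have hodd : Equiv.Perm.sign T = -1 := by
      refine (Int.units_eq_one_or _).resolve_left fun hev => ?_
      have hT0 : T ∈ G₀ := hG₀ ▸ ⟨hT ▸ (t : G).2, Equiv.Perm.mem_alternatingGroup.2 hev⟩
      have h1 : (⟨T, hT0⟩ : G₀) ∈ stabilizer G₀ x₀ := Function.Embedding.ext hTx
      rw [hs4, mem_bot] at h1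
      exact hT1 (congrArg Subtype.val h1)
    have hs6 : T.support.card = 6 := by
      obtain ⟨hs, -⟩ := sign_of_prime hα hT2
      obtain ⟨⟨m, hm⟩, -⟩ := support_multiple Nat.prime_two hT2
      have hsub : T.support ⊆ (Finset.univ.map x₀)ᶜ := by
        intro y hy
        rw [Finset.mem_compl, Finset.mem_map]
        rintro ⟨i, -, rfl⟩
        exact Equiv.Perm.mem_support.1 hy (hTx i)
      have h7 := Finset.card_le_card hsub
      rw [Finset.card_compl, Finset.card_map, Finset.card_univ, Fintype.card_fin, hα] at h7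
      have h2 := support_ne_prime hα G hprim hA Nat.prime_two (by norm_num) (hT ▸ (t : G).2) hT2
      rw [hodd, hm, Nat.mul_div_cancel_left _ two_pos] at hs
      have hm3 : m ≤ 3 := by omega
      interval_cases m
      · exact absurd hs (by decide)
      · omega
      · exact absurd hs (by decide)
      · omega
    -- the five fixed points
    obtain ⟨F, hF⟩ : ∃ F, F = T.supportᶜ := ⟨_, rfl⟩
    have hFc : F.card = 5 := by rw [hF, Finset.card_compl, hα, hs6]
    have hFT : ∀ y, y ∈ F ↔ T y = y := fun y => by rw [hF, Finset.mem_compl, Equiv.Perm.notMem_support]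
    obtain ⟨f, hfF⟩ : ∃ f : Fin 5 → α, Function.Injective f ∧ ∀ y, y ∈ F ↔ ∃ i, f i = y := by
      refine ⟨fun i => (F.equivFinOfCardEq hFc).symm i, fun a b hab =>
        (F.equivFinOfCardEq hFc).symm.injective (Subtype.ext hab), fun y => ⟨fun hy =>
          ⟨F.equivFinOfCardEq hFc ⟨y, hy⟩, by simp⟩, ?_⟩⟩
      rintro ⟨i, rfl⟩
      exact ((F.equivFinOfCardEq hFc).symm i).2
    obtain ⟨hfi, hfr⟩ := hfF
    obtain ⟨g, hg⟩ := hG4.exists_smul_eq
      (⟨fun i : Fin 4 => f i.castSucc, hfi.comp (Fin.castSucc_injective 4)⟩ : Fin 4 ↪ α)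
      (⟨fun i : Fin 4 => f i.succ, hfi.comp (Fin.succ_injective 4)⟩ : Fin 4 ↪ α)
    have hgi : ∀ i : Fin 4, (g : Equiv.Perm α) (f i.castSucc) = f i.succ := fun i => DFunLike.congr_fun hg i
    -- conjugation by `g` fixes the involution
    have hcomm : (g : Equiv.Perm α) * T = T * g := by
      have hmem : ∀ z : G, (∀ i : Fin 4, (z : Equiv.Perm α) (f i.succ) = f i.succ) →
          z ∈ stabilizer G (⟨fun i : Fin 4 => f i.succ, hfi.comp (Fin.succ_injective 4)⟩ : Fin 4 ↪ α) :=
        fun z hz => Function.Embedding.ext hz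
      have ha : (⟨_, hmem (t : G) fun i => by rw [← hT]; exact (hFT _).1 ((hfr _).2 ⟨_, rfl⟩)⟩ :
          stabilizer G _) ≠ 1 := fun e => hT1 (hT ▸ congrArg (fun z : stabilizer G _ => ((z : G) : Equiv.Perm α)) e)
      have hb : (⟨_, hmem (g * (t : G) * g⁻¹) fun i => by
          have h1 : (g : Equiv.Perm α)⁻¹ (f i.succ) = f i.castSucc := by
            rw [← hgi, ← Equiv.Perm.mul_apply, inv_mul_cancel, Equiv.Perm.one_apply]
          rw [Subgroup.coe_mul, Subgroup.coe_mul, Subgroup.coe_inv, ← hT, Equiv.Perm.mul_apply,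
            Equiv.Perm.mul_apply, h1, (hFT _).1 ((hfr _).2 ⟨_, rfl⟩), hgi]⟩ : stabilizer G _) ≠ 1 := by
        intro e
        have h1 := congrArg (fun z : stabilizer G _ => ((z : G) : Equiv.Perm α)) e
        simp only [Subgroup.coe_mul, Subgroup.coe_inv, OneMemClass.coe_one, ← hT] at h1
        rw [mul_inv_eq_one, mul_eq_left] at h1
        exact hT1 h1
      have heq := congrArg (fun z : stabilizer G _ => ((z : G) : Equiv.Perm α))
        ((Nat.card_eq_two_iff' 1).1 (hst _) |>.unique hb ha)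
      simp only [Subgroup.coe_mul, Subgroup.coe_inv, ← hT] at heq
      exact mul_inv_eq_iff_eq_mul.1 heq
    have hgF : ∀ y ∈ F, (g : Equiv.Perm α) y ∈ F := by
      intro y hy
      rw [hFT] at hy ⊢
      rw [← Equiv.Perm.mul_apply, ← hcomm, Equiv.Perm.mul_apply, hy]
    have hlast : (g : Equiv.Perm α) (f 4) = f 0 := by
      obtain ⟨i, hi⟩ := (hfr _).1 (hgF _ ((hfr _).2 ⟨4, rfl⟩))
      by_contra hne
      rcases Fin.eq_zero_or_eq_succ i with rfl | ⟨i', rfl⟩
      · exact hne hi.symm
      · rw [← hgi] at hi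
        have h1 := hfi ((g : Equiv.Perm α).injective hi)
        exact (Fin.castSucc_lt_last i').ne h1
    have hcycle : ∀ i : Fin 5, (g : Equiv.Perm α) (f i) = f (i + 1) := by
      intro i
      rcases Fin.eq_castSucc_or_eq_last i with ⟨i', rfl⟩ | rfl
      · rw [hgi, ← Fin.coeSucc_eq_succ]
      · exact hlast
    have hpow : ∀ (l : ℕ) (i : Fin 5), ((g : Equiv.Perm α) ^ l) (f i) = f (i + (l : Fin 5)) := by
      intro l
      induction l with
      | zero => intro i; simp
      | succ l ih =>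
        intro i
        rw [pow_succ', Equiv.Perm.mul_apply, ih, hcycle, Nat.cast_succ, add_assoc]
    have h5o : 5 ∣ orderOf (g : Equiv.Perm α) := by
      have h1 := hpow (orderOf (g : Equiv.Perm α)) 0
      rw [pow_orderOf_eq_one, Equiv.Perm.one_apply, zero_add] at h1
      exact Nat.dvd_of_mod_eq_zero (by simpa [Fin.val_natCast] using (congrArg Fin.val (hfi h1)).symm)
    obtain ⟨r, hr⟩ := h5o
    obtain ⟨x, hx⟩ : ∃ x : Equiv.Perm α, x = (g : Equiv.Perm α) ^ r := ⟨_, rfl⟩
    have hr5 : ¬ 5 ∣ r := by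
      intro h
      refine not_full hα G hprim hA (q := 5) (v := 2) (by simp) ?_
      have h1 : 5 * r ∣ Nat.card G := hr ▸ (orderOf_coe g).symm ▸ _root_.orderOf_dvd_natCard g
      exact (show 5 ^ 2 ∣ 5 * r by rw [sq]; exact mul_dvd_mul_left 5 h).trans h1
    have hx5 : x ^ 5 = 1 := by rw [hx, ← pow_mul, mul_comm, ← hr, pow_orderOf_eq_one]
    have hxf : ∀ i, x (f i) ≠ f i := by
      intro i h
      rw [hx, hpow] at h
      have h1 : (r : Fin 5) = 0 := add_eq_left.1 (hfi h)
      exact hr5 (Nat.dvd_of_mod_eq_zero (by simpa [Fin.val_natCast] using congrArg Fin.val h1))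
    have hx10 : x.support.card = 10 := by
      obtain ⟨⟨m, hm⟩, -⟩ := support_multiple Nat.prime_five hx5
      have h1 := x.support.card_le_univ
      have h5' := support_ne_prime hα G hprim hA Nat.prime_five (by norm_num) (hx ▸ pow_mem g.2 r) hx5
      have h0 : 0 < x.support.card := Finset.card_pos.2 ⟨f 0, Equiv.Perm.mem_support.2 (hxf 0)⟩
      omega
    obtain ⟨w, hw⟩ := Finset.card_eq_one.1 (show (x.supportᶜ).card = 1 by rw [Finset.card_compl, hα, hx10])
    have hw' : x w = w := by
      have := Finset.mem_singleton_self w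
      rw [← hw, Finset.mem_compl, Equiv.Perm.notMem_support] at this
      exact this
    have hTw : T w = w := by
      have h1 : x (T w) = T w := by
        rw [← Equiv.Perm.mul_apply, hx, ((show Commute (g : Equiv.Perm α) T from hcomm).pow_left r).eq, ← hx,
          Equiv.Perm.mul_apply, hw']
      have h2 : T w ∈ x.supportᶜ := by rw [Finset.mem_compl, Equiv.Perm.notMem_support]; exact h1
      rwa [hw, Finset.mem_singleton] at h2
    obtain ⟨i, rfl⟩ := (hfr w).1 ((hFT w).2 hTw)
    exact hxf i hw'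

end CfsgLib.Perm.DegreeEleven
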