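import Cfsg.Agent.Lib.Perm.InducedBase
import Cfsg.Agent.Lib.Perm.Basic
import Cfsg.Agent.Lib.Perm.PrimeDegreeSylow
import Cfsg.Agent.S0710
import Cfsg.Prelude.Def_Sporadic
import Mathlib.GroupTheory.Transfer
import Mathlib.GroupTheory.Subgroup.Simple

/-!
Sharply `k`-transitive groups, `k ≥ 4`.
-/

set_option autoImplicit false
set_option linter.unusedSectionVars false

namespace CfsgLib.Perm.Induced

open Equiv Finset

universe u

variable {α : Type u} [Fintype α] [DecidableEq α] {G : Subgroup (Perm α)}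

theorem triv_of_sharp {k : ℕ} (hsharp : ∀ x : Fin k ↪ α, MulAction.stabilizer G x = ⊥) :
    Triv G k := by
  intro g hg hfix
  obtain ⟨S, hSsub, hS⟩ := exists_subset_card_eq (s := univ.filter fun i => g i = i) (n := k) hfix
  let x : Fin k ↪ α := (S.equivFinOfCardEq hS).symm.toEmbedding.trans (Function.Embedding.subtype _)
  have hmem : (⟨g, hg⟩ : G) ∈ MulAction.stabilizer G x :=
    MulAction.mem_stabilizer_iff.2 (Function.Embedding.ext fun i =>
      (mem_filter.1 (hSsub ((S.equivFinOfCardEq hS).symm i).2)).2)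
  rw [hsharp x, Subgroup.mem_bot] at hmem
  exact congrArg Subtype.val hmem

theorem noInv_of_triv {k : ℕ} (h : Triv G k) : NoInv G k := fun g hg _ hf => h g hg hf

/-- A sharply `k`-transitive group has order `n! / (n-k)!`. -/
theorem card_of_triv {k : ℕ} (hG : MulAction.IsMultiplyPretransitive G α k)
    (hkn : k ≤ Fintype.card α) (htriv : Triv G k) :
    Nat.card G = (Fintype.card α).descFactorial k := by
  obtain ⟨S, -, hS⟩ := exists_subset_card_eq (n := k) (s := (univ : Finset α))
    (by rwa [card_univ])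
  have hfix : fixingSubgroup G (S : Set α) = ⊥ := by
    rw [eq_bot_iff]
    intro g hg
    rw [Subgroup.mem_bot]
    exact Subtype.ext (htriv g g.2 (hS.ge.trans (card_le_fixCard fun i hi =>
      (mem_fixingSubgroup_iff G).1 hg i hi)))
  have h := MulAction.IsMultiplyPretransitive.index_of_fixingSubgroup_eq (G := G) (S : Set α)
    (by rw [Set.ncard_coe_finset, hS]; exact hG)
  rw [hfix, Subgroup.index_bot, Set.ncard_coe_finset, hS, Nat.card_eq_fintype_card (α := α)] at h
  rw [h, Nat.descFactorial_eq_factorial_mul_choose, mul_comm]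

/-- The stabilizer of a point as a subgroup of permutations. -/
def fixPt (G : Subgroup (Perm α)) (x : α) : Subgroup (Perm α) where
  carrier := {g | g ∈ G ∧ g x = x}
  one_mem' := ⟨G.one_mem, rfl⟩
  mul_mem' := fun {a b} ha hb => ⟨G.mul_mem ha.1 hb.1, by rw [Perm.mul_apply, hb.2, ha.2]⟩
  inv_mem' := fun {a} ha => ⟨G.inv_mem ha.1, Perm.inv_eq_iff_eq.2 ha.2.symm⟩

/-- Restriction of the stabilizer of a point to the other points. -/
def stabHom (G : Subgroup (Perm α)) (x : α) :
    ↥(fixPt G x) →* Perm {y : α // y ≠ x} where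
  toFun g := (g : Perm α).subtypePerm fun y => not_congr
    ⟨fun h => (g : Perm α).injective (h.trans g.2.2.symm), fun h => by rw [h, g.2.2]⟩
  map_one' := rfl
  map_mul' _ _ := rfl

theorem stabHom_injective (G : Subgroup (Perm α)) (x : α) : Function.Injective (stabHom G x) := by
  intro g h e
  apply Subtype.ext
  ext y
  rcases eq_or_ne y x with rfl | hy
  · rw [g.2.2, h.2.2]
  · exact congrArg Subtype.val (DFunLike.congr_fun e ⟨y, hy⟩)

theorem card_ne_subtype (x : α) : Fintype.card {y : α // y ≠ x} = Fintype.card α - 1 := by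
  rw [Fintype.card_subtype, filter_ne' univ x, card_erase_of_mem (mem_univ x), card_univ]

theorem stab_trans {k : ℕ} (hG : MulAction.IsMultiplyPretransitive G α (k + 1))
    (hkn : k + 1 ≤ Fintype.card α) (x : α) :
    MulAction.IsMultiplyPretransitive (stabHom G x).range {y : α // y ≠ x} k := by
  rw [MulAction.isMultiplyPretransitive_iff]
  intro p q
  let S : Finset α := insert x (univ.map (p.trans (Function.Embedding.subtype _)))
  let f : α → α := fun y => if hy : ∃ i, (p i : α) = y then (q hy.choose : α) else y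
  have hS : S.card ≤ k + 1 := by
    refine (card_insert_le _ _).trans ?_
    simp
  have hfp : ∀ i, f (p i) = q i := by
    intro i
    have hy : ∃ j, (p j : α) = p i := ⟨i, rfl⟩
    simp only [f, dif_pos hy]
    rw [show hy.choose = i from p.injective (Subtype.ext hy.choose_spec)]
  have hfx : f x = x := by
    have hy : ¬ ∃ j, (p j : α) = x := fun ⟨j, hj⟩ => (p j).2 hj
    simp only [f, dif_neg hy]
  have hinj : Set.InjOn f S := by
    intro a ha b hb e
    simp only [S, coe_insert, coe_map, Set.mem_insert_iff, Set.mem_image, coe_univ, Set.mem_univ,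
      true_and, Function.Embedding.trans_apply, Function.Embedding.subtype_apply] at ha hb
    rcases ha with rfl | ⟨i, rfl⟩ <;> rcases hb with rfl | ⟨j, rfl⟩
    · rfl
    · rw [hfx, hfp] at e; exact absurd e.symm (q j).2
    · rw [hfx, hfp] at e; exact absurd e (q i).2
    · rw [hfp, hfp] at e; rw [q.injective (Subtype.ext e)]
  obtain ⟨g, hg, hgS⟩ := exists_agree_fun hG hkn hS f hinj
  have hgx : g x = x := by rw [hgS x (mem_insert_self _ _), hfx]
  refine ⟨⟨stabHom G x ⟨g, hg, hgx⟩, _, rfl⟩, Function.Embedding.ext fun i => Subtype.ext ?_⟩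
  show g (p i) = q i
  rw [hgS (p i) (mem_insert_of_mem (mem_map.2 ⟨i, mem_univ i, rfl⟩)), hfp]

theorem stab_triv {k : ℕ} (h : Triv G (k + 1)) (x : α) : Triv (stabHom G x).range k := by
  rintro _ ⟨g, rfl⟩ hfix
  obtain ⟨S, hSsub, hS⟩ := exists_subset_card_eq
    (s := univ.filter fun i => stabHom G x g i = i) (n := k) hfix
  have hg : (g : Perm α) = 1 := by
    refine h g g.2.1 (le_of_eq_of_le ?_ (card_le_fixCard
      (s := insert x (S.map (Function.Embedding.subtype _))) fun i hi => ?_))
    · rw [card_insert_of_notMem (fun hm => by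
        obtain ⟨y, -, hy⟩ := mem_map.1 hm
        exact y.2 hy), card_map, hS]
    · rcases mem_insert.1 hi with rfl | hi
      · exact g.2.2
      · obtain ⟨y, hy, rfl⟩ := mem_map.1 hi
        exact congrArg Subtype.val (mem_filter.1 (hSsub hy)).2
  rw [show g = 1 from Subtype.ext hg, map_one]

/-- No sharply `4`-transitive group has degree `7` or `9`. -/
theorem sharp_four_ne (hG : MulAction.IsMultiplyPretransitive G α 4) (htriv : Triv G 4)
    (hn : Fintype.card α = 7 ∨ Fintype.card α = 9) : False := by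
  have hkn : 4 ≤ Fintype.card α := by omega
  have hno := noInv_of_triv htriv
  obtain ⟨S, -, hS⟩ := exists_subset_card_eq (n := 4) (s := (univ : Finset α))
    (by rw [card_univ]; omega)
  have heq : ∀ {S : Finset α}, S.card = 4 → ∀ g ∈ G, ∀ h ∈ G, (∀ i ∈ S, g i = h i) → g = h :=
    fun {S} hS g hg h hh e => by
      have := htriv (h⁻¹ * g) (G.mul_mem (G.inv_mem hh) hg) (hS.ge.trans (card_le_fixCard
        fun i hi => by rw [Perm.mul_apply, e i hi, Perm.coe_inv, Equiv.symm_apply_apply]))
      rwa [inv_mul_eq_one, eq_comm] at this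
  have hout : ∀ {S : Finset α}, S.card = 4 → ∀ a b c e : α, Four S a b c e → ∀ w,
      IsDouble G S a b c e w → (outFix w S).card = 3 := by
    intro S hS a b c e hF w hw
    obtain ⟨u, hu⟩ := exists_isLift hG hkn hno hS hF.1 hF.2.1
    have hfu : fixCard u = 3 := by
      have h1 := card_le_fixCard hu.2.2.1
      rw [card_erase_erase hS hF.1 hF.2.1 hF.2.2.2.2.1] at h1
      have h2 : ¬ 4 ≤ fixCard u := fun h => isLift_ne hF.2.2.2.2.1 hu (hno u hu.1 hu.2.1 h)
      have := fixCard_mod_two hu.2.1
      omega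
    have := fixCard_double hG hkn hno hS hF hw hu.1 hu.2.1 (by omega) (by omega)
    rw [fixCard_eq_outFix hS hF hw, hfu] at this
    omega
  obtain ⟨a, ha⟩ : S.Nonempty := card_pos.1 (by omega)
  obtain ⟨b, hb⟩ : (S.erase a).Nonempty := card_pos.1 (by rw [card_erase_of_mem ha]; omega)
  obtain ⟨c, hc⟩ : ((S.erase a).erase b).Nonempty :=
    card_pos.1 (by rw [card_erase_of_mem hb, card_erase_of_mem ha]; omega)
  obtain ⟨e, he⟩ : (((S.erase a).erase b).erase c).Nonempty :=
    card_pos.1 (by rw [card_erase_of_mem hc, card_erase_of_mem hb, card_erase_of_mem ha]; omega)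
  simp only [mem_erase] at hb hc he
  obtain ⟨hab, hb⟩ := hb
  obtain ⟨hbc, hac, hc⟩ := hc
  obtain ⟨hce, hbe, hae, he⟩ := he
  have k1 := hab.symm
  have k2 := hac.symm
  have k3 := hae.symm
  have k4 := hbc.symm
  have k5 := hbe.symm
  have k6 := hce.symm
  have F1 : Four S a b c e := ⟨ha, hb, hc, he, k1, k2, k3, k4, k5, k6⟩
  have F2 : Four S a c b e := ⟨ha, hc, hb, he, k2, k1, k3, hbc, k6, k5⟩
  have F3 : Four S a e b c := ⟨ha, he, hb, hc, k3, k1, k2, hbe, hce, k4⟩
  obtain ⟨w₁, hw₁⟩ := exists_isDouble hG hkn hno hS F1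
  obtain ⟨w₂, hw₂⟩ := exists_isDouble hG hkn hno hS F2
  obtain ⟨w₃, hw₃⟩ := exists_isDouble hG hkn hno hS F3
  have A1 := hout hS a b c e F1 w₁ hw₁
  have A2 := hout hS a c b e F2 w₂ hw₂
  have A3 := hout hS a e b c F3 w₃ hw₃
  have hprod : w₁ * w₂ = w₃ ∧ w₂ * w₁ = w₃ := by
    constructor <;>
    · refine heq hS _ (G.mul_mem (by first | exact hw₁.1 | exact hw₂.1)
        (by first | exact hw₂.1 | exact hw₁.1)) _ hw₃.1 fun i hi => ?_
      rw [Perm.mul_apply, hw₃.2.2 i hi]
      first
        | rw [hw₂.2.2 i hi, hw₁.2.2 _ (double_apply_mem F2 hi)]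
        | rw [hw₁.2.2 i hi, hw₂.2.2 _ (double_apply_mem F1 hi)]
      rcases eq_or_ne i a with rfl | ia
      · simp [Equiv.swap_apply_of_ne_of_ne, k1, k1.symm, k2, k2.symm, k3, k3.symm, k4, k4.symm, k5, k5.symm, k6, k6.symm]
      rcases eq_or_ne i b with rfl | ib
      · simp [Equiv.swap_apply_of_ne_of_ne, k1, k1.symm, k2, k2.symm, k3, k3.symm, k4, k4.symm, k5, k5.symm, k6, k6.symm]
      rcases eq_or_ne i c with rfl | ic
      · simp [Equiv.swap_apply_of_ne_of_ne, k1, k1.symm, k2, k2.symm, k3, k3.symm, k4, k4.symm, k5, k5.symm, k6, k6.symm]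
      rcases eq_or_ne i e with rfl | ie
      · simp [Equiv.swap_apply_of_ne_of_ne, k1, k1.symm, k2, k2.symm, k3, k3.symm, k4, k4.symm, k5, k5.symm, k6, k6.symm]
      simp [Equiv.swap_apply_of_ne_of_ne, ia, ib, ic, ie]
  have hsub : ∀ (w : Perm α), outFix w S ⊆ univ \ S := fun w i hi =>
    mem_sdiff.2 ⟨mem_univ _, (mem_outFix.1 hi).2⟩
  have hPc : (univ \ S).card = Fintype.card α - 4 := by
    rw [card_sdiff_of_subset (subset_univ _), card_univ, hS]
  rcases hn with h7 | h9
  · -- degree seven: a second double transposition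
    have hall : ∀ i, i ∉ S → w₁ i = i := by
      have : outFix w₁ S = univ \ S := eq_of_subset_of_card_le (hsub _) (by omega)
      intro i hi
      exact (mem_outFix.1 (this.ge (mem_sdiff.2 ⟨mem_univ _, hi⟩))).1
    obtain ⟨p, hp⟩ : (univ \ S).Nonempty := card_pos.1 (by omega)
    have hpS : p ∉ S := (mem_sdiff.1 hp).2
    obtain ⟨S', hS'⟩ : ∃ S', S' = insert p (S.erase e) := ⟨_, rfl⟩
    have hS'c : S'.card = 4 := by
      rw [hS', card_insert_of_notMem (fun h => hpS (mem_of_mem_erase h)), card_erase_of_mem he, hS]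
    have hm : ∀ i ∈ S, i ≠ e → i ∈ S' := fun i hi hie => by
      rw [hS']; exact mem_insert_of_mem (mem_erase.2 ⟨hie, hi⟩)
    have F' : Four S' a b c p :=
      ⟨hm a ha k3, hm b hb k5, hm c hc k6, by rw [hS']; exact mem_insert_self _ _, k1, k2,
        ne_of_mem_of_not_mem ha hpS, k4, ne_of_mem_of_not_mem hb hpS, ne_of_mem_of_not_mem hc hpS⟩
    obtain ⟨g, hg⟩ := exists_isDouble hG hkn hno hS'c F'
    have hgall : ∀ i, i ∉ S' → g i = i := by
      have h3 := hout hS'c a b c p F' g hg
      have : outFix g S' = univ \ S' := eq_of_subset_of_card_le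
        (fun i hi => mem_sdiff.2 ⟨mem_univ _, (mem_outFix.1 hi).2⟩)
        (by rw [card_sdiff_of_subset (subset_univ _), card_univ, hS'c]; omega)
      intro i hi
      exact (mem_outFix.1 (this.ge (mem_sdiff.2 ⟨mem_univ _, hi⟩))).1
    have heS' : e ∉ S' := by
      rw [hS', mem_insert, mem_erase]
      rintro (h | h)
      exacts [hpS (h ▸ he), h.1 rfl]
    have hone := htriv (w₁ * g) (G.mul_mem hw₁.1 hg.1) (le_of_eq_of_le ?_ (card_le_fixCard
      (s := {a, b} ∪ ((univ \ S).erase p)) fun i hi => ?_))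
    · have h := congrArg (fun k : Perm α => k e) hone
      simp only [Perm.mul_apply, hgall e heS', Perm.one_apply] at h
      rw [hw₁.2.2 e he, Equiv.swap_apply_right, Equiv.swap_apply_of_ne_of_ne hac hbc] at h
      exact k6 h
    · rw [card_union_of_disjoint, card_pair k1, card_erase_of_mem hp]
      · omega
      rw [disjoint_left]
      intro i hi hi'
      simp only [mem_insert, mem_singleton] at hi
      have := (mem_sdiff.1 (mem_of_mem_erase hi')).2
      rcases hi with rfl | rfl
      exacts [this ha, this hb]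
    · rw [Perm.mul_apply]
      rcases mem_union.1 hi with h | h
      · simp only [mem_insert, mem_singleton] at h
        rcases h with rfl | rfl
        · rw [hg.2.2 _ F'.1, Equiv.swap_apply_of_ne_of_ne k2 (ne_of_mem_of_not_mem ha hpS),
            Equiv.swap_apply_left, hw₁.2.2 _ hb, Equiv.swap_apply_of_ne_of_ne k4 k5,
            Equiv.swap_apply_right]
        · rw [hg.2.2 _ F'.2.1, Equiv.swap_apply_of_ne_of_ne k4 (ne_of_mem_of_not_mem hb hpS),
            Equiv.swap_apply_right, hw₁.2.2 _ ha, Equiv.swap_apply_of_ne_of_ne k2 k3,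
            Equiv.swap_apply_left]
      · obtain ⟨hip, hi'⟩ := mem_erase.1 h
        have hiS := (mem_sdiff.1 hi').2
        rw [hgall i (fun hm' => by
          rw [hS', mem_insert] at hm'
          rcases hm' with h | h
          exacts [hip h, hiS (mem_of_mem_erase h)]), hall i hiS]
  · -- degree nine
    obtain ⟨I, hI⟩ : ∃ I, I = outFix w₁ S ∩ outFix w₂ S := ⟨_, rfl⟩
    have hI3 : ∀ i, i ∈ outFix w₃ S → (i ∈ outFix w₁ S ↔ i ∈ outFix w₂ S) := by
      intro i hi
      obtain ⟨h3, hiS⟩ := mem_outFix.1 hi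
      constructor
      · intro h
        refine mem_outFix.2 ⟨?_, hiS⟩
        have h1 := (mem_outFix.1 h).1
        rw [← hprod.1, Perm.mul_apply] at h3
        exact w₁.injective (h3.trans h1.symm)
      · intro h
        refine mem_outFix.2 ⟨?_, hiS⟩
        have h1 := (mem_outFix.1 h).1
        rw [← hprod.1, Perm.mul_apply, h1] at h3
        exact h3
    have hU : (outFix w₁ S ∪ outFix w₂ S ∪ outFix w₃ S).card ≤ 5 := by
      have := card_le_card (union_subset (union_subset (hsub w₁) (hsub w₂)) (hsub w₃))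
      omega
    have h12 := card_union_add_card_inter (outFix w₁ S) (outFix w₂ S)
    have h123 := card_union_add_card_inter (outFix w₁ S ∪ outFix w₂ S) (outFix w₃ S)
    have hinter : (outFix w₁ S ∪ outFix w₂ S) ∩ outFix w₃ S ⊆ I := by
      intro i hi
      obtain ⟨h, h3⟩ := mem_inter.1 hi
      rw [hI]
      rcases mem_union.1 h with h | h
      · exact mem_inter.2 ⟨h, (hI3 i h3).1 h⟩
      · exact mem_inter.2 ⟨(hI3 i h3).2 h, h⟩
    have hinter' := card_le_card hinter
    rw [← hI] at h12
    have h2 : 2 ≤ I.card := by omega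
    -- the involution fixes the whole triple
    have hw₂T : ∀ i ∈ outFix w₁ S, w₂ i ∈ outFix w₁ S := by
      intro i hi
      obtain ⟨h, h'⟩ := mem_outFix.1 hi
      refine mem_outFix.2 ⟨by rw [← Perm.mul_apply, hprod.1, ← hprod.2, Perm.mul_apply, h],
        fun hm => h' ?_⟩
      have := isDouble_apply_mem F2 hw₂ hm
      rwa [apply_apply_of_sq hw₂.2.1] at this
    have hall : ∀ i ∈ outFix w₁ S, w₂ i = i := by
      intro i hi
      by_contra hni
      have hsub2 : insert i (insert (w₂ i) I) ⊆ outFix w₁ S := by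
        simp only [insert_subset_iff]
        exact ⟨hi, hw₂T i hi, hI ▸ inter_subset_left⟩
      have hiI : i ∉ I := fun h => hni (mem_outFix.1 (mem_inter.1 (hI ▸ h)).2).1
      have hjI : w₂ i ∉ I := fun h => hni (by
        have h' := (mem_outFix.1 (mem_inter.1 (hI ▸ h)).2).1
        rw [apply_apply_of_sq hw₂.2.1] at h'
        exact h'.symm)
      have := card_le_card hsub2
      rw [card_insert_of_notMem (by simp only [mem_insert, not_or]; exact ⟨Ne.symm hni, hiI⟩),
        card_insert_of_notMem hjI] at this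
      omega
    obtain ⟨r, hr, r', hr', hrr⟩ := one_lt_card.1 (by
      rw [card_sdiff_of_subset (hsub w₁), A1, hPc]; omega : 1 < ((univ \ S) \ outFix w₁ S).card)
    have hR : (univ \ S) \ outFix w₁ S = {r, r'} := (eq_of_subset_of_card_le
      (by simp [insert_subset_iff, hr, hr']) (by
        rw [card_sdiff_of_subset (hsub w₁), A1, hPc, card_pair hrr]; omega)).symm
    have hT12 : outFix w₁ S = outFix w₂ S := eq_of_subset_of_card_le
      (fun i hi => mem_outFix.2 ⟨hall i hi, (mem_outFix.1 hi).2⟩) (by omega)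
    have hw : ∀ (w : Perm α), w * w = 1 → (∀ i, i ∈ S → w i ∈ S) → outFix w S = outFix w₁ S →
        w r = r' := by
      intro w hw2 hwS hwT
      obtain ⟨hrS', hrT⟩ := mem_sdiff.1 hr
      have hrS := (mem_sdiff.1 hrS').2
      have hm : w r ∈ (univ \ S) \ outFix w₁ S := by
        refine mem_sdiff.2 ⟨mem_sdiff.2 ⟨mem_univ _, fun h => hrS ?_⟩, fun h => hrT ?_⟩
        · have := hwS _ h
          rwa [apply_apply_of_sq hw2] at this
        · rw [← hwT] at h
          have h' := (mem_outFix.1 h).1
          rw [apply_apply_of_sq hw2] at h'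
          rw [← hwT]
          exact mem_outFix.2 ⟨h'.symm, hrS⟩
      rw [hR, mem_insert, mem_singleton] at hm
      rcases hm with h | h
      · exact absurd (hwT ▸ mem_outFix.2 ⟨h, hrS⟩) hrT
      · exact h
    have e1 := hw w₁ hw₁.2.1 (fun i => isDouble_apply_mem F1 hw₁) rfl
    have e2 := hw w₂ hw₂.2.1 (fun i => isDouble_apply_mem F2 hw₂) hT12.symm
    have h3r : w₃ r = r := by
      rw [← hprod.1, Perm.mul_apply, e2, ← e1, apply_apply_of_sq hw₁.2.1]
    have hsub3 : insert r (outFix w₁ S) ⊆ outFix w₃ S := by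
      intro i hi
      rcases mem_insert.1 hi with rfl | hi
      · exact mem_outFix.2 ⟨h3r, (mem_sdiff.1 (mem_sdiff.1 hr).1).2⟩
      · exact mem_outFix.2 ⟨by rw [← hprod.1, Perm.mul_apply, hall i hi, (mem_outFix.1 hi).1],
          (mem_outFix.1 hi).2⟩
    have := card_le_card hsub3
    rw [card_insert_of_notMem (mem_sdiff.1 hr).2] at this
    omega

/-- The degrees of sharply quadruply transitive groups. -/
theorem sharp_four_degree (hG : MulAction.IsMultiplyPretransitive G α 4) (hn : 4 ≤ Fintype.card α)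
    (htriv : Triv G 4) :
    Fintype.card α = 4 ∨ Fintype.card α = 5 ∨ Fintype.card α = 6 ∨ Fintype.card α = 11 := by
  obtain ⟨h1, h2⟩ := sharp_bound (le_refl 4) hG hn htriv
  have h7 := fun h => sharp_four_ne hG htriv (Or.inl h)
  have h9 := fun h => sharp_four_ne hG htriv (Or.inr h)
  rcases Nat.even_or_odd (Fintype.card α) with he | ho
  · have := h2 (by simpa using he)
    omega
  · obtain ⟨m, hm⟩ := ho
    rcases (show m = 2 ∨ m = 3 ∨ m = 4 ∨ m = 5 by omega) with rfl | rfl | rfl | rfl
    · omega
    · exact absurd hm h7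
    · exact absurd hm h9
    · omega

/-- The degrees of sharply `5`-transitive groups. -/
theorem sharp_five_degree (hG : MulAction.IsMultiplyPretransitive G α 5) (hn : 5 ≤ Fintype.card α)
    (htriv : Triv G 5) :
    Fintype.card α = 5 ∨ Fintype.card α = 6 ∨ Fintype.card α = 7 ∨ Fintype.card α = 12 := by
  obtain ⟨x⟩ : Nonempty α := Fintype.card_pos_iff.1 (by omega)
  have h := sharp_four_degree (stab_trans hG hn x) (by rw [card_ne_subtype]; omega) (stab_triv htriv x)
  rw [card_ne_subtype] at h
  omega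

/-- The degrees of sharply `k`-transitive groups, `k ≥ 6`. -/
theorem sharp_ge_six_degree : ∀ k, 6 ≤ k → ∀ {α : Type u} [Fintype α] [DecidableEq α]
    {G : Subgroup (Perm α)}, MulAction.IsMultiplyPretransitive G α k → k ≤ Fintype.card α →
    Triv G k → Fintype.card α = k ∨ Fintype.card α = k + 1 ∨ Fintype.card α = k + 2 := by
  intro k hk
  induction k, hk using Nat.le_induction with
  | base =>
    intro α _ _ G hG hn htriv
    obtain ⟨x⟩ : Nonempty α := Fintype.card_pos_iff.1 (by omega)
    have h := sharp_five_degree (stab_trans hG hn x) (by rw [card_ne_subtype]; omega)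
      (stab_triv htriv x)
    rw [card_ne_subtype] at h
    rcases h with h | h | h | h
    · omega
    · omega
    · omega
    · exfalso
      have h13 : Fintype.card α = 13 := by omega
      have : MulAction.IsPretransitive G α := by
        rw [← MulAction.is_one_pretransitive_iff]
        exact MulAction.isMultiplyPretransitive_of_le (n := 6) (by omega)
          (by rw [Nat.card_eq_fintype_card]; omega)
      apply Cfsg.Agent.S0710.result h13 G
      rw [card_of_triv hG (by omega) htriv, h13]
      rfl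
  | succ k hk ih =>
    intro α _ _ G hG hn htriv
    obtain ⟨x⟩ : Nonempty α := Fintype.card_pos_iff.1 (by omega)
    have h := ih (stab_trans hG hn x) (by rw [card_ne_subtype]; omega) (stab_triv htriv x)
    rw [card_ne_subtype] at h
    omega

/-- A sharply quadruply transitive group of degree eleven is simple of order `7920`. -/
theorem sharp_four_isM11 (hα : Fintype.card α = 11) (hG : MulAction.IsMultiplyPretransitive G α 4)
    (htriv : Triv G 4) : Cfsg.IsM11 G := by
  have hcard : Nat.card G = 7920 := by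
    rw [card_of_triv hG (by omega) htriv, hα]; rfl
  refine ⟨?_, hcard⟩
  have : Fact (Nat.Prime 11) := ⟨by norm_num⟩
  have hG1 : MulAction.IsPretransitive G α := by
    rw [← MulAction.is_one_pretransitive_iff]
    exact MulAction.isMultiplyPretransitive_of_le (n := 4) (by omega)
      (by rw [Nat.card_eq_fintype_card]; omega)
  have : MulAction.IsPreprimitive G α := MulAction.IsPreprimitive.of_prime_card
    (by rw [Nat.card_eq_fintype_card, hα]; norm_num)
  have : FaithfulSMul G α := ⟨fun {g k} h => Subtype.ext (Equiv.ext h)⟩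
  obtain ⟨P⟩ : Nonempty (Sylow 11 G) := inferInstance
  obtain ⟨nP, d, hnd, hn1, hd, hN, hnP⟩ := CfsgLib.Perm.exists_sylow_decomposition hα G P
  have hPc := CfsgLib.Perm.sylow_card_eq hα G P
  have hd5 : d = 5 := by
    have h1 : nP * d = 720 := by
      rw [hcard] at hnd
      have : nP * (11 * d) = 11 * (nP * d) := by ring
      omega
    have h10 := Nat.le_of_dvd (by norm_num) hd
    interval_cases d <;> omega
  subst hd5
  have : Nontrivial G := Finite.one_lt_card_iff_nontrivial.1 (by omega)
  refine ⟨fun N hN' => or_iff_not_imp_left.2 fun hNb => ?_⟩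
  have hNt : MulAction.IsPretransitive N α := CfsgLib.Perm.normal_isPretransitive hNb
  have h11 : 11 ∣ Nat.card N := by
    obtain ⟨a⟩ : Nonempty α := Fintype.card_pos_iff.1 (by omega)
    rw [CfsgLib.Perm.natCard_eq_mul_stabilizer (G := N) a, Nat.card_eq_fintype_card, hα]
    exact dvd_mul_right _ _
  -- the Sylow subgroup lies in the normal subgroup
  obtain ⟨g, hg⟩ := exists_prime_orderOf_dvd_card' 11 h11
  obtain ⟨Q, hQ⟩ := (IsPGroup.of_card (n := 1) (by
    rw [Nat.card_zpowers, Subgroup.orderOf_coe, hg, pow_one] :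
      Nat.card (Subgroup.zpowers (g : G)) = 11 ^ 1)).exists_le_sylow
  have hQN : (Q : Subgroup G) ≤ N := by
    rw [← Subgroup.eq_of_le_of_card_ge hQ (by
      rw [CfsgLib.Perm.sylow_card_eq hα G Q, Nat.card_zpowers, Subgroup.orderOf_coe, hg])]
    exact Subgroup.zpowers_le.2 g.2
  have hPN : (P : Subgroup G) ≤ N := by
    obtain ⟨x, rfl⟩ := MulAction.exists_smul_eq G Q P
    intro y hy
    obtain ⟨q, hq, rfl⟩ := hy
    exact hN'.conj_mem q (hQN hq) x
  have hsup : N ⊔ Subgroup.normalizer ((P : Subgroup G) : Set G) = ⊤ := by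
    have := Sylow.normalizer_sup_eq_top' (N := N) P hPN
    rwa [sup_comm] at this
  have hidx := N.index_mul_card
  rw [hcard] at hidx
  by_contra hNtop
  have hle := card_sup_dvd_mul_of_normal N (Subgroup.normalizer ((P : Subgroup G) : Set G))
  rw [hsup, Subgroup.card_top, hcard, hN] at hle
  -- the normal subgroup has index five
  have hinf : 11 ∣ Nat.card ↥(N ⊓ Subgroup.normalizer ((P : Subgroup G) : Set G)) := by
    have := Subgroup.card_dvd_of_le (le_inf hPN (Subgroup.le_normalizer (H := (P : Subgroup G))))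
    rwa [hPc] at this
  have hinf' : Nat.card ↥(N ⊓ Subgroup.normalizer ((P : Subgroup G) : Set G)) ∣ 55 :=
    (Subgroup.card_dvd_of_le inf_le_right).trans (by rw [hN])
  have hindex : N.index * Nat.card ↥(N ⊓ Subgroup.normalizer ((P : Subgroup G) : Set G)) = 55 := by
    refine Nat.eq_of_mul_eq_mul_right (Nat.card_pos (α := N)) ?_
    have h2 : Nat.card ↥(N ⊓ Subgroup.normalizer ((P : Subgroup G) : Set G)) * 7920 =
        55 * Nat.card N := by rw [hle]
    calc _ = Nat.card ↥(N ⊓ Subgroup.normalizer ((P : Subgroup G) : Set G)) *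
          (N.index * Nat.card N) := by ring
      _ = _ := by rw [hidx, h2]
  have hI : Nat.card ↥(N ⊓ Subgroup.normalizer ((P : Subgroup G) : Set G)) = 11 := by
    rcases hinf with ⟨t, ht⟩
    rw [ht] at hindex hinf' ⊢
    have ht5 : t ∣ 5 := Nat.dvd_of_mul_dvd_mul_left (by norm_num) hinf'
    rcases (Nat.dvd_prime (by norm_num)).1 ht5 with rfl | rfl
    · rfl
    · exfalso
      apply hNtop
      rw [← Subgroup.index_eq_one]
      omega
  rw [hI] at hindex
  have hNc : Nat.card N = 1584 := by
    have : N.index = 5 := by omega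
    rw [this] at hidx
    omega
  -- the Sylow subgroup of `N` is self-normalizing
  obtain ⟨PN, hPNdef⟩ : ∃ PN : Sylow 11 N, (PN : Subgroup N) = (P : Subgroup G).subgroupOf N :=
    ⟨P.subtype hPN, rfl⟩
  have hPNc : Nat.card PN = 11 := by
    rw [show Nat.card PN = Nat.card ((P : Subgroup G).subgroupOf N) by rw [← hPNdef]]
    rw [Nat.card_congr (Subgroup.subgroupOfEquivOfLe hPN).toEquiv, hPc]
  have hPNab : IsMulCommutative (PN : Subgroup N) := by
    have : IsCyclic (PN : Subgroup N) := isCyclic_of_prime_card hPNc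
    exact IsCyclic.isMulCommutative
  have hnorm : Subgroup.normalizer ((PN : Subgroup N) : Set N) ≤
      Subgroup.centralizer ((PN : Subgroup N) : Set N) := by
    have heq : (PN : Subgroup N) = Subgroup.normalizer ((PN : Subgroup N) : Set N) := by
      refine Subgroup.eq_of_le_of_card_ge Subgroup.le_normalizer ?_
      refine le_trans (Subgroup.card_map_of_injective N.subtype_injective).ge
        (le_trans (Subgroup.card_le_of_le ?_) (hI.trans hPNc.symm).le)
      rintro _ ⟨z, hz, rfl⟩
      refine Subgroup.mem_inf.2 ⟨z.2, Subgroup.mem_normalizer_iff.2 fun q => ⟨fun hq => ?_, fun hq => ?_⟩⟩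
      · have := (Subgroup.mem_normalizer_iff.1 hz ⟨q, hPN hq⟩).1 (by rw [hPNdef]; exact hq)
        rw [hPNdef] at this
        exact this
      · have hqN : q ∈ N := by
          have := N.mul_mem (N.mul_mem (N.inv_mem z.2) (hPN hq)) z.2
          simpa [mul_assoc] using this
        have := (Subgroup.mem_normalizer_iff.1 hz ⟨q, hqN⟩).2 (by rw [hPNdef]; exact hq)
        rw [hPNdef] at this
        exact this
    rw [← heq]
    exact Subgroup.le_centralizer _
  obtain ⟨K, hKdef⟩ : ∃ K, K = (MonoidHom.transferSylow PN hnorm).ker := ⟨_, rfl⟩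
  have hKc : Nat.card K = 144 := by
    have := (MonoidHom.ker_transferSylow_isComplement' PN hnorm).card_mul
    rw [← hKdef, hPNc, hNc] at this
    omega
  have hKn : (K.map N.subtype).Normal := by
    refine ⟨fun x hx g => ?_⟩
    obtain ⟨k, hk, rfl⟩ := hx
    refine ⟨⟨g * k * g⁻¹, hN'.conj_mem k k.2 g⟩, ?_, rfl⟩
    -- elements of order prime to eleven lie in the kernel
    rw [SetLike.mem_coe, hKdef, MonoidHom.mem_ker]
    have ho : orderOf (⟨g * k * g⁻¹, hN'.conj_mem k k.2 g⟩ : N) ∣ 144 := by
      rw [← Subgroup.orderOf_coe]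
      show orderOf (g * (k : G) * g⁻¹) ∣ 144
      rw [show g * (k : G) * g⁻¹ = MulAut.conj g (k : G) from rfl, MulEquiv.orderOf_eq,
        Subgroup.orderOf_coe, ← Subgroup.orderOf_mk k hk, ← hKc]
      exact orderOf_dvd_natCard _
    have hd := (orderOf_map_dvd (MonoidHom.transferSylow PN hnorm)
      ⟨g * k * g⁻¹, hN'.conj_mem k k.2 g⟩).trans ho
    have hd' := orderOf_dvd_natCard
      (MonoidHom.transferSylow PN hnorm ⟨g * k * g⁻¹, hN'.conj_mem k k.2 g⟩)
    rw [hPNc] at hd' 
    rw [← orderOf_eq_one_iff]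
    exact Nat.dvd_one.1 (by have := Nat.dvd_gcd hd hd'; norm_num at this ⊢; exact this)
  have hKt : MulAction.IsPretransitive (K.map N.subtype) α := by
    have := hKn
    refine CfsgLib.Perm.normal_isPretransitive fun h => ?_
    have := congrArg (fun H : Subgroup G => Nat.card H) h
    rw [Subgroup.card_map_of_injective N.subtype_injective, Subgroup.card_bot, hKc] at this
    omega
  obtain ⟨a⟩ : Nonempty α := Fintype.card_pos_iff.1 (by omega)
  have h := CfsgLib.Perm.natCard_eq_mul_stabilizer (G := K.map N.subtype) a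
  rw [Subgroup.card_map_of_injective N.subtype_injective, hKc, Nat.card_eq_fintype_card, hα] at h
  omega
where
  card_sup_dvd_mul_of_normal {X : Type u} [Group X] [Finite X] (N H : Subgroup X) [N.Normal] :
      Nat.card ↥(N ⊓ H) * Nat.card ↥(N ⊔ H) = Nat.card H * Nat.card N := by
    have e := QuotientGroup.quotientInfEquivProdNormalQuotient H N
    have h1 := Nat.card_congr e.toEquiv
    have h2 := (N.subgroupOf H).index_mul_card
    have h3 := (N.subgroupOf (H ⊔ N)).index_mul_card
    rw [Subgroup.index_eq_card] at h2 h3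
    have e2 : Nat.card ↥(N.subgroupOf H) = Nat.card ↥(N ⊓ H) := by
      rw [← Subgroup.inf_subgroupOf_right, Nat.card_congr
        (Subgroup.subgroupOfEquivOfLe (inf_le_right : N ⊓ H ≤ H)).toEquiv]
    rw [Nat.card_congr (Subgroup.subgroupOfEquivOfLe (le_sup_right : N ≤ H ⊔ N)).toEquiv] at h3
    rw [e2] at h2
    rw [sup_comm N H, ← h3, ← h1, ← h2]
    ring

/-- A sharply quintuply transitive group of degree twelve is simple of order `95040`. -/
theorem sharp_five_isM12 (hα : Fintype.card α = 12) (hG : MulAction.IsMultiplyPretransitive G α 5)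
    (htriv : Triv G 5) : Cfsg.IsM12 G := by
  have hcard : Nat.card G = 95040 := by
    rw [card_of_triv hG (by omega) htriv, hα]; rfl
  refine ⟨?_, hcard⟩
  have h2 : MulAction.IsMultiplyPretransitive G α 2 :=
    MulAction.isMultiplyPretransitive_of_le (n := 5) (by omega)
      (by rw [Nat.card_eq_fintype_card]; omega)
  have : MulAction.IsPreprimitive G α := MulAction.isPreprimitive_of_is_two_pretransitive h2
  have : FaithfulSMul G α := ⟨fun {g k} h => Subtype.ext (Equiv.ext h)⟩
  have : Nontrivial G := Finite.one_lt_card_iff_nontrivial.1 (by omega)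
  obtain ⟨x⟩ : Nonempty α := Fintype.card_pos_iff.1 (by omega)
  have hM := sharp_four_isM11 (by rw [card_ne_subtype, hα]) (stab_trans hG (by omega) x)
    (stab_triv htriv x)
  have hsimp : IsSimpleGroup (fixPt G x) := by
    have := hM.1
    have : Nontrivial (fixPt G x) :=
      (MonoidHom.ofInjective (stabHom_injective G x)).toEquiv.nontrivial
    exact (MonoidHom.ofInjective (stabHom_injective G x)).symm.surjective |> fun h =>
      IsSimpleGroup.isSimpleGroup_of_surjective
        (MonoidHom.ofInjective (stabHom_injective G x)).symm.toMonoidHom h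
  refine ⟨fun N hN' => or_iff_not_imp_left.2 fun hNb => ?_⟩
  have hNt : MulAction.IsPretransitive N α := CfsgLib.Perm.normal_isPretransitive hNb
  obtain ⟨M, hM'⟩ : ∃ M : Subgroup (fixPt G x),
      M = (N.map G.subtype).subgroupOf (fixPt G x) := ⟨_, rfl⟩
  have hMn : M.Normal := by
    rw [hM']
    refine ⟨fun z hz g => ?_⟩
    rw [Subgroup.mem_subgroupOf] at hz ⊢
    obtain ⟨n, hn, hnz⟩ := hz
    refine ⟨⟨(g : Perm α), g.2.1⟩ * n * ⟨(g : Perm α), g.2.1⟩⁻¹, hN'.conj_mem n hn _, ?_⟩
    simp [← hnz]
  rcases hMn.eq_bot_or_eq_top with hbot | htop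
  · -- a regular normal subgroup of degree twelve is impossible
    exfalso
    have hreg : MulAction.stabilizer N x = ⊥ := by
      rw [eq_bot_iff]
      intro n hn
      rw [Subgroup.mem_bot]
      have hm : (⟨((n : G) : Perm α), (n : G).2, MulAction.mem_stabilizer_iff.1 hn⟩ :
          fixPt G x) ∈ M := by
        rw [hM', Subgroup.mem_subgroupOf]
        exact ⟨n, n.2, rfl⟩
      rw [hbot, Subgroup.mem_bot] at hm
      exact Subtype.ext (Subtype.ext (congrArg Subtype.val hm :))
    have hNc : Nat.card N = 12 := by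
      rw [CfsgLib.Perm.natCard_eq_mul_stabilizer (G := N) x, hreg, Subgroup.card_bot, mul_one,
        Nat.card_eq_fintype_card, hα]
    obtain ⟨p2, hp2⟩ := exists_prime_orderOf_dvd_card' (G := N) 2 (by rw [hNc]; norm_num)
    obtain ⟨p3, hp3⟩ := @exists_prime_orderOf_dvd_card' N _ _ 3 ⟨by norm_num⟩ (by rw [hNc]; norm_num)
    have hne : ∀ n : N, n ≠ 1 → ((n : G) : Perm α) x ≠ x := fun n hn h => hn (by
      have : n ∈ MulAction.stabilizer N x := MulAction.mem_stabilizer_iff.2 h
      rwa [hreg, Subgroup.mem_bot] at this)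
    obtain ⟨g, hgx, hg23⟩ := (MulAction.is_two_pretransitive_iff.1 h2)
      (show x ≠ ((p2 : G) : Perm α) x from
        fun h => hne p2 (fun e => by rw [e, orderOf_one] at hp2; omega) h.symm)
      (show x ≠ ((p3 : G) : Perm α) x from
        fun h => hne p3 (fun e => by rw [e, orderOf_one] at hp3; omega) h.symm)
    have hq : g * (p2 : G) * g⁻¹ ∈ N := hN'.conj_mem _ p2.2 g
    have heq : (⟨_, hq⟩ : N) = p3 := by
      have hinvx : g⁻¹ • x = x := by rw [inv_smul_eq_iff, hgx]
      have h1 : (g * (p2 : G) * g⁻¹) • x = (p3 : G) • x := by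
        rw [mul_smul, mul_smul, hinvx]
        exact hg23
      have h2' : p3⁻¹ * ⟨_, hq⟩ ∈ MulAction.stabilizer N x := by
        rw [MulAction.mem_stabilizer_iff, mul_smul, inv_smul_eq_iff]
        exact h1
      rw [hreg, Subgroup.mem_bot, inv_mul_eq_one] at h2'
      exact h2'.symm
    have := congrArg orderOf heq
    rw [hp3, ← Subgroup.orderOf_coe] at this
    have e : orderOf (g * (p2 : G) * g⁻¹) = 2 := by
      rw [show g * (p2 : G) * g⁻¹ = MulAut.conj g (p2 : G) from rfl, MulEquiv.orderOf_eq,
        Subgroup.orderOf_coe, hp2]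
    exact absurd (e.symm.trans this) (by norm_num)
  · -- containing the stabilizer and transitive
    rw [eq_top_iff]
    intro g _
    obtain ⟨⟨n, hn⟩, hnx⟩ := hNt.exists_smul_eq x (g • x)
    have hst : ((n⁻¹ * g : G) : Perm α) x = x := by
      show (n⁻¹ * g) • x = x
      rw [mul_smul, inv_smul_eq_iff]
      exact hnx.symm
    have hm : (⟨((n⁻¹ * g : G) : Perm α), (n⁻¹ * g).2, hst⟩ : fixPt G x) ∈ M :=
      htop ▸ Subgroup.mem_top _
    rw [hM', Subgroup.mem_subgroupOf] at hm
    obtain ⟨z, hz, hze⟩ := hm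
    have hzeq : z = n⁻¹ * g := Subtype.ext hze
    subst hzeq
    have := N.mul_mem hn hz
    rwa [mul_inv_cancel_left] at this

end CfsgLib.Perm.Induced
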