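import Mathlib
import Cfsg.Agent.S5912

/-!
Automorphisms of the alternating group of degree six fixing the class of three-cycles permute the
point stabilisers; a group with such a subgroup of index two and trivial centre is `S₆`.
-/

set_option autoImplicit false

namespace CfsgLib.Perm.AutAltSix

open Subgroup

/-- The alternating group of degree six. -/
abbrev A6 : Type := ↥(alternatingGroup (Fin 6))

/-- A three-cycle. -/
def cs : Equiv.Perm (Fin 6) := Equiv.swap 0 1 * Equiv.swap 0 2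

/-- A second three-cycle. -/
def cr : Equiv.Perm (Fin 6) := Equiv.swap 0 1 * Equiv.swap 0 3

/-- Few words in the two three-cycles. -/
def wds : List (Equiv.Perm (Fin 6)) := [1, cs, cs * cs, cr, cr * cr]

set_option maxHeartbeats 4000000 in
theorem words_cover : ∀ g : Equiv.Perm (Fin 6), g 4 = 4 → g 5 = 5 → Equiv.Perm.sign g = 1 →
    ∃ a ∈ wds, ∃ b ∈ wds, ∃ c ∈ wds, g = a * b * c := by
  decide +kernel

theorem common_fixed : ∀ y : Equiv.Perm (Fin 6), y.support.card = 3 → cs * y * (cs * y) = 1 → cs * y ≠ 1 →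
    ∃ c d : Fin 6, c ≠ d ∧ cs c = c ∧ y c = c ∧ cs d = d ∧ y d = d ∧
      ∀ p, cs p = p → y p = p → p = c ∨ p = d := by
  decide +kernel

theorem stab_sep : ∀ a b : Fin 6, a ≠ b → ∃ g : Equiv.Perm (Fin 6), Equiv.Perm.sign g = 1 ∧ g a = a ∧ g b ≠ b := by
  decide +kernel

theorem count_stab : ∀ i : Fin 6,
    (Finset.univ.filter fun g : Equiv.Perm (Fin 6) => Equiv.Perm.sign g = 1 ∧ g i = i).card = 60 := by
  decide +kernel

theorem count_pair :
    (Finset.univ.filter fun g : Equiv.Perm (Fin 6) => Equiv.Perm.sign g = 1 ∧ g 4 = 4 ∧ g 5 = 5).card = 12 := by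
  decide +kernel

theorem cs_cr_facts : cs.support.card = 3 ∧ cr.support.card = 3 ∧ cs * cr * (cs * cr) = 1 ∧ cs * cr ≠ 1 ∧
    cs 4 = 4 ∧ cs 5 = 5 ∧ cr 4 = 4 ∧ cr 5 = 5 ∧ Equiv.Perm.sign cs = 1 ∧ Equiv.Perm.sign cr = 1 := by
  decide +kernel

theorem exists_perm_map_five : ∀ i : Fin 6, ∃ u : Equiv.Perm (Fin 6), Equiv.Perm.sign u = 1 ∧ u 5 = i := by
  decide +kernel

theorem card_of_filter (H : Subgroup A6) (P : Equiv.Perm (Fin 6) → Prop) [DecidablePred P] (n : ℕ)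
    (hH : ∀ g : A6, g ∈ H ↔ P g) (hn : (Finset.univ.filter fun g : Equiv.Perm (Fin 6) =>
      Equiv.Perm.sign g = 1 ∧ P g).card = n) : Nat.card H = n := by
  rw [← hn, ← Nat.card_eq_finsetCard]
  refine Nat.card_congr
    { toFun := fun x => ⟨((x : A6) : Equiv.Perm (Fin 6)), Finset.mem_filter.2
        ⟨Finset.mem_univ _, Equiv.Perm.mem_alternatingGroup.1 (x : A6).2, (hH x).1 x.2⟩⟩
      invFun := fun x => ⟨⟨x.1, Equiv.Perm.mem_alternatingGroup.2 (Finset.mem_filter.1 x.2).2.1⟩,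
        (hH _).2 (Finset.mem_filter.1 x.2).2.2⟩
      left_inv := fun x => rfl
      right_inv := fun x => rfl }

theorem isThreeCycle_map {α : A6 ≃* A6} {σ : A6} (hσ : (σ : Equiv.Perm (Fin 6)).IsThreeCycle)
    (hασ : ((α σ : A6) : Equiv.Perm (Fin 6)).IsThreeCycle) {x : A6}
    (hx : (x : Equiv.Perm (Fin 6)).IsThreeCycle) : ((α x : A6) : Equiv.Perm (Fin 6)).IsThreeCycle := by
  have h1 : IsConj σ x := alternatingGroup.isThreeCycle_isConj (by simp) hσ hx
  have h2 := (alternatingGroup (Fin 6)).subtype.map_isConj (α.toMonoidHom.map_isConj h1)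
  have h3 := Equiv.Perm.isConj_iff_cycleType_eq.1 h2
  exact h3.symm.trans hασ

theorem stab_map_five {α : A6 ≃* A6} {σ : A6} (hσ : (σ : Equiv.Perm (Fin 6)).IsThreeCycle)
    (hασ : ((α σ : A6) : Equiv.Perm (Fin 6)).IsThreeCycle) :
    ∃ j : Fin 6, ∀ g : A6, (g : Equiv.Perm (Fin 6)) 5 = 5 ↔ ((α g : A6) : Equiv.Perm (Fin 6)) j = j := by
  classical
  obtain ⟨hs3, hr3, hsr, hsr1, hs4, hs5, hr4, hr5, hss, hrs⟩ := cs_cr_facts
  obtain ⟨x0, hx0⟩ : ∃ x0 : A6, (x0 : Equiv.Perm (Fin 6)) = cs := ⟨⟨cs, Equiv.Perm.mem_alternatingGroup.2 hss⟩, rfl⟩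
  obtain ⟨y0, hy0⟩ : ∃ y0 : A6, (y0 : Equiv.Perm (Fin 6)) = cr := ⟨⟨cr, Equiv.Perm.mem_alternatingGroup.2 hrs⟩, rfl⟩
  have hx0' : (x0 : Equiv.Perm (Fin 6)).IsThreeCycle := card_support_eq_three_iff.1 (hx0 ▸ hs3)
  have hy0' : (y0 : Equiv.Perm (Fin 6)).IsThreeCycle := card_support_eq_three_iff.1 (hy0 ▸ hr3)
  obtain ⟨x, hx⟩ : ∃ x, x = ((α x0 : A6) : Equiv.Perm (Fin 6)) := ⟨_, rfl⟩
  obtain ⟨y, hy⟩ : ∃ y, y = ((α y0 : A6) : Equiv.Perm (Fin 6)) := ⟨_, rfl⟩
  have hx3 : x.IsThreeCycle := hx ▸ isThreeCycle_map hσ hασ hx0'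
  have hy3 : y.IsThreeCycle := hy ▸ isThreeCycle_map hσ hασ hy0'
  have hxy : x * y * (x * y) = 1 ∧ x * y ≠ 1 := by
    have e1 : x * y = ((α (x0 * y0) : A6) : Equiv.Perm (Fin 6)) := by rw [map_mul, hx, hy]; rfl
    have e2 : x0 * y0 * (x0 * y0) = 1 := Subtype.ext (by simpa [hx0, hy0] using hsr)
    refine ⟨?_, fun h => hsr1 ?_⟩
    · rw [e1, ← Subgroup.coe_mul, ← map_mul, e2, map_one]; rfl
    · have e3 : α (x0 * y0) = α 1 := by rw [map_one]; exact Subtype.ext (e1 ▸ h)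
      have e4 := congrArg Subtype.val (α.injective e3)
      simpa [hx0, hy0] using e4
  -- normalise the first three-cycle
  obtain ⟨u, hu⟩ := isConj_iff.1 (Equiv.Perm.isConj_iff_cycleType_eq.2
    ((card_support_eq_three_iff.1 hs3 : cs.IsThreeCycle).trans hx3.symm))
  obtain ⟨y', hy'⟩ : ∃ y', y' = u⁻¹ * y * u := ⟨_, rfl⟩
  have hy'3 : y'.support.card = 3 := by
    rw [card_support_eq_three_iff, hy']
    show (u⁻¹ * y * u).cycleType = {3}
    rw [show u⁻¹ * y * u = u⁻¹ * y * (u⁻¹)⁻¹ by group, Equiv.Perm.cycleType_conj]; exact hy3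
  have hu' : u⁻¹ * x * u = cs := by rw [← hu]; group
  have hsy : cs * y' = u⁻¹ * (x * y) * u := by rw [← hu', hy']; group
  obtain ⟨c, d, hcd, hc1, hc2, hd1, hd2, honly⟩ := common_fixed y' hy'3
    (by rw [hsy]; calc u⁻¹ * (x * y) * u * (u⁻¹ * (x * y) * u) = u⁻¹ * (x * y * (x * y)) * u := by group
          _ = 1 := by rw [hxy.1]; group)
    (fun h => hxy.2 (by rw [hsy] at h; calc x * y = u * (u⁻¹ * (x * y) * u) * u⁻¹ := by group
          _ = 1 := by rw [h]; group))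
  have hpt : ∀ (w : Equiv.Perm (Fin 6)) (p : Fin 6), (u⁻¹ * w * u) p = p ↔ w (u p) = u p := fun w p => by
    rw [Equiv.Perm.mul_apply, Equiv.Perm.mul_apply, Equiv.Perm.inv_def, Equiv.symm_apply_eq]
  have hxc : x (u c) = u c := (hpt x c).1 (by rw [hu']; exact hc1)
  have hxd : x (u d) = u d := (hpt x d).1 (by rw [hu']; exact hd1)
  have hyc : y (u c) = u c := (hpt y c).1 (hy' ▸ hc2)
  have hyd : y (u d) = u d := (hpt y d).1 (hy' ▸ hd2)
  have honly' : ∀ p, x p = p → y p = p → p = u c ∨ p = u d := by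
    intro p hp hq
    obtain ⟨p, rfl⟩ := u.surjective p
    rcases honly p (by rw [← hu']; exact (hpt x p).2 hp) (by rw [hy']; exact (hpt y p).2 hq) with h | h
    · exact Or.inl (congrArg u h)
    · exact Or.inr (congrArg u h)
  obtain ⟨U, hU⟩ : ∃ U : Subgroup A6, U = (MulAction.stabilizer A6 (5 : Fin 6)).map α.toMonoidHom := ⟨_, rfl⟩
  obtain ⟨V, hV⟩ : ∃ V : Subgroup A6,
      V = MulAction.stabilizer A6 (4 : Fin 6) ⊓ MulAction.stabilizer A6 (5 : Fin 6) := ⟨_, rfl⟩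
  have hcardSt : ∀ i : Fin 6, Nat.card (MulAction.stabilizer A6 i) = 60 := fun i =>
    card_of_filter _ (fun g => g i = i) 60 (fun g => MulAction.mem_stabilizer_iff) (count_stab i)
  have hcardV : Nat.card V = 12 :=
    card_of_filter _ (fun g => g 4 = 4 ∧ g 5 = 5) 12 (fun g => by rw [hV]; exact Iff.rfl) count_pair
  have hcardU : Nat.card U = 60 := by
    rw [hU, card_map_of_injective (f := α.toMonoidHom) α.injective, hcardSt]
  -- the image of the four-point group fixes both points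
  have hVfix : ∀ v ∈ V, ((α v : A6) : Equiv.Perm (Fin 6)) (u c) = u c ∧
      ((α v : A6) : Equiv.Perm (Fin 6)) (u d) = u d := by
    intro v hv
    rw [hV] at hv
    obtain ⟨W, hW⟩ : ∃ W : Subgroup A6, W = (MulAction.stabilizer A6 (u c) ⊓ MulAction.stabilizer A6 (u d)).comap α.toMonoidHom := ⟨_, rfl⟩
    have hx0W : x0 ∈ W := by
      rw [hW]; exact ⟨show ((α x0 : A6) : Equiv.Perm (Fin 6)) (u c) = u c by rw [← hx]; exact hxc,
        show ((α x0 : A6) : Equiv.Perm (Fin 6)) (u d) = u d by rw [← hx]; exact hxd⟩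
    have hy0W : y0 ∈ W := by
      rw [hW]; exact ⟨show ((α y0 : A6) : Equiv.Perm (Fin 6)) (u c) = u c by rw [← hy]; exact hyc,
        show ((α y0 : A6) : Equiv.Perm (Fin 6)) (u d) = u d by rw [← hy]; exact hyd⟩
    have hwds : ∀ a ∈ wds, ∃ a' ∈ W, (a' : Equiv.Perm (Fin 6)) = a := by
      intro a ha
      simp only [wds, List.mem_cons, List.not_mem_nil, or_false] at ha
      rcases ha with rfl | rfl | rfl | rfl | rfl
      exacts [⟨1, one_mem _, rfl⟩, ⟨x0, hx0W, hx0⟩, ⟨x0 * x0, mul_mem hx0W hx0W, by rw [Subgroup.coe_mul, hx0]⟩,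
        ⟨y0, hy0W, hy0⟩, ⟨y0 * y0, mul_mem hy0W hy0W, by rw [Subgroup.coe_mul, hy0]⟩]
    obtain ⟨a, ha, b, hb, c', hc', he⟩ := words_cover _ hv.1 hv.2 (Equiv.Perm.mem_alternatingGroup.1 v.2)
    obtain ⟨a', ha', rfl⟩ := hwds a ha
    obtain ⟨b', hb', rfl⟩ := hwds b hb
    obtain ⟨c'', hc'', rfl⟩ := hwds c' hc'
    have hvW : v ∈ W := by
      rw [show v = a' * b' * c'' from Subtype.ext he]
      exact mul_mem (mul_mem ha' hb') hc''
    rw [hW] at hvW
    exact hvW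
  -- orbit of the fixed point
  have hVU : V.map α.toMonoidHom ≤ U := hU ▸ Subgroup.map_mono (hV ▸ inf_le_right)
  have horb := MulAction.index_stabilizer (G := ↥U) (x := u c)
  have h12 : 12 ∣ Nat.card (MulAction.stabilizer ↥U (u c)) := by
    have hle : (V.map α.toMonoidHom).subgroupOf U ≤ MulAction.stabilizer ↥U (u c) := by
      intro g hg
      obtain ⟨v, hv, hve⟩ := hg
      rw [MulAction.mem_stabilizer_iff]
      show ((g : A6) : Equiv.Perm (Fin 6)) (u c) = u c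
      rw [show (g : A6) = α v from hve.symm]
      exact (hVfix v hv).1
    have := card_dvd_of_le hle
    rwa [Nat.card_congr (subgroupOfEquivOfLe hVU).toEquiv,
      card_map_of_injective (f := α.toMonoidHom) α.injective, hcardV] at this
  have hmul := (MulAction.stabilizer ↥U (u c)).card_mul_index
  rw [horb, hcardU] at hmul
  obtain ⟨k, hk⟩ := h12
  rw [hk, mul_assoc] at hmul
  have h5 : (MulAction.orbit ↥U (u c)).ncard ∣ 5 := Dvd.intro_left k (by omega)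
  have hfixpt : ∃ e, ∀ g ∈ U, (g : Equiv.Perm (Fin 6)) e = e := by
    rcases (Nat.dvd_prime (by norm_num)).1 h5 with h | h
    · obtain ⟨a, ha⟩ := Set.ncard_eq_one.1 h
      refine ⟨u c, fun g hg => ?_⟩
      have h1 : (g : Equiv.Perm (Fin 6)) (u c) ∈ MulAction.orbit ↥U (u c) := ⟨⟨g, hg⟩, rfl⟩
      have h2 : u c ∈ MulAction.orbit ↥U (u c) := MulAction.mem_orbit_self _
      rw [ha, Set.mem_singleton_iff] at h1 h2
      rw [h1, ← h2]
    · have h1 := Set.ncard_compl (MulAction.orbit ↥U (u c))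
      rw [h, Nat.card_eq_fintype_card, Fintype.card_fin] at h1
      obtain ⟨e, he⟩ := Set.ncard_eq_one.1 h1
      refine ⟨e, fun g hg => ?_⟩
      have h2 : e ∉ MulAction.orbit ↥U (u c) := fun h' => by
        have : e ∈ (MulAction.orbit ↥U (u c))ᶜ := he ▸ rfl
        exact this h'
      have h3 : (g : Equiv.Perm (Fin 6)) e ∈ (MulAction.orbit ↥U (u c))ᶜ := by
        intro h'
        apply h2
        obtain ⟨k, hk⟩ := h'
        refine ⟨(⟨g, hg⟩ : ↥U)⁻¹ * k, ?_⟩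
        show ((⟨g, hg⟩ : ↥U)⁻¹ * k) • u c = e
        rw [mul_smul, inv_smul_eq_iff]
        exact hk
      rw [he, Set.mem_singleton_iff] at h3
      exact h3
  obtain ⟨e, he⟩ := hfixpt
  have hle : U ≤ MulAction.stabilizer A6 e := fun g hg => MulAction.mem_stabilizer_iff.2 (he g hg)
  have heq := eq_of_le_of_card_ge hle (by rw [hcardU, hcardSt])
  refine ⟨e, fun g => ?_⟩
  have h1 : α g ∈ MulAction.stabilizer A6 e ↔ g ∈ MulAction.stabilizer A6 (5 : Fin 6) := by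
    rw [← heq, hU]
    exact ⟨fun ⟨k, hk, hke⟩ => α.injective hke ▸ hk, fun h => ⟨g, h, rfl⟩⟩
  exact h1.symm

theorem stab_map {α : A6 ≃* A6} {σ : A6} (hσ : (σ : Equiv.Perm (Fin 6)).IsThreeCycle)
    (hασ : ((α σ : A6) : Equiv.Perm (Fin 6)).IsThreeCycle) (i : Fin 6) :
    ∃ j : Fin 6, ∀ g : A6, (g : Equiv.Perm (Fin 6)) i = i ↔ ((α g : A6) : Equiv.Perm (Fin 6)) j = j := by
  obtain ⟨j, hj⟩ := stab_map_five hσ hασ
  obtain ⟨u, hu, hui⟩ := exists_perm_map_five i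
  obtain ⟨w, hw⟩ : ∃ w : A6, (w : Equiv.Perm (Fin 6)) = u := ⟨⟨u, Equiv.Perm.mem_alternatingGroup.2 hu⟩, rfl⟩
  refine ⟨((α w : A6) : Equiv.Perm (Fin 6)) j, fun g => ?_⟩
  have hpt : ∀ (a b : A6) (p : Fin 6), ((b⁻¹ * a * b : A6) : Equiv.Perm (Fin 6)) p = p ↔
      (a : Equiv.Perm (Fin 6)) ((b : Equiv.Perm (Fin 6)) p) = (b : Equiv.Perm (Fin 6)) p := fun a b p => by
    rw [Subgroup.coe_mul, Subgroup.coe_mul, Subgroup.coe_inv, Equiv.Perm.mul_apply, Equiv.Perm.mul_apply,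
      Equiv.Perm.inv_def, Equiv.symm_apply_eq]
  rw [← hpt (α g) (α w) j, ← map_inv, ← map_mul, ← map_mul, ← hj, hpt, hw, hui]

theorem exists_outer : ∃ ψ : A6 ≃* A6, ∀ τ : A6, orderOf τ = 3 →
    ¬ (τ : Equiv.Perm (Fin 6)).IsThreeCycle → ((ψ τ : A6) : Equiv.Perm (Fin 6)).IsThreeCycle := by
  classical
  obtain ⟨H, hH, htr⟩ := Cfsg.Agent.S5912.exists_transitive (Ω := Fin 6) rfl
  obtain ⟨ψ, p, hp⟩ := Cfsg.Agent.S5912.exists_auto (Ω := Fin 6) rfl hH
  have hA : (alternatingGroup (Fin 6)).map ψ.toMonoidHom = alternatingGroup (Fin 6) := by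
    ext g
    rw [mem_map_equiv, Equiv.Perm.mem_alternatingGroup, Equiv.Perm.mem_alternatingGroup,
      Cfsg.Agent.S5912.sign_auto rfl]
  let ψA : A6 ≃* A6 := (ψ.subgroupMap (alternatingGroup (Fin 6))).trans (MulEquiv.subgroupCongr hA)
  have hψ : ∀ g : A6, ((ψA g : A6) : Equiv.Perm (Fin 6)) = ψ g := fun g => rfl
  refine ⟨ψA, fun τ ho hτ => ?_⟩
  have hct : ∀ ρ : A6, orderOf ρ = 3 → ¬ (ρ : Equiv.Perm (Fin 6)).IsThreeCycle →
      (ρ : Equiv.Perm (Fin 6)).cycleType = {3, 3} := by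
    intro ρ hρ hne
    obtain ⟨n, hn⟩ := Equiv.Perm.cycleType_prime_order (σ := (ρ : Equiv.Perm (Fin 6)))
      (by rw [Subgroup.orderOf_coe, hρ]; exact Nat.prime_three)
    rw [Subgroup.orderOf_coe, hρ] at hn
    have hs := (ρ : Equiv.Perm (Fin 6)).sum_cycleType
    have hc := (ρ : Equiv.Perm (Fin 6)).support.card_le_univ
    rw [Fintype.card_fin, ← hs, hn, Multiset.sum_replicate, smul_eq_mul] at hc
    rcases (by omega : n = 0 ∨ n = 1) with rfl | rfl
    · exact absurd (show (ρ : Equiv.Perm (Fin 6)).cycleType = {3} by rw [hn]; rfl) hne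
    · rw [hn]; rfl
  by_contra hno
  have h1 := hct τ ho hτ
  have h2 := hct (ψA τ) ((ψA.orderOf_eq τ).trans ho) hno
  -- then `ψ` maps three-cycles to three-cycles
  obtain ⟨σ, hσ⟩ : ∃ σ : A6, (σ : Equiv.Perm (Fin 6)) = cs :=
    ⟨⟨cs, Equiv.Perm.mem_alternatingGroup.2 cs_cr_facts.2.2.2.2.2.2.2.2.1⟩, rfl⟩
  have hσ3 : (σ : Equiv.Perm (Fin 6)).IsThreeCycle := card_support_eq_three_iff.1 (hσ ▸ cs_cr_facts.1)
  have hψσ : ((ψA σ : A6) : Equiv.Perm (Fin 6)).IsThreeCycle := by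
    by_contra h3
    have h4 := hct (ψA σ) ((ψA.orderOf_eq σ).trans (by rw [← Subgroup.orderOf_coe, hσ3.orderOf])) h3
    have h5 : IsConj ((ψA τ : A6) : Equiv.Perm (Fin 6)) ((ψA σ : A6) : Equiv.Perm (Fin 6)) :=
      Equiv.Perm.isConj_iff_cycleType_eq.2 (h2.trans h4.symm)
    rw [hψ, hψ] at h5
    have h6 := Equiv.Perm.isConj_iff_cycleType_eq.1 (ψ.symm.toMonoidHom.map_isConj h5)
    simp only [MulEquiv.coe_toMonoidHom, MulEquiv.symm_apply_apply] at h6
    exact hτ (h6.trans hσ3)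
  have hinv : ((ψA.symm (ψA σ) : A6) : Equiv.Perm (Fin 6)).IsThreeCycle := by rwa [ψA.symm_apply_apply]
  obtain ⟨j, hj⟩ := stab_map hψσ hinv p
  -- the transitive subgroup would normalise a point stabiliser
  obtain ⟨b, hb⟩ := exists_ne j
  obtain ⟨k, hk, hkb⟩ := htr j b
  obtain ⟨g, hg, hgj, hgb⟩ := stab_sep j b (Ne.symm hb)
  have hgH : g ∈ H := by
    have h7 := (hj (ψA ⟨g, Equiv.Perm.mem_alternatingGroup.2 hg⟩)).2 (by rw [ψA.symm_apply_apply]; exact hgj)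
    rw [hψ] at h7
    exact (hp g).2 h7
  have hgk : k⁻¹ * g * k ∈ H := mul_mem (mul_mem (inv_mem hk) hgH) hk
  have hsg : Equiv.Perm.sign (k⁻¹ * g * k) = 1 := by
    rw [map_mul, map_mul, map_inv, hg, mul_one, inv_mul_cancel]
  have h8 := (hj (ψA ⟨_, Equiv.Perm.mem_alternatingGroup.2 hsg⟩)).1 (by rw [hψ]; exact (hp _).1 hgk)
  rw [ψA.symm_apply_apply] at h8
  apply hgb
  have h9 : k⁻¹ (g (k j)) = j := h8
  rw [hkb, Equiv.Perm.inv_def, Equiv.symm_apply_eq, hkb] at h9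
  exact h9

theorem equiv_perm_six {G : Type*} [Group G] [Finite G] (N : Subgroup G) (hN : N.index = 2)
    (φ₀ : ↥N ≃* A6) (hcen : ∀ c : G, (∀ g : G, g * c = c * g) → c = 1) {t : G} (ht : t ∉ N)
    {h : ↥N} (ho : orderOf h = 3) (hth : t * (h : G) = (h : G) * t) :
    Nonempty (G ≃* Equiv.Perm (Fin 6)) := by
  classical
  haveI : N.Normal := normal_of_index_eq_two hN
  obtain ⟨φ, hφ⟩ : ∃ φ : ↥N ≃* A6, ((φ h : A6) : Equiv.Perm (Fin 6)).IsThreeCycle := by
    by_cases h3 : ((φ₀ h : A6) : Equiv.Perm (Fin 6)).IsThreeCycle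
    · exact ⟨φ₀, h3⟩
    · obtain ⟨ψ, hψ⟩ := exists_outer
      exact ⟨φ₀.trans ψ, hψ _ ((φ₀.orderOf_eq h).trans ho) h3⟩
  let Q : G → (Fin 6 → Fin 6) → Prop := fun g π =>
    ∀ (i : Fin 6) (n : ↥N), ((φ n : A6) : Equiv.Perm (Fin 6)) i = i ↔
      ((φ (MulAut.conjNormal g n) : A6) : Equiv.Perm (Fin 6)) (π i) = π i
  have hQN : ∀ m : ↥N, Q (m : G) fun i => ((φ m : A6) : Equiv.Perm (Fin 6)) i := by
    intro m i n
    have he : MulAut.conjNormal (m : G) n = m * n * m⁻¹ := Subtype.ext rfl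
    rw [he, map_mul, map_mul, map_inv, Subgroup.coe_mul, Subgroup.coe_mul, Subgroup.coe_inv,
      Equiv.Perm.mul_apply, Equiv.Perm.mul_apply, Equiv.Perm.inv_def, Equiv.symm_apply_apply,
      EmbeddingLike.apply_eq_iff_eq]
  have hQmul : ∀ g g' π π', Q g π → Q g' π' → Q (g * g') (π ∘ π') := by
    intro g g' π π' h1 h2 i n
    rw [h2 i n, h1 (π' i) (MulAut.conjNormal g' n), map_mul (MulAut.conjNormal : G →* MulAut ↥N)]
    rfl
  have hQt : ∃ π, Q t π := by
    have h1 := stab_map (α := (φ.symm.trans (MulAut.conjNormal t : ↥N ≃* ↥N)).trans φ) hφ (by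
      simp only [MulEquiv.trans_apply, MulEquiv.symm_apply_apply]
      rw [show (MulAut.conjNormal t : ↥N ≃* ↥N) h = h from Subtype.ext (by
        show t * (h : G) * t⁻¹ = h
        rw [hth, mul_inv_cancel_right])]
      exact hφ)
    choose π hπ using h1
    refine ⟨π, fun i n => ?_⟩
    have h2 := hπ i (φ n)
    simp only [MulEquiv.trans_apply, MulEquiv.symm_apply_apply] at h2
    exact h2
  have hQex : ∀ g, ∃ π, Q g π := by
    intro g
    by_cases hg : g ∈ N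
    · exact ⟨_, hQN ⟨g, hg⟩⟩
    · obtain ⟨π, hπ⟩ := hQt
      have hm : t⁻¹ * g ∈ N := (mul_mem_iff_of_index_two hN).2
        (iff_of_false (by rwa [inv_mem_iff]) hg)
      have := hQmul t (t⁻¹ * g) _ _ hπ (hQN ⟨_, hm⟩)
      rw [mul_inv_cancel_left] at this
      exact ⟨_, this⟩
  have huniq : ∀ g π π', Q g π → Q g π' → π = π' := by
    intro g π π' h1 h2
    funext i
    by_contra hne
    obtain ⟨σ, hσ, hσ1, hσ2⟩ := stab_sep _ _ hne
    obtain ⟨n, hn⟩ : ∃ n : ↥N, φ (MulAut.conjNormal g n) = ⟨σ, Equiv.Perm.mem_alternatingGroup.2 hσ⟩ :=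
      ⟨(MulAut.conjNormal g : ↥N ≃* ↥N).symm (φ.symm _), by rw [MulEquiv.apply_symm_apply, MulEquiv.apply_symm_apply]⟩
    have h3 := (h1 i n).2 (by rw [hn]; exact hσ1)
    have h4 := (h2 i n).1 h3
    rw [hn] at h4
    exact hσ2 h4
  choose Pf hPf using hQex
  let f : G →* Function.End (Fin 6) :=
    { toFun := fun g => Pf g
      map_one' := huniq 1 _ _ (hPf 1) fun i n => by rw [map_one]; rfl
      map_mul' := fun g g' => huniq (g * g') _ _ (hPf _) (hQmul g g' _ _ (hPf g) (hPf g')) }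
  have hfN : ∀ m : ↥N, Pf (m : G) = fun i => ((φ m : A6) : Equiv.Perm (Fin 6)) i := fun m =>
    huniq _ _ _ (hPf _) (hQN m)
  letI : MulAction G (Fin 6) := MulAction.compHom (Fin 6) f
  have hinj : Function.Injective (MulAction.toPermHom G (Fin 6)) := by
    rw [← MonoidHom.ker_eq_bot_iff, eq_bot_iff]
    intro c hc
    rw [MonoidHom.mem_ker] at hc
    have hKN : ∀ m ∈ (MulAction.toPermHom G (Fin 6)).ker, m ∈ N → m = 1 := by
      intro m hm hmN
      have h1 : φ ⟨m, hmN⟩ = 1 := Subtype.ext (Equiv.ext fun i => by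
        have h2 : Pf m i = i := DFunLike.congr_fun (MonoidHom.mem_ker.1 hm) i
        rw [hfN ⟨m, hmN⟩] at h2
        exact h2)
      exact congrArg Subtype.val (φ.injective (h1.trans (map_one φ).symm))
    have hcN : ∀ y ∈ N, y * c = c * y := fun y hy => by
      have h1 : y * c * y⁻¹ * c⁻¹ = 1 := hKN _
        (mul_mem ((MonoidHom.normal_ker _).conj_mem c (MonoidHom.mem_ker.2 hc) y) (inv_mem (MonoidHom.mem_ker.2 hc)))
        (by rw [mul_assoc y c, mul_assoc y (c * y⁻¹)]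
            exact mul_mem hy ((inferInstance : N.Normal).conj_mem _ (inv_mem hy) c))
      calc y * c = y * c * y⁻¹ * c⁻¹ * (c * y) := by group
        _ = c * y := by rw [h1, one_mul]
    rw [mem_bot]
    by_cases hc' : c ∈ N
    · exact hKN c (MonoidHom.mem_ker.2 hc) hc'
    · refine hcen c fun g => ?_
      by_cases hg : g ∈ N
      · exact hcN g hg
      · have hm : g * c⁻¹ ∈ N := (mul_mem_iff_of_index_two hN).2 (iff_of_false hg (by rwa [inv_mem_iff]))
        calc g * c = g * c⁻¹ * c * c := by group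
          _ = c * (g * c⁻¹) * c := by rw [hcN _ hm]
          _ = c * g := by group
  refine ⟨MulEquiv.ofBijective _ ((Nat.bijective_iff_injective_and_card _).2 ⟨hinj, ?_⟩)⟩
  have h1 := N.card_mul_index
  rw [hN, Nat.card_congr φ.toEquiv] at h1
  have h3 : Nat.card A6 * 2 = Nat.card (Equiv.Perm (Fin 6)) := by
    have := (alternatingGroup (Fin 6)).card_mul_index
    rwa [alternatingGroup.index_eq_two] at this
  rw [← h1, h3]

end CfsgLib.Perm.AutAltSix
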