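import Cfsg.Agent.Lib.Perm.TwoIndexNormal
import Cfsg.Agent.Lib.Solvable.FixedPointFree
import Cfsg.Agent.Lib.StructC.FrobKernel
import Cfsg.Agent.Lib.PGroup.CyclicIndex

/-!
If the two largest class sizes are coprime, the central quotient is a Frobenius group whose kernel and
complement are the images of abelian centralisers.
-/

set_option autoImplicit false

namespace CfsgLib.Perm.CoprimeTopClasses

open Subgroup CfsgLib.StructC.ClassCoprime CfsgLib.Perm.CountingComplement
open CfsgLib.Perm.TwoIndexNormal (cent_zpowers_le mem_zpowers_mul)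
open CfsgLib.Perm.SquarefreeClasses (commHom commHom_mem_ker_iff)
open scoped Pointwise

universe u

variable (G : Type u) [Group G] [Finite G]

/-- `m > n > 1` are coprime and are the two largest class sizes. -/
structure Hyp (m n : ℕ) : Prop where
  lt : n < m
  one_lt : 1 < n
  cop : m.Coprime n
  top : ∀ z : G, cs z ≤ m
  sec : ∀ z : G, cs z < m → cs z ≤ n

variable {G}

theorem cs_pos (g : G) : 0 < cs g := Nat.pos_of_ne_zero index_ne_zero_of_finite

theorem le_cs_mul {a b : G} (h : (cs a).Coprime (cs b)) : cs b ≤ cs (a * b) := by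
  rw [← ncard_cl b, ← ncard_cl (a * b), ← Set.ncard_smul_set a (cl b)]
  refine Set.ncard_le_ncard ?_
  rintro _ ⟨b', hb', rfl⟩
  exact mul_mem_cl h (mem_cl_self a) hb'

omit [Finite G] in
theorem cs_dvd_of_cent_le {a b : G}
    (h : centralizer ({a} : Set G) ≤ centralizer ({b} : Set G)) : cs b ∣ cs a :=
  index_dvd_of_le h

theorem cent_eq_of_cs_le {a b : G} (h : centralizer ({a} : Set G) ≤ centralizer ({b} : Set G))
    (hc : cs a ≤ cs b) : centralizer ({a} : Set G) = centralizer ({b} : Set G) := by
  refine eq_of_le_of_card_ge h ?_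
  refine Nat.le_of_mul_le_mul_right ?_ (cs_pos b)
  rw [card_mul_index, ← (centralizer ({a} : Set G)).card_mul_index]
  exact Nat.mul_le_mul_left _ hc

theorem eq_one_of_comm_card {a : G} (h : Nat.card (comm a) = 1) : a ∈ center G := by
  refine mem_center_iff.2 fun g => ?_
  have := mem_comm a g
  rw [Subgroup.card_eq_one.1 h, mem_bot, inv_mul_eq_one] at this
  exact eq_mul_inv_iff_mul_eq.1 this |>.symm

/-- A prime divisor of a relative index gives an element of prime power order outside. -/
theorem exists_primary_not_mem {A B : Subgroup G} {q : ℕ} [hq : Fact q.Prime]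
    (h : q ∣ B.relIndex A) : ∃ w ∈ A, w ∉ B ∧ ∃ i : ℕ, w ^ q ^ i = 1 := by
  by_contra hno
  obtain ⟨P⟩ := (inferInstance : Nonempty (Sylow q A))
  have hle : (P : Subgroup A) ≤ B.subgroupOf A := fun w hw => by
    by_contra hwB
    obtain ⟨i, hi⟩ := P.isPGroup' ⟨w, hw⟩
    exact hno ⟨w, w.2, fun e => hwB (mem_subgroupOf.2 e), i,
      congrArg (fun z : (P : Subgroup A) => ((z : A) : G)) hi⟩
  have hd := card_dvd_of_le hle
  rw [P.card_eq_multiplicity, ← (B.subgroupOf A).card_mul_index,
    Nat.factorization_mul Nat.card_pos.ne' index_ne_zero_of_finite, Finsupp.add_apply,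
    hq.out.pow_dvd_iff_le_factorization Nat.card_pos.ne'] at hd
  have : 0 < (B.subgroupOf A).index.factorization q :=
    hq.out.factorization_pos_of_dvd index_ne_zero_of_finite h
  omega

theorem relIndex_cent {a b : G} (h : (cs a).Coprime (cs b)) :
    (centralizer ({a} : Set G)).relIndex (centralizer ({b} : Set G)) = cs a := by
  have h1 : cs a * cs b ∣ (centralizer ({a} : Set G) ⊓ centralizer ({b} : Set G)).index :=
    h.mul_dvd_of_dvd_of_dvd (index_dvd_of_le inf_le_left) (index_dvd_of_le inf_le_right)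
  have h2 := le_antisymm index_inf_le (Nat.le_of_dvd (Nat.pos_of_ne_zero index_ne_zero_of_finite) h1)
  have h4 := relIndex_mul_index (inf_le_right : centralizer ({a} : Set G) ⊓ centralizer ({b} : Set G) ≤ _)
  rw [h2, inf_relIndex_right] at h4
  exact mul_right_cancel₀ index_ne_zero_of_finite h4

variable {m n : ℕ}

theorem cop_of {a : G} (hcop : m.Coprime n) (ha : cs a ∣ n) : (cs a).Coprime m :=
  (hcop.coprime_dvd_right ha).symm

/-- `[a, G]` has order dividing `m`. -/
theorem comm_card_dvd (h : Hyp G m n) {a : G} (ha : (cs a).Coprime m) {y : G} (hy : cs y = m) :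
    Nat.card (comm a) ∣ m := by
  have hc : (cs a).Coprime (cs y) := by rwa [hy]
  have heq : cs (a * y) = cs y := le_antisymm (hy.symm ▸ h.top _) (le_cs_mul hc)
  exact (card_dvd_of_le (comm_le_stab hc heq)).trans (by rw [← hy, ← ncard_cl y]; exact card_stab_dvd _)

theorem comm_le_cent (h : Hyp G m n) {a : G} (ha : (cs a).Coprime m) {y : G} (hy : cs y = m) :
    comm a ≤ centralizer ({a} : Set G) :=
  haveI := comm_normal a
  le_cent_of_coprime ((ha.coprime_dvd_right (comm_card_dvd h ha hy)).symm)

/-- Class sizes coprime to `n` are `1` or `m`. -/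
theorem central_of_coprime (h : Hyp G m n) {x : G} (hx : cs x = n) {y : G} (hy : cs y = m) {b : G}
    (hb : (cs b).Coprime n) (hlt : cs b < m) : b ∈ center G := by
  have hc : (cs b).Coprime (cs x) := by rwa [hx]
  have hne : cs (b * x) ≠ m := fun e => by
    have h1 := cs_mul_dvd hc
    rw [e, hx] at h1
    exact not_le.2 hlt (Nat.le_of_dvd (cs_pos b) (h.cop.dvd_of_dvd_mul_right h1))
  have heq : cs (b * x) = cs x := le_antisymm
    (hx.symm ▸ h.sec _ (lt_of_le_of_ne (h.top _) hne)) (le_cs_mul hc)
  have hst := comm_le_stab hc heq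
  have hle : comm b ≤ comm x := fun l hl => by
    have h1 : l • x ∈ l • cl x := Set.smul_mem_smul_set (mem_cl_self x)
    rw [MulAction.mem_stabilizer_iff.1 (hst hl)] at h1
    obtain ⟨g, hg⟩ := h1
    have h2 := (comm_normal x).conj_mem _ (mem_comm x g) x
    have e : x * (x⁻¹ * (g * x * g⁻¹)) * x⁻¹ = l := by
      rw [show g * x * g⁻¹ = l * x from hg]; group
    exact e ▸ h2
  refine eq_one_of_comm_card (Nat.eq_one_of_dvd_coprimes h.cop
    ((card_dvd_of_le hle).trans (comm_card_dvd h (cop_of h.cop hx.dvd) hy)) ?_)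
  exact (card_dvd_of_le hst).trans (by rw [← hx, ← ncard_cl x]; exact card_stab_dvd _)

theorem cs_eq_m_of_dvd (h : Hyp G m n) {x : G} (hx : cs x = n) {y : G} (hy : cs y = m) {v : G}
    (hv : cs v ∣ m) (hvc : v ∉ center G) : cs v = m := by
  by_contra hne
  exact hvc (central_of_coprime h hx hy (h.cop.coprime_dvd_left hv) (lt_of_le_of_ne (h.top _) hne))

theorem cent_eq_top_size (h : Hyp G m n) {x : G} (hx : cs x = n) {y : G} (hy : cs y = m) {v : G}
    (hle : centralizer ({y} : Set G) ≤ centralizer ({v} : Set G)) (hvc : v ∉ center G) :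
    centralizer ({v} : Set G) = centralizer ({y} : Set G) :=
  (cent_eq_of_cs_le hle
    (hy.trans_le (cs_eq_m_of_dvd h hx hy (hy ▸ cs_dvd_of_cent_le hle) hvc).ge)).symm

/-- A `p`-element of class size coprime to `m`, `p ∤ m`, is central. -/
theorem central_of_pelement (h : Hyp G m n) {y : G} (hy : cs y = m) {p : ℕ} (hp : p.Prime)
    (hpm : ¬ p ∣ m) {a : G} (ha : (cs a).Coprime m) {k : ℕ} (hak : a ^ p ^ k = 1) : a ∈ center G := by
  refine mem_center_iff.2 fun g => ?_
  have hl := mem_comm a g
  have hcm : Commute a (a⁻¹ * (g * a * g⁻¹)) :=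
    (mem_centralizer_singleton_iff.1 (comm_le_cent h ha hy hl)).symm
  have h1 : (a⁻¹ * (g * a * g⁻¹)) ^ p ^ k = 1 := by
    have h2 : (a * (a⁻¹ * (g * a * g⁻¹))) ^ p ^ k = 1 := by
      rw [mul_inv_cancel_left, conj_pow, hak, mul_one, mul_inv_cancel]
    rwa [hcm.mul_pow, hak, one_mul] at h2
  have h2 : orderOf (a⁻¹ * (g * a * g⁻¹)) ∣ m :=
    ((comm a).orderOf_dvd_natCard hl).trans (comm_card_dvd h ha hy)
  have h3 := orderOf_eq_one_iff.1 (Nat.eq_one_of_dvd_coprimes
    (((Nat.Prime.coprime_iff_not_dvd hp).2 hpm).pow_left k) (orderOf_dvd_of_pow_eq_one h1) h2)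
  rw [inv_mul_eq_one] at h3
  exact (eq_mul_inv_iff_mul_eq.1 h3).symm

/-- The centraliser of a primary element of top class is centralised by its `r'`-part. -/
theorem cent_le_of_coprime (h : Hyp G m n) {y : G} (hy : cs y = m) {w : G}
    (hw : w ∈ centralizer ({y} : Set G)) (hco : (orderOf y).Coprime (orderOf w)) :
    centralizer ({y} : Set G) ≤ centralizer ({w} : Set G) := by
  have hc : Commute y w := (mem_centralizer_singleton_iff.1 hw).symm
  have h1 := cent_zpowers_le (mem_zpowers_mul hc hco)
  have h2 := cent_eq_of_cs_le h1 (hy.symm ▸ h.top _)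
  rw [← h2]
  exact cent_zpowers_le (by rw [hc.eq]; exact mem_zpowers_mul hc.symm hco.symm)

/-- Each element of top class has a primary power with the same centraliser. -/
theorem exists_primary_top (h : Hyp G m n) {x : G} (hx : cs x = n) {y : G} (hy : cs y = m) :
    ∃ y0 : G, cs y0 = m ∧ centralizer ({y0} : Set G) = centralizer ({y} : Set G) ∧
      ∃ r i : ℕ, r.Prime ∧ orderOf y0 = r ^ i := by
  have hyc : y ∉ center G := fun e => by
    have := hy.symm.trans (cs_eq_one_iff.2 e); have := h.lt; have := h.one_lt; omega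
  obtain ⟨v, hv, hvc, r, i, hr, hvi⟩ := TwoIndexNormal.exists_primary hyc
  have he := cent_eq_top_size h hx hy (cent_zpowers_le hv) hvc
  exact ⟨v, by rw [cs, he]; exact hy, he, r, i, hr, hvi⟩

theorem coprime_orders {r s i j : ℕ} (hr : r.Prime) (hs : s.Prime) (hne : r ≠ s) {a b : G}
    (ha : orderOf a ∣ r ^ i) (hb : orderOf b ∣ s ^ j) : (orderOf a).Coprime (orderOf b) :=
  Nat.Coprime.coprime_dvd_left ha (Nat.Coprime.coprime_dvd_right hb
    (((Nat.coprime_primes hr hs).2 hne).pow i j))

/-- Elements of the two top classes never commute. -/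
theorem not_commute (h : Hyp G m n) {x : G} (hx : cs x = n) {y : G} (hy : cs y = m) :
    x ∉ centralizer ({y} : Set G) := by
  intro hxy
  obtain ⟨y0, hy0, hC, r, i, hr, hyi⟩ := exists_primary_top h hx hy
  rw [← hC] at hxy
  have hxc : x ∉ center G := fun e => by
    have := hx.symm.trans (cs_eq_one_iff.2 e); have := h.one_lt; omega
  obtain ⟨v, hv, hvc, s, j, hs, hvj⟩ := TwoIndexNormal.exists_primary hxc
  have hvn : cs v ∣ n := hx ▸ cs_dvd_of_cent_le (cent_zpowers_le hv)
  have hsr : s = r := by
    by_contra hne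
    have hle := cent_le_of_coprime h hy0 (zpowers_le.2 hxy hv)
      (coprime_orders hr hs (Ne.symm hne) hyi.dvd hvj.dvd)
    have := cs_eq_m_of_dvd h hx hy (hy0 ▸ cs_dvd_of_cent_le hle) hvc
    rw [this] at hvn
    have := Nat.le_of_dvd (by have := h.one_lt; omega) hvn
    have := h.lt
    omega
  subst hsr
  have hrm : s ∣ m := by
    by_contra hd
    exact hvc (central_of_pelement h hy hs hd (cop_of h.cop hvn) (hvj ▸ pow_orderOf_eq_one v))
  obtain ⟨q, hq, hqn⟩ := Nat.exists_prime_and_dvd h.one_lt.ne'
  have hqs : q ≠ s := fun e => hs.not_dvd_one (h.cop ▸ Nat.dvd_gcd hrm (e ▸ hqn))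
  haveI := Fact.mk hq
  have hri : (centralizer ({x} : Set G)).relIndex (centralizer ({y0} : Set G)) = n := by
    rw [relIndex_cent (by rw [hx, hy0]; exact h.cop.symm), hx]
  obtain ⟨w, hw, hwx, l, hl⟩ := exists_primary_not_mem (hri.symm ▸ hqn :
    q ∣ (centralizer ({x} : Set G)).relIndex (centralizer ({y0} : Set G)))
  have hle := cent_le_of_coprime h hy0 hw
    (coprime_orders hs hq (Ne.symm hqs) hyi.dvd (orderOf_dvd_of_pow_eq_one hl))
  exact hwx (mem_centralizer_singleton_iff.2 (mem_centralizer_singleton_iff.1 (hle hxy)).symm)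

/-- The centralisers of elements of the two top classes meet in the centre. -/
theorem inf_le_center (h : Hyp G m n) {x : G} (hx : cs x = n) {y : G} (hy : cs y = m) :
    centralizer ({x} : Set G) ⊓ centralizer ({y} : Set G) ≤ center G := by
  obtain ⟨y0, hy0, hC, r, i, hr, hyi⟩ := exists_primary_top h hx hy
  haveI := Fact.mk hr
  intro d hd
  refine mem_of_primary fun k s hs ⟨j, hj⟩ => ?_
  have hdk := pow_mem hd k
  rw [← hC] at hdk
  generalize d ^ k = e at hdk hj ⊢
  by_contra hec
  have hcomm : cs e ≠ m := fun he => not_commute h hx he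
    (mem_centralizer_singleton_iff.2 (mem_centralizer_singleton_iff.1 hdk.1).symm)
  by_cases hsr : s = r
  · subst hsr
    by_cases hrn : s ∣ n
    · have hrm : ¬ s ∣ m := fun hd' => hs.not_dvd_one (h.cop ▸ Nat.dvd_gcd hd' hrn)
      obtain ⟨a, b, l, hab, ha, hb, hac, hbl⟩ := exists_parts s x
      have hbn : cs b ∣ n := hx ▸ cs_dvd_of_cent_le (cent_zpowers_le hb)
      have hbc := central_of_pelement h hy hs hrm (cop_of h.cop hbn) hbl
      have hCa : centralizer ({a} : Set G) = centralizer ({x} : Set G) := by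
        refine le_antisymm (fun g hg => ?_) (cent_zpowers_le ha)
        rw [mem_centralizer_singleton_iff] at hg ⊢
        rw [hab, ← mul_assoc, hg, mul_assoc, mem_center_iff.1 hbc g, mul_assoc]
      have han : cs a = n := by rw [cs, hCa]; exact hx
      have hea : Commute a e := (mem_centralizer_singleton_iff.1 (hCa.symm ▸ hdk.1)).symm
      have hco : (orderOf a).Coprime (orderOf e) := hj ▸ (hac.pow_right j)
      have h1 := cent_zpowers_le (mem_zpowers_mul hea hco)
      have h2 : cs (a * e) ≠ m := fun he => by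
        have := cs_dvd_of_cent_le h1
        rw [he, han] at this
        have := Nat.eq_one_of_dvd_coprimes h.cop this dvd_rfl
        have := h.one_lt
        omega
      have h3 := cent_eq_of_cs_le h1 (han.symm ▸ h.sec _ (lt_of_le_of_ne (h.top _) h2))
      have h4 : centralizer ({a} : Set G) ≤ centralizer ({e} : Set G) := by
        rw [← h3]; exact cent_zpowers_le (by rw [hea.eq]; exact mem_zpowers_mul hea.symm hco.symm)
      exact hec (central_of_pelement h hy hs hrm (cop_of h.cop (han ▸ cs_dvd_of_cent_le h4))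
        (hj ▸ pow_orderOf_eq_one e))
    · refine hec (central_of_coprime h hx hy ?_ (lt_of_le_of_ne (h.top _) hcomm))
      refine Nat.coprime_of_dvd fun q hq hqd hqn => ?_
      haveI := Fact.mk hq
      have hqs : q ≠ s := fun e' => hrn (e' ▸ hqn)
      obtain ⟨P⟩ := (inferInstance : Nonempty (Sylow q ↥(centralizer ({y0} : Set G))))
      have hPle : (P : Subgroup _).map (centralizer ({y0} : Set G)).subtype
          ≤ centralizer ({e} : Set G) := by
        rintro _ ⟨w, hw, rfl⟩
        obtain ⟨l, hl⟩ := P.isPGroup' ⟨w, hw⟩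
        have hl' : (w : G) ^ q ^ l = 1 :=
          congrArg (fun z : (P : Subgroup ↥(centralizer ({y0} : Set G))) => ((z : ↥(centralizer ({y0} : Set G))) : G)) hl
        have hle := cent_le_of_coprime h hy0 w.2
          (coprime_orders hs hq (Ne.symm hqs) hyi.dvd (orderOf_dvd_of_pow_eq_one hl'))
        exact mem_centralizer_singleton_iff.2 (mem_centralizer_singleton_iff.1 (hle hdk.2)).symm
      have h1 := card_dvd_of_le hPle
      rw [card_map_of_injective (centralizer ({y0} : Set G)).subtype_injective, P.card_eq_multiplicity,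
        hq.pow_dvd_iff_le_factorization Nat.card_pos.ne'] at h1
      have h2 := congrArg (fun N => N.factorization q)
        ((centralizer ({y0} : Set G)).card_mul_index.trans (centralizer ({e} : Set G)).card_mul_index.symm)
      simp only [Nat.factorization_mul Nat.card_pos.ne' index_ne_zero_of_finite, Finsupp.add_apply] at h2
      rw [show (centralizer ({y0} : Set G)).index = m from hy0, Nat.factorization_eq_zero_of_not_dvd (n := m) (p := q)
        (fun hqm => hq.not_dvd_one (h.cop ▸ Nat.dvd_gcd hqm hqn)), add_zero] at h2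
      have h3 := hq.factorization_pos_of_dvd index_ne_zero_of_finite hqd
      omega
  · have hle := cent_le_of_coprime h hy0 hdk.2
      (coprime_orders hr hs (Ne.symm hsr) hyi.dvd hj.dvd)
    exact hcomm (cs_eq_m_of_dvd h hx hy (hy0 ▸ cs_dvd_of_cent_le hle) hec)

theorem card_cent_mul (h : Hyp G m n) {x : G} (hx : cs x = n) {y : G} (hy : cs y = m) :
    (center G).relIndex (centralizer ({y} : Set G)) = n := by
  have e : centralizer ({x} : Set G) ⊓ centralizer ({y} : Set G) = center G :=
    le_antisymm (inf_le_center h hx hy) (le_inf (center_le_cent x) (center_le_cent y))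
  rw [← e, inf_relIndex_right, relIndex_cent (by rw [hx, hy]; exact h.cop.symm), hx]

end CfsgLib.Perm.CoprimeTopClasses
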