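import Cfsg.Agent.Lib.Perm.CoprimeTopClasses

/-!
Two largest class sizes coprime: abelian centralisers and the Frobenius structure of the central quotient.
-/

set_option autoImplicit false

namespace CfsgLib.Perm.CoprimeTopClasses

open Subgroup CfsgLib.StructC.ClassCoprime CfsgLib.Perm.CountingComplement
open CfsgLib.Perm.TwoIndexNormal (cent_zpowers_le mem_zpowers_mul)
open CfsgLib.Perm.SquarefreeClasses (commHom commHom_mem_ker_iff)
open scoped Pointwise

universe u

variable {G : Type u} [Group G] [Finite G] {m n : ℕ}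

theorem comm_isMulCommutative (h : Hyp G m n) {x : G} (hx : cs x = n) {y : G} (hy : cs y = m) :
    IsMulCommutative ↥(comm x) := by
  have hL := comm_le_cent h (cop_of h.cop hx.dvd) hy
  haveI := comm_normal x
  have hconj : ∀ g : G, ∀ l ∈ comm x, Commute l (g * x * g⁻¹) := fun g l hl => by
    have h1 : Commute (g⁻¹ * l * g) x := mem_centralizer_singleton_iff.1
      (hL (by simpa using (inferInstance : (comm x).Normal).conj_mem l hl g⁻¹))
    calc l * (g * x * g⁻¹) = g * ((g⁻¹ * l * g) * x) * g⁻¹ := by group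
      _ = g * (x * (g⁻¹ * l * g)) * g⁻¹ := by rw [h1.eq]
      _ = g * x * g⁻¹ * l := by group
  refine ⟨⟨fun a b => Subtype.ext ?_⟩⟩
  have hle : comm x ≤ centralizer ({(a : G)} : Set G) := by
    conv_lhs => rw [CfsgLib.StructC.ClassCoprime.comm]
    rw [closure_le]
    rintro _ ⟨g, rfl⟩
    refine mem_centralizer_singleton_iff.2 ?_
    exact ((Commute.inv_right (show Commute (a : G) x from mem_centralizer_singleton_iff.1 (hL a.2))).mul_right
      (hconj g a a.2)).eq.symm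
  exact (mem_centralizer_singleton_iff.1 (hle b.2)).symm

/-- An element of `[x, G]` fixed by no noncentral element of `C(y)`. -/
theorem exists_free (h : Hyp G m n) {x : G} (hx : cs x = n) {y : G} (hy : cs y = m) :
    ∃ l ∈ comm x, ∀ g ∈ centralizer ({y} : Set G), Commute g l → g ∈ center G := by
  haveI := comm_normal x
  haveI := comm_isMulCommutative h hx hy
  letI : CommGroup ↥(comm x) := IsMulCommutative.instCommGroup
  obtain ⟨H, hH⟩ : ∃ H, H = centralizer ({y} : Set G) := ⟨_, rfl⟩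
  haveI : ((center G).subgroupOf H).Normal := inferInstance
  let Q := ↥H ⧸ (center G).subgroupOf H
  letI := Fintype.ofFinite Q
  have hQ : Nat.card Q = n := by
    rw [← index_eq_card]
    exact hH ▸ card_cent_mul h hx hy
  let c : ↥H → ↥(comm x) := fun g => ⟨x⁻¹ * ((g : G) * x * (g : G)⁻¹), mem_comm x g⟩
  let cq : Q → ↥(comm x) := Quotient.lift c fun a b hab => Subtype.ext (by
    have h1 : (a : G)⁻¹ * b ∈ center G := mem_subgroupOf.1 (QuotientGroup.leftRel_apply.1 hab)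
    obtain ⟨z, hz, hb⟩ : ∃ z ∈ center G, (b : G) = a * z := ⟨_, h1, by group⟩
    show x⁻¹ * ((a : G) * x * (a : G)⁻¹) = x⁻¹ * ((b : G) * x * (b : G)⁻¹)
    rw [hb, mul_inv_rev, mul_assoc (a : G) z x, ← mem_center_iff.1 hz x]
    group)
  obtain ⟨P, hP⟩ : ∃ P : ↥(comm x), P = ∏ q : Q, cq q := ⟨_, rfl⟩
  refine ⟨P, P.2, fun g hg hgl => ?_⟩
  subst hP
  obtain ⟨g', hg'⟩ : ∃ g' : ↥H, (g' : G) = g := ⟨⟨g, hH ▸ hg⟩, rfl⟩
  have hterm : ∀ q : Q, MulAut.conjNormal g (cq q) = (c g')⁻¹ * cq ((QuotientGroup.mk g' : Q) * q) := by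
    intro q
    induction q using QuotientGroup.induction_on with
    | _ a =>
      refine Subtype.ext ?_
      rw [MulAut.conjNormal_apply]
      show g * (x⁻¹ * ((a : G) * x * (a : G)⁻¹)) * g⁻¹ = (x⁻¹ * ((g' : G) * x * (g' : G)⁻¹))⁻¹ *
        (x⁻¹ * ((g' : G) * (a : G) * x * ((g' : G) * (a : G))⁻¹))
      rw [hg']; group
  have hfix : MulAut.conjNormal g (∏ q, cq q) = ∏ q, cq q := Subtype.ext (by
    rw [MulAut.conjNormal_apply, hgl.eq, mul_inv_cancel_right])
  rw [map_prod, Finset.prod_congr rfl (fun q _ => hterm q), Finset.prod_mul_distrib,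
    Finset.prod_const, Finset.card_univ, ← Nat.card_eq_fintype_card, hQ,
    Fintype.prod_equiv (Equiv.mulLeft (QuotientGroup.mk g' : Q))
      (fun q => cq (QuotientGroup.mk g' * q)) cq (fun q => rfl), mul_eq_right, inv_pow, inv_eq_one] at hfix
  have h1 : c g' = 1 := orderOf_eq_one_iff.1 (Nat.eq_one_of_dvd_coprimes h.cop
    ((_root_.orderOf_dvd_natCard _).trans (comm_card_dvd h (cop_of h.cop hx.dvd) hy))
    (orderOf_dvd_of_pow_eq_one hfix))
  refine inf_le_center h hx hy ⟨mem_centralizer_singleton_iff.2 ?_, hg⟩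
  have h2 : x⁻¹ * ((g' : G) * x * (g' : G)⁻¹) = 1 := congrArg Subtype.val h1
  rw [hg', inv_mul_eq_one] at h2
  exact (eq_mul_inv_iff_mul_eq.1 h2).symm

/-- The image of `u`-commutation meets the fixed points trivially. -/
theorem eq_one_of_fix {L : Subgroup G} {r i : ℕ} (hr : r.Prime) (hrL : ¬ r ∣ Nat.card L) {u a z : G}
    (hu : u ^ r ^ i = 1) (hz : z ∈ L) (huz : Commute u z) (ha : u * a * u⁻¹ = z * a) : z = 1 := by
  have key : ∀ j : ℕ, u ^ j * a * (u ^ j)⁻¹ = z ^ j * a := by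
    intro j
    induction j with
    | zero => simp
    | succ j ih =>
      calc u ^ (j + 1) * a * (u ^ (j + 1))⁻¹ = u * (u ^ j * a * (u ^ j)⁻¹) * u⁻¹ := by
            rw [pow_succ']; group
        _ = u * z ^ j * a * u⁻¹ := by rw [ih]; group
        _ = z ^ j * (u * a * u⁻¹) := by rw [(huz.pow_right j).eq]; group
        _ = z ^ (j + 1) * a := by rw [ha, pow_succ, mul_assoc]
  have h1 := key (r ^ i)
  rw [hu, one_mul, inv_one, mul_one, eq_comm, mul_eq_right] at h1
  exact orderOf_eq_one_iff.1 (Nat.eq_one_of_dvd_coprimes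
    (((Nat.Prime.coprime_iff_not_dvd hr).2 hrL).pow_left i) (orderOf_dvd_of_pow_eq_one h1)
    (L.orderOf_dvd_natCard hz))

/-- Decomposition of an element of a coprime abelian normal subgroup. -/
theorem decompose {L : Subgroup G} [L.Normal] [IsMulCommutative L] {r i : ℕ} (hr : r.Prime)
    (hrL : ¬ r ∣ Nat.card L) {u : G} (hu : u ^ r ^ i = 1) (l : L) :
    ∃ k w : L, l = k * w ∧ Commute u (k : G) ∧ w ∈ (commHom L u).range := by
  obtain ⟨φ, hφ⟩ : ∃ φ, φ = commHom L u := ⟨_, rfl⟩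
  have hinj : ∀ w ∈ φ.range, φ w = 1 → w = 1 := by
    rintro _ ⟨a, rfl⟩ hw
    have hcm : Commute u ((φ a : L) : G) := (commHom_mem_ker_iff L u (φ a)).1 (hφ ▸ (show φ (φ a) = 1 from hw))
    refine Subtype.ext (eq_one_of_fix hr hrL hu (φ a).2 hcm (a := (a : G)) ?_)
    rw [hφ]
    show u * a * u⁻¹ = u * a * u⁻¹ * (a : G)⁻¹ * a
    rw [inv_mul_cancel_right]
  let f : φ.range → φ.range := fun w => ⟨φ w, ⟨w, rfl⟩⟩
  have hf : Function.Injective f := fun a b e => by
    have e' : φ (a : L) = φ b := congrArg Subtype.val e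
    exact Subtype.ext (mul_inv_eq_one.1 (hinj _ (mul_mem a.2 (inv_mem b.2))
      (by rw [map_mul, map_inv, e', mul_inv_cancel])))
  obtain ⟨⟨w, hw⟩, hwl⟩ := Finite.injective_iff_surjective.1 hf ⟨φ l, ⟨l, rfl⟩⟩
  refine ⟨l * w⁻¹, w, by rw [inv_mul_cancel_right], ?_, hφ ▸ hw⟩
  refine (commHom_mem_ker_iff L u _).1 (hφ ▸ ?_)
  rw [MonoidHom.mem_ker, map_mul, map_inv, show φ w = φ l from congrArg Subtype.val hwl, mul_inv_cancel]

/-- The orbit count: some `k` fixed by `u` has `cs (u * k) > n`. -/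
theorem exists_lt_cs (h : Hyp G m n) {x : G} (hx : cs x = n) {y : G} (hy : cs y = m) {r i : ℕ} (hr : r.Prime)
    (hrm : ¬ r ∣ m) {u : G} (hu : u ∈ centralizer ({y} : Set G)) (huc : u ∉ center G)
    (hui : u ^ r ^ i = 1) :
    ∃ k ∈ comm x, Commute u k ∧ n < cs (u * k) ∧
      (k ∈ center G → ∀ l ∈ comm x, Commute u l → l ∈ center G) := by
  haveI := comm_normal x
  haveI := comm_isMulCommutative h hx hy
  obtain ⟨L, hL⟩ : ∃ L, L = comm x := ⟨_, rfl⟩
  have hLm : Nat.card L ∣ m := hL ▸ comm_card_dvd h (cop_of h.cop hx.dvd) hy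
  have hLx : L ≤ centralizer ({x} : Set G) := hL ▸ comm_le_cent h (cop_of h.cop hx.dvd) hy
  haveI : L.Normal := hL ▸ comm_normal x
  haveI : IsMulCommutative L := hL ▸ comm_isMulCommutative h hx hy
  have hrL : ¬ r ∣ Nat.card L := fun hd => hrm (hd.trans hLm)
  have hLc : ∀ a ∈ L, ∀ b ∈ L, Commute a b := fun a ha b hb =>
    congrArg Subtype.val (IsMulCommutative.is_comm.comm (⟨a, ha⟩ : L) ⟨b, hb⟩)
  obtain ⟨l1, hl1, hfree⟩ := exists_free h hx hy
  rw [← hL] at hl1 ⊢
  obtain ⟨kk, w, hkw, hukk, hw⟩ := decompose hr hrL hui ⟨l1, hl1⟩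
  have hkw' : l1 = (kk : G) * w := congrArg Subtype.val hkw
  obtain ⟨φ, hφ⟩ : ∃ φ, φ = commHom L u := ⟨_, rfl⟩
  rw [← hφ] at hw
  -- choice of the fixed part
  obtain ⟨k, hk, huk, hkkk, hkall⟩ : ∃ k ∈ L, Commute u k ∧ (∀ g : G, Commute g k → Commute g (kk : G)) ∧
      (k ∈ center G → ∀ l ∈ L, Commute u l → l ∈ center G) := by
    by_cases hz : (kk : G) ∈ center G
    · by_cases h0 : ∃ k0 ∈ L, Commute u k0 ∧ k0 ∉ center G
      · obtain ⟨k0, h01, h02, h03⟩ := h0
        exact ⟨k0, h01, h02, fun g _ => mem_center_iff.1 hz g, fun e => absurd e h03⟩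
      · exact ⟨1, one_mem _, Commute.one_right u, fun g _ => mem_center_iff.1 hz g,
          fun _ l hl hul => by_contra fun e => h0 ⟨l, hl, hul, e⟩⟩
    · exact ⟨kk, kk.2, hukk, fun g hg => hg, fun e => absurd e hz⟩
  refine ⟨k, hk, huk, ?_, hkall⟩
  -- stabiliser
  obtain ⟨S, hS⟩ : ∃ S, S = centralizer ({y} : Set G) ⊓ centralizer ({u} : Set G) ⊓
      centralizer ({k} : Set G) ⊓ centralizer ({(kk : G)} : Set G) := ⟨_, rfl⟩
  have hmemS : ∀ g, g ∈ S ↔ g ∈ centralizer ({y} : Set G) ∧ Commute g u ∧ Commute g k ∧ Commute g (kk : G) := by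
    intro g
    simp only [hS, mem_inf, mem_centralizer_singleton_iff, and_assoc]
    exact Iff.rfl
  have huS : u ∈ S := (hmemS u).2 ⟨hu, Commute.refl u, huk, hukk⟩
  have hSw : ∀ g ∈ S, Commute g (w : G) → g ∈ center G := fun g hg hgw =>
    hfree g ((hmemS g).1 hg).1 (hkw' ▸ ((hmemS g).1 hg).2.2.2.mul_right hgw)
  have hw1 : w ≠ 1 := fun e => huc (hSw u huS (by rw [e]; exact Commute.one_right u))
  -- the orbit of `w`
  have horb : ∀ s ∈ S, MulAut.conjNormal s w ∈ φ.range := by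
    intro s hs
    obtain ⟨a, ha⟩ := hw
    refine ⟨MulAut.conjNormal s a, Subtype.ext ?_⟩
    rw [hφ] at ha ⊢
    rw [MulAut.conjNormal_apply, ← ha]
    show u * ((MulAut.conjNormal s a : L) : G) * u⁻¹ * ((MulAut.conjNormal s a : L) : G)⁻¹ =
      s * (u * a * u⁻¹ * (a : G)⁻¹) * s⁻¹
    rw [MulAut.conjNormal_apply]
    have hsu : s * u = u * s := ((hmemS s).1 hs).2.1
    calc u * (s * a * s⁻¹) * u⁻¹ * (s * a * s⁻¹)⁻¹
        = (u * s) * a * (u * s)⁻¹ * (s * (a : G)⁻¹ * s⁻¹) := by group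
      _ = (s * u) * a * (s * u)⁻¹ * (s * (a : G)⁻¹ * s⁻¹) := by rw [hsu]
      _ = s * (u * a * u⁻¹ * (a : G)⁻¹) * s⁻¹ := by group
  let e : ↥S ⧸ (center G).subgroupOf S → {v : φ.range // v ≠ 1} := Quotient.lift
    (fun s => ⟨⟨MulAut.conjNormal (s : G) w, horb s s.2⟩, fun e => hw1 (by
      have := congrArg Subtype.val e
      exact (MulEquiv.map_eq_one_iff _).1 this)⟩) fun a b hab => by
    have h1 : (a : G)⁻¹ * b ∈ center G := mem_subgroupOf.1 (QuotientGroup.leftRel_apply.1 hab)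
    refine Subtype.ext (Subtype.ext (Subtype.ext ?_))
    show ((MulAut.conjNormal (a : G) w : L) : G) = ((MulAut.conjNormal (b : G) w : L) : G)
    rw [MulAut.conjNormal_apply, MulAut.conjNormal_apply]
    calc (a : G) * w * (a : G)⁻¹ = a * ((w : G) * ((a : G)⁻¹ * b)) * (b : G)⁻¹ := by group
      _ = a * (((a : G)⁻¹ * b) * w) * (b : G)⁻¹ := by rw [mem_center_iff.1 h1 w]
      _ = b * w * (b : G)⁻¹ := by group
  have he : Function.Injective e := by
    rintro ⟨a⟩ ⟨b⟩ hab
    refine Quotient.sound' ?_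
    rw [QuotientGroup.leftRel_apply, mem_subgroupOf]
    refine hSw _ (mul_mem (inv_mem a.2) b.2) ?_
    have h1 : ((MulAut.conjNormal (a : G) w : L) : G) = ((MulAut.conjNormal (b : G) w : L) : G) :=
      congrArg (fun v : {v : φ.range // v ≠ 1} => ((v.1.1 : L) : G)) hab
    rw [MulAut.conjNormal_apply, MulAut.conjNormal_apply] at h1
    show (a : G)⁻¹ * b * w = w * ((a : G)⁻¹ * b)
    calc (a : G)⁻¹ * b * w = (a : G)⁻¹ * (b * w * (b : G)⁻¹) * b := by group
      _ = (a : G)⁻¹ * (a * w * (a : G)⁻¹) * b := by rw [h1]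
      _ = w * ((a : G)⁻¹ * b) := by group
  have hlt : (center G).relIndex S < Nat.card φ.range := by
    classical
    have := Fintype.ofFinite φ.range
    have h1 := Nat.card_le_card_of_injective e he
    rw [Nat.card_eq_fintype_card (α := {v : φ.range // v ≠ 1}), Fintype.card_subtype_compl,
      Fintype.card_subtype_eq, ← Nat.card_eq_fintype_card] at h1
    have hp : 0 < Nat.card φ.range := Nat.card_pos
    show Nat.card (↥S ⧸ (center G).subgroupOf S) < _
    omega
  -- cosets of the centraliser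
  obtain ⟨H, hH⟩ : ∃ H, H = centralizer ({y} : Set G) := ⟨_, rfl⟩
  have hSH : S ≤ H := fun g hg => hH ▸ ((hmemS g).1 hg).1
  let f : (↥H ⧸ S.subgroupOf H) × (↥L ⧸ φ.ker) → G ⧸ centralizer ({u * k} : Set G) := fun p =>
    QuotientGroup.mk ((p.1.out : G) * (p.2.out : G))
  have hf : Function.Injective f := by
    rintro ⟨b, a⟩ ⟨b', a'⟩ hab
    have h1 : ((b.out : G) * (a.out : G))⁻¹ * ((b'.out : G) * (a'.out : G)) ∈
        centralizer ({u * k} : Set G) := QuotientGroup.eq.1 hab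
    obtain ⟨s, hs⟩ : ∃ s, s = (b.out : G)⁻¹ * (b'.out : G) := ⟨_, rfl⟩
    obtain ⟨l, hl⟩ : ∃ l, l = s⁻¹ * (a.out : G)⁻¹ * s * (a'.out : G) := ⟨_, rfl⟩
    have hsH : s ∈ H := hs ▸ mul_mem (inv_mem b.out.2) b'.out.2
    have hlL : l ∈ L := hl ▸ mul_mem (by
      simpa using (inferInstance : L.Normal).conj_mem _ (inv_mem a.out.2) s⁻¹) a'.out.2
    have h2 : s * l ∈ centralizer ({u * k} : Set G) := by
      convert h1 using 1
      rw [hl, hs]; group
    have hco : (orderOf u).Coprime (orderOf k) :=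
      Nat.Coprime.coprime_dvd_left (orderOf_dvd_of_pow_eq_one hui)
        (Nat.Coprime.coprime_dvd_right ((L.orderOf_dvd_natCard hk).trans hLm)
          (((Nat.Prime.coprime_iff_not_dvd hr).2 hrm).pow_left i))
    have h3 : Commute (s * l) u :=
      mem_centralizer_singleton_iff.1 (cent_zpowers_le (mem_zpowers_mul huk hco) h2)
    have h3' : Commute (s * l) k := mem_centralizer_singleton_iff.1
      (cent_zpowers_le (by rw [huk.eq]; exact mem_zpowers_mul huk.symm hco.symm) h2)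
    have h4 : l * u * l⁻¹ * u⁻¹ ∈ H ⊓ L := by
      refine ⟨?_, ?_⟩
      · have huH : u ∈ H := hH ▸ hu
        have : l * u * l⁻¹ = s⁻¹ * u * s := by
          calc l * u * l⁻¹ = s⁻¹ * ((s * l) * u) * l⁻¹ := by group
            _ = s⁻¹ * (u * (s * l)) * l⁻¹ := by rw [h3.eq]
            _ = s⁻¹ * u * s := by group
        rw [this]
        exact H.mul_mem (H.mul_mem (H.mul_mem (H.inv_mem hsH) huH) hsH) (H.inv_mem huH)
      · rw [show l * u * l⁻¹ * u⁻¹ = l * (u * l⁻¹ * u⁻¹) by group]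
        exact mul_mem hlL ((inferInstance : L.Normal).conj_mem _ (inv_mem hlL) u)
    have h5 : l * u * l⁻¹ * u⁻¹ ∈ center G :=
      inf_le_center h hx hy ⟨hLx h4.2, hH ▸ h4.1⟩
    have h6 : l * u * l⁻¹ * u⁻¹ = 1 := by
      refine eq_one_of_fix hr hrL hui h4.2 (mem_center_iff.1 h5 u) (a := l⁻¹) ?_
      rw [← mem_center_iff.1 h5 l⁻¹]
      group
    have hlu : Commute u l := (mul_inv_eq_iff_eq_mul.1 (mul_inv_eq_one.1 h6)).symm
    have hsu : Commute s u := by
      have := h3.mul_left hlu.symm.inv_left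
      rwa [mul_inv_cancel_right] at this
    have hsk : Commute s k := by
      have := h3'.mul_left (hLc l hlL k hk).inv_left
      rwa [mul_inv_cancel_right] at this
    have hkk : Commute s (kk : G) := hkkk s hsk
    have hbb : b = b' := by
      rw [← QuotientGroup.out_eq' b, ← QuotientGroup.out_eq' b']
      exact QuotientGroup.eq.2 (mem_subgroupOf.2 (by
        show (b.out : G)⁻¹ * (b'.out : G) ∈ S
        exact hs ▸ (hmemS s).2 ⟨hH ▸ hsH, hsu, hsk, hkk⟩))
    subst hbb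
    have hs1 : s = 1 := by rw [hs, inv_mul_cancel]
    have haa : a = a' := by
      rw [← QuotientGroup.out_eq' a, ← QuotientGroup.out_eq' a']
      have hkeq : φ.ker = (commHom L u).ker := by rw [hφ]
      rw [QuotientGroup.eq, SetLike.ext_iff.1 hkeq, commHom_mem_ker_iff]
      have : l = (a.out : G)⁻¹ * (a'.out : G) := by rw [hl, hs1]; group
      show u * ((a.out : G)⁻¹ * (a'.out : G)) = (a.out : G)⁻¹ * (a'.out : G) * u
      rw [← this]; exact hlu.eq
    rw [haa]
  have hcard := Nat.card_le_card_of_injective f hf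
  rw [Nat.card_prod] at hcard
  have h1 : (S.subgroupOf H).index * Nat.card φ.range ≤ cs (u * k) := by
    rw [← Subgroup.index_ker φ]; exact hcard
  have h2 : (center G).relIndex S * (S.subgroupOf H).index = n := by
    rw [← card_cent_mul h hx hy, ← hH]
    refine relIndex_mul_relIndex _ S H (fun z hz => (hmemS z).2 ?_) hSH
    refine ⟨center_le_cent y hz, ?_, ?_, ?_⟩ <;> exact (mem_center_iff.1 hz _).symm
  refine lt_of_lt_of_le ?_ h1
  rw [← h2, mul_comm]
  exact Nat.mul_lt_mul_of_pos_left hlt (Nat.pos_of_ne_zero index_ne_zero_of_finite)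

end CfsgLib.Perm.CoprimeTopClasses
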