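import Cfsg.Agent.Lib.Perm.CoprimeTopMain
import Cfsg.Agent.Lib.StructC.ClassGraphDisconnected

/-!
Two largest class sizes coprime: the Frobenius group `G / Z(G)`.
-/

set_option autoImplicit false

namespace CfsgLib.Perm.CoprimeTopClasses

open Subgroup CfsgLib.StructC.ClassCoprime
open scoped Pointwise

universe u

variable {G : Type u} [Group G] [Finite G] {m n : ℕ}

theorem cent_eq_of_mem (h : Hyp G m n) {x : G} (hx : cs x = n) {y : G} (hy : cs y = m) {u : G}
    (hu : u ∈ centralizer ({y} : Set G)) (huc : u ∉ center G) :
    centralizer ({u} : Set G) = centralizer ({y} : Set G) :=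
  cent_eq_top_size h hx hy
    (fun _ hg => mem_centralizer_singleton_iff.2 (commute_cent h hx hy hg hu).eq) huc

theorem central_of_normalizes (h : Hyp G m n) {x : G} (hx : cs x = n) {y : G} (hy : cs y = m) {c : G}
    (hcx : c ∈ centralizer ({x} : Set G))
    (hc : c ∈ normalizer ((centralizer ({y} : Set G) : Subgroup G) : Set G)) : c ∈ center G := by
  by_contra hcc
  have hcy : centralizer ({c} : Set G) ⊓ centralizer ({y} : Set G) ≤ center G := by
    rintro g ⟨hgc, hgy⟩
    by_contra hgz
    have h1 : c ∈ centralizer ({y} : Set G) := cent_eq_of_mem h hx hy hgy hgz ▸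
      mem_centralizer_singleton_iff.2 (mem_centralizer_singleton_iff.1 hgc).symm
    exact hcc (inf_le_center h hx hy ⟨hcx, h1⟩)
  have hne : cs c ≠ m := fun e => not_commute h hx e
    (mem_centralizer_singleton_iff.2 (mem_centralizer_singleton_iff.1 hcx).symm)
  have hcn : cs c = n := by
    refine le_antisymm (h.sec _ (lt_of_le_of_ne (h.top _) hne)) ?_
    refine Nat.le_of_mul_le_mul_right ?_ (cs_pos y)
    refine le_trans ?_ (index_inf_le (H := centralizer ({c} : Set G)) (K := centralizer ({y} : Set G)))
    have h1 : (centralizer ({x} : Set G) ⊓ centralizer ({y} : Set G)).index = cs x * cs y := by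
      have h2 := relIndex_mul_index (inf_le_right :
        centralizer ({x} : Set G) ⊓ centralizer ({y} : Set G) ≤ _)
      rw [inf_relIndex_right, relIndex_cent (by rw [hx, hy]; exact h.cop.symm)] at h2
      exact h2.symm
    have h3 : centralizer ({c} : Set G) ⊓ centralizer ({y} : Set G) ≤
        centralizer ({x} : Set G) ⊓ centralizer ({y} : Set G) :=
      hcy.trans (le_inf (center_le_cent x) (center_le_cent y))
    rw [← hx, ← h1]
    exact Nat.le_of_dvd (Nat.pos_of_ne_zero index_ne_zero_of_finite) (index_dvd_of_le h3)
  have hcop : (cs c).Coprime m := cop_of h.cop hcn.dvd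
  -- `[c, G]` lies in `C(y)`
  have hle : comm c ≤ centralizer ({y} : Set G) := by
    rw [CfsgLib.StructC.ClassCoprime.comm, closure_le]
    rintro _ ⟨g, rfl⟩
    obtain ⟨a, ha, b, hb, rfl⟩ := exists_mul_eq (A := centralizer ({y} : Set G))
      (B := centralizer ({c} : Set G)) (show (cs y).Coprime (cs c) by rw [hy]; exact hcop.symm) g
    show c⁻¹ * (a * b * c * (a * b)⁻¹) ∈ centralizer ({y} : Set G)
    rw [show a * b * c * (a * b)⁻¹ = a * (b * c * b⁻¹) * a⁻¹ by group, conj_eq_of_mem_cent hb,
      show c⁻¹ * (a * c * a⁻¹) = (c⁻¹ * a * c) * a⁻¹ by group]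
    refine mul_mem ?_ (inv_mem ha)
    have := (mem_normalizer_iff.1 (inv_mem hc) a).1 ha
    rwa [inv_inv] at this
  have hz : comm c ≤ center G := fun g hg =>
    hcy ⟨comm_le_cent h hcop hy hg, hle hg⟩
  have hd := (cs_dvd_card_comm hz).trans (comm_card_dvd h hcop hy)
  rw [hcn] at hd
  have := Nat.eq_one_of_dvd_coprimes h.cop hd dvd_rfl
  have := h.one_lt
  omega

theorem mem_of_normalizes (h : Hyp G m n) {x : G} (hx : cs x = n) {y : G} (hy : cs y = m) {k : G}
    (hk : k ∈ normalizer ((centralizer ({y} : Set G) : Subgroup G) : Set G)) :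
    k ∈ centralizer ({y} : Set G) := by
  obtain ⟨a, ha, b, hb, rfl⟩ := exists_mul_eq (A := centralizer ({y} : Set G))
    (B := centralizer ({x} : Set G)) (show (cs y).Coprime (cs x) by rw [hy, hx]; exact h.cop) k
  refine mul_mem ha (center_le_cent y (central_of_normalizes h hx hy hb ?_))
  have := mul_mem (inv_mem (le_normalizer ha)) hk
  rwa [inv_mul_cancel_left] at this

/-- The image of `C(y)` is a Frobenius complement. -/
theorem isFrobeniusComplement_map (h : Hyp G m n) {x : G} (hx : cs x = n) {y : G} (hy : cs y = m) :
    Cfsg.IsFrobeniusComplement ((centralizer ({y} : Set G)).map (QuotientGroup.mk' (center G))) := by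
  have hcomap : ((centralizer ({y} : Set G)).map (QuotientGroup.mk' (center G))).comap
      (QuotientGroup.mk' (center G)) = centralizer ({y} : Set G) := by
    rw [comap_map_eq, QuotientGroup.ker_mk', sup_eq_left.2 (center_le_cent y)]
  refine ⟨fun e => ?_, fun e => ?_, fun g hg => ?_⟩
  · rw [e, MonoidHom.comap_bot, QuotientGroup.ker_mk'] at hcomap
    have h1 := card_cent_mul h hx hy
    rw [← hcomap, relIndex_self] at h1
    have := h.one_lt; omega
  · rw [e, comap_top] at hcomap
    have h1 : cs y = 1 := by rw [cs, ← hcomap, index_top]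
    have := h.one_lt; have := h.lt; omega
  · induction g using QuotientGroup.induction_on with
    | _ g =>
      rw [eq_bot_iff]
      intro v hvv
      obtain ⟨hv, hv'⟩ := mem_inf.1 hvv
      rw [mem_bot]
      rw [mem_pointwise_smul_iff_inv_smul_mem] at hv'
      obtain ⟨u, hu, rfl⟩ := hv
      by_contra hne
      have huc : u ∉ center G := fun e => hne ((QuotientGroup.eq_one_iff u).2 e)
      simp only [← map_inv, MulAut.smul_def, MulAut.conj_apply, inv_inv] at hv'
      have hgu : g⁻¹ * u * g ∈ centralizer ({y} : Set G) := by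
        rw [← hcomap]; exact hv'
      have hguc : g⁻¹ * u * g ∉ center G := fun e => huc (by
        simpa [mul_assoc] using (inferInstance : (center G).Normal).conj_mem _ e g)
      refine hg (mem_map_of_mem _ (mem_of_normalizes h hx hy (k := g) ?_))
      rw [mem_normalizer_iff]
      intro c
      rw [← cent_eq_of_mem h hx hy hgu hguc, mem_centralizer_singleton_iff]
      conv_rhs => rw [cent_eq_of_mem h hx hy hgu hguc, ← cent_eq_of_mem h hx hy hu huc,
        mem_centralizer_singleton_iff]
      constructor
      · intro hc
        calc g * c * g⁻¹ * u = g * (c * (g⁻¹ * u * g)) * g⁻¹ := by group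
          _ = u * (g * c * g⁻¹) := by rw [hc]; group
      · intro hc
        calc c * (g⁻¹ * u * g) = g⁻¹ * (g * c * g⁻¹ * u) * g := by group
          _ = g⁻¹ * u * g * c := by rw [hc]; group

/-- The kernel is the image of `C(x)`, and `C(x)` is abelian. -/
theorem kernel_eq (h : Hyp G m n) {x : G} (hx : cs x = n) {y : G} (hy : cs y = m) :
    IsMulCommutative ↥(centralizer ({x} : Set G)) ∧
    Cfsg.frobeniusKernel ((centralizer ({y} : Set G)).map (QuotientGroup.mk' (center G))) =
      ((centralizer ({x} : Set G)).map (QuotientGroup.mk' (center G)) : Set (G ⧸ center G)) := by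
  have hF := isFrobeniusComplement_map h hx hy
  obtain ⟨N, hN, hNn, -⟩ := CfsgLib.StructC.frobenius_kernel_theorem hF
  have hcard : Nat.card N = m := by
    have h1 := CfsgLib.StructC.frob_card_kernel hF
    rw [← hN] at h1
    refine h1.trans ?_
    rw [index_map_eq _ (QuotientGroup.mk'_surjective _)
      (by rw [QuotientGroup.ker_mk']; exact center_le_cent y)]
    exact hy
  have key : ∀ z ∈ centralizer ({x} : Set G), z ∉ center G →
      centralizer ({z} : Set G) = N.comap (QuotientGroup.mk' (center G)) := by
    intro z hzx hzc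
    have hle : (centralizer ({z} : Set G)).map (QuotientGroup.mk' (center G)) ≤ N := by
      rintro _ ⟨u, hu, rfl⟩
      rw [← SetLike.mem_coe, hN]
      by_cases huc : u ∈ center G
      · exact Or.inl ((QuotientGroup.eq_one_iff u).2 huc)
      refine Or.inr fun g hg => ?_
      induction g using QuotientGroup.induction_on with
      | _ g =>
        rw [mem_pointwise_smul_iff_inv_smul_mem] at hg
        simp only [← map_inv, MulAut.smul_def, MulAut.conj_apply, inv_inv] at hg
        have hgu : g⁻¹ * u * g ∈ centralizer ({y} : Set G) := by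
          have hcomap : ((centralizer ({y} : Set G)).map (QuotientGroup.mk' (center G))).comap
              (QuotientGroup.mk' (center G)) = centralizer ({y} : Set G) := by
            rw [comap_map_eq, QuotientGroup.ker_mk', sup_eq_left.2 (center_le_cent y)]
          rw [← hcomap]; exact hg
        have hguc : g⁻¹ * u * g ∉ center G := fun e => huc (by
          simpa [mul_assoc] using (inferInstance : (center G).Normal).conj_mem _ e g)
        have hcomm : Commute z u := (mem_centralizer_singleton_iff.1 hu).symm
        have h1 : g⁻¹ * z * g ∈ centralizer ({y} : Set G) := by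
          rw [← cent_eq_of_mem h hx hy hgu hguc, mem_centralizer_singleton_iff]
          calc g⁻¹ * z * g * (g⁻¹ * u * g) = g⁻¹ * (z * u) * g := by group
            _ = g⁻¹ * u * g * (g⁻¹ * z * g) := by rw [hcomm.eq]; group
        refine hzc (inf_le_center h hx (y := g * y * g⁻¹)
          (by rw [CfsgLib.StructC.ClassGraphDisconnected.cs_conj]; exact hy) (mem_inf.2 ⟨hzx, ?_⟩))
        rw [mem_centralizer_singleton_iff] at h1 ⊢
        calc z * (g * y * g⁻¹) = g * (g⁻¹ * z * g * y) * g⁻¹ := by group
          _ = g * y * g⁻¹ * z := by rw [h1]; group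
    have hne : cs z ≠ m := fun e => not_commute h hx e
      (mem_centralizer_singleton_iff.2 (mem_centralizer_singleton_iff.1 hzx).symm)
    have hzn : cs z ≤ n := h.sec _ (lt_of_le_of_ne (h.top _) hne)
    have heq : (centralizer ({z} : Set G)).map (QuotientGroup.mk' (center G)) = N := by
      refine eq_of_le_of_card_ge hle ?_
      rw [hcard]
      have hkerz : (QuotientGroup.mk' (center G)).ker ≤ centralizer ({z} : Set G) := by
        rw [QuotientGroup.ker_mk']; exact center_le_cent z
      have h1 : Nat.card ((centralizer ({z} : Set G)).map (QuotientGroup.mk' (center G))) * cs z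
          = Nat.card (G ⧸ center G) := by
        rw [show cs z = ((centralizer ({z} : Set G)).map (QuotientGroup.mk' (center G))).index from
          (index_map_eq (centralizer ({z} : Set G)) (QuotientGroup.mk'_surjective _) hkerz).symm, card_mul_index]
      have h2 : Nat.card (G ⧸ center G) = n * m := by
        rw [← index_eq_card, ← relIndex_mul_index (center_le_cent y), card_cent_mul h hx hy]
        exact congrArg (n * ·) hy
      rw [h2] at h1
      refine Nat.le_of_mul_le_mul_left ?_ (lt_trans zero_lt_one h.one_lt)
      rw [← h1, mul_comm]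
      exact Nat.mul_le_mul_right _ hzn
    rw [← heq, comap_map_eq, QuotientGroup.ker_mk', sup_eq_left.2 (center_le_cent z)]
  have hxc : x ∉ center G := fun e => by
    have := hx.symm.trans (cs_eq_one_iff.2 e); have := h.one_lt; omega
  have hxx := key x (mem_centralizer_singleton_iff.2 rfl) hxc
  refine ⟨⟨⟨fun a b => Subtype.ext ?_⟩⟩, ?_⟩
  · by_cases hbz : (b : G) ∈ center G
    · exact mem_center_iff.1 hbz a
    · have := key b b.2 hbz
      rw [← hxx] at this
      exact mem_centralizer_singleton_iff.1 (this.symm ▸ a.2)
  · rw [← hN, hxx, map_comap_eq_self_of_surjective (QuotientGroup.mk'_surjective _)]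

end CfsgLib.Perm.CoprimeTopClasses
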