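import Cfsg.Agent.Lib.Perm.CoprimeTopFrobenius

/-!
Two largest class sizes coprime: the final structure.
-/

set_option autoImplicit false

namespace CfsgLib.Perm.CoprimeTopClasses

open Subgroup CfsgLib.StructC.ClassCoprime CfsgLib.Perm.CountingComplement
open CfsgLib.Perm.TwoIndexNormal (cent_zpowers_le mem_zpowers_mul)
open scoped Pointwise

universe u

variable {G : Type u} [Group G] [Finite G] {m n : ℕ}

theorem not_dvd_m (h : Hyp G m n) {x : G} (hx : cs x = n) {y : G} (hy : cs y = m) {r i : ℕ}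
    (hr : r.Prime) {u : G} (hu : u ∈ centralizer ({y} : Set G)) (huc : u ∉ center G)
    (hui : u ^ r ^ i = 1) : ¬ r ∣ m := by
  intro hd
  obtain ⟨H, hH⟩ : ∃ H, H = centralizer ({y} : Set G) := ⟨_, rfl⟩
  obtain ⟨v, hv⟩ : ∃ v : ↥H, (v : G) = u := ⟨⟨u, hH ▸ hu⟩, rfl⟩
  obtain ⟨j, -, hj⟩ := (Nat.dvd_prime_pow hr).1 (orderOf_dvd_of_pow_eq_one
    (show (QuotientGroup.mk' ((center G).subgroupOf H) v) ^ r ^ i = 1 by
      rw [← map_pow, show v ^ r ^ i = 1 from Subtype.ext (by rw [SubmonoidClass.coe_pow, hv]; exact hui),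
        map_one]))
  have h1 : orderOf (QuotientGroup.mk' ((center G).subgroupOf H) v) ∣ n := by
    rw [← card_cent_mul h hx hy, ← hH]
    exact _root_.orderOf_dvd_natCard _
  rw [hj] at h1
  have hj0 : j ≠ 0 := fun e => huc (by
    rw [e, pow_zero, orderOf_eq_one_iff] at hj
    exact hv ▸ mem_subgroupOf.1 ((QuotientGroup.eq_one_iff v).1 hj))
  exact hr.not_dvd_one (h.cop ▸ Nat.dvd_gcd hd ((dvd_pow_self r hj0).trans h1))

/-- Primary elements of `C(y)` have top class and fix only central elements of `[x, G]`. -/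
theorem top_of_primary (h : Hyp G m n) {x : G} (hx : cs x = n) {y : G} (hy : cs y = m) {r i : ℕ}
    (hr : r.Prime) {u : G} (hu : u ∈ centralizer ({y} : Set G)) (huc : u ∉ center G)
    (hui : u ^ r ^ i = 1) :
    cs u = m ∧ ∀ l ∈ comm x, Commute u l → l ∈ center G := by
  have hrm := not_dvd_m h hx hy hr hu huc hui
  obtain ⟨k, hk, huk, hlt, hall⟩ := exists_lt_cs h hx hy hr hrm hu huc hui
  have hm : cs (u * k) = m := by
    by_contra hne
    exact not_lt.2 (h.sec _ (lt_of_le_of_ne (h.top _) hne)) hlt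
  have hkc : k ∈ center G := by
    by_contra hkc
    have hkm : orderOf k ∣ m :=
      ((comm x).orderOf_dvd_natCard hk).trans (comm_card_dvd h (cop_of h.cop hx.dvd) hy)
    have hco : (orderOf u).Coprime (orderOf k) :=
      Nat.Coprime.coprime_dvd_left (orderOf_dvd_of_pow_eq_one hui) (Nat.Coprime.coprime_dvd_right hkm
        (((Nat.Prime.coprime_iff_not_dvd hr).2 hrm).pow_left i))
    have hle := cent_zpowers_le (G := G) (by rw [huk.eq]; exact mem_zpowers_mul huk.symm hco.symm :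
      k ∈ zpowers (u * k))
    have hkm' := cs_eq_m_of_dvd h hx hy (hm ▸ cs_dvd_of_cent_le hle) hkc
    refine not_commute h hx hkm' (mem_centralizer_singleton_iff.2 ?_)
    exact (mem_centralizer_singleton_iff.1 (comm_le_cent h (cop_of h.cop hx.dvd) hy hk)).symm
  refine ⟨?_, hall hkc⟩
  rw [← hm]
  show (centralizer ({u} : Set G)).index = (centralizer ({u * k} : Set G)).index
  congr 1
  ext g
  rw [mem_centralizer_singleton_iff, mem_centralizer_singleton_iff, ← mul_assoc, mul_assoc u k g,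
    ← mem_center_iff.1 hkc g, ← mul_assoc]
  exact (mul_left_inj k).symm

theorem conj_mk {L : Subgroup G} [L.Normal] (g : G) (l : L) :
    ((MulAut.conjNormal g l : L) : G) = g * l * g⁻¹ := MulAut.conjNormal_apply g l

/-- `C(y)` is abelian. -/
theorem commute_cent (h : Hyp G m n) {x : G} (hx : cs x = n) {y : G} (hy : cs y = m)
    {a b : G} (ha : a ∈ centralizer ({y} : Set G)) (hb : b ∈ centralizer ({y} : Set G)) : Commute a b := by
  obtain ⟨y0, hy0, hC, r, i, hr, hyi⟩ := exists_primary_top h hx hy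
  haveI := Fact.mk hr
  suffices hH : centralizer ({y} : Set G) ≤ centralizer (centralizer ({y} : Set G) : Set G) from
    (mem_centralizer_iff.1 (hH ha) b hb).symm
  intro c hc
  refine mem_of_primary fun k s hs ⟨j, hj⟩ => ?_
  have hu : c ^ k ∈ centralizer ({y} : Set G) := pow_mem hc k
  generalize c ^ k = u at hu hj ⊢
  suffices hle : centralizer ({y} : Set G) ≤ centralizer ({u} : Set G) from
    mem_centralizer_iff.2 fun g hg => mem_centralizer_singleton_iff.1 (hle hg)
  rw [← hC] at hu ⊢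
  by_cases hsr : s ≠ r
  · exact cent_le_of_coprime h hy0 hu (coprime_orders hr hs (Ne.symm hsr) hyi.dvd hj.dvd)
  obtain rfl : s = r := not_not.1 hsr
  by_cases huc : u ∈ center G
  · exact fun g _ => mem_centralizer_singleton_iff.2 (mem_center_iff.1 huc g)
  have hy0c : y0 ∉ center G := fun e => by
    have := hy0.symm.trans (cs_eq_one_iff.2 e); have := h.lt; have := h.one_lt; omega
  have hy0C : y0 ∈ centralizer ({y0} : Set G) := mem_centralizer_singleton_iff.2 rfl
  have huy : Commute u y0 := mem_centralizer_singleton_iff.1 hu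
  have hui : u ^ s ^ j = 1 := hj ▸ pow_orderOf_eq_one u
  have hy0i : y0 ^ s ^ i = 1 := hyi ▸ pow_orderOf_eq_one y0
  obtain ⟨hum, -⟩ := top_of_primary h hx hy0 hr hu huc hui
  have hsm := not_dvd_m h hx hy0 hr hu huc hui
  haveI := comm_normal x
  haveI := comm_isMulCommutative h hx hy
  letI : CommGroup ↥(comm x) := IsMulCommutative.instCommGroup
  obtain ⟨Z, hZ⟩ : ∃ Z : Subgroup ↥(comm x), Z = (center G).subgroupOf (comm x) := ⟨_, rfl⟩
  -- the action on the quotient
  let ψ : G →* MulAut (↥(comm x) ⧸ Z) := MonoidHom.mk'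
    (fun g => QuotientGroup.congr Z Z (MulAut.conjNormal g) (by
      subst hZ
      ext l
      show l ∈ map (MulAut.conjNormal g : MulAut ↥(comm x)).toMonoidHom ((center G).subgroupOf (comm x)) ↔ _
      rw [mem_map_equiv, mem_subgroupOf, mem_subgroupOf, MulAut.conjNormal_symm_apply]
      constructor
      · intro hl
        have := (inferInstance : (center G).Normal).conj_mem _ hl g
        simpa [mul_assoc] using this
      · intro hl
        simpa using (inferInstance : (center G).Normal).conj_mem _ hl g⁻¹))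
    fun g g' => MulEquiv.ext fun v => by
      induction v using QuotientGroup.induction_on with
      | _ l =>
        show QuotientGroup.mk (MulAut.conjNormal (g * g') l) =
          (QuotientGroup.mk (MulAut.conjNormal g (MulAut.conjNormal g' l)) : ↥(comm x) ⧸ Z)
        rw [map_mul]; rfl
  obtain ⟨l1, hl1, hfree⟩ := exists_free h hx hy0
  haveI : Nontrivial (↥(comm x) ⧸ Z) := QuotientGroup.nontrivial_iff.2 fun e => by
    have hmem : (⟨l1, hl1⟩ : ↥(comm x)) ∈ Z := by rw [e]; exact mem_top _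
    rw [hZ, mem_subgroupOf] at hmem
    exact hy0c (hfree y0 hy0C (mem_center_iff.1 hmem y0))
  -- elements of `⟨u, y0⟩`
  let B : Subgroup G :=
    { carrier := {g | ∃ a b : ℤ, g = u ^ a * y0 ^ b}
      one_mem' := ⟨0, 0, by simp⟩
      mul_mem' := by
        rintro _ _ ⟨a, b, rfl⟩ ⟨a', b', rfl⟩
        refine ⟨a + a', b + b', ?_⟩
        rw [zpow_add, zpow_add, mul_assoc (u ^ a), ← mul_assoc (y0 ^ b), ← (huy.zpow_zpow a' b).eq]
        group
      inv_mem' := by
        rintro _ ⟨a, b, rfl⟩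
        refine ⟨-a, -b, ?_⟩
        rw [mul_inv_rev, zpow_neg, zpow_neg, ((huy.zpow_zpow a b).inv_inv).eq] }
  have hBc' : ∀ p ∈ B, ∀ q ∈ B, Commute p q := by
    rintro _ ⟨a, b, rfl⟩ _ ⟨a', b', rfl⟩
    exact (((Commute.refl u).zpow_zpow a a').mul_right (huy.zpow_zpow a b')).mul_left
      ((huy.symm.zpow_zpow b a').mul_right ((Commute.refl y0).zpow_zpow b b'))
  have hBe : ∀ g ∈ B, g ∈ centralizer ({y0} : Set G) ∧ ∃ N : ℕ, g ^ s ^ N = 1 := by
    rintro _ ⟨a', b', rfl⟩
    refine ⟨mul_mem (zpow_mem hu a') (zpow_mem hy0C b'), i + j, ?_⟩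
    rw [((huy.zpow_zpow a' b')).mul_pow, ← zpow_natCast, ← zpow_natCast, ← zpow_mul, ← zpow_mul,
      mul_comm a', mul_comm b', zpow_mul, zpow_mul, zpow_natCast, zpow_natCast, pow_add,
      pow_mul y0, pow_mul' u, hy0i, hui, one_pow, one_pow, one_zpow, one_zpow, mul_one]
  have hfix : ∀ g ∈ B, g ∉ center G → ∀ v, ψ g v = v → v = 1 := by
    intro g hg hgc v hv
    obtain ⟨hgC, N, hgN⟩ := hBe g hg
    induction v using QuotientGroup.induction_on with
    | _ l =>
      have hz : g * l * g⁻¹ * (l : G)⁻¹ ∈ center G := by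
        have h1 : (MulAut.conjNormal g l * l⁻¹ : ↥(comm x)) ∈ Z := by
          rw [← QuotientGroup.eq_one_iff, QuotientGroup.mk_mul, QuotientGroup.mk_inv, mul_inv_eq_one]
          exact hv
        rw [hZ] at h1
        have h2 := mem_subgroupOf.1 h1
        rw [Subgroup.coe_mul, conj_mk] at h2
        exact h2
      have hzL : g * l * g⁻¹ * (l : G)⁻¹ ∈ comm x :=
        mul_mem ((inferInstance : (comm x).Normal).conj_mem l l.2 g) (inv_mem l.2)
      have h1 := eq_one_of_fix hr (fun hd => hsm (hd.trans (comm_card_dvd h (cop_of h.cop hx.dvd) hy)))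
        hgN hzL (mem_center_iff.1 hz g) (a := (l : G)) (by group)
      have hcom : Commute g l := mul_inv_eq_iff_eq_mul.1 (mul_inv_eq_one.1 h1)
      refine (QuotientGroup.eq_one_iff l).2 (hZ ▸ mem_subgroupOf.2 ?_)
      exact (top_of_primary h hx hy0 hr hgC hgc hgN).2 l l.2 hcom
  have hker : ∀ g ∈ B, ψ g = 1 → g ∈ center G := by
    intro g hg he
    by_contra hgc
    obtain ⟨v, hv⟩ := exists_ne (1 : ↥(comm x) ⧸ Z)
    exact hv (hfix g hg hgc v (by rw [he]; rfl))
  haveI hBc : IsMulCommutative ↥(B.map ψ) := by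
    refine ⟨⟨fun p q => Subtype.ext ?_⟩⟩
    obtain ⟨_, a, ha, rfl⟩ := p
    obtain ⟨_, b, hb, rfl⟩ := q
    show ψ a * ψ b = ψ b * ψ a
    rw [← map_mul, ← map_mul, (hBc' a ha b hb).eq]
  haveI hcyc : IsCyclic ↥(B.map ψ) := by
    haveI : IsMulCommutative ↥(⊤ : Subgroup ↥(B.map ψ)) :=
      ⟨⟨fun p q => Subtype.ext (IsMulCommutative.is_comm.comm (p : ↥(B.map ψ)) q)⟩⟩
    have := CfsgLib.Solvable.isCyclic_of_fpf (B.map ψ).subtype (fun p hp v hv => ?_) ⊤
    · exact (Subgroup.topEquiv (G := ↥(B.map ψ))).isCyclic.1 this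
    · obtain ⟨_, g, hg, rfl⟩ := p
      refine hfix g hg (fun hgc => hp (Subtype.ext (MulEquiv.ext fun w => ?_))) v hv
      induction w using QuotientGroup.induction_on with
      | _ l =>
        show (QuotientGroup.mk (MulAut.conjNormal g l) : ↥(comm x) ⧸ Z) = QuotientGroup.mk l
        congr 1
        exact Subtype.ext (by rw [conj_mk, ← mem_center_iff.1 hgc (l : G), mul_inv_cancel_right])
  have huB : u ∈ B := ⟨1, 0, by simp⟩
  have hyB : y0 ∈ B := ⟨0, 1, by simp⟩
  let pu : ↥(B.map ψ) := ⟨ψ u, mem_map_of_mem ψ huB⟩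
  let py : ↥(B.map ψ) := ⟨ψ y0, mem_map_of_mem ψ hyB⟩
  obtain ⟨e1, -, he1⟩ := (Nat.dvd_prime_pow hr).1 (orderOf_dvd_of_pow_eq_one
    (show pu ^ s ^ j = 1 from Subtype.ext (by show ψ u ^ s ^ j = 1; rw [← map_pow, hui, map_one])))
  obtain ⟨e2, -, he2⟩ := (Nat.dvd_prime_pow hr).1 (orderOf_dvd_of_pow_eq_one
    (show py ^ s ^ i = 1 from Subtype.ext (by show ψ y0 ^ s ^ i = 1; rw [← map_pow, hy0i, map_one])))
  have key : ∀ (p q : G), p ∈ B → q ∈ B → ∀ t : ℤ, ψ q ^ t = ψ p →
      centralizer ({q} : Set G) ≤ centralizer ({p} : Set G) := by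
    intro p q hp hq t ht g hg
    have hz := hker ((q ^ t)⁻¹ * p) (mul_mem (inv_mem (zpow_mem hq t)) hp)
      (by rw [map_mul, map_inv, map_zpow, ht, inv_mul_cancel])
    rw [mem_centralizer_singleton_iff] at hg ⊢
    have e : p = q ^ t * ((q ^ t)⁻¹ * p) := (mul_inv_cancel_left _ _).symm
    rw [e]
    exact ((show Commute g q from hg).zpow_right t).mul_right (mem_center_iff.1 hz g)
  rcases le_total e1 e2 with hle | hle
  · obtain ⟨t, ht⟩ := mem_zpowers_iff.1 (CfsgLib.PGroup.mem_zpowers_of_pow_eq_one he2 (w := pu)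
      (orderOf_dvd_iff_pow_eq_one.1 (he1 ▸ pow_dvd_pow s hle)))
    exact key u y0 huB hyB t (congrArg Subtype.val ht)
  · obtain ⟨t, ht⟩ := mem_zpowers_iff.1 (CfsgLib.PGroup.mem_zpowers_of_pow_eq_one he1 (w := py)
      (orderOf_dvd_iff_pow_eq_one.1 (he2 ▸ pow_dvd_pow s hle)))
    exact (cent_eq_of_cs_le (key y0 u hyB huB t (congrArg Subtype.val ht)) (hum.trans hy0.symm).le).ge

end CfsgLib.Perm.CoprimeTopClasses
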