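import Cfsg.Agent.Lib.Transfer.Frobenius
import Cfsg.Agent.Lib.Amalgam.StronglyClosedComplement
import Mathlib.GroupTheory.SchurZassenhaus

/-!
A counting criterion for normal `p`-complements, `p` the smallest prime divisor: if a Sylow
`p`-subgroup has exponent `p` and is abelian, the centralisers of elements of order `p` have normal
`p`-complements and each `p'`-element commutes with one of them, then so has the whole group.
-/

set_option autoImplicit false

namespace CfsgLib.Perm.CountingComplement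

open Subgroup CfsgLib.Transfer

variable {G : Type*} [Group G] [Finite G] {p : ℕ} [Fact p.Prime]

/-- Decomposition of an element into commuting `p'`- and `p`-parts. -/
theorem exists_parts (p : ℕ) [Fact p.Prime] (g : G) :
    ∃ a b : G, ∃ k : ℕ, g = a * b ∧ a ∈ zpowers g ∧ b ∈ zpowers g ∧ (orderOf a).Coprime p ∧
      b ^ p ^ k = 1 := by
  obtain ⟨k, m, hm, hkm⟩ :=
    Nat.exists_eq_pow_mul_and_not_dvd (orderOf_pos g).ne' p (Fact.out : p.Prime).ne_one
  have hcop : Nat.Coprime (p ^ k) m :=
    Nat.Coprime.pow_left k ((Nat.Prime.coprime_iff_not_dvd Fact.out).2 hm)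
  have hbez := Nat.gcd_eq_gcd_ab (p ^ k) m
  rw [hcop.gcd_eq_one, Nat.cast_one] at hbez
  refine ⟨g ^ (((p ^ k : ℕ) : ℤ) * Nat.gcdA (p ^ k) m), g ^ ((m : ℤ) * Nat.gcdB (p ^ k) m), k, ?_,
    zpow_mem (mem_zpowers g) _, zpow_mem (mem_zpowers g) _, ?_, ?_⟩
  · rw [← zpow_add, ← hbez, zpow_one]
  · refine Nat.Coprime.coprime_dvd_left (orderOf_dvd_of_pow_eq_one (n := m) ?_)
      ((Nat.Prime.coprime_iff_not_dvd Fact.out).2 hm).symm
    rw [← zpow_natCast, ← zpow_mul,
      show (((p ^ k : ℕ) : ℤ) * Nat.gcdA (p ^ k) m) * (m : ℤ)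
        = ((orderOf g : ℕ) : ℤ) * Nat.gcdA (p ^ k) m by rw [hkm, Nat.cast_mul (p ^ k) m]; ring,
      zpow_mul, zpow_natCast, pow_orderOf_eq_one, one_zpow]
  · rw [← zpow_natCast, ← zpow_mul,
      show ((m : ℤ) * Nat.gcdB (p ^ k) m) * ((p ^ k : ℕ) : ℤ)
        = ((orderOf g : ℕ) : ℤ) * Nat.gcdB (p ^ k) m by rw [hkm, Nat.cast_mul (p ^ k) m]; ring,
      zpow_mul, zpow_natCast, pow_orderOf_eq_one, one_zpow]

omit [Finite G] in
theorem eq_one_of_coprime_pow {a : G} (ha : (orderOf a).Coprime p) {k : ℕ} (h : a ^ p ^ k = 1) :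
    a = 1 :=
  orderOf_eq_one_iff.1 (Nat.eq_one_of_dvd_coprimes (ha.pow_right k) dvd_rfl
    (orderOf_dvd_of_pow_eq_one h))

/-- A `p`-element normalising a Sylow `p`-subgroup lies in it. -/
theorem mem_sylow_of_normalizer (P : Sylow p G) {b : G} {k : ℕ} (hb : b ^ p ^ k = 1)
    (hN : b ∈ normalizer (P : Set G)) : b ∈ (P : Subgroup G) := by
  have hz : IsPGroup p (zpowers b) := fun x => by
    obtain ⟨j, hj⟩ := mem_zpowers_iff.1 x.2
    refine ⟨k, Subtype.ext ?_⟩
    rw [SubmonoidClass.coe_pow, OneMemClass.coe_one, ← hj, ← zpow_natCast, ← zpow_mul, mul_comm,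
      zpow_mul, zpow_natCast, hb, one_zpow]
  have hle : zpowers b ≤ normalizer ((P : Subgroup G) : Set G) := zpowers_le.2 hN
  have h := hz.to_sup_of_normal_right' P.isPGroup' hle
  exact (P.is_maximal' h le_sup_right).le (mem_sup_left (mem_zpowers b))

/-- A normal `p`-complement modulo a central `p`-subgroup lifts. -/
theorem lift_central (N : Subgroup G) [N.Normal] (hN : N ≤ center G) (hNp : IsPGroup p N)
    (h : Cfsg.HasNormalPComplement p (G ⧸ N)) : Cfsg.HasNormalPComplement p G := by
  obtain ⟨K, hK, hKc, hKq⟩ := hasNormalPComplement_iff_exists.1 h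
  rw [hasNormalPComplement_iff_coprime_pResidual]
  let π := QuotientGroup.mk' N
  let φ := π.subgroupComap K
  have hsurj : Function.Surjective φ :=
    MonoidHom.subgroupComap_surjective_of_surjective π K (QuotientGroup.mk'_surjective N)
  have hNK : N ≤ K.comap π := fun x hx => by
    show π x ∈ K
    rw [show π x = 1 from (QuotientGroup.eq_one_iff x).2 hx]
    exact one_mem K
  have hker : φ.ker = N.subgroupOf (K.comap π) := by
    ext x
    rw [MonoidHom.mem_ker, mem_subgroupOf, Subtype.ext_iff]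
    exact QuotientGroup.eq_one_iff (x : G)
  obtain ⟨n, hn⟩ := IsPGroup.iff_card.1 hNp
  have hkp : Nat.card φ.ker = p ^ n := by
    rw [hker, Nat.card_congr (subgroupOfEquivOfLe hNK).toEquiv, hn]
  have hidx : φ.ker.index = Nat.card K := by
    rw [Subgroup.index_ker, MonoidHom.range_eq_top.2 hsurj, Subgroup.card_top]
  obtain ⟨H, hH⟩ := Subgroup.exists_right_complement'_of_coprime (N := φ.ker)
    (by rw [hkp, hidx]; exact (hKc.pow_right n).symm)
  have hHc : Nat.card H = Nat.card K := by rw [← hidx, hH.symm.index_eq_card]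
  have hle : Cfsg.pResidual p G ≤ H.map (K.comap π).subtype := by
    rw [Cfsg.pResidual, closure_le]
    intro g hg
    have hgK : π g ∈ K := by
      have := (mem_pResidual_iff h (π g)).2 (Nat.Coprime.coprime_dvd_left (orderOf_map_dvd π g) hg)
      exact (pResidual_le_of_isPGroup_quotient hKq) this
    obtain ⟨⟨a, b⟩, hab : (a : K.comap π) * b = ⟨g, hgK⟩, -⟩ := hH.existsUnique ⟨g, hgK⟩
    have hac : Commute (a : K.comap π) b := by
      have haN : ((a : K.comap π) : G) ∈ N := mem_subgroupOf.1 (hker ▸ a.2)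
      exact Subtype.ext ((mem_center_iff.1 (hN haN) _).symm)
    have ha : (a : K.comap π) ^ p ^ n = 1 := by
      rw [← hkp]
      exact congrArg Subtype.val (pow_card_eq_one' (x := a))
    have hb : (b : K.comap π) ^ Nat.card K = 1 := by
      rw [← hHc]
      exact congrArg Subtype.val (pow_card_eq_one' (x := b))
    have hgo : (⟨g, hgK⟩ : K.comap π) ^ (orderOf g * Nat.card K) = 1 := Subtype.ext (by
      rw [SubmonoidClass.coe_pow, pow_mul, pow_orderOf_eq_one, one_pow]; rfl)
    rw [← hab, hac.mul_pow, mul_comm (orderOf g), pow_mul (b : K.comap π), hb, one_pow, mul_one]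
      at hgo
    have ha1 : (a : K.comap π) = 1 := orderOf_eq_one_iff.1 (Nat.eq_one_of_dvd_coprimes
      (((show (orderOf g).Coprime p from hg).pow_right n).symm.mul_right (hKc.pow_right n).symm)
      (orderOf_dvd_of_pow_eq_one ha) (by rw [mul_comm (orderOf g)]; exact orderOf_dvd_of_pow_eq_one hgo))
    rw [ha1, one_mul] at hab
    exact ⟨b, b.2, congrArg Subtype.val hab⟩
  refine Nat.Coprime.coprime_dvd_left (card_dvd_of_le hle) ?_
  rw [card_map_of_injective (K.comap π).subtype_injective, hHc]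
  exact hKc

/-- An element of the normaliser centralises `P` once its `p'`-part does. -/
theorem normalizer_le_centralizer_of_parts (P : Sylow p G) [IsMulCommutative P]
    (h : ∀ a : G, (orderOf a).Coprime p → a ∈ normalizer (P : Set G) →
      a ∈ centralizer (P : Set G)) :
    normalizer ((P : Subgroup G) : Set G) ≤ centralizer ((P : Subgroup G) : Set G) := by
  intro n hn
  obtain ⟨a, b, k, hab, ha, hb, hac, hbk⟩ := exists_parts p n
  have hN : zpowers n ≤ normalizer ((P : Subgroup G) : Set G) := zpowers_le.2 hn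
  rw [hab]
  refine mul_mem (h a hac (hN ha)) ?_
  have hbP := mem_sylow_of_normalizer P hbk (hN hb)
  exact mem_centralizer_iff.2 fun y hy =>
    congrArg Subtype.val (IsMulCommutative.is_comm.comm (⟨y, hy⟩ : P) ⟨b, hbP⟩)

/-- A `p'`-element moving an elementary abelian Sylow subgroup fixes at most a quarter of it. -/
theorem four_mul_fixed_le (P : Sylow p G) [IsMulCommutative P]
    (hmin : ∀ q : ℕ, q.Prime → q ∣ Nat.card G → p ≤ q) (hexp : ∀ x ∈ (P : Subgroup G), x ^ p = 1)
    {x : G} (hx : (orderOf x).Coprime p) (hxN : x ∈ normalizer (P : Set G))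
    (hxC : x ∉ centralizer (P : Set G)) :
    4 * Nat.card ↥((P : Subgroup G) ⊓ centralizer ({x} : Set G)) ≤ Nat.card ↥(P : Subgroup G) := by
  have hcomm : ∀ a ∈ (P : Subgroup G), ∀ b ∈ (P : Subgroup G), a * b = b * a := fun a ha b hb =>
    congrArg Subtype.val (IsMulCommutative.is_comm.comm (⟨a, ha⟩ : P) ⟨b, hb⟩)
  have hxmem : ∀ v ∈ (P : Subgroup G), x * v * x⁻¹ * v⁻¹ ∈ (P : Subgroup G) := fun v hv =>
    mul_mem (((mem_normalizer_iff (H := (P : Subgroup G))).1 hxN v).1 hv) (inv_mem hv)
  let φ : ↥(P : Subgroup G) →* ↥(P : Subgroup G) :=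
    { toFun := fun v => ⟨x * v * x⁻¹ * (v : G)⁻¹, hxmem v v.2⟩
      map_one' := Subtype.ext (by simp)
      map_mul' := fun v w => Subtype.ext (by
        show x * (v * w : G) * x⁻¹ * ((v : G) * w)⁻¹
          = x * v * x⁻¹ * (v : G)⁻¹ * (x * w * x⁻¹ * (w : G)⁻¹)
        rw [mul_assoc (x * (v : G) * x⁻¹) ((v : G)⁻¹),
          hcomm _ (inv_mem v.2) _ (hxmem w w.2)]
        group) }
  have hker : φ.ker.map (P : Subgroup G).subtype
      = (P : Subgroup G) ⊓ centralizer ({x} : Set G) := by
    ext v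
    constructor
    · rintro ⟨v, hv, rfl⟩
      have h : x * (v : G) * x⁻¹ * (v : G)⁻¹ = 1 := congrArg Subtype.val hv
      rw [mul_inv_eq_one, mul_inv_eq_iff_eq_mul] at h
      exact ⟨v.2, mem_centralizer_singleton_iff.2 h.symm⟩
    · rintro ⟨hv, hvc⟩
      refine ⟨⟨v, hv⟩, Subtype.ext ?_, rfl⟩
      show x * v * x⁻¹ * v⁻¹ = 1
      rw [← mem_centralizer_singleton_iff.1 hvc, mul_inv_cancel_right, mul_inv_cancel]
  rw [← hker, card_map_of_injective (P : Subgroup G).subtype_injective, ← φ.ker.index_mul_card]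
  refine Nat.mul_le_mul_right _ ?_
  obtain ⟨k, hk⟩ := P.isPGroup'.exists_card_eq
  obtain ⟨j, -, hj⟩ := (Nat.dvd_prime_pow Fact.out).1 (hk ▸ φ.ker.index_dvd_card)
  have hp2 := (Fact.out : p.Prime).two_le
  have hfix : ∀ v ∈ (P : Subgroup G), x * v = v * x → v ∈ centralizer ({x} : Set G) :=
    fun v _ h => mem_centralizer_singleton_iff.2 h.symm
  rcases Nat.lt_or_ge j 2 with h2 | h2
  · exfalso
    have hsmall : φ.ker.index ∣ p := by
      rw [hj]; interval_cases j <;> simp
    have hI : Nat.card φ.range ∣ p := by rwa [← Subgroup.index_ker]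
    haveI : IsCyclic φ.range := by
      rcases (Nat.dvd_prime Fact.out).1 hI with h | h
      · haveI := (Nat.card_eq_one_iff_unique.1 h).1
        exact isCyclic_of_subsingleton
      · exact isCyclic_of_prime_card h
    haveI : IsCyclic (φ.range.map (P : Subgroup G).subtype) :=
      (φ.range.equivMapOfInjective _ (P : Subgroup G).subtype_injective).isCyclic.1 inferInstance
    have hIN : x ∈ normalizer ((φ.range.map (P : Subgroup G).subtype : Subgroup G) : Set G) := by
      refine mem_normalizer_iff_map_conj_eq.2 ?_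
      refine eq_of_le_of_card_ge ?_ ?_
      · rintro _ ⟨_, ⟨_, ⟨v, rfl⟩, rfl⟩, rfl⟩
        refine ⟨φ ⟨x * v * x⁻¹, ((mem_normalizer_iff (H := (P : Subgroup G))).1 hxN _).1 v.2⟩,
          ⟨_, rfl⟩, ?_⟩
        show x * (x * (v : G) * x⁻¹) * x⁻¹ * (x * (v : G) * x⁻¹)⁻¹
          = MulAut.conj x (x * (v : G) * x⁻¹ * (v : G)⁻¹)
        rw [MulAut.conj_apply]
        group
      · exact le_of_eq (card_map_of_injective (MulEquiv.injective _)).symm
    have hxI := CfsgLib.Amalgam.mem_centralizer_of_cyclic hmin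
      ((P.isPGroup'.to_subgroup φ.range).map (P : Subgroup G).subtype) hx hIN
    apply hxC
    rw [mem_centralizer_iff]
    intro v hv
    obtain ⟨z, hz⟩ : ∃ z, z = x * v * x⁻¹ * v⁻¹ := ⟨_, rfl⟩
    have hzx : z * x = x * z := (mem_centralizer_iff.1 hxI z (by
      rw [hz]; exact ⟨φ ⟨v, hv⟩, ⟨_, rfl⟩, rfl⟩))
    have hpow : ∀ n : ℕ, x ^ n * v * (x ^ n)⁻¹ = z ^ n * v := by
      intro n
      induction n with
      | zero => simp
      | succ n ih =>
        calc x ^ (n + 1) * v * (x ^ (n + 1))⁻¹ = x * (x ^ n * v * (x ^ n)⁻¹) * x⁻¹ := by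
              rw [pow_succ']; group
          _ = x * z ^ n * x⁻¹ * (x * v * x⁻¹) := by rw [ih]; group
          _ = z ^ n * (x * v * x⁻¹) := by
              rw [← (show Commute z x from hzx).pow_left n |>.eq, mul_inv_cancel_right]
          _ = z ^ n * (z * v) := by rw [hz, inv_mul_cancel_right]
          _ = z ^ (n + 1) * v := by rw [pow_succ, mul_assoc]
    have hz1 : z ^ orderOf x = 1 := by
      have := hpow (orderOf x)
      rw [pow_orderOf_eq_one, one_mul, inv_one, mul_one] at this
      exact mul_eq_right.1 this.symm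
    have hzp : z ^ p = 1 := hexp z (hz ▸ hxmem v hv)
    have : z = 1 := orderOf_eq_one_iff.1 (Nat.eq_one_of_dvd_coprimes hx
      (orderOf_dvd_of_pow_eq_one hz1) (orderOf_dvd_of_pow_eq_one hzp))
    rw [hz, mul_inv_eq_one, mul_inv_eq_iff_eq_mul] at this
    exact this.symm
  · rw [hj]
    calc 4 = 2 ^ 2 := rfl
      _ ≤ p ^ 2 := Nat.pow_le_pow_left hp2 2
      _ ≤ p ^ j := Nat.pow_le_pow_right (Fact.out : p.Prime).pos h2

/-- **The counting criterion.** -/
theorem hasNormalPComplement_of_count (P : Sylow p G) [IsMulCommutative P]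
    (hmin : ∀ q : ℕ, q.Prime → q ∣ Nat.card G → p ≤ q) (hexp : ∀ x ∈ (P : Subgroup G), x ^ p = 1)
    (hC : ∀ b : G, b ^ p = 1 → b ≠ 1 →
      Cfsg.HasNormalPComplement p (centralizer ({b} : Set G)))
    (hex : ∀ a : G, (orderOf a).Coprime p → ∃ b : G, b ^ p = 1 ∧ b ≠ 1 ∧ b * a = a * b) :
    Cfsg.HasNormalPComplement p G := by
  classical
  by_contra hnot
  have hcomm : ∀ a ∈ (P : Subgroup G), ∀ b ∈ (P : Subgroup G), a * b = b * a := fun a ha b hb =>
    congrArg Subtype.val (IsMulCommutative.is_comm.comm (⟨a, ha⟩ : P) ⟨b, hb⟩)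
  have hNC := fun h => hnot (hasNormalPComplement_of_normalizer_le_centralizer P h)
  obtain ⟨x, hx, hxN, hxC⟩ : ∃ x : G, (orderOf x).Coprime p ∧ x ∈ normalizer (P : Set G) ∧
      x ∉ centralizer (P : Set G) := by
    by_contra hne
    push Not at hne
    exact hNC (normalizer_le_centralizer_of_parts P hne)
  have := Fintype.ofFinite G
  let PS : Finset G := Finset.univ.filter fun y => y ∈ (P : Subgroup G) ∧ y ≠ 1
  let FS : Finset G := PS.filter fun y => ∀ n ∈ normalizer (P : Set G), n * y * n⁻¹ = y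
  let w : G → ℕ := fun y => if y ∈ FS then 3 else 1
  let B : Finset G := Finset.univ.filter fun b => b ^ p = 1 ∧ b ≠ 1
  let S : G → Finset G := fun b =>
    Finset.univ.filter fun a => (orderOf a).Coprime p ∧ b * a = a * b
  -- every element of order `p` is conjugate into `P`
  have hinP : ∀ b : G, ∀ k : ℕ, b ^ p ^ k = 1 → ∃ g : G, g⁻¹ * b * g ∈ (P : Subgroup G) := by
    intro b k hb
    have hz : IsPGroup p (zpowers b) := fun y => by
      obtain ⟨j, hj⟩ := mem_zpowers_iff.1 y.2
      refine ⟨k, Subtype.ext ?_⟩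
      rw [SubmonoidClass.coe_pow, OneMemClass.coe_one, ← hj, ← zpow_natCast, ← zpow_mul, mul_comm,
        zpow_mul, zpow_natCast, hb, one_zpow]
    obtain ⟨Q, hQ⟩ := hz.exists_le_sylow
    obtain ⟨g, rfl⟩ := MulAction.exists_smul_eq G P Q
    refine ⟨g, ?_⟩
    have h := hQ (mem_zpowers b)
    rw [Sylow.coe_subgroup_smul, Subgroup.mem_pointwise_smul_iff_inv_smul_mem, ← map_inv,
      MulAut.smul_def, MulAut.conj_apply, inv_inv] at h
    exact h
  -- the centralisers of elements of order `p` contain few `p'`-elements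
  have hS : ∀ b ∈ B, (S b).card * Nat.card ↥(P : Subgroup G)
      ≤ Nat.card (centralizer ({b} : Set G)) := by
    intro b hb
    rw [Finset.mem_filter] at hb
    obtain ⟨-, hbp, hb1⟩ := hb
    obtain ⟨N, hN, hNc, hNq⟩ := hasNormalPComplement_iff_exists.1 (hC b hbp hb1)
    obtain ⟨n, hn⟩ := IsPGroup.iff_card.1 hNq
    obtain ⟨g, hg⟩ := hinP b 1 (by rwa [pow_one])
    have hPle : (P : Subgroup G).map (MulAut.conj g).toMonoidHom ≤ centralizer ({b} : Set G) := by
      rintro _ ⟨y, hy, rfl⟩
      rw [mem_centralizer_singleton_iff, MulEquiv.coe_toMonoidHom, MulAut.conj_apply]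
      calc g * y * g⁻¹ * b = g * (y * (g⁻¹ * b * g)) * g⁻¹ := by group
        _ = g * ((g⁻¹ * b * g) * y) * g⁻¹ := by rw [hcomm y hy _ hg]
        _ = b * (g * y * g⁻¹) := by group
    obtain ⟨k, hk⟩ := P.isPGroup'.exists_card_eq
    have hdvd : Nat.card ↥(P : Subgroup G) ∣ p ^ n := by
      have h1 := card_dvd_of_le hPle
      rw [card_map_of_injective (MulAut.conj g).injective, ← N.index_mul_card,
        Subgroup.index_eq_card, hn, hk] at h1
      rw [hk]
      exact (hNc.symm.pow_left k).dvd_of_dvd_mul_right h1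
    have hsub : (S b).card ≤ Nat.card N := by
      rw [Nat.card_congr (N.equivMapOfInjective _ (centralizer ({b} : Set G)).subtype_injective).toEquiv,
        Nat.card_eq_fintype_card, Fintype.card_subtype]
      refine Finset.card_le_card fun a ha => ?_
      rw [Finset.mem_filter] at ha
      obtain ⟨-, hac, hab⟩ := ha
      refine Finset.mem_filter.2 ⟨Finset.mem_univ _, ?_⟩
      refine ⟨⟨a, mem_centralizer_singleton_iff.2 hab.symm⟩, ?_, rfl⟩
      exact pResidual_le_of_isPGroup_quotient hNq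
        (mem_pResidual_of_coprime (by rw [orderOf_mk]; exact hac))
    calc (S b).card * Nat.card ↥(P : Subgroup G) ≤ Nat.card N * p ^ n :=
          Nat.mul_le_mul hsub (Nat.le_of_dvd (pow_pos (Fact.out : p.Prime).pos n) hdvd)
      _ = Nat.card (centralizer ({b} : Set G)) := by
          rw [← hn, ← Subgroup.index_eq_card, mul_comm, N.index_mul_card]
  -- each element is a product of commuting parts
  have hG : Fintype.card G ≤ 2 * ∑ b ∈ B, (S b).card := by
    have hT : Fintype.card G ≤ (S 1).card + ∑ b ∈ B, (S b).card := by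
      have h1 : (S 1).card + ∑ b ∈ B, (S b).card = ((insert 1 B).sigma S).card := by
        rw [Finset.card_sigma, Finset.sum_insert (by simp [B])]
      rw [h1, ← Finset.card_univ]
      refine Finset.card_le_card_of_surjOn (fun v => v.2 * v.1) fun g _ => ?_
      obtain ⟨a, b, k, hab, ha, hb, hac, hbk⟩ := exists_parts p g
      obtain ⟨c, hc⟩ := hinP b k hbk
      have hbp : b ^ p = 1 := by
        have h := hexp _ hc
        rw [show c⁻¹ * b * c = c⁻¹ * b * c⁻¹⁻¹ by rw [inv_inv], conj_pow, inv_inv] at h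
        calc b ^ p = c * (c⁻¹ * b ^ p * c) * c⁻¹ := by group
          _ = 1 := by rw [h]; group
      obtain ⟨i, hi⟩ := mem_zpowers_iff.1 ha
      obtain ⟨j, hj⟩ := mem_zpowers_iff.1 hb
      refine ⟨⟨b, a⟩, Finset.mem_coe.2 (Finset.mem_sigma.2 ⟨?_, ?_⟩), hab.symm⟩
      · by_cases hb1 : b = 1
        · exact hb1 ▸ Finset.mem_insert_self _ _
        · exact Finset.mem_insert_of_mem (Finset.mem_filter.2 ⟨Finset.mem_univ _, hbp, hb1⟩)
      · refine Finset.mem_filter.2 ⟨Finset.mem_univ _, hac, ?_⟩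
        rw [← hi, ← hj, ← zpow_add, ← zpow_add, add_comm]
    have hle : (S 1).card ≤ ∑ b ∈ B, (S b).card := by
      rw [← Finset.card_sigma]
      refine Finset.card_le_card_of_surjOn (fun v => v.2) fun a ha => ?_
      rw [Finset.mem_coe, Finset.mem_filter] at ha
      obtain ⟨b, hbp, hb1, hab⟩ := hex a ha.2.1
      exact ⟨⟨b, a⟩, Finset.mem_coe.2 (Finset.mem_sigma.2
        ⟨Finset.mem_filter.2 ⟨Finset.mem_univ _, hbp, hb1⟩,
          Finset.mem_filter.2 ⟨Finset.mem_univ _, ha.2.1, hab⟩⟩), rfl⟩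
    omega
  -- weighted double count of conjugates
  have hcount : 3 * ∑ b ∈ B, Nat.card (centralizer ({b} : Set G))
      ≤ Fintype.card G * ∑ y ∈ PS, w y := by
    have hmaps : ∀ v ∈ PS ×ˢ (Finset.univ : Finset G), v.2 * v.1 * v.2⁻¹ ∈ B := by
      intro v hv
      rw [Finset.mem_product, Finset.mem_filter] at hv
      refine Finset.mem_filter.2 ⟨Finset.mem_univ _, ?_, fun e => hv.1.2.2 (conj_eq_one_iff.1 e)⟩
      rw [conj_pow, hexp _ hv.1.2.1, mul_one, mul_inv_cancel]
    have htot : Fintype.card G * ∑ y ∈ PS, w y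
        = ∑ b ∈ B, ∑ v ∈ (PS ×ˢ (Finset.univ : Finset G)).filter
            (fun v => v.2 * v.1 * v.2⁻¹ = b), w v.1 := by
      rw [Finset.sum_fiberwise_of_maps_to hmaps (fun v => w v.1), Finset.sum_product,
        Finset.mul_sum]
      refine Finset.sum_congr rfl fun y _ => ?_
      simp
    rw [htot, Finset.mul_sum]
    refine Finset.sum_le_sum fun b hb => ?_
    rw [Finset.mem_filter] at hb
    obtain ⟨g, hg⟩ := hinP b 1 (by rw [pow_one]; exact hb.2.1)
    obtain ⟨y, hy⟩ : ∃ y, y = g⁻¹ * b * g := ⟨_, rfl⟩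
    have hgy : g * y * g⁻¹ = b := by rw [hy]; group
    have hyP : y ∈ PS := Finset.mem_filter.2 ⟨Finset.mem_univ _, hy ▸ hg, fun e => hb.2.2 (by
      rw [← hgy, e, mul_one, mul_inv_cancel])⟩
    let CS : Finset G := Finset.univ.filter fun c => c ∈ centralizer ({b} : Set G)
    have hcard : Nat.card (centralizer ({b} : Set G)) = CS.card := by
      rw [Nat.card_eq_fintype_card, Fintype.card_subtype]
    have hmem : ∀ n ∈ normalizer (P : Set G), ∀ c ∈ CS, (n * y * n⁻¹, c * (g * n⁻¹)) ∈
        (PS ×ˢ (Finset.univ : Finset G)).filter (fun v => v.2 * v.1 * v.2⁻¹ = b) := by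
      intro n hn c hc
      refine Finset.mem_filter.2 ⟨Finset.mem_product.2 ⟨Finset.mem_filter.2
        ⟨Finset.mem_univ _, ((mem_normalizer_iff (H := (P : Subgroup G))).1 hn _).1
          (Finset.mem_filter.1 hyP).2.1,
        fun e => (Finset.mem_filter.1 hyP).2.2 (conj_eq_one_iff.1 e)⟩, Finset.mem_univ _⟩, ?_⟩
      have hcb := mem_centralizer_singleton_iff.1 (Finset.mem_filter.1 hc).2
      show c * (g * n⁻¹) * (n * y * n⁻¹) * (c * (g * n⁻¹))⁻¹ = b
      calc c * (g * n⁻¹) * (n * y * n⁻¹) * (c * (g * n⁻¹))⁻¹ = c * (g * y * g⁻¹) * c⁻¹ := by group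
        _ = b := by rw [hgy, hcb, mul_inv_cancel_right]
    by_cases hF : y ∈ FS
    · calc 3 * Nat.card (centralizer ({b} : Set G))
          = ∑ v ∈ CS.image (fun c => (y, c * g)), w v.1 := by
            rw [hcard, Finset.sum_image (fun c _ d _ e => mul_right_cancel (congrArg Prod.snd e))]
            simp only [w, if_pos hF, Finset.sum_const, smul_eq_mul, mul_comm]
        _ ≤ _ := Finset.sum_le_sum_of_subset_of_nonneg (fun v hv => by
            obtain ⟨c, hc, rfl⟩ := Finset.mem_image.1 hv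
            simpa using hmem 1 (one_mem _) c hc) (fun _ _ _ => Nat.zero_le _)
    · obtain ⟨n, hn, hny, hno⟩ : ∃ n : G, n ∈ normalizer (P : Set G) ∧ n * y * n⁻¹ ≠ y ∧
          (orderOf n).Coprime p := by
        have hF' : ¬ ∀ n ∈ normalizer (P : Set G), n * y * n⁻¹ = y := fun h =>
          hF (Finset.mem_filter.2 ⟨hyP, h⟩)
        push Not at hF'
        obtain ⟨n, hn, hny⟩ := hF'
        obtain ⟨a, c, k, hac, ha, hc, hao, hck⟩ := exists_parts p n
        have hN : zpowers n ≤ normalizer ((P : Subgroup G) : Set G) := zpowers_le.2 hn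
        refine ⟨a, hN ha, fun e => hny ?_, hao⟩
        rw [hac, show a * c * y * (a * c)⁻¹ = a * (c * y * c⁻¹) * a⁻¹ by group,
          hcomm c (mem_sylow_of_normalizer P hck (hN hc)) y (Finset.mem_filter.1 hyP).2.1,
          mul_inv_cancel_right, e]
      have hodd : Odd (orderOf n) := by
        rw [← Nat.not_even_iff_odd, even_iff_two_dvd]
        intro h2
        have hp : p = 2 := le_antisymm
          (hmin 2 Nat.prime_two (h2.trans (orderOf_dvd_natCard n))) (Fact.out : p.Prime).two_le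
        have := Nat.eq_one_of_dvd_coprimes hno h2 (hp ▸ dvd_rfl)
        omega
      let f : Fin 3 → G := fun i => n ^ (i : ℕ)
      have hfN : ∀ i, f i ∈ normalizer (P : Set G) := fun i => pow_mem hn _
      have hconj2 : n ^ 2 * y * (n ^ 2)⁻¹ = n * (n * y * n⁻¹) * n⁻¹ := by
        rw [pow_two]; group
      have hne2 : n ^ 2 * y * (n ^ 2)⁻¹ ≠ y := by
        intro e
        obtain ⟨t, ht⟩ := hodd
        have hc2 : Commute (n ^ 2) y := by
          show n ^ 2 * y = y * n ^ 2
          exact mul_inv_eq_iff_eq_mul.1 e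
        have hc := hc2.pow_left (t + 1)
        rw [← pow_mul, show 2 * (t + 1) = orderOf n + 1 by omega, pow_succ, pow_orderOf_eq_one,
          one_mul] at hc
        exact hny (by rw [hc.eq, mul_inv_cancel_right])
      have hinj : Function.Injective (fun i => f i * y * (f i)⁻¹) := by
        intro i j e
        simp only [f] at e
        have h01 : n ^ 0 * y * (n ^ 0)⁻¹ ≠ n ^ 1 * y * (n ^ 1)⁻¹ := by
          simpa using Ne.symm hny
        have h02 : n ^ 0 * y * (n ^ 0)⁻¹ ≠ n ^ 2 * y * (n ^ 2)⁻¹ := by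
          simpa using Ne.symm hne2
        have h12 : n ^ 1 * y * (n ^ 1)⁻¹ ≠ n ^ 2 * y * (n ^ 2)⁻¹ := by
          rw [hconj2, pow_one]
          intro h
          exact hny (mul_left_cancel (mul_right_cancel h)).symm
        fin_cases i <;> fin_cases j <;> first
          | rfl
          | exact absurd e h01
          | exact absurd e h01.symm
          | exact absurd e h02
          | exact absurd e h02.symm
          | exact absurd e h12
          | exact absurd e h12.symm
      calc 3 * Nat.card (centralizer ({b} : Set G))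
          = (((Finset.univ : Finset (Fin 3)) ×ˢ CS).image
              (fun v => (f v.1 * y * (f v.1)⁻¹, v.2 * (g * (f v.1)⁻¹)))).card := by
            rw [hcard, Finset.card_image_of_injective, Finset.card_product, Finset.card_univ,
              Fintype.card_fin]
            rintro ⟨i, c⟩ ⟨j, d⟩ e
            obtain ⟨e1, e2⟩ := Prod.ext_iff.1 e
            obtain rfl := hinj e1
            exact Prod.ext rfl (mul_right_cancel e2)
        _ ≤ ((PS ×ˢ (Finset.univ : Finset G)).filter (fun v => v.2 * v.1 * v.2⁻¹ = b)).card :=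
            Finset.card_le_card fun v hv => by
              obtain ⟨⟨i, c⟩, hv', rfl⟩ := Finset.mem_image.1 hv
              exact hmem (f i) (hfN i) c (Finset.mem_product.1 hv').2
        _ ≤ _ := by
            rw [Finset.card_eq_sum_ones]
            refine Finset.sum_le_sum fun v _ => ?_
            simp only [w]
            split_ifs <;> omega
  -- the weights
  have hw : ∑ y ∈ PS, w y = PS.card + 2 * FS.card := by
    have : ∀ y, w y = 1 + 2 * (if y ∈ FS then 1 else 0) := fun y => by
      simp only [w]; split_ifs <;> rfl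
    simp only [this, Finset.sum_add_distrib, ← Finset.mul_sum, Finset.sum_boole, Nat.cast_id,
      Finset.sum_const, smul_eq_mul, mul_one]
    rw [Finset.filter_mem_eq_inter, Finset.inter_eq_right.2 (Finset.filter_subset _ _)]
  have hPS : PS.card + 1 ≤ Nat.card ↥(P : Subgroup G) := by
    rw [Nat.card_eq_fintype_card, Fintype.card_subtype,
      ← Finset.card_insert_of_notMem (show (1 : G) ∉ PS by simp [PS])]
    refine Finset.card_le_card (Finset.insert_subset (by simp) fun y hy => ?_)
    exact Finset.mem_filter.2 ⟨Finset.mem_univ _, (Finset.mem_filter.1 hy).2.1⟩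
  have hFS : FS.card + 1 ≤ Nat.card ↥((P : Subgroup G) ⊓ centralizer ({x} : Set G)) := by
    rw [Nat.card_eq_fintype_card, Fintype.card_subtype,
      ← Finset.card_insert_of_notMem (show (1 : G) ∉ FS by simp [FS, PS])]
    refine Finset.card_le_card (Finset.insert_subset (by simp) fun y hy => ?_)
    obtain ⟨hy1, hy2⟩ := Finset.mem_filter.1 hy
    refine Finset.mem_filter.2 ⟨Finset.mem_univ _, (Finset.mem_filter.1 hy1).2.1, ?_⟩
    exact mem_centralizer_singleton_iff.2 (mul_inv_eq_iff_eq_mul.1 (hy2 x hxN)).symm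
  have h4 := four_mul_fixed_le P hmin hexp hx hxN hxC
  obtain ⟨q, hq⟩ : ∃ q, q = Nat.card ↥(P : Subgroup G) := ⟨_, rfl⟩
  rw [← hq] at hPS h4
  have hmain : 3 * Fintype.card G * q ≤ 2 * (Fintype.card G * (PS.card + 2 * FS.card)) := by
    calc 3 * Fintype.card G * q ≤ 3 * (2 * ∑ b ∈ B, (S b).card) * q :=
          Nat.mul_le_mul_right _ (Nat.mul_le_mul_left _ hG)
      _ = 2 * (3 * ∑ b ∈ B, (S b).card * q) := by rw [← Finset.sum_mul]; ring
      _ ≤ 2 * (3 * ∑ b ∈ B, Nat.card (centralizer ({b} : Set G))) :=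
          Nat.mul_le_mul_left _ (Nat.mul_le_mul_left _ (Finset.sum_le_sum fun b hb => hq ▸ hS b hb))
      _ ≤ _ := Nat.mul_le_mul_left _ (hw ▸ hcount)
  have hpos : 0 < Fintype.card G := Fintype.card_pos
  have : 3 * q ≤ 2 * (PS.card + 2 * FS.card) := Nat.le_of_mul_le_mul_left
    (by linarith [hmain] : Fintype.card G * (3 * q) ≤ Fintype.card G * (2 * (PS.card + 2 * FS.card)))
    hpos
  omega

end CfsgLib.Perm.CountingComplement
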