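import Cfsg.Agent.Lib.ClassK.Order720
import Cfsg.Agent.Lib.ClassK.Simple360
import Cfsg.Agent.Lib.Coprime.Basic

/-!
Transitive groups of degree 10 and order 720 with self-centralising Sylow `5`-subgroups: an element of
order 3 fixes at most one point.
-/

set_option autoImplicit false

namespace CfsgLib.Perm.DegreeTen

open Subgroup MulAction

universe u

variable {X : Type u} [Group X] [Finite X]

local instance factFiveDegreeTen : Fact (Nat.Prime 5) := ⟨Nat.prime_five⟩
local instance factThreeDegreeTen : Fact (Nat.Prime 3) := ⟨Nat.prime_three⟩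

/-- The hypothesis: order 720, and elements of order five generate their centralisers. -/
structure Hyp (X : Type u) [Group X] : Prop where
  card : Nat.card X = 720
  cent : ∀ q : X, orderOf q = 5 → Nat.card (centralizer ({q} : Set X)) = 5

theorem sylow_five (h : Hyp X) (P : Sylow 5 X) :
    Nat.card (P : Subgroup X) = 5 ∧ Nat.card (normalizer ((P : Subgroup X) : Set X)) = 20 ∧
      Nat.card (Sylow 5 X) = 36 := by
  have hP : Nat.card (P : Subgroup X) = 5 := by
    rw [P.card_eq_multiplicity, h.card, show (720 : ℕ) = 5 ^ 1 * 144 by norm_num,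
      Nat.factorization_mul (by norm_num) (by norm_num), Finsupp.add_apply,
      Nat.Prime.factorization_pow Nat.prime_five, Finsupp.single_eq_same,
      Nat.factorization_eq_zero_of_not_dvd (by norm_num)]
    norm_num
  obtain ⟨N, hN⟩ : ∃ N, N = normalizer ((P : Subgroup X) : Set X) := ⟨_, rfl⟩
  obtain ⟨q, hq⟩ := (isCyclic_of_prime_card hP).exists_generator
  have hzq : zpowers (q : X) = (P : Subgroup X) := by
    refine le_antisymm (zpowers_le.2 q.2) fun x hx => ?_
    obtain ⟨j, hj⟩ := hq ⟨x, hx⟩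
    exact ⟨j, congrArg Subtype.val hj⟩
  have hqo : orderOf (q : X) = 5 := by rw [← Nat.card_zpowers, hzq, hP]
  have hC0 : centralizer (zpowers (q : X) : Set X) = centralizer {(q : X)} := by
    rw [zpowers_eq_closure, centralizer_closure]
  have hC : centralizer ((P : Subgroup X) : Set X) = centralizer {(q : X)} := by
    rwa [hzq] at hC0
  have hle : centralizer ((P : Subgroup X) : Set X) ≤ normalizer ((P : Subgroup X) : Set X) := by
    intro x hx
    refine mem_normalizer_iff.2 fun y => ⟨fun hy => ?_, fun hy => ?_⟩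
    · rwa [← hx y hy, mul_assoc, mul_inv_cancel, mul_one]
    · have h1 := hx _ hy
      have : y = x * y * x⁻¹ := by
        have h2 : x⁻¹ * (x * y * x⁻¹) * x = x * y * x⁻¹ := by rw [mul_assoc x⁻¹, h1]; group
        calc y = x⁻¹ * (x * y * x⁻¹) * x := by group
          _ = _ := h2
      rwa [this]
  have hker : Nat.card (P : Subgroup X).normalizerMonoidHom.ker = 5 := by
    rw [normalizerMonoidHom_ker, Nat.card_congr (subgroupOfEquivOfLe hle).toEquiv, hC, h.cent _ hqo]
  have hidx : (P : Subgroup X).normalizerMonoidHom.ker.index ∣ 4 := by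
    have haut : Nat.card (MulAut (P : Subgroup X)) = 4 := by
      have := isCyclic_of_prime_card hP
      rw [IsCyclic.card_mulAut, hP, Nat.totient_prime Nat.prime_five]
    rw [index_ker, ← haut]
    exact card_subgroup_dvd_card _
  have hNc := card_mul_index (P : Subgroup X).normalizerMonoidHom.ker
  rw [hker] at hNc
  have hmod := card_sylow_modEq_one 5 X
  have htot := card_mul_index (normalizer ((P : Subgroup X) : Set X))
  have hnc : Nat.card (Sylow 5 X) = (normalizer ((P : Subgroup X) : Set X)).index :=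
    P.card_eq_index_normalizer
  rw [← hnc, h.card] at htot
  rw [Nat.ModEq] at hmod
  obtain ⟨d, hd⟩ : ∃ d, d = (P : Subgroup X).normalizerMonoidHom.ker.index := ⟨_, rfl⟩
  rw [← hd] at hidx hNc
  rw [← hNc] at htot ⊢
  have hd4 : d ≤ 4 := Nat.le_of_dvd (by norm_num) hidx
  refine ⟨hP, ?_⟩
  interval_cases d <;> omega

/-- A normal subgroup of order divisible by five has order divisible by 180. -/
theorem dvd_card_of_five (h : Hyp X) (L : Subgroup X) [L.Normal] (h5 : 5 ∣ Nat.card L) :
    180 ∣ Nat.card L ∧ Nat.card (Sylow 5 L) = 36 := by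
  obtain ⟨q, hq⟩ := exists_prime_orderOf_dvd_card' 5 h5
  obtain ⟨P₀, hP₀⟩ := (IsPGroup.of_card (p := 5) (n := 1) (G := zpowers (q : X))
    (by rw [Nat.card_zpowers, orderOf_coe, hq, pow_one])).exists_le_sylow
  have hP₀L : (P₀ : Subgroup X) ≤ L := by
    have : zpowers (q : X) = (P₀ : Subgroup X) := eq_of_le_of_card_ge hP₀
      (by rw [(sylow_five h P₀).1, Nat.card_zpowers, orderOf_coe, hq])
    rw [← this]; exact zpowers_le.2 q.2
  have hall : ∀ P : Sylow 5 X, (P : Subgroup X) ≤ L := by
    intro P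
    obtain ⟨g, rfl⟩ := exists_smul_eq X P₀ P
    intro x hx
    rw [Sylow.coe_subgroup_smul] at hx
    obtain ⟨y, hy, rfl⟩ := hx
    exact (inferInstance : L.Normal).conj_mem y (hP₀L hy) g
  have hfive : ∀ Q : Sylow 5 L, Nat.card (Q : Subgroup L) = 5 := by
    intro Q
    have hd : Nat.card L ∣ 720 := h.card ▸ card_subgroup_dvd_card L
    have h25 : ¬ 5 ^ 2 ∣ Nat.card L := fun hh => absurd (hh.trans hd) (by norm_num)
    rw [Q.card_eq_multiplicity]
    have h1 : (Nat.card L).factorization 5 = 1 := by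
      refine le_antisymm ?_ (Nat.prime_five.factorization_pos_of_dvd Nat.card_pos.ne' h5)
      by_contra hc
      exact h25 ((pow_dvd_pow 5 (not_le.1 hc)).trans (Nat.ordProj_dvd _ 5))
    rw [h1, pow_one]
  have hbij : Function.Bijective (fun P : Sylow 5 X => P.subtype (hall P)) := by
    refine ⟨fun P P' he => Sylow.subtype_injective he, fun Q => ?_⟩
    obtain ⟨P, hP⟩ := ((Q.2).map L.subtype).exists_le_sylow
    refine ⟨P, Sylow.ext ?_⟩
    refine (eq_of_le_of_card_ge (H := (Q : Subgroup L)) (K := (P.subtype (hall P) : Subgroup L)) ?_ (le_of_eq ?_)).symm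
    · intro x hx
      exact hP ⟨x, hx, rfl⟩
    · rw [hfive, hfive]
  have h36 : Nat.card (Sylow 5 L) = 36 := by
    rw [← Nat.card_congr (Equiv.ofBijective _ hbij), (sylow_five h P₀).2.2]
  refine ⟨?_, h36⟩
  have h36d : 36 ∣ Nat.card L := by
    obtain ⟨Q⟩ : Nonempty (Sylow 5 L) := inferInstance
    rw [← h36, Q.card_eq_index_normalizer]
    exact index_dvd_card _
  exact Nat.Coprime.mul_dvd_of_dvd_of_dvd (show Nat.Coprime 36 5 by norm_num) h36d h5

variable {β : Type*} [MulAction X β] [FaithfulSMul X β] [IsPretransitive X β]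

/-- A normal subgroup of order prime to five is trivial or has order sixteen. -/
theorem card_of_not_five (h : Hyp X) (hβ : Nat.card β = 10) (K : Subgroup X) [K.Normal]
    (h5 : ¬ 5 ∣ Nat.card K) : Nat.card K = 1 := by
  have : Finite β := Nat.finite_of_card_ne_zero (by omega)
  have hsq : ∀ k ∈ K, k ^ 2 = 1 := by
    intro k hk
    refine FaithfulSMul.eq_of_smul_eq_smul (α := β) fun b => ?_
    rw [one_smul]
    have hd1 : (orbit K b).ncard ∣ 10 := hβ ▸ (IsBlock.orbit_of_normal b).ncard_dvd_card
      (nonempty_orbit (M := K) b)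
    have hd2 : (orbit K b).ncard ∣ Nat.card K := by
      rw [← index_stabilizer]; exact index_dvd_card _
    have hd : (orbit K b).ncard ∣ 2 := by
      refine Nat.Coprime.dvd_of_dvd_mul_right ?_ (show (orbit K b).ncard ∣ 2 * 5 from hd1)
      exact (Nat.prime_five.coprime_iff_not_dvd.2 fun hh => h5 (hh.trans hd2)).symm
    rw [← index_stabilizer, Nat.dvd_prime Nat.prime_two] at hd
    rcases hd with e | e
    · have h1 : (⟨k, hk⟩ : K) ^ 2 ∈ stabilizer K b := by rw [index_eq_one.1 e]; exact mem_top _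
      exact h1
    · haveI := normal_of_index_eq_two e
      have h1 := pow_index_mem (stabilizer K b) (⟨k, hk⟩ : K)
      rw [e] at h1
      exact h1
  have hK2 : IsPGroup 2 K := fun k => ⟨1, by rw [pow_one]; exact Subtype.ext (hsq k k.2)⟩
  haveI : Fact (Nat.Prime 2) := ⟨Nat.prime_two⟩
  obtain ⟨a, ha⟩ := IsPGroup.iff_card.1 hK2
  have ha4 : a ≤ 4 := by
    have hd : 2 ^ a ∣ 720 := ha ▸ h.card ▸ card_subgroup_dvd_card K
    by_contra hc
    exact absurd ((pow_dvd_pow 2 (show 5 ≤ a by omega)).trans hd) (by norm_num)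
  -- a Sylow five subgroup acts on `K` fixing only the identity
  obtain ⟨P⟩ : Nonempty (Sylow 5 X) := inferInstance
  have hP := sylow_five h P
  obtain ⟨q, hq⟩ := exists_prime_orderOf_dvd_card' 5 (h.card ▸ (by norm_num : 5 ∣ 720) : 5 ∣ Nat.card X)
  let act : MulAction (zpowers q) K :=
    MulAction.compHom K ((MulAut.conjNormal (H := K)).comp (zpowers q).subtype)
  have hmod := (IsPGroup.of_card (p := 5) (n := 1) (G := zpowers q)
    (by rw [Nat.card_zpowers, hq, pow_one])).card_modEq_card_fixedPoints K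
  have hfix : fixedPoints (zpowers q) K = {1} := by
    ext k
    rw [Set.mem_singleton_iff, mem_fixedPoints]
    constructor
    · intro hk
      have h1 : MulAut.conjNormal q k = k := hk ⟨q, mem_zpowers q⟩
      have h2 : (k : X) ∈ centralizer ({q} : Set X) := by
        rintro y (rfl : y = q)
        have := congrArg Subtype.val h1
        rw [MulAut.conjNormal_apply] at this
        exact mul_inv_eq_iff_eq_mul.1 this
      have h3 := orderOf_dvd_natCard (⟨k, h2⟩ : centralizer ({q} : Set X))
      rw [h.cent q hq, ← orderOf_coe] at h3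
      have h4 : orderOf (k : X) ∣ 2 := orderOf_dvd_of_pow_eq_one (hsq k k.2)
      have h5' : orderOf (k : X) = 1 := Nat.eq_one_of_dvd_coprimes (by norm_num) h3 h4
      exact Subtype.ext (orderOf_eq_one_iff.1 h5')
    · rintro rfl g
      change MulAut.conjNormal (g : X) (1 : K) = 1
      exact map_one _
  rw [ha, hfix, Nat.card_coe_set_eq, Set.ncard_singleton] at hmod
  have ha04 : a = 0 ∨ a = 4 := by
    unfold Nat.ModEq at hmod
    interval_cases a <;> omega
  rcases ha04 with rfl | rfl
  · simpa using ha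
  exfalso
  have hcardQ : Nat.card (X ⧸ K) = 45 := by
    have := card_eq_card_quotient_mul_card_subgroup K
    rw [h.card, ha] at this
    omega
  obtain ⟨S⟩ : Nonempty (Sylow 5 (X ⧸ K)) := inferInstance
  have hS : Nat.card (S : Subgroup (X ⧸ K)) = 5 := by
    rw [S.card_eq_multiplicity, hcardQ, show (45 : ℕ) = 5 ^ 1 * 9 by norm_num,
      Nat.factorization_mul (by norm_num) (by norm_num), Finsupp.add_apply,
      Nat.Prime.factorization_pow Nat.prime_five, Finsupp.single_eq_same,
      Nat.factorization_eq_zero_of_not_dvd (by norm_num)]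
    norm_num
  have hn1 : Nat.card (Sylow 5 (X ⧸ K)) = 1 := by
    have h1 : Nat.card (Sylow 5 (X ⧸ K)) ∣ 9 := by
      have h2 := S.card_dvd_index
      have h3 := card_mul_index (S : Subgroup (X ⧸ K))
      rw [hS, hcardQ] at h3
      rwa [show (S : Subgroup (X ⧸ K)).index = 9 by omega] at h2
    have h2 := card_sylow_modEq_one 5 (X ⧸ K)
    unfold Nat.ModEq at h2
    have h3 := Nat.le_of_dvd (by norm_num) h1
    interval_cases Nat.card (Sylow 5 (X ⧸ K)) <;> omega
  haveI : Subsingleton (Sylow 5 (X ⧸ K)) := (Nat.card_eq_one_iff_unique.1 hn1).1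
  haveI : ((S : Subgroup (X ⧸ K))).Normal := S.normal_of_subsingleton
  obtain ⟨L, hL⟩ : ∃ L, L = (S : Subgroup (X ⧸ K)).comap (QuotientGroup.mk' K) := ⟨_, rfl⟩
  haveI : L.Normal := hL ▸ inferInstance
  have hLc : Nat.card L = 80 := by
    have h1 : L.index = 9 := by
      rw [hL, index_comap_of_surjective _ (QuotientGroup.mk'_surjective K)]
      have h3 := card_mul_index (S : Subgroup (X ⧸ K))
      rw [hS, hcardQ] at h3
      omega
    have h2 := card_mul_index L
    rw [h1, h.card] at h2
    omega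
  have := (dvd_card_of_five h L (by rw [hLc]; norm_num)).1
  rw [hLc] at this
  norm_num at this

/-- There is a simple normal subgroup of order 360. -/
theorem exists_simple_360 (h : Hyp X) (hβ : Nat.card β = 10) :
    ∃ M : Subgroup X, M.Normal ∧ IsSimpleGroup M ∧ Nat.card M = 360 := by
  have hna : ¬ IsMulCommutative X := by
    intro hc
    obtain ⟨q, hq⟩ := exists_prime_orderOf_dvd_card' 5 (h.card ▸ (by norm_num : 5 ∣ 720) : 5 ∣ Nat.card X)
    have htop : centralizer ({q} : Set X) = ⊤ := eq_top_iff.2 fun x _ => by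
      rintro y (rfl : y = q)
      exact hc.is_comm.comm y x
    have := h.cent q hq
    rw [htop, card_top, h.card] at this
    omega
  have hcases : ∀ L : Subgroup X, L.Normal → L ≠ ⊥ → L ≠ ⊤ → Nat.card L = 360 := by
    intro L hL hb ht
    haveI := hL
    by_cases h5 : 5 ∣ Nat.card L
    · obtain ⟨⟨m, hm⟩, h36⟩ := dvd_card_of_five h L h5
      have hd : Nat.card L ∣ 720 := h.card ▸ card_subgroup_dvd_card L
      have hlt : Nat.card L ≠ 720 := fun e => ht (eq_top_of_card_eq L (e.trans h.card.symm))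
      rw [hm] at hd hlt
      have hm4 : m ∣ 4 := Nat.dvd_of_mul_dvd_mul_left (show 0 < 180 by norm_num) hd
      have hm1 : m ≠ 1 := by
        rintro rfl
        rw [mul_one] at hm
        obtain ⟨Q⟩ : Nonempty (Sylow 5 L) := inferInstance
        have hQ : Nat.card (Q : Subgroup L) = 5 := by
          rw [Q.card_eq_multiplicity, hm, show (180 : ℕ) = 5 ^ 1 * 36 by norm_num,
            Nat.factorization_mul (by norm_num) (by norm_num), Finsupp.add_apply,
            Nat.Prime.factorization_pow Nat.prime_five, Finsupp.single_eq_same,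
            Nat.factorization_eq_zero_of_not_dvd (by norm_num)]
          norm_num
        have hN : normalizer ((Q : Subgroup L) : Set L) = Q := by
          refine (eq_of_le_of_card_ge le_normalizer ?_).symm
          have h1 := card_mul_index (normalizer ((Q : Subgroup L) : Set L))
          have hnc : Nat.card (Sylow 5 L) = (normalizer ((Q : Subgroup L) : Set L)).index :=
            Q.card_eq_index_normalizer
          rw [← hnc, h36, hm] at h1
          omega
        haveI := isCyclic_of_prime_card hQ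
        have hcen : normalizer ((Q : Subgroup L) : Set L) ≤ centralizer ((Q : Subgroup L) : Set L) := by
          rw [hN]
          intro x hx y hy
          letI := IsCyclic.commGroup (α := (Q : Subgroup L))
          exact congrArg Subtype.val (mul_comm (⟨y, hy⟩ : (Q : Subgroup L)) ⟨x, hx⟩)
        obtain ⟨T, hT⟩ : ∃ T, T = (MonoidHom.transferSylow Q hcen).ker := ⟨_, rfl⟩
        have hTc : Nat.card T = 36 := by
          have h1 := (MonoidHom.ker_transferSylow_isComplement' Q hcen).card_mul
          rw [← hT, hQ, hm] at h1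
          omega
        haveI : T.Normal := hT ▸ inferInstance
        have hTX : (T.map L.subtype).Normal := by
          refine ⟨?_⟩
          rintro _ ⟨t, ht, rfl⟩ g
          refine ⟨⟨g * t * g⁻¹, hL.conj_mem t t.2 g⟩, ?_, rfl⟩
          change (⟨g * t * g⁻¹, hL.conj_mem t t.2 g⟩ : L) ∈ T
          rw [← QuotientGroup.eq_one_iff, ← orderOf_eq_one_iff]
          have h1 := orderOf_map_dvd (QuotientGroup.mk' T) (⟨g * t * g⁻¹, hL.conj_mem t t.2 g⟩ : L)
          have h2 : orderOf (⟨g * t * g⁻¹, hL.conj_mem t t.2 g⟩ : L) ∣ 36 := by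
            have e : orderOf (⟨g * t * g⁻¹, hL.conj_mem t t.2 g⟩ : L) = orderOf (t : X) := by
              rw [← orderOf_coe]
              exact (MulAut.conj g).orderOf_eq (t : X)
            rw [e, orderOf_coe, ← hTc]
            exact Subgroup.orderOf_dvd_natCard T ht
          have h3 : orderOf (QuotientGroup.mk' T ⟨g * t * g⁻¹, hL.conj_mem t t.2 g⟩) ∣ 5 := by
            refine (_root_.orderOf_dvd_natCard _).trans ?_
            have := card_eq_card_quotient_mul_card_subgroup T
            rw [hm, hTc] at this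
            rw [show Nat.card (L ⧸ T) = 5 by omega]
          exact Nat.eq_one_of_dvd_coprimes (by norm_num) (h1.trans h2) h3
        have h1 : Nat.card (T.map L.subtype) = 1 := by
          haveI := hTX
          refine card_of_not_five h hβ _ ?_
          rw [card_subtype, hTc]
          norm_num
        rw [card_subtype, hTc] at h1
        omega
      have := Nat.le_of_dvd (by norm_num) hm4
      rw [hm]
      interval_cases m <;> omega
    · exact absurd (card_eq_one.1 (card_of_not_five h hβ L h5)) hb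
  obtain ⟨M, hMn, hMb, hMt⟩ : ∃ M : Subgroup X, M.Normal ∧ M ≠ ⊥ ∧ M ≠ ⊤ := by
    by_contra hc
    push Not at hc
    haveI : Nontrivial X := Finite.one_lt_card_iff_nontrivial.1 (by rw [h.card]; norm_num)
    haveI : IsSimpleGroup X := ⟨fun H hH => by
      by_cases hb : H = ⊥
      · exact Or.inl hb
      · exact Or.inr (hc H hH hb)⟩
    exact CfsgLib.ClassK.card_ne_720 hna h.card
  haveI := hMn
  have hMc := hcases M hMn hMb hMt
  refine ⟨M, hMn, ?_, hMc⟩
  haveI : Nontrivial M := Finite.one_lt_card_iff_nontrivial.1 (by rw [hMc]; norm_num)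
  refine ⟨fun K₀ hK₀ => ?_⟩
  by_contra hcon
  rw [not_or] at hcon
  obtain ⟨hK0b, hK0t⟩ := hcon
  obtain ⟨K, hK⟩ : ∃ K, K = K₀.map M.subtype := ⟨_, rfl⟩
  have hKM : K ≤ M := hK ▸ map_subtype_le _
  have hMK : M ≤ normalizer (K : Set X) := by
    intro m hm
    refine mem_normalizer_fintype ?_
    intro k hk
    rw [hK] at hk ⊢
    obtain ⟨k₀, hk₀, rfl⟩ := hk
    exact ⟨⟨m, hm⟩ * k₀ * ⟨m, hm⟩⁻¹, hK₀.conj_mem k₀ hk₀ _, rfl⟩
  have hKc : Nat.card K = Nat.card K₀ := by rw [hK, card_subtype]
  have hKlt : Nat.card K < 360 := by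
    rw [hKc, ← hMc]
    exact lt_of_le_of_ne (card_le_card_group K₀) fun e => hK0t (eq_top_of_card_eq K₀ e)
  have hK1 : 1 < Nat.card K := hKc ▸ (one_lt_card_iff_ne_bot K₀).2 hK0b
  have hidx : M.index = 2 := by
    have := card_mul_index M
    rw [hMc, h.card] at this
    omega
  obtain ⟨g, hg⟩ : ∃ g, g ∉ M := by
    by_contra hc
    push Not at hc
    exact hMt (eq_top_iff.2 fun x _ => hc x)
  obtain ⟨K', hK'⟩ : ∃ K', K' = K.map (MulAut.conj g).toMonoidHom := ⟨_, rfl⟩
  have hK'M : K' ≤ M := by
    rw [hK']; rintro _ ⟨k, hk, rfl⟩; exact hMn.conj_mem k (hKM hk) g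
  have hMK' : ∀ m ∈ M, ∀ k ∈ K', m * k * m⁻¹ ∈ K' := by
    intro m hm k hk
    rw [hK'] at hk ⊢
    obtain ⟨k₀, hk₀, rfl⟩ := hk
    refine ⟨(g⁻¹ * m * g) * k₀ * (g⁻¹ * m * g)⁻¹,
      (mem_normalizer_iff.1 (hMK (hMn.conj_mem' m hm g)) k₀).1 hk₀, ?_⟩
    simp only [MulEquiv.coe_toMonoidHom, MulAut.conj_apply]
    group
  have hsw : ∀ k ∈ K', g * k * g⁻¹ ∈ K := by
    intro k hk
    rw [hK'] at hk
    obtain ⟨k₀, hk₀, rfl⟩ := hk
    have h2 : g * g ∈ M := by rw [mul_mem_iff_of_index_two hidx]
    have h3 := (mem_normalizer_iff.1 (hMK h2) k₀).1 hk₀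
    simp only [MulEquiv.coe_toMonoidHom, MulAut.conj_apply]
    rwa [show g * (g * k₀ * g⁻¹) * g⁻¹ = g * g * k₀ * (g * g)⁻¹ by group]
  have hsw' : ∀ k ∈ K, g * k * g⁻¹ ∈ K' := fun k hk => hK' ▸ ⟨k, hk, rfl⟩
  have hnormal : ∀ S : Subgroup X, (∀ m ∈ M, ∀ s ∈ S, m * s * m⁻¹ ∈ S) →
      (∀ s ∈ S, g * s * g⁻¹ ∈ S) → S.Normal := by
    intro S h1 h2
    refine ⟨fun s hs x => ?_⟩
    by_cases hx : x ∈ M
    · exact h1 x hx s hs
    · have hxg : x * g⁻¹ ∈ M := by
        rw [mul_mem_iff_of_index_two hidx]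
        simp [hx, hg]
      have := h1 _ hxg _ (h2 s hs)
      rwa [show x * g⁻¹ * (g * s * g⁻¹) * (x * g⁻¹)⁻¹ = x * s * x⁻¹ by group] at this
  have hI : K ⊓ K' = ⊥ := by
    by_contra hc
    have hn := hnormal (K ⊓ K')
      (fun m hm s hs => ⟨(mem_normalizer_iff.1 (hMK hm) s).1 hs.1, hMK' m hm s hs.2⟩)
      (fun s hs => ⟨hsw s hs.2, hsw' s hs.1⟩)
    have hle : Nat.card ↥(K ⊓ K') ≤ Nat.card K := card_le_of_le inf_le_left
    have h360 := hcases _ hn hc (fun e => by rw [e, card_top, h.card] at hle; omega)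
    omega
  have hsup : Nat.card ↥(K' ⊔ K) = Nat.card K' * Nat.card K :=
    CfsgLib.Coprime.card_sup_of_inf_eq_bot
      (fun k hk => mem_normalizer_fintype fun k' hk' => hMK' k (hKM hk) k' hk') hI
  have hK'c : Nat.card K' = Nat.card K := by
    rw [hK']
    exact (Nat.card_congr (K.equivMapOfInjective _ (MulAut.conj g).injective).toEquiv).symm
  have hsM : K' ⊔ K ≤ M := sup_le hK'M hKM
  have hn := hnormal (K' ⊔ K)
    (fun m hm s hs => by
      have hmap : (K' ⊔ K).map (MulAut.conj m).toMonoidHom ≤ K' ⊔ K := by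
        rw [Subgroup.map_sup]
        refine sup_le_sup ?_ ?_
        · rintro _ ⟨k, hk, rfl⟩; exact hMK' m hm k hk
        · rintro _ ⟨k, hk, rfl⟩; exact (mem_normalizer_iff.1 (hMK hm) k).1 hk
      exact hmap ⟨s, hs, rfl⟩)
    (fun s hs => by
      have hmap : (K' ⊔ K).map (MulAut.conj g).toMonoidHom ≤ K' ⊔ K := by
        rw [Subgroup.map_sup]
        refine sup_le ?_ ?_
        · rintro _ ⟨k, hk, rfl⟩; exact mem_sup_right (hsw k hk)
        · rintro _ ⟨k, hk, rfl⟩; exact mem_sup_left (hsw' k hk)
      exact hmap ⟨s, hs, rfl⟩)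
  have h360 := hcases _ hn
    (fun e => by rw [e, card_bot, hK'c] at hsup; nlinarith)
    (fun e => hMt (top_le_iff.1 (e ▸ hsM)))
  rw [h360, hK'c] at hsup
  have : Nat.card K < 19 := by nlinarith
  interval_cases Nat.card K <;> omega

/-- An element of order three fixes at most one point. -/
theorem eq_of_fixed (h : Hyp X) (hβ : Nat.card β = 10) {x : X} (hx : orderOf x = 3) {b c : β}
    (hb : x • b = b) (hc : x • c = c) : b = c := by
  have : Finite β := Nat.finite_of_card_ne_zero (by omega)
  obtain ⟨M, hMn, hMs, hMc⟩ := exists_simple_360 h hβ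
  haveI := hMn
  haveI := hMs
  have hidx : M.index = 2 := by
    have := card_mul_index M
    rw [hMc, h.card] at this
    omega
  have hxM : x ∈ M := by
    have h2 : x * x ∈ M := by rw [mul_mem_iff_of_index_two hidx]
    have h3 : x * x * x = 1 := by rw [← pow_three', ← hx, pow_orderOf_eq_one]
    rw [eq_inv_of_mul_eq_one_right h3]
    exact inv_mem h2
  have horb : ∀ d : β, (orbit M d).ncard = 10 := by
    intro d
    have hd : (orbit M d).ncard ∣ 10 := hβ ▸ (IsBlock.orbit_of_normal d).ncard_dvd_card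
      (nonempty_orbit (M := M) d)
    have hpos : 1 < (orbit M d).ncard := by
      by_contra hle
      have h1 : (stabilizer M d).index = 1 := by
        rw [index_stabilizer]
        have := (Set.ncard_pos).2 (nonempty_orbit (M := M) d)
        omega
      have hfix : ∀ m ∈ M, m • d = d := fun m hm => by
        have := mem_top (⟨m, hm⟩ : M)
        rw [← index_eq_one.1 h1] at this
        exact this
      have hall : ∀ m ∈ M, m = 1 := by
        intro m hm
        refine FaithfulSMul.eq_of_smul_eq_smul (α := β) fun e => ?_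
        obtain ⟨y, rfl⟩ := exists_smul_eq X d e
        have := hfix _ (hMn.conj_mem' m hm y)
        rw [mul_smul, mul_smul, inv_smul_eq_iff] at this
        rw [this, one_smul]
      have : M = ⊥ := (eq_bot_iff_forall M).2 hall
      rw [this, card_bot] at hMc
      omega
    have hne2 : (orbit M d).ncard ≠ 2 := by
      intro e
      rw [← index_stabilizer] at e
      haveI := normal_of_index_eq_two e
      rcases IsSimpleGroup.eq_bot_or_eq_top_of_normal (stabilizer M d) inferInstance with h1 | h1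
      · rw [h1, index_bot, hMc] at e; omega
      · rw [h1, index_top] at e; omega
    have hne5 : (orbit M d).ncard ≠ 5 := by
      intro e
      let φ := MulAction.toPermHom M (orbit M d)
      rcases IsSimpleGroup.eq_bot_or_eq_top_of_normal φ.ker inferInstance with h1 | h1
      · have h2 := Nat.card_le_card_of_injective φ ((MonoidHom.ker_eq_bot_iff φ).1 h1)
        rw [Nat.card_perm, Nat.card_coe_set_eq, e, hMc] at h2
        norm_num [Nat.factorial] at h2
      · have h2 : (stabilizer M d) = ⊤ := eq_top_iff.2 fun m _ => by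
          have h3 : φ m = 1 := MonoidHom.mem_ker.1 (h1 ▸ mem_top m)
          have h4 := congrArg Subtype.val (Equiv.congr_fun h3 ⟨d, mem_orbit_self d⟩)
          exact h4
        rw [← index_stabilizer, h2, index_top] at e
        omega
    have h10 := Nat.le_of_dvd (by norm_num) hd
    obtain ⟨n, hn⟩ : ∃ n, n = (orbit M d).ncard := ⟨_, rfl⟩
    rw [← hn] at hd hpos hne2 hne5 h10 ⊢
    interval_cases n <;> omega
  have hstab : ∀ d : β, Nat.card (stabilizer M d) = 36 := fun d => by
    have := card_mul_index (stabilizer M d)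
    rw [index_stabilizer, horb d, hMc] at this
    omega
  have hnine : ∀ P : Sylow 3 M, Nat.card (P : Subgroup M) = 9 := fun P =>
    ((CfsgLib.ClassK.card_sylow_three_360 hMc).2 P).1
  have huniq : ∀ (d : β) (P P' : Sylow 3 M), (P : Subgroup M) ≤ stabilizer M d →
      (P' : Subgroup M) ≤ stabilizer M d → P' = P := by
    intro d P P' hP hP'
    by_contra hne
    have hinj : Function.Injective (fun z : ↥(P : Subgroup M) × ↥(P' : Subgroup M) =>
        (⟨(z.1 : M) * z.2, mul_mem (hP z.1.2) (hP' z.2.2)⟩ : stabilizer M d)) := by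
      intro z w he
      have h1 : (z.1 : M) * z.2 = w.1 * w.2 := congrArg Subtype.val he
      have h2 : (w.1 : M)⁻¹ * z.1 = w.2 * (z.2 : M)⁻¹ :=
        calc (w.1 : M)⁻¹ * z.1 = (w.1 : M)⁻¹ * ((z.1 : M) * z.2) * (z.2 : M)⁻¹ := by group
          _ = _ := by rw [h1]; group
      have h3 : (w.1 : M)⁻¹ * z.1 = 1 := CfsgLib.ClassK.sylow_three_ti_360 hMc hne
        (mul_mem (inv_mem w.1.2) z.1.2) (h2 ▸ mul_mem w.2.2 (inv_mem z.2.2))
      rw [h3, eq_comm, mul_inv_eq_one] at h2
      exact Prod.ext (Subtype.ext (inv_mul_eq_one.1 h3).symm) (Subtype.ext h2.symm)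
    have h1 := Nat.card_le_card_of_injective _ hinj
    rw [Nat.card_prod, hnine, hnine, hstab] at h1
    omega
  have hexists : ∀ (d : β) (y : M), y • d = d → y ^ 3 = 1 →
      ∃ P : Sylow 3 M, (P : Subgroup M) ≤ stabilizer M d ∧ y ∈ (P : Subgroup M) := by
    intro d y hy hy3
    have hy' : IsPGroup 3 (zpowers (⟨y, hy⟩ : stabilizer M d)) := by
      intro z
      refine ⟨1, ?_⟩
      obtain ⟨j, hj⟩ := z.2
      refine Subtype.ext ?_
      rw [pow_one, SubmonoidClass.coe_pow, OneMemClass.coe_one, ← hj, ← zpow_natCast, ← zpow_mul, mul_comm,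
        zpow_mul, zpow_natCast, show (⟨y, hy⟩ : stabilizer M d) ^ 3 = 1 from Subtype.ext hy3, one_zpow]
    obtain ⟨R, hR⟩ := hy'.exists_le_sylow
    have hR9 : Nat.card (R : Subgroup (stabilizer M d)) = 9 := by
      rw [R.card_eq_multiplicity, hstab, show (36 : ℕ) = 3 ^ 2 * 4 by norm_num,
        Nat.factorization_mul (by norm_num) (by norm_num), Finsupp.add_apply,
        Nat.Prime.factorization_pow Nat.prime_three, Finsupp.single_eq_same,
        Nat.factorization_eq_zero_of_not_dvd (by norm_num)]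
      norm_num
    obtain ⟨P, hP⟩ := (R.2.map (stabilizer M d).subtype).exists_le_sylow
    have heq : (R : Subgroup (stabilizer M d)).map (stabilizer M d).subtype = (P : Subgroup M) :=
      eq_of_le_of_card_ge hP (by rw [card_subtype, hR9, hnine])
    exact ⟨P, heq ▸ map_subtype_le _, hP ⟨⟨y, hy⟩, hR (mem_zpowers _), rfl⟩⟩
  obtain ⟨y, hy⟩ : ∃ y : M, (y : X) = x := ⟨⟨x, hxM⟩, rfl⟩
  have hy3 : y ^ 3 = 1 := Subtype.ext (by rw [SubmonoidClass.coe_pow, hy, ← hx, pow_orderOf_eq_one]; rfl)
  obtain ⟨P, hPb, hyP⟩ := hexists b y (by rw [Subgroup.smul_def, hy, hb]) hy3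
  obtain ⟨P', hP'c, hyP'⟩ := hexists c y (by rw [Subgroup.smul_def, hy, hc]) hy3
  have hPP' : P' = P := by
    by_contra hne
    have := CfsgLib.ClassK.sylow_three_ti_360 hMc hne hyP hyP'
    rw [this, OneMemClass.coe_one] at hy
    rw [← hy, orderOf_one] at hx
    omega
  subst hPP'
  have hN : ∀ d : β, (P' : Subgroup M) ≤ stabilizer M d →
      normalizer ((P' : Subgroup M) : Set M) = stabilizer M d := by
    intro d hd
    have hle : stabilizer M d ≤ normalizer ((P' : Subgroup M) : Set M) := by
      intro m hm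
      refine mem_normalizer_fintype fun z hz => ?_
      have h1 : ((m • P' : Sylow 3 M) : Subgroup M) ≤ stabilizer M d := by
        rw [Sylow.coe_subgroup_smul]
        rintro _ ⟨w, hw, rfl⟩
        exact mul_mem (mul_mem hm (hd hw)) (inv_mem hm)
      have h2 := huniq d P' (m • P') hd h1
      rw [← h2, Sylow.coe_subgroup_smul]
      exact ⟨z, hz, rfl⟩
    refine (eq_of_le_of_card_ge hle ?_).symm
    have h1 := card_mul_index (normalizer ((P' : Subgroup M) : Set M))
    have hnc : Nat.card (Sylow 3 M) = (normalizer ((P' : Subgroup M) : Set M)).index :=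
      P'.card_eq_index_normalizer
    rw [← hnc, (CfsgLib.ClassK.card_sylow_three_360 hMc).1, hMc] at h1
    rw [hstab]
    omega
  have htr : c ∈ orbit M b := by
    have h1 : orbit M b = Set.univ := Set.eq_of_subset_of_ncard_le (Set.subset_univ _)
      (by rw [Set.ncard_univ, hβ, horb b])
    rw [h1]; trivial
  obtain ⟨m, rfl⟩ := htr
  have hm : m ∈ normalizer ((P' : Subgroup M) : Set M) := by
    refine mem_normalizer_fintype fun z hz => ?_
    have h1 : ((m • P' : Sylow 3 M) : Subgroup M) ≤ stabilizer M (m • b) := by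
      rw [Sylow.coe_subgroup_smul]
      rintro _ ⟨w, hw, rfl⟩
      have hw' : w • b = b := hPb hw
      change (m * w * m⁻¹) • (m • b) = m • b
      rw [← mul_smul, inv_mul_cancel_right, mul_smul, hw']
    have h2 := huniq _ P' (m • P') hP'c h1
    rw [← h2, Sylow.coe_subgroup_smul]
    exact ⟨z, hz, rfl⟩
  rw [hN b hPb] at hm
  exact hm.symm

end CfsgLib.Perm.DegreeTen
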