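import Cfsg.Agent.Lib.Perm.DegreeElevenTools
import Cfsg.Agent.Lib.Perm.DegreeElevenTen
import Cfsg.Agent.S0675

/-!
An even transitive group of degree 11 and order 7920 is sharply 4-transitive.
-/

set_option autoImplicit false

namespace CfsgLib.Perm.DegreeEleven

open Subgroup MulAction

universe u

variable {α : Type u} [Fintype α] [DecidableEq α]

/-- The support of an involution in an even group without double transpositions. -/
theorem support_invol (hα : Fintype.card α = 11) (G : Subgroup (Equiv.Perm α)) [IsPretransitive G α]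
    (hA : ¬ alternatingGroup α ≤ G) (hE : G ≤ alternatingGroup α) {t : Equiv.Perm α} (ht : t ∈ G)
    (ht2 : t ^ 2 = 1) (ht1 : t ≠ 1) : t.support.card = 8 := by
  obtain ⟨hd, -⟩ := support_multiple Nat.prime_two ht2
  obtain ⟨hs, hle⟩ := sign_of_prime hα ht2
  rw [Equiv.Perm.mem_alternatingGroup.1 (hE ht)] at hs
  have h0 : t.support.card ≠ 0 := fun e => ht1 (Equiv.Perm.support_eq_empty_iff.1 (Finset.card_eq_zero.1 e))
  have h4 : t.support.card ≠ 4 := fun e => not_double hα G hA ht e
  obtain ⟨m, hm⟩ := hd
  rw [hm, Nat.mul_div_cancel_left _ two_pos] at hs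
  have hm5 : m ≤ 5 := by omega
  interval_cases m
  · omega
  · exact absurd hs (by decide)
  · omega
  · exact absurd hs (by decide)
  · omega
  · exact absurd hs (by decide)

theorem sharp (hα : Fintype.card α = 11) (G : Subgroup (Equiv.Perm α)) [IsPretransitive G α]
    (hA : ¬ alternatingGroup α ≤ G) (hE : G ≤ alternatingGroup α) (hc : Nat.card G = 7920)
    (hG : ¬ Group.IsSolvable G) :
    IsMultiplyPretransitive G α 4 ∧ ∀ x : Fin 4 ↪ α, stabilizer G x = ⊥ := by
  haveI : Fact (Nat.Prime 11) := ⟨by decide +kernel⟩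
  have h11 : Nat.card α = 11 := by rw [Nat.card_eq_fintype_card, hα]
  haveI hprim : IsPreprimitive G α := IsPreprimitive.of_prime_card (by rw [h11]; exact Fact.out)
  have h2t : IsMultiplyPretransitive G α 2 :=
    ((Cfsg.Agent.S0675.result (by rw [hα]; exact Fact.out) G).resolve_left hG)
  -- elements of order three moving six points do not exist
  have hthree : ∀ x ∈ G, x ^ 3 = 1 → x.support.card ≠ 6 := by
    intro x hx hx3 hs
    have hfix : 3 ≤ (x.supportᶜ).card := by rw [Finset.card_compl, hα, hs]; norm_num
    obtain ⟨a, b, c, ha, hb, hc', hab, hac, hbc⟩ := Finset.two_lt_card_iff.1 (show 2 < (x.supportᶜ).card by omega)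
    rw [Finset.mem_compl, Equiv.Perm.notMem_support] at ha hb hc'
    let β := SubMulAction.ofStabilizer G a
    haveI hXt : IsPretransitive (stabilizer G a) β :=
      is_one_pretransitive_iff.1 ((SubMulAction.ofStabilizer.isMultiplyPretransitive (a := a)).1 h2t)
    haveI : FaithfulSMul (stabilizer G a) β := ⟨fun {g h} he => by
      refine Subtype.ext (Subtype.ext (Equiv.ext fun y => ?_))
      by_cases hy : y = a
      · subst hy
        exact (g.2 : (g : G) • y = y).trans (h.2 : (h : G) • y = y).symm
      · exact congrArg Subtype.val (he ⟨y, fun e => hy e⟩)⟩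
    have hβ : Nat.card β = 10 := by
      have := SubMulAction.nat_card_ofStabilizer_add_one_eq G a
      rw [h11] at this
      exact Nat.succ_injective this
    have hXc : Nat.card (stabilizer G a) = 720 := by
      have := card_mul_index (stabilizer G a)
      rw [index_stabilizer_of_transitive, h11, hc] at this
      omega
    have hyp : CfsgLib.Perm.DegreeTen.Hyp (stabilizer G a) := by
      refine ⟨hXc, fun q hq => ?_⟩
      obtain ⟨v, hv⟩ : ∃ v : Equiv.Perm α, v = ((q : G) : Equiv.Perm α) := ⟨_, rfl⟩
      have hv5 : v ^ 5 = 1 := by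
        rw [hv, ← SubmonoidClass.coe_pow, ← SubmonoidClass.coe_pow, ← hq, pow_orderOf_eq_one]; rfl
      have hv1 : v ≠ 1 := by
        intro e
        have : q = 1 := Subtype.ext (Subtype.ext (hv ▸ e))
        rw [this, orderOf_one] at hq
        omega
      obtain ⟨hd, hct⟩ := support_multiple Nat.prime_five hv5
      have hs10 : v.support.card = 10 := by
        have h1 := v.support.card_le_univ
        have h0 : v.support.card ≠ 0 := fun e =>
          hv1 (Equiv.Perm.support_eq_empty_iff.1 (Finset.card_eq_zero.1 e))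
        have h5 := support_ne_prime hα G hprim hA Nat.prime_five (by norm_num) (hv ▸ (q : G).2) hv5
        obtain ⟨m, hm⟩ := hd
        omega
      have hC50 : Nat.card (centralizer ({v} : Set (Equiv.Perm α))) = 50 := by
        rw [Equiv.Perm.nat_card_centralizer, hct, hs10, hα]
        decide
      have hdvd : Nat.card (centralizer ({q} : Set (stabilizer G a))) ∣ 10 := by
        have h1 : Nat.card (centralizer ({q} : Set (stabilizer G a))) ∣ 720 :=
          hXc ▸ card_subgroup_dvd_card _
        have h2 : Nat.card (centralizer ({q} : Set (stabilizer G a))) ∣ 50 := by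
          rw [← hC50]
          let ψ : centralizer ({q} : Set (stabilizer G a)) →* centralizer ({v} : Set (Equiv.Perm α)) :=
            { toFun := fun c => ⟨((c : stabilizer G a) : G), mem_centralizer_singleton_iff.2 (by
                have h3 := mem_centralizer_singleton_iff.1 c.2
                have h4 := congrArg (fun z : stabilizer G a => ((z : G) : Equiv.Perm α)) h3
                rw [hv]; simpa using h4)⟩
              map_one' := rfl
              map_mul' := fun _ _ => rfl }
          refine card_dvd_of_injective ψ fun c d he => ?_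
          exact Subtype.ext (Subtype.ext (Subtype.ext (congrArg Subtype.val he :)))
        exact (Nat.dvd_gcd h1 h2).trans (by norm_num)
      have h5 : 5 ∣ Nat.card (centralizer ({q} : Set (stabilizer G a))) := by
        rw [← hq, ← orderOf_mk q (mem_centralizer_singleton_iff.2 rfl)]
        exact _root_.orderOf_dvd_natCard _
      obtain ⟨m, hm⟩ := h5
      have hm2 : m = 1 ∨ m = 2 := by
        rw [hm] at hdvd
        exact (Nat.dvd_prime Nat.prime_two).1 (Nat.dvd_of_mul_dvd_mul_left (show 0 < 5 by norm_num) hdvd)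
      rcases hm2 with rfl | rfl
      · rw [hm]
      exfalso
      haveI : Fact (Nat.Prime 2) := ⟨Nat.prime_two⟩
      obtain ⟨t, ht⟩ := exists_prime_orderOf_dvd_card' 2
        (show 2 ∣ Nat.card (centralizer ({q} : Set (stabilizer G a))) from ⟨5, by rw [hm]⟩)
      obtain ⟨T, hT⟩ : ∃ T : Equiv.Perm α, T = ((((t : stabilizer G a) : G)) : Equiv.Perm α) := ⟨_, rfl⟩
      have hT2 : T ^ 2 = 1 := by
        rw [hT, ← SubmonoidClass.coe_pow, ← SubmonoidClass.coe_pow, ← SubmonoidClass.coe_pow, ← ht,
          pow_orderOf_eq_one]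
        rfl
      have hT1 : T ≠ 1 := by
        intro e
        have : t = 1 := Subtype.ext (Subtype.ext (Subtype.ext (hT ▸ e)))
        rw [this, orderOf_one] at ht
        omega
      have h8 := support_invol hα G hA hE (hT ▸ ((t : stabilizer G a) : G).2) hT2 hT1
      have hcomm : T * v = v * T := by
        have h4 := congrArg (fun z : stabilizer G a => ((z : G) : Equiv.Perm α))
          (mem_centralizer_singleton_iff.1 t.2)
        rw [hv, hT]; simpa using h4
      have hfixv : (v.supportᶜ).card = 1 := by rw [Finset.card_compl, hα, hs10]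
      have hF : (T.supportᶜ).card = 3 := by rw [Finset.card_compl, hα, h8]
      have hsub : T.supportᶜ ⊆ v.supportᶜ := by
        intro z hz
        rw [Finset.mem_compl, Equiv.Perm.notMem_support] at hz ⊢
        obtain ⟨i, j, hij, he⟩ := Fintype.exists_ne_map_eq_of_card_lt
          (fun i : Fin 5 => (⟨(v ^ (i : ℕ)) z, by
            rw [Finset.mem_compl, Equiv.Perm.notMem_support, ← Equiv.Perm.mul_apply,
              ((show Commute T v from hcomm).pow_right _).eq, Equiv.Perm.mul_apply, hz]⟩ : ↥(T.supportᶜ)))
          (by rw [Fintype.card_coe, hF, Fintype.card_fin]; norm_num)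
        have he' : (v ^ (i : ℕ)) z = (v ^ (j : ℕ)) z := congrArg Subtype.val he
        have h6 : (v ^ ((i : ℤ) - (j : ℤ))) z = z := by
          rw [sub_eq_neg_add, zpow_add, Equiv.Perm.mul_apply, zpow_natCast, he', ← zpow_natCast,
            ← Equiv.Perm.mul_apply, ← zpow_add, neg_add_cancel, zpow_zero, Equiv.Perm.one_apply]
        have h7 : ¬ (5 : ℤ) ∣ (i : ℤ) - j := by
          intro h8'
          apply hij
          have := i.2
          have := j.2
          exact Fin.ext (by omega)
        obtain ⟨r, s, hrs⟩ := ((Nat.prime_iff_prime_int.1 Nat.prime_five).coprime_iff_not_dvd.2 h7 :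
          IsCoprime ((5 : ℕ) : ℤ) ((i : ℤ) - j))
        have h8' : v = (v ^ ((i : ℤ) - j)) ^ s := by
          conv_lhs => rw [← zpow_one v, ← hrs, zpow_add, mul_comm r, zpow_mul, zpow_natCast, hv5, one_zpow,
            one_mul, mul_comm s, zpow_mul]
        rw [h8']
        exact Equiv.Perm.zpow_apply_eq_self_of_apply_eq_self h6 s
      have := Finset.card_le_card hsub
      omega
    have hxa : (⟨x, hx⟩ : G) ∈ stabilizer G a := ha
    have hord : orderOf (⟨⟨x, hx⟩, hxa⟩ : stabilizer G a) = 3 := by
      haveI : Fact (Nat.Prime 3) := ⟨Nat.prime_three⟩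
      refine orderOf_eq_prime (Subtype.ext (Subtype.ext hx3)) fun e => ?_
      have : x = 1 := congrArg (fun z : stabilizer G a => ((z : G) : Equiv.Perm α)) e
      rw [this, Equiv.Perm.support_one, Finset.card_empty] at hs
      omega
    have hbc' := CfsgLib.Perm.DegreeTen.eq_of_fixed (β := β) hyp hβ hord
      (b := ⟨b, fun e => hab (Set.mem_singleton_iff.1 e).symm⟩)
      (c := ⟨c, fun e => hac (Set.mem_singleton_iff.1 e).symm⟩) (Subtype.ext hb) (Subtype.ext hc')
    exact hbc (congrArg Subtype.val hbc')
  have hstab : ∀ x : Fin 4 ↪ α, stabilizer G x = ⊥ := by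
    intro x
    rw [eq_bot_iff_forall]
    intro g hg
    by_contra hg1
    obtain ⟨q, hq, m, hm⟩ := Nat.exists_prime_and_dvd (n := orderOf g) (by
      rw [Ne, orderOf_eq_one_iff]; exact hg1)
    have hm0 : m ≠ 0 := fun h0 => (orderOf_pos g).ne' (by rw [hm, h0, mul_zero])
    obtain ⟨v, hv⟩ : ∃ v : Equiv.Perm α, v = ((g ^ m : G) : Equiv.Perm α) := ⟨_, rfl⟩
    have hvq : v ^ q = 1 := by
      rw [hv, ← SubmonoidClass.coe_pow, ← pow_mul, mul_comm m, ← hm, pow_orderOf_eq_one]; rfl
    have hv1 : v ≠ 1 := by
      intro e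
      have h0 : g ^ m = 1 := Subtype.ext (hv ▸ e)
      have h1 := Nat.le_of_dvd (Nat.pos_of_ne_zero hm0) (hm ▸ orderOf_dvd_of_pow_eq_one h0)
      have h2 := Nat.mul_le_mul_right m hq.two_le
      omega
    have hsub : v.support ⊆ (Finset.univ.map x)ᶜ := by
      intro y hy
      rw [Finset.mem_compl, Finset.mem_map]
      rintro ⟨i, -, rfl⟩
      refine Equiv.Perm.mem_support.1 hy ?_
      rw [hv, SubmonoidClass.coe_pow]
      exact Equiv.Perm.pow_apply_eq_self_of_apply_eq_self (DFunLike.congr_fun (mem_stabilizer_iff.1 hg) i) m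
    have h7 := Finset.card_le_card hsub
    rw [Finset.card_compl, Finset.card_map, Finset.card_univ, Fintype.card_fin, hα] at h7
    obtain ⟨hd, -⟩ := support_multiple hq hvq
    have h0 : v.support.card ≠ 0 := fun e =>
      hv1 (Equiv.Perm.support_eq_empty_iff.1 (Finset.card_eq_zero.1 e))
    have hq7 : q ≤ 7 := (Nat.le_of_dvd (Nat.pos_of_ne_zero h0) hd).trans h7
    have hvG : v ∈ G := hv ▸ (g ^ m).2
    have hne := support_ne_prime hα G hprim hA hq hq7 hvG hvq
    obtain ⟨l, hl⟩ := hd
    have hq2 := hq.two_le
    interval_cases q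
    · have := support_invol hα G hA hE hvG hvq hv1
      omega
    · have := hthree v hvG hvq
      omega
    all_goals first | omega | norm_num at hq
  refine ⟨?_, hstab⟩
  rw [isMultiplyPretransitive_iff]
  obtain ⟨x₀⟩ : Nonempty (Fin 4 ↪ α) := Function.Embedding.nonempty_of_card_le (by simp [hα])
  have horb : orbit G x₀ = Set.univ := by
    refine Set.eq_of_subset_of_ncard_le (Set.subset_univ _) ?_
    have e : (orbit G x₀).ncard = 7920 := by
      refine ((Nat.card_coe_set_eq _).symm.trans (Nat.card_congr (orbitEquivQuotientStabilizer G x₀))).trans ?_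
      rw [← index_eq_card, hstab, index_bot, hc]
    rw [e, Set.ncard_univ, Nat.card_eq_fintype_card, Fintype.card_embedding_eq, Fintype.card_fin, hα]
    decide
  intro x y
  obtain ⟨g, hg⟩ := horb.symm ▸ Set.mem_univ x
  obtain ⟨h, hh⟩ := horb.symm ▸ Set.mem_univ y
  refine ⟨h * g⁻¹, ?_⟩
  simp only at hg hh
  rw [← hg, ← hh]
  exact (mul_smul h g⁻¹ _).trans (congrArg (h • ·) (inv_smul_smul g x₀))

end CfsgLib.Perm.DegreeEleven
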