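import Cfsg.Agent.Lib.Perm.PrimeDegreeSylow
import Cfsg.Agent.S0713

/-!
Tools for groups of degree eleven: small supports and full Sylow subgroups.
-/

set_option autoImplicit false

namespace CfsgLib.Perm.DegreeEleven

open Subgroup MulAction
open scoped commutatorElement

universe u

variable {α : Type u} [Fintype α] [DecidableEq α]

theorem quad_shift : ∀ a < 11, ∀ b < a, ∀ c < b, ∀ d < c, (List.range 11).any (fun i =>
    (([a, b, c, d]).filter fun x => [a, b, c, d].any fun y => (y + i) % 11 == x).length == 1) = true := by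
  decide +kernel

theorem no_small_sets {S : Finset (Fin 11)} (hS : S.card = 4) :
    ∃ i : Fin 11, (S ∩ S.image (· + i)).card = 1 := by
  obtain ⟨f, hf⟩ : ∃ f : Fin 4 ↪o Fin 11, Finset.univ.image f = S :=
    ⟨S.orderEmbOfFin hS, Finset.image_orderEmbOfFin_univ S hS⟩
  obtain ⟨l, hl⟩ : ∃ l : List ℕ, l = [(f 3 : ℕ), (f 2 : ℕ), (f 1 : ℕ), (f 0 : ℕ)] := ⟨_, rfl⟩
  have hlt : ∀ {i j : Fin 4}, i < j → (f i : ℕ) < (f j : ℕ) := fun h => f.strictMono h
  have h1 := quad_shift _ (f 3).2 _ (hlt (show (2 : Fin 4) < 3 by decide)) _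
    (hlt (show (1 : Fin 4) < 2 by decide)) _ (hlt (show (0 : Fin 4) < 1 by decide))
  rw [← hl, List.any_eq_true] at h1
  obtain ⟨i, hi, h2⟩ := h1
  rw [beq_iff_eq] at h2
  refine ⟨⟨i, List.mem_range.1 hi⟩, ?_⟩
  have hmem : ∀ x : Fin 11, x ∈ S ↔ (x : ℕ) ∈ l := by
    intro x
    rw [← hf, hl, Finset.mem_image]
    simp only [Finset.mem_univ, true_and, List.mem_cons, List.not_mem_nil, or_false, Fin.exists_fin_succ,
      Fin.exists_fin_zero, ← Fin.ext_iff, eq_comm]
    tauto
  have hnd : l.Nodup := by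
    rw [hl]
    have h01 := hlt (show (0 : Fin 4) < 1 by decide)
    have h12 := hlt (show (1 : Fin 4) < 2 by decide)
    have h23 := hlt (show (2 : Fin 4) < 3 by decide)
    simp only [List.nodup_cons, List.mem_cons, List.not_mem_nil, or_false, not_or, List.nodup_nil, and_true,
      not_false_eq_true]
    omega
  rw [← Finset.card_map Fin.valEmbedding, ← h2, ← List.toFinset_card_of_nodup (hnd.filter _)]
  congr 1
  ext n
  simp only [Finset.mem_map, Finset.mem_inter, Finset.mem_image, List.mem_toFinset, List.mem_filter,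
    List.any_eq_true, beq_iff_eq, Fin.valEmbedding_apply]
  constructor
  · rintro ⟨x, ⟨hx, y, hy, hyx⟩, rfl⟩
    exact ⟨(hmem x).1 hx, y, (hmem y).1 hy, by rw [← hyx, Fin.val_add]⟩
  · rintro ⟨hn, y, hy, hyn⟩
    have hlt11 : ∀ m ∈ l, m < 11 := by
      intro m hm
      rw [hl] at hm
      simp only [List.mem_cons, List.not_mem_nil, or_false] at hm
      rcases hm with rfl | rfl | rfl | rfl <;> exact Fin.isLt _
    refine ⟨⟨n, hlt11 n hn⟩, ⟨(hmem _).2 hn, ⟨y, hlt11 y hy⟩, (hmem _).2 hy, Fin.ext ?_⟩, rfl⟩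
    rw [Fin.val_add]; exact hyn

theorem no_small_sets_zmod {S : Finset (ZMod 11)} (hS : S.card = 4) :
    ∃ i : ZMod 11, (S ∩ S.image (· + i)).card = 1 :=
  no_small_sets (S := S) hS

/-- Two permutations whose supports share exactly one point have a three-cycle commutator. -/
theorem isThreeCycle_commutator_of_inter {g h : Equiv.Perm α} {c : α}
    (hI : g.support ∩ h.support = {c}) : (g * h * g⁻¹ * h⁻¹).IsThreeCycle := by
  have hcg : g c ≠ c := Equiv.Perm.mem_support.1 (Finset.mem_inter.1 (hI ▸ Finset.mem_singleton_self c)).1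
  have hch : h c ≠ c := Equiv.Perm.mem_support.1 (Finset.mem_inter.1 (hI ▸ Finset.mem_singleton_self c)).2
  have hboth : ∀ x, g x ≠ x → h x ≠ x → x = c := fun x h1 h2 => Finset.mem_singleton.1
    (hI ▸ Finset.mem_inter.2 ⟨Equiv.Perm.mem_support.2 h1, Equiv.Perm.mem_support.2 h2⟩)
  have ginv : ∀ x, g (g⁻¹ x) = x := fun x => by rw [← Equiv.Perm.mul_apply, mul_inv_cancel, Equiv.Perm.one_apply]
  have hinv : ∀ x, h (h⁻¹ x) = x := fun x => by rw [← Equiv.Perm.mul_apply, mul_inv_cancel, Equiv.Perm.one_apply]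
  have gi : ∀ x, g⁻¹ (g x) = x := fun x => by rw [← Equiv.Perm.mul_apply, inv_mul_cancel, Equiv.Perm.one_apply]
  have hi : ∀ x, h⁻¹ (h x) = x := fun x => by rw [← Equiv.Perm.mul_apply, inv_mul_cancel, Equiv.Perm.one_apply]
  have hugc : g (g c) ≠ g c := fun e => hcg (g.injective e)
  have hwhc : h (h c) ≠ h c := fun e => hch (h.injective e)
  have hu : h (g c) = g c := by_contra fun e => hcg (hboth _ hugc e)
  have hw : g (h c) = h c := by_contra fun e => hch (hboth _ e hwhc)
  have huw : g c ≠ h c := fun e => hwhc (by rw [← e, hu])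
  obtain ⟨C, hC⟩ : ∃ C, C = g * h * g⁻¹ * h⁻¹ := ⟨_, rfl⟩
  have happ : ∀ x, C x = g (h (g⁻¹ (h⁻¹ x))) := fun x => by
    rw [hC, Equiv.Perm.mul_apply, Equiv.Perm.mul_apply, Equiv.Perm.mul_apply]
  rw [← hC]
  have h1 : C c = g c := by
    have e1 : g (h⁻¹ c) = h⁻¹ c := by
      by_contra e
      have := hboth _ e (by rw [hinv]; intro e'; exact hch (by conv_lhs => rw [e', hinv]))
      exact hch (by conv_lhs => rw [← this, hinv])
    have e2 : g⁻¹ (h⁻¹ c) = h⁻¹ c := by conv_lhs => rw [← e1, gi]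
    rw [happ, e2, hinv]
  have h2 : C (g c) = h c := by
    have e2 : h⁻¹ (g c) = g c := by conv_lhs => rw [← hu, hi]
    rw [happ, e2, gi, hw]
  have h3 : C (h c) = c := by
    rw [happ, hi]
    have e1 : h (g⁻¹ c) = g⁻¹ c := by
      by_contra e
      have := hboth _ (by rw [ginv]; intro e'; exact hcg (by conv_lhs => rw [e', ginv])) e
      exact hcg (by conv_lhs => rw [← this, ginv])
    rw [e1, ginv]
  have h4 : ∀ x, x ≠ c → x ≠ g c → x ≠ h c → C x = x := by
    intro x hx1 hx2 hx3
    rw [happ]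
    by_cases hgx : g x = x
    · have hg' : g (h⁻¹ x) = h⁻¹ x := by
        by_cases hhx : h x = x
        · rw [show h⁻¹ x = x by conv_lhs => rw [← hhx, hi], hgx]
        · by_contra e
          have := hboth _ e (by rw [hinv]; intro e'; exact hhx (by conv_lhs => rw [e', hinv]))
          exact hx3 (by rw [← this, hinv])
      rw [show g⁻¹ (h⁻¹ x) = h⁻¹ x by conv_lhs => rw [← hg', gi], hinv, hgx]
    · have hhx : h x = x := by_contra fun e => hx1 (hboth x hgx e)
      have e1 : h⁻¹ x = x := by conv_lhs => rw [← hhx, hi]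
      have e2 : h (g⁻¹ x) = g⁻¹ x := by
        by_contra e
        have := hboth _ (by rw [ginv]; intro e'; exact hgx (by conv_lhs => rw [e', ginv])) e
        exact hx2 (by rw [← this, ginv])
      rw [e1, e2, ginv]
  have hsupp : C.support = {c, g c, h c} := by
    ext x
    simp only [Equiv.Perm.mem_support, Finset.mem_insert, Finset.mem_singleton]
    constructor
    · intro hx
      by_contra hc'
      simp only [not_or] at hc'
      exact hx (h4 x hc'.1 hc'.2.1 hc'.2.2)
    · rintro (rfl | rfl | rfl)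
      · rw [h1]; exact hcg
      · rw [h2]; exact huw.symm
      · rw [h3]; exact hch.symm
  rw [← card_support_eq_three_iff, hsupp, Finset.card_insert_of_notMem (by simp [hcg.symm, hch.symm]),
    Finset.card_pair huw]

/-- A group of prime order elements: in a primitive group of degree 11 not containing `A₁₁`, the
support of an element of order `q ∈ {2,3,5,7}` has more than `q` points. -/
theorem support_ne_prime (hα : Fintype.card α = 11) (G : Subgroup (Equiv.Perm α))
    (hprim : IsPreprimitive G α) (hA : ¬ alternatingGroup α ≤ G) {q : ℕ} (hq : q.Prime) (hq7 : q ≤ 7)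
    {g : Equiv.Perm α} (hg : g ∈ G) (hgq : g ^ q = 1) : g.support.card ≠ q := by
  intro hs
  haveI : Fact q.Prime := ⟨hq⟩
  have hg1 : g ≠ 1 := by
    rintro rfl
    rw [Equiv.Perm.support_one, Finset.card_empty] at hs
    exact hq.pos.ne hs
  have ho : orderOf g = q := orderOf_eq_prime hgq hg1
  refine hA (Cfsg.Agent.S0713.result G hprim hq (by omega) (by omega) ?_ hs hg)
  exact Equiv.Perm.isCycle_of_prime_order (ho ▸ hq) (by rw [ho, hs]; have := hq.pos; omega)

omit [DecidableEq α] in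
theorem support_multiple [DecidableEq α] {q : ℕ} (hq : q.Prime) {g : Equiv.Perm α} (hgq : g ^ q = 1) :
    q ∣ g.support.card ∧ (g.cycleType = Multiset.replicate (g.support.card / q) q) := by
  haveI : Fact q.Prime := ⟨hq⟩
  by_cases hg1 : g = 1
  · subst hg1; simp
  have ho : orderOf g = q := orderOf_eq_prime hgq hg1
  obtain ⟨m, hm⟩ := Equiv.Perm.cycleType_prime_order (σ := g) (ho.symm ▸ hq)
  have hsum := g.sum_cycleType
  rw [hm, Multiset.sum_replicate, ho, smul_eq_mul] at hsum
  refine ⟨⟨m + 1, by rw [← hsum, mul_comm]⟩, ?_⟩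
  rw [hm, ho, ← hsum, Nat.mul_div_cancel _ hq.pos]

theorem sign_of_prime (hα : Fintype.card α = 11) {g : Equiv.Perm α} (hg2 : g ^ 2 = 1) :
    Equiv.Perm.sign g = (-1) ^ (g.support.card / 2) ∧ g.support.card ≤ 10 := by
  obtain ⟨hd, hct⟩ := support_multiple Nat.prime_two hg2
  refine ⟨?_, ?_⟩
  · rw [Equiv.Perm.sign_of_cycleType, hct, Multiset.sum_replicate, Multiset.card_replicate, smul_eq_mul,
      show g.support.card / 2 * 2 + g.support.card / 2 = g.support.card / 2 + 2 * (g.support.card / 2) by ring,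
      pow_add, pow_mul]
    simp
  · have := g.support.card_le_univ
    omega

theorem not_double (hα : Fintype.card α = 11) (G : Subgroup (Equiv.Perm α)) [IsPretransitive G α]
    (hA : ¬ alternatingGroup α ≤ G) {g : Equiv.Perm α} (hg : g ∈ G) (hs : g.support.card = 4) :
    False := by
  haveI : Fact (Nat.Prime 11) := ⟨by decide +kernel⟩
  obtain ⟨σ, e, hσo, hσ⟩ := CfsgLib.Perm.exists_equiv_zmod hα G
  obtain ⟨S, hS⟩ : ∃ S, S = g.support.map e.symm.toEmbedding := ⟨_, rfl⟩
  obtain ⟨i, hi⟩ := no_small_sets_zmod (S := S) (by rw [hS, Finset.card_map, hs])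
  obtain ⟨n, rfl⟩ := ZMod.natCast_zmod_surjective i
  obtain ⟨t, ht⟩ : ∃ t : Equiv.Perm α, t = (σ : Equiv.Perm α) ^ n := ⟨_, rfl⟩
  have htG : t ∈ G := ht ▸ pow_mem σ.2 n
  have hte : ∀ j, t (e j) = e (j + n) := fun j => by rw [ht, pow_apply_label e _ hσ]
  have hmem : ∀ j, e j ∈ (t * g * t⁻¹).support ↔ j - (n : ZMod 11) ∈ S := by
    intro j
    have h1 : t⁻¹ (e j) = e (j - n) := by
      have h2 := hte (j - n)
      rw [sub_add_cancel] at h2
      rw [← h2, ← Equiv.Perm.mul_apply, inv_mul_cancel, Equiv.Perm.one_apply]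
    rw [Equiv.Perm.mem_support, Equiv.Perm.mul_apply, Equiv.Perm.mul_apply, h1, hS, Finset.mem_map_equiv,
      Equiv.symm_symm, Equiv.Perm.mem_support]
    constructor
    · intro h3 h4
      rw [h4, hte, sub_add_cancel] at h3
      exact h3 rfl
    · intro h3 h4
      apply h3
      have h5 := congrArg (⇑t⁻¹) h4
      rw [← Equiv.Perm.mul_apply, inv_mul_cancel, Equiv.Perm.one_apply, h1] at h5
      exact h5
  obtain ⟨c, hc⟩ := Finset.card_eq_one.1 hi
  have hI : g.support ∩ (t * g * t⁻¹).support = {e c} := by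
    ext x
    obtain ⟨j, rfl⟩ := e.surjective x
    rw [Finset.mem_inter, hmem, Finset.mem_singleton, e.injective.eq_iff]
    have h1 := Finset.ext_iff.1 hc j
    rw [Finset.mem_inter, Finset.mem_singleton] at h1
    rw [← h1]
    refine and_congr ?_ ?_
    · rw [hS, Finset.mem_map_equiv, Equiv.symm_symm]
    · rw [Finset.mem_image]
      exact ⟨fun hj => ⟨_, hj, sub_add_cancel j _⟩, fun ⟨b, hb, hbj⟩ => hbj ▸ by
        simpa using hb⟩
  haveI : IsPreprimitive G α := IsPreprimitive.of_prime_card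
    (by rw [Nat.card_eq_fintype_card, hα]; exact Fact.out)
  exact hA (Equiv.Perm.alternatingGroup_le_of_isPreprimitive_of_isThreeCycle_mem inferInstance
    (isThreeCycle_commutator_of_inter hI)
    (mul_mem (mul_mem (mul_mem hg (mul_mem (mul_mem htG hg) (inv_mem htG))) (inv_mem hg))
      (inv_mem (mul_mem (mul_mem htG hg) (inv_mem htG)))))

/-- A subgroup containing a full Sylow `p`-subgroup of the symmetric group contains a conjugate of
every element of `p`-power order. -/
theorem exists_conj_of_full_sylow (G : Subgroup (Equiv.Perm α)) {p v : ℕ} [Fact p.Prime]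
    (hv : (Nat.card (Equiv.Perm α)).factorization p = v) (h : p ^ v ∣ Nat.card G) {c : Equiv.Perm α}
    (hc : c ^ p = 1) : ∃ g ∈ G, g.cycleType = c.cycleType ∧ g ^ p = 1 := by
  obtain ⟨K, hK⟩ := Sylow.exists_subgroup_card_pow_prime p h
  let R : Sylow p (Equiv.Perm α) := Sylow.ofCard (K.map G.subtype) (by rw [card_subtype, hK, hv])
  have hcp : IsPGroup p (zpowers c) := by
    intro z
    obtain ⟨j, hj⟩ := z.2
    refine ⟨1, Subtype.ext ?_⟩
    rw [pow_one, SubmonoidClass.coe_pow, OneMemClass.coe_one, ← hj, ← zpow_natCast, ← zpow_mul, mul_comm,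
      zpow_mul, zpow_natCast, hc, one_zpow]
  obtain ⟨T, hT⟩ := hcp.exists_le_sylow
  obtain ⟨s, hs⟩ := exists_smul_eq (Equiv.Perm α) T R
  have h1 : s * c * s⁻¹ ∈ (R : Subgroup (Equiv.Perm α)) := by
    rw [← hs, Sylow.coe_subgroup_smul]
    exact ⟨c, hT (mem_zpowers c), rfl⟩
  exact ⟨s * c * s⁻¹, map_subtype_le K h1, Equiv.Perm.cycleType_conj,
    by rw [conj_pow, hc, mul_one, mul_inv_cancel]⟩

end CfsgLib.Perm.DegreeEleven
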