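import Cfsg.Agent.Lib.Perm.DegreeTwoPFourier
import Cfsg.Agent.Lib.Perm.Orbital
import Mathlib.GroupTheory.GroupAction.Primitive

/-!
Primitive groups of degree `2p` with a fixed point free element of order `p`:
at most two nontrivial orbitals, and the arithmetic of the rank three case.
-/

set_option autoImplicit false
set_option linter.unusedSectionVars false

namespace CfsgLib.Perm.TwoP

open MulAction
open scoped ComplexConjugate

variable {G α : Type*} [Group G] [MulAction G α]

/-- The orbital of a pair. -/
def col (G : Type*) [Group G] [MulAction G α] (x z : α) : orbitRel.Quotient G (α × α) :=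
  Quotient.mk'' (x, z)

theorem col_smul (g : G) (x z : α) : col G (g • x) (g • z) = col G x z :=
  Quotient.sound' ⟨g, rfl⟩

theorem exists_of_col_eq {x z x' z' : α} (h : col G x z = col G x' z') :
    ∃ g : G, g • x' = x ∧ g • z' = z := by
  obtain ⟨g, hg⟩ := Quotient.exact' h
  exact ⟨g, congrArg Prod.fst hg, congrArg Prod.snd hg⟩

theorem col_swap {x z x' z' : α} (h : col G x z = col G x' z') : col G z x = col G z' x' := by
  obtain ⟨g, h1, h2⟩ := exists_of_col_eq h
  rw [← h1, ← h2, col_smul]

theorem col_ne_diag {x z w : α} (hxz : x ≠ z) : col G x z ≠ col G w w := fun h => by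
  obtain ⟨g, h1, h2⟩ := exists_of_col_eq h
  exact hxz (h1.symm.trans h2)

theorem col_diag [IsPretransitive G α] (x w : α) : col G x x = col G w w := by
  obtain ⟨g, rfl⟩ := exists_smul_eq G w x
  exact col_smul g w w

/-- Coordinates given by an element with two cycles of length `p`. -/
structure Config (G α : Type*) [Group G] [MulAction G α] (p : ℕ) where
  /-- the coordinates -/
  e : Bool × ZMod p ≃ α
  /-- the element -/
  u : G
  shift : ∀ b y, u • e (b, y) = e (b, y + 1)

namespace Config

open scoped Classical

variable [Fintype α] {p : ℕ} [Fact p.Prime] (C : Config G α p)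

theorem shift_pow (n : ℕ) (b : Bool) (y : ZMod p) : C.u ^ n • C.e (b, y) = C.e (b, y + n) := by
  induction n with
  | zero => simp
  | succ n ih => rw [pow_succ', mul_smul, ih, C.shift, Nat.cast_succ, add_assoc]

theorem col_translate (b b' : Bool) (y z w : ZMod p) :
    col G (C.e (b, y + w)) (C.e (b', z + w)) = col G (C.e (b, y)) (C.e (b', z)) := by
  have h1 := C.shift_pow w.val b y
  have h2 := C.shift_pow w.val b' z
  rw [ZMod.natCast_zmod_val] at h1 h2
  rw [← h1, ← h2, col_smul]

/-- The adjacency in coordinates. -/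
noncomputable def ent (j : orbitRel.Quotient G (α × α)) (b b' : Bool) (y : ZMod p) : ℤ :=
  if col G (C.e (b, 0)) (C.e (b', y)) = j then 1 else 0

theorem ent_nonneg (j : orbitRel.Quotient G (α × α)) (b b' : Bool) (y : ZMod p) : 0 ≤ C.ent j b b' y := by
  unfold ent; split_ifs <;> norm_num

theorem ent_le_one (j : orbitRel.Quotient G (α × α)) (b b' : Bool) (y : ZMod p) : C.ent j b b' y ≤ 1 := by
  unfold ent; split_ifs <;> norm_num

theorem ent_eq (j : orbitRel.Quotient G (α × α)) (b b' : Bool) (y z : ZMod p) :
    (if col G (C.e (b, y)) (C.e (b', z)) = j then (1 : ℤ) else 0) = C.ent j b b' (z - y) := by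
  unfold ent
  rw [← C.col_translate b b' 0 (z - y) y, zero_add, sub_add_cancel]

/-- The row sums inside the two by two block decomposition. -/
noncomputable def num (j : orbitRel.Quotient G (α × α)) (b b' : Bool) : ℤ := ∑ y, C.ent j b b' y

/-- The signs. -/
noncomputable def sgn (x : α) : ℤ := if (C.e.symm x).1 then 1 else -1

theorem sum_coords {M : Type*} [AddCommMonoid M] (F : α → M) :
    ∑ x, F x = ∑ y, F (C.e (true, y)) + ∑ y, F (C.e (false, y)) := by
  rw [← C.e.sum_comp, Fintype.sum_prod_type, Fintype.sum_bool]

theorem sgn_apply (b : Bool) (y : ZMod p) : C.sgn (C.e (b, y)) = if b then 1 else -1 := by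
  simp [sgn]

theorem sum_sgn : ∑ x, C.sgn x = 0 := by
  rw [C.sum_coords]
  simp [C.sgn_apply]

theorem row_split (j : orbitRel.Quotient G (α × α)) (b : Bool) (y : ZMod p) (F : Bool → ℤ) :
    (∑ z : α, (if col G (C.e (b, y)) z = j then (1 : ℤ) else 0) * F (C.e.symm z).1) =
      C.num j b true * F true + C.num j b false * F false := by
  rw [C.sum_coords]
  simp only [Equiv.symm_apply_apply, C.ent_eq, ← Finset.sum_mul]
  rw [show (fun z => C.ent j b true (z - y)) = fun z => C.ent j b true (Equiv.subRight y z) from rfl,
    show (fun z => C.ent j b false (z - y)) = fun z => C.ent j b false (Equiv.subRight y z) from rfl,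
    (Equiv.subRight y).sum_comp (C.ent j b true), (Equiv.subRight y).sum_comp (C.ent j b false)]
  rfl

theorem col_split (j : orbitRel.Quotient G (α × α)) (b : Bool) (y : ZMod p) (F : Bool → ℤ) :
    (∑ z : α, (if col G z (C.e (b, y)) = j then (1 : ℤ) else 0) * F (C.e.symm z).1) =
      C.num j true b * F true + C.num j false b * F false := by
  rw [C.sum_coords]
  simp only [Equiv.symm_apply_apply, C.ent_eq, ← Finset.sum_mul]
  rw [show (fun z => C.ent j true b (y - z)) = fun z => C.ent j true b (Equiv.subLeft y z) from rfl,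
    show (fun z => C.ent j false b (y - z)) = fun z => C.ent j false b (Equiv.subLeft y z) from rfl,
    (Equiv.subLeft y).sum_comp (C.ent j true b), (Equiv.subLeft y).sum_comp (C.ent j false b)]
  rfl

variable [IsPretransitive G α]

/-- The subdegree. -/
noncomputable def deg (j : orbitRel.Quotient G (α × α)) : ℤ := C.num j true true + C.num j true false

theorem row_sum (j : orbitRel.Quotient G (α × α)) (x : α) :
    (∑ z : α, if col G x z = j then (1 : ℤ) else 0) = C.deg j := by
  obtain ⟨g, rfl⟩ := exists_smul_eq G (C.e (true, 0)) x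
  rw [← Equiv.sum_comp (MulAction.toPerm g)]
  simp only [MulAction.toPerm_apply, col_smul]
  have h := C.row_split j true 0 (fun _ => 1)
  simp only [mul_one] at h
  exact h

theorem num_symm (j : orbitRel.Quotient G (α × α)) :
    C.num j false true = C.num j true false ∧ C.num j false false = C.num j true true := by
  have h1 := C.row_split j false 0 (fun _ => 1)
  simp only [mul_one] at h1
  rw [C.row_sum j, deg] at h1
  have hcol : ∀ z : α, (∑ x : α, if col G x z = j then (1 : ℤ) else 0) =
      ∑ x : α, if col G x (C.e (true, 0)) = j then (1 : ℤ) else 0 := by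
    intro z
    obtain ⟨g, rfl⟩ := exists_smul_eq G (C.e (true, 0)) z
    rw [← Equiv.sum_comp (MulAction.toPerm g)]
    simp only [MulAction.toPerm_apply, col_smul]
  have h2 := C.col_split j true 0 (fun _ => 1)
  simp only [mul_one] at h2
  have h3 : ∑ z : α, ∑ x : α, (if col G x z = j then (1 : ℤ) else 0) =
      ∑ x : α, ∑ z : α, if col G x z = j then (1 : ℤ) else 0 := Finset.sum_comm
  simp only [C.row_sum, hcol, Finset.sum_const, nsmul_eq_mul] at h3
  have hne : ((Finset.univ : Finset α).card : ℤ) ≠ 0 := by
    haveI : Nonempty α := ⟨C.e (true, 0)⟩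
    exact_mod_cast Fintype.card_ne_zero
  rw [h2, deg] at h3
  have h4 := mul_left_cancel₀ hne h3
  constructor <;> linarith

/-- The eigenvalue on the signs. -/
noncomputable def eig (j : orbitRel.Quotient G (α × α)) : ℤ := C.num j true true - C.num j true false

theorem eigen_row (j : orbitRel.Quotient G (α × α)) (g : G) (x : α) :
    (∑ z : α, (if col G x z = j then (1 : ℤ) else 0) * C.sgn (g • z)) = C.eig j * C.sgn (g • x) := by
  have h0 : ∀ w : α, (∑ z : α, (if col G w z = j then (1 : ℤ) else 0) * C.sgn z) = C.eig j * C.sgn w := by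
    intro w
    obtain ⟨⟨b, y⟩, rfl⟩ := C.e.surjective w
    rw [show (fun z => (if col G (C.e (b, y)) z = j then (1 : ℤ) else 0) * C.sgn z) =
      fun z => (if col G (C.e (b, y)) z = j then (1 : ℤ) else 0) *
        (fun c : Bool => if c then (1 : ℤ) else -1) (C.e.symm z).1 from rfl,
      C.row_split j b y (fun c : Bool => if c then (1 : ℤ) else -1), C.sgn_apply, eig]
    obtain ⟨e1, e2⟩ := C.num_symm j
    cases b <;> simp [e1, e2] <;> ring
  rw [← h0, ← Equiv.sum_comp (MulAction.toPerm g) (fun z => (if col G (g • x) z = j then (1 : ℤ) else 0) * C.sgn z)]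
  simp only [MulAction.toPerm_apply, col_smul]

theorem eigen_col (j : orbitRel.Quotient G (α × α)) (g : G) (x : α) :
    (∑ z : α, (if col G z x = j then (1 : ℤ) else 0) * C.sgn (g • z)) = C.eig j * C.sgn (g • x) := by
  have h0 : ∀ w : α, (∑ z : α, (if col G z w = j then (1 : ℤ) else 0) * C.sgn z) = C.eig j * C.sgn w := by
    intro w
    obtain ⟨⟨b, y⟩, rfl⟩ := C.e.surjective w
    rw [show (fun z => (if col G z (C.e (b, y)) = j then (1 : ℤ) else 0) * C.sgn z) =
      fun z => (if col G z (C.e (b, y)) = j then (1 : ℤ) else 0) *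
        (fun c : Bool => if c then (1 : ℤ) else -1) (C.e.symm z).1 from rfl,
      C.col_split j b y (fun c : Bool => if c then (1 : ℤ) else -1), C.sgn_apply, eig]
    obtain ⟨e1, e2⟩ := C.num_symm j
    cases b <;> simp [e1, e2] <;> ring
  rw [← h0, ← Equiv.sum_comp (MulAction.toPerm g) (fun z => (if col G z (g • x) = j then (1 : ℤ) else 0) * C.sgn z)]
  simp only [MulAction.toPerm_apply, col_smul]

theorem ent_transpose {j j' : orbitRel.Quotient G (α × α)}
    (h : ∀ x z : α, col G z x = j' ↔ col G x z = j) (b b' : Bool) (y : ZMod p) :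
    C.ent j' b b' y = C.ent j b' b (-y) := by
  have h1 := C.ent_eq j b' b y 0
  rw [zero_sub] at h1
  rw [← h1]
  unfold ent
  exact if_congr (h _ _) rfl rfl

variable [IsPreprimitive G α]

/-- The sign function is not invariant up to sign. -/
theorem exists_not_block : ∃ g : G, ¬ ((∀ x, C.sgn (g • x) = C.sgn x) ∨ ∀ x, C.sgn (g • x) = -C.sgn x) := by
  by_contra hc
  push Not at hc
  let B : Set α := {x | C.sgn x = 1}
  have hblock : IsBlock G B := by
    rw [isBlock_iff_smul_eq_or_disjoint]
    intro g
    rcases hc g⁻¹ with h | h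
    · left
      ext x
      rw [Set.mem_smul_set_iff_inv_smul_mem]
      show C.sgn (g⁻¹ • x) = 1 ↔ C.sgn x = 1
      rw [h]
    · right
      rw [Set.disjoint_left]
      intro x hx hx'
      rw [Set.mem_smul_set_iff_inv_smul_mem] at hx
      have h1 : C.sgn (g⁻¹ • x) = 1 := hx
      have h2 : C.sgn x = 1 := hx'
      rw [h, h2] at h1
      norm_num at h1
  rcases hblock.subsingleton_or_eq_univ with h | h
  · have h1 := h (show C.e (true, 0) ∈ B by simp [B, C.sgn_apply]) (show C.e (true, 1) ∈ B by simp [B, C.sgn_apply])
    have := C.e.injective h1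
    simp at this
  · have h1 : C.e (false, 0) ∈ B := h ▸ Set.mem_univ _
    simp [B, C.sgn_apply] at h1

/-- Every proper orbital meets the inside of a cycle. -/
theorem num_pos (x z : α) (hxz : x ≠ z) : 0 < C.num (col G x z) true true := by
  have hnn : ∀ b b', 0 ≤ C.num (col G x z) b b' := fun b b' => Finset.sum_nonneg fun y _ => C.ent_nonneg _ _ _ _
  by_contra hle
  have h0 : C.num (col G x z) true true = 0 := le_antisymm (not_lt.mp hle) (hnn _ _)
  have h0' : C.num (col G x z) false false = 0 := (C.num_symm _).2.trans h0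
  have hedge : ∀ v w : α, col G v w = col G x z → C.sgn w = -C.sgn v := by
    intro v w hvw
    obtain ⟨⟨b, y⟩, rfl⟩ := C.e.surjective v
    obtain ⟨⟨b', y'⟩, rfl⟩ := C.e.surjective w
    have hb : b' ≠ b := by
      intro e
      subst e
      have h1 : C.ent (col G x z) b' b' (y' - y) = 1 := by rw [← C.ent_eq, if_pos hvw]
      have h2 : C.ent (col G x z) b' b' (y' - y) ≤ C.num (col G x z) b' b' :=
        Finset.single_le_sum (fun w _ => C.ent_nonneg _ _ _ _) (Finset.mem_univ _)
      cases b' <;> omega
    cases b <;> cases b' <;> simp_all [C.sgn_apply]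
  -- functions constant along edges are constant
  let R : α → α → Prop := fun v w => ∀ φ : α → ℤ, (∀ s t, col G s t = col G x z → φ s = φ t) → φ v = φ w
  let B : Set α := {w | R x w}
  have hR : ∀ (g : G) v w, R v w → R (g • v) (g • w) := by
    intro g v w h φ hφ
    exact h (fun s => φ (g • s)) fun s t hst => hφ _ _ (by rw [col_smul]; exact hst)
  have hblock : IsBlock G B := by
    rw [isBlock_iff_smul_eq_or_disjoint]
    intro g
    by_cases hg : R x (g • x)
    · left
      ext w
      rw [Set.mem_smul_set_iff_inv_smul_mem]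
      show R x (g⁻¹ • w) ↔ R x w
      constructor
      · intro h
        have := hR g _ _ h
        rw [smul_inv_smul] at this
        exact fun φ hφ => (hg φ hφ).trans (this φ hφ)
      · intro h
        have hh : R (g • x) w := fun φ hφ => ((hg φ hφ).symm).trans (h φ hφ)
        have := hR g⁻¹ _ _ hh
        rwa [inv_smul_smul] at this
    · right
      rw [Set.disjoint_left]
      intro w hw hw'
      rw [Set.mem_smul_set_iff_inv_smul_mem] at hw
      apply hg
      have h1 := hR g _ _ (show R x (g⁻¹ • w) from hw)
      rw [smul_inv_smul] at h1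
      exact fun φ hφ => ((show R x w from hw') φ hφ).trans (h1 φ hφ).symm
  have hB : B = Set.univ := hblock.subsingleton_or_eq_univ.resolve_left fun h =>
    hxz (h (show x ∈ B from fun φ _ => rfl) (show z ∈ B from fun φ hφ => hφ x z rfl))
  obtain ⟨g, hg⟩ := C.exists_not_block
  apply hg
  have hconst : ∀ w, C.sgn (g • x) * C.sgn x = C.sgn (g • w) * C.sgn w := fun w =>
    (show R x w from (Set.ext_iff.mp hB w).mpr trivial) (fun s => C.sgn (g • s) * C.sgn s) fun s t hst => by
      show C.sgn (g • s) * C.sgn s = C.sgn (g • t) * C.sgn t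
      rw [hedge s t hst, hedge (g • s) (g • t) (by rw [col_smul]; exact hst)]
      ring
  have hpm : ∀ w, C.sgn w = 1 ∨ C.sgn w = -1 := fun w => by unfold sgn; split_ifs <;> simp
  rcases hpm (g • x) with h1 | h1 <;> rcases hpm x with h2 | h2
  all_goals
    first
    | (refine Or.inl fun w => ?_; have := hconst w; rw [h1, h2] at this
       rcases hpm (g • w) with e | e <;> rcases hpm w with e' | e' <;> rw [e, e'] <;>
         rw [e, e'] at this <;> omega)
    | (refine Or.inr fun w => ?_; have := hconst w; rw [h1, h2] at this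
       rcases hpm (g • w) with e | e <;> rcases hpm w with e' | e' <;> rw [e, e'] <;>
         rw [e, e'] at this <;> omega)

end Config

end CfsgLib.Perm.TwoP
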