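import Cfsg.Agent.Lib.Perm.DegreeTwoPMain

/-!
Primitive groups of degree `2p`: the classification of the orbital structure.
-/

set_option autoImplicit false
set_option linter.unusedSectionVars false
set_option linter.style.haveILetI false
set_option maxHeartbeats 1000000

namespace CfsgLib.Perm.TwoP.Config

open MulAction CfsgLib.Perm.TwoP
open scoped ComplexConjugate Classical

variable {G α : Type*} [Group G] [Fintype G] [MulAction G α] [Fintype α] {p : ℕ} [Fact p.Prime]
  (C : Config G α p) [IsPreprimitive G α]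

theorem num_nonneg (j : orbitRel.Quotient G (α × α)) (b b' : Bool) : 0 ≤ C.num j b b' :=
  Finset.sum_nonneg fun _ _ => C.ent_nonneg _ _ _ _

theorem num_pos_of_ne {j : orbitRel.Quotient G (α × α)} (hj : j ≠ C.diag) : 0 < C.num j true true := by
  obtain ⟨x, z, hxz, rfl⟩ := (C.ne_diag_iff j).mp hj
  exact C.num_pos x z hxz

theorem eig_diag : C.eig C.diag = 1 := by
  unfold eig num
  simp [C.ent_diag]

theorem sum_eig [Fintype (orbitRel.Quotient G (α × α))] :
    ∑ q : orbitRel.Quotient G (α × α), C.eig q = 0 := by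
  have h : ∀ b b', ∑ q : orbitRel.Quotient G (α × α), C.num q b b' = (p : ℤ) := by
    intro b b'
    unfold num
    rw [Finset.sum_comm]
    simp [ent]
  simp only [eig, Finset.sum_sub_distrib, h, sub_self]

theorem mu_pos_of_col {j : orbitRel.Quotient G (α × α)} {b : Bool} {y : ZMod p}
    (h : col G (C.e (b, 0)) (C.e (b, y)) = j) : 1 ≤ C.mu j y := by
  have h1 : C.ent j b b y = 1 := by unfold ent; rw [if_pos h]
  have := C.ent_nonneg j true true y
  have := C.ent_nonneg j false false y
  unfold mu
  cases b <;> omega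

theorem deg_eq (j : orbitRel.Quotient G (α × α)) : C.deg j = 2 * C.num j true true - C.eig j := by
  unfold deg eig; ring

/-- If two eigenvectors are independent, there is a single nontrivial orbital. -/
theorem single_of_independent {m : ZMod p} (hm : m ≠ 0) {g g' : G}
    (h : C.vec g true m * C.vec g' false m - C.vec g false m * C.vec g' true m ≠ 0)
    (j l : orbitRel.Quotient G (α × α)) (hj : j ≠ C.diag) (hl : l ≠ C.diag) : j = l := by
  have hall : ∀ q, q ≠ C.diag → ∀ y : ZMod p, y ≠ 0 → C.mu q y = 2 := by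
    intro q hq
    have a1 := C.mat_row q g true m
    have a2 := C.mat_row q g' true m
    have b1 := C.mat_row q g false m
    have b2 := C.mat_row q g' false m
    have ht : C.mat q true true m - C.eig q = 0 := by
      apply (mul_eq_zero.mp (show (C.mat q true true m - C.eig q) *
        (C.vec g true m * C.vec g' false m - C.vec g false m * C.vec g' true m) = 0 by
          linear_combination C.vec g' false m * a1 - C.vec g false m * a2)).resolve_right h
    have hf : C.mat q false false m - C.eig q = 0 := by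
      apply (mul_eq_zero.mp (show (C.mat q false false m - C.eig q) *
        (C.vec g true m * C.vec g' false m - C.vec g false m * C.vec g' true m) = 0 by
          linear_combination C.vec g true m * b2 - C.vec g' true m * b1)).resolve_right h
    have h0 : ft (fun y => ((C.mu q y - (if y = 0 then 2 * C.eig q else 0) : ℤ) : ℂ)) (-m) = 0 := by
      have e : ft (fun y => ((C.mu q y - (if y = 0 then 2 * C.eig q else 0) : ℤ) : ℂ)) (-m) =
          C.mat q true true m + C.mat q false false m - 2 * C.eig q := by
        simp [mat, mu, ft, sub_mul, add_mul, Finset.sum_sub_distrib, Finset.sum_add_distrib,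
          apply_ite (Int.cast : ℤ → ℂ), ite_mul, ← Finset.mul_sum]
      rw [e]; linear_combination ht + hf
    have hc := const_of_ft_eq_zero _ (neg_ne_zero.mpr hm) h0
    have hval : ∀ y : ZMod p, y ≠ 0 → C.mu q y = -(2 * C.eig q) := by
      intro y hy
      have := hc y 0
      simp only [if_neg hy, sub_zero, if_true] at this
      rw [this]
      unfold mu
      rw [C.ent_zero hq, C.ent_zero hq]
      ring
    intro y hy
    obtain ⟨z, -, hz⟩ : ∃ z ∈ (Finset.univ : Finset (ZMod p)), 0 < C.ent q true true z := by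
      by_contra hc'
      push Not at hc'
      have h2 : C.num q true true ≤ 0 := Finset.sum_nonpos hc'
      have := C.num_pos_of_ne hq
      omega
    have hz0 : z ≠ 0 := fun e => by rw [e, C.ent_zero hq] at hz; exact absurd hz (lt_irrefl _)
    have h1 := hval z hz0
    have h2 := hval y hy
    have h3 := C.mu_cases q z
    have h4 : 1 ≤ C.mu q z := by
      have := C.ent_nonneg q false false z
      unfold mu; omega
    omega
  have h1 := hall j hj 1 one_ne_zero
  have h2 := hall l hl 1 one_ne_zero
  unfold mu ent at h1 h2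
  split_ifs at h1 h2 with c1 c2 c3 c4 <;> first | omega | exact c1.symm.trans c3

/-- The invariant kernel. -/
noncomputable def ker (x z : α) : ℤ := ∑ g : G, C.sgn (g • x) * C.sgn (g • z)

theorem ker_smul (g : G) (x z : α) : C.ker (g • x) (g • z) = C.ker x z := by
  unfold ker
  exact Fintype.sum_equiv (Equiv.mulRight g) _ _ fun h => by simp [mul_smul]

/-- The kernel on an orbital. -/
noncomputable def kval (q : orbitRel.Quotient G (α × α)) : ℤ := C.ker q.out.1 q.out.2

theorem kval_col (x z : α) : C.kval (col G x z) = C.ker x z := by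
  unfold kval
  obtain ⟨g, h1, h2⟩ := exists_of_col_eq (G := G) (x := (col G x z).out.1) (z := (col G x z).out.2) (x' := x)
    (z' := z) (Quotient.out_eq _)
  rw [← h1, ← h2, C.ker_smul]

/-- The trace equation for the invariant kernel. -/
theorem kernel_trace [Fintype (orbitRel.Quotient G (α × α))]
    (hpar : ∀ m : ZMod p, m ≠ 0 → ∀ g g' : G,
      C.vec g true m * C.vec g' false m - C.vec g false m * C.vec g' true m = 0)
    (y : ZMod p) (hy : y ≠ 0) :
    C.kval (col G (C.e (true, 0)) (C.e (true, -y))) + C.kval (col G (C.e (false, 0)) (C.e (false, -y))) =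
      2 * C.kval C.diag - ∑ q : orbitRel.Quotient G (α × α), C.kval q * C.eig q := by
  obtain ⟨lam, hlam⟩ : ∃ lam, lam = ∑ q : orbitRel.Quotient G (α × α), C.kval q * C.eig q := ⟨_, rfl⟩
  obtain ⟨g, hg⟩ := C.exists_vec_ne
  let k : Bool → Bool → ZMod p → ℤ := fun b b' w => C.ker (C.e (b, w)) (C.e (b', 0))
  have hm1 : (1 : ZMod p) ≠ 0 := one_ne_zero
  -- eigen equation
  have heig : ∀ x : α, ∑ z, C.ker x z * C.sgn (g • z) = lam * C.sgn (g • x) := by
    intro x
    rw [hlam, Finset.sum_mul]
    simp only [mul_assoc, ← C.eigen_row, Finset.mul_sum]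
    rw [Finset.sum_comm]
    refine Finset.sum_congr rfl fun z _ => ?_
    simp [C.kval_col]
  have hk : ∀ b b' w z, C.ker (C.e (b, w)) (C.e (b', z)) = k b b' (w - z) := by
    intro b b' w z
    rw [← C.kval_col, ← C.col_translate b b' w z (-z), C.kval_col, add_neg_cancel, ← sub_eq_add_neg]
  have hrow : ∀ b, ft (fun w => (k b true w : ℂ)) 1 * C.vec g true 1 +
      ft (fun w => (k b false w : ℂ)) 1 * C.vec g false 1 = (lam : ℂ) * C.vec g b 1 := by
    intro b
    have hneg : ∀ b', ft (fun w => (k b b' w : ℂ)) 1 = ft (fun w => (k b b' (-w) : ℂ)) (-1) := by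
      intro b'
      simp only [ft]
      exact Fintype.sum_equiv (Equiv.neg _) _ _ fun w => by simp
    rw [hneg, hneg, vec, vec, vec, ← ft_corr, ← ft_corr]
    simp only [ft, Finset.mul_sum, ← Finset.sum_add_distrib]
    refine Finset.sum_congr rfl fun w _ => ?_
    rw [← add_mul, ← mul_assoc]
    congr 1
    have h1 := heig (C.e (b, w))
    rw [C.sum_coords] at h1
    simp only [hk] at h1
    simp only [neg_sub]
    exact_mod_cast h1
  have hcol : ∀ b', ft (fun w => (k true b' w : ℂ)) 1 * C.vec g false 1 -
      ft (fun w => (k false b' w : ℂ)) 1 * C.vec g true 1 = 0 := by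
    intro b'
    have e : ∀ b, ft (fun w => (k b b' w : ℂ)) 1 =
        ∑ h : G, (C.sgn (h • C.e (b', 0)) : ℂ) * C.vec h b 1 := by
      intro b
      simp only [ft, vec, k, ker, Int.cast_sum, Int.cast_mul, Finset.sum_mul, Finset.mul_sum]
      rw [Finset.sum_comm]
      exact Finset.sum_congr rfl fun h _ => Finset.sum_congr rfl fun w _ => by ring
    rw [e, e, Finset.sum_mul, Finset.sum_mul, ← Finset.sum_sub_distrib]
    refine Finset.sum_eq_zero fun h _ => ?_
    linear_combination (C.sgn (h • C.e (b', 0)) : ℂ) * hpar 1 hm1 h g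
  have htr : ft (fun w => (k true true w : ℂ)) 1 + ft (fun w => (k false false w : ℂ)) 1 - lam = 0 := by
    rcases hg 1 hm1 with hv | hv
    · refine (mul_eq_zero.mp (show (_ : ℂ) * C.vec g true 1 = 0 by
        linear_combination hrow true - hcol false)).resolve_right hv
    · refine (mul_eq_zero.mp (show (_ : ℂ) * C.vec g false 1 = 0 by
        linear_combination hrow false + hcol true)).resolve_right hv
  have h0 : ft (fun w => ((k true true w + k false false w - (if w = 0 then lam else 0) : ℤ) : ℂ)) 1 = 0 := by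
    rw [← htr]
    simp [ft, sub_mul, add_mul, Finset.sum_sub_distrib, Finset.sum_add_distrib,
      apply_ite (Int.cast : ℤ → ℂ), ite_mul]
  have hc := const_of_ft_eq_zero _ hm1 h0 y 0
  simp only [if_neg hy, sub_zero, if_true] at hc
  have hd : ∀ b, k b b 0 = C.kval C.diag := fun b => by
    show C.ker (C.e (b, 0)) (C.e (b, 0)) = _
    rw [← C.kval_col]; exact congrArg _ (col_diag _ _)
  rw [hd, hd, ← hlam] at *
  have hy' : ∀ b, C.kval (col G (C.e (b, 0)) (C.e (b, -y))) = k b b y := fun b => by
    rw [C.kval_col, hk, zero_sub, neg_neg]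
  rw [hy', hy']
  linear_combination hc

/-- Primitive groups of degree `2p` with two cycles of length `p`. -/
theorem classify : (∀ x y z : α, y ≠ x → z ≠ x → col G x y = col G x z) ∨
    ∃ (i l : orbitRel.Quotient G (α × α)) (a : ℕ), 0 < a ∧ p = 2 * a ^ 2 + 2 * a + 1 ∧ i ≠ l ∧
      i ≠ C.diag ∧ l ≠ C.diag ∧ (∀ q, q ≠ C.diag → q = i ∨ q = l) ∧
      C.deg i = (a : ℤ) * (2 * a + 1) ∧ C.deg l = ((a : ℤ) + 1) * (2 * a + 1) := by
  letI := Fintype.ofFinite (orbitRel.Quotient G (α × α))
  by_cases hone : ∀ j l : orbitRel.Quotient G (α × α), j ≠ C.diag → l ≠ C.diag → j = l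
  · exact Or.inl fun x y z hy hz => hone _ _ (col_ne_diag (Ne.symm hy)) (col_ne_diag (Ne.symm hz))
  right
  have hpar : ∀ m : ZMod p, m ≠ 0 → ∀ g g' : G,
      C.vec g true m * C.vec g' false m - C.vec g false m * C.vec g' true m = 0 := by
    intro m hm g g'
    by_contra h
    exact hone fun j l hj hl => C.single_of_independent hm h j l hj hl
  set J := (Finset.univ : Finset (orbitRel.Quotient G (α × α))).erase C.diag with hJ
  have hJm : ∀ q, q ∈ J ↔ q ≠ C.diag := fun q => by simp [hJ]
  set R := J.filter fun q => C.eig q ≠ 0 with hR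
  have hneg : ∀ q q', q ∈ R → q' ∈ R → q ≠ q' → C.eig q * C.eig q' < 0 := by
    intro q q' hq hq' hne
    rw [hR, Finset.mem_filter, hJm] at hq hq'
    have h := C.identity hq.1 hq'.1
    rw [if_neg hne] at h
    have h1 : 0 ≤ ∑ y, C.mu q y * C.mu q' y :=
      Finset.sum_nonneg fun y _ => mul_nonneg (C.mu_cases q y).1 (C.mu_cases q' y).1
    rcases lt_or_gt_of_ne (mul_ne_zero hq.2 hq'.2) with h2 | h2
    · exact h2
    · nlinarith
  have hsum : ∑ q ∈ R, C.eig q = -1 := by
    have h := C.sum_eig
    rw [← Finset.add_sum_erase _ _ (Finset.mem_univ C.diag), C.eig_diag, ← hJ] at h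
    rw [hR, Finset.sum_filter_ne_zero]
    linarith
  -- colours inside the cycles with vanishing eigenvalue are equal on the two cycles
  have hzero : ∀ q, q ≠ C.diag → C.eig q = 0 → ∀ y, C.mu q y = 0 ∨ C.mu q y = 2 := by
    intro q hq h0 y
    have h := C.identity hq hq
    rw [if_pos rfl, h0, C.deg_eq, h0] at h
    have hs := C.sum_mu q
    have h1 : ∑ z, C.mu q z * (2 - C.mu q z) = 0 := by
      rw [Finset.sum_congr rfl fun z _ => show C.mu q z * (2 - C.mu q z) = 2 * C.mu q z - C.mu q z * C.mu q z by ring,
        Finset.sum_sub_distrib, ← Finset.mul_sum]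
      linarith
    have h2 := (Finset.sum_eq_zero_iff_of_nonneg (fun z _ => mul_nonneg (C.mu_cases q z).1
      (by have := (C.mu_cases q z).2; linarith))).mp h1 y (Finset.mem_univ _)
    rcases mul_eq_zero.mp h2 with h3 | h3
    · exact Or.inl h3
    · exact Or.inr (by linarith)
  have hdiff : ∀ y : ZMod p, y ≠ 0 → col G (C.e (true, 0)) (C.e (true, y)) ≠ col G (C.e (false, 0)) (C.e (false, y)) →
      col G (C.e (true, 0)) (C.e (true, y)) ∈ R ∧ col G (C.e (false, 0)) (C.e (false, y)) ∈ R := by
    intro y hy hne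
    have hj : ∀ b, col G (C.e (b, 0)) (C.e (b, y)) ≠ C.diag := fun b =>
      col_ne_diag fun e => hy (by simpa using (Prod.mk.injEq _ _ _ _ ▸ C.e.injective e).2.symm)
    constructor <;> rw [hR, Finset.mem_filter, hJm] <;> refine ⟨hj _, fun h0 => ?_⟩
    · rcases hzero _ (hj true) h0 y with h | h
      · have := C.mu_pos_of_col (j := col G (C.e (true, 0)) (C.e (true, y))) (b := true) rfl
        omega
      · unfold mu ent at h
        rw [if_pos rfl, if_neg (Ne.symm hne)] at h
        norm_num at h
    · rcases hzero _ (hj false) h0 y with h | h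
      · have := C.mu_pos_of_col (j := col G (C.e (false, 0)) (C.e (false, y))) (b := false) rfl
        omega
      · unfold mu ent at h
        rw [if_pos rfl, if_neg hne] at h
        norm_num at h
  obtain ⟨i, hiR, hineg⟩ : ∃ i ∈ R, C.eig i < 0 := by
    by_contra hc
    push Not at hc
    have := Finset.sum_nonneg hc
    omega
  by_cases hlone : ∀ q ∈ R, q = i
  · exfalso
    have hRi : R = {i} := Finset.eq_singleton_iff_unique_mem.mpr ⟨hiR, hlone⟩
    rw [hRi, Finset.sum_singleton] at hsum
    have hlam : ∑ q, C.kval q * C.eig q = C.kval C.diag - C.kval i := by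
      rw [← Finset.add_sum_erase _ _ (Finset.mem_univ C.diag), C.eig_diag, ← hJ,
        ← Finset.sum_subset (show R ⊆ J from Finset.filter_subset _ _) (fun q hq hqR => by
          rw [hR, Finset.mem_filter] at hqR
          push Not at hqR
          rw [hqR hq, mul_zero]), hRi, Finset.sum_singleton, hsum]
      ring
    have hk : ∀ q, q ≠ C.diag → 2 * C.kval q = C.kval C.diag + C.kval i := by
      intro q hq
      obtain ⟨z, -, hz⟩ : ∃ z ∈ (Finset.univ : Finset (ZMod p)), 0 < C.ent q true true z := by
        by_contra hc'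
        push Not at hc'
        have h2 : C.num q true true ≤ 0 := Finset.sum_nonpos hc'
        have := C.num_pos_of_ne hq
        omega
      have hz0 : z ≠ 0 := fun e => by rw [e, C.ent_zero hq] at hz; exact absurd hz (lt_irrefl _)
      have hcq : col G (C.e (true, 0)) (C.e (true, z)) = q := by
        unfold ent at hz
        split_ifs at hz with h
        · exact h
        · exact absurd hz (lt_irrefl _)
      have heq : col G (C.e (false, 0)) (C.e (false, z)) = q := by
        by_contra hne
        obtain ⟨h1, h2⟩ := hdiff z hz0 (by rw [hcq]; exact Ne.symm hne)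
        exact hne ((hlone _ h2).trans ((hlone _ h1).symm.trans hcq))
      have h := C.kernel_trace hpar (-z) (neg_ne_zero.mpr hz0)
      rw [neg_neg, hcq, heq, hlam] at h
      linarith
    have hi := hk i (Finset.ne_of_mem_erase (Finset.mem_filter.mp hiR).1)
    have hall : ∀ x z : α, C.ker x z = C.kval C.diag := by
      intro x z
      rw [← C.kval_col]
      by_cases hq : col G x z = C.diag
      · rw [hq]
      · have := hk _ hq; omega
    have hzero' : ∑ z : α, C.ker (C.e (true, 0)) z = 0 := by
      unfold ker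
      rw [Finset.sum_comm]
      refine Finset.sum_eq_zero fun g _ => ?_
      rw [← Finset.mul_sum, show (∑ z, C.sgn (g • z)) = 0 from
        (Equiv.sum_comp (MulAction.toPerm g) C.sgn).trans C.sum_sgn, mul_zero]
    simp only [hall, Finset.sum_const, nsmul_eq_mul] at hzero'
    have hd : C.kval C.diag = Fintype.card G := by
      rw [show C.kval C.diag = C.ker (C.e (true, 0)) (C.e (true, 0)) from C.kval_col _ _, ker]
      simp [show ∀ w, C.sgn w * C.sgn w = 1 from fun w => by unfold sgn; split_ifs <;> simp]
    rw [hd] at hzero'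
    have h1 : (0 : ℤ) < ((Finset.univ : Finset α).card : ℤ) := by
      exact_mod_cast Finset.card_pos.mpr ⟨C.e (true, 0), Finset.mem_univ _⟩
    have h2 : (0 : ℤ) < Fintype.card G := by exact_mod_cast Fintype.card_pos
    exact absurd hzero' (ne_of_gt (mul_pos h1 h2))
  push Not at hlone
  obtain ⟨l, hlR, hli⟩ := hlone
  have hil : i ≠ l := Ne.symm hli
  have hlpos : 0 < C.eig l := by
    have := hneg i l hiR hlR hil
    nlinarith
  have hR2 : ∀ q ∈ R, q = i ∨ q = l := by
    intro q hq
    by_contra hc
    push Not at hc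
    have h1 := hneg q i hq hiR hc.1
    have h2 := hneg q l hq hlR hc.2
    rcases le_or_gt 0 (C.eig q) with h | h <;> nlinarith
  have hRil : R = {i, l} := by
    ext q
    simp only [Finset.mem_insert, Finset.mem_singleton]
    exact ⟨hR2 q, fun h => by rcases h with rfl | rfl <;> assumption⟩
  rw [hRil, Finset.sum_pair hil] at hsum
  have hid : i ≠ C.diag := (hJm i).mp (Finset.mem_filter.mp hiR).1
  have hld : l ≠ C.diag := (hJm l).mp (Finset.mem_filter.mp hlR).1
  -- the orbital `i` is symmetric
  have hsym : ∀ x z : α, col G x z = i → col G z x = i := by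
    intro x z hxz
    have hne : x ≠ z := fun e => hid (by rw [← hxz, e]; exact col_diag _ _)
    obtain ⟨i', hi'⟩ : ∃ i', i' = col G z x := ⟨_, rfl⟩
    rw [← hi']
    by_contra hne'
    have htr : ∀ u v : α, col G v u = i' ↔ col G u v = i := fun u v => by
      rw [hi', ← hxz]; exact ⟨fun h => col_swap h, fun h => col_swap h⟩
    have e : ∀ b b', C.num i' b b' = C.num i b' b := by
      intro b b'
      unfold num
      exact Fintype.sum_equiv (Equiv.neg _) _ _ fun y =>
        C.ent_transpose htr b b' y
    have he : C.eig i' = C.eig i := by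
      unfold eig
      rw [e, e, (C.num_symm i).1]
    have hd' : i' ≠ C.diag := hi' ▸ col_ne_diag (Ne.symm hne)
    have := hneg i' i (Finset.mem_filter.mpr ⟨(hJm _).mpr hd', by rw [he]; exact (ne_of_lt hineg)⟩) hiR hne'
    rw [he] at this
    nlinarith
  let S : Bool → ZMod p → ℤ := fun b y => C.ent i b b y
  have hSsym : ∀ b y, S b (-y) = S b y := by
    intro b y
    show C.ent i b b (-y) = C.ent i b b y
    exact (C.ent_transpose (fun u v => ⟨fun h => hsym _ _ h, fun h => hsym _ _ h⟩) b b y).symm
  let cnt : α → α → ℤ := fun x z => ∑ w, (if col G x w = i then (1 : ℤ) else 0) * if col G w z = i then 1 else 0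
  have hcnt : ∀ (g : G) x z, cnt (g • x) (g • z) = cnt x z := by
    intro g x z
    show ∑ w, _ = _
    rw [← Equiv.sum_comp (MulAction.toPerm g)]
    simp only [MulAction.toPerm_apply, col_smul]
    rfl
  let P : Bool → ZMod p → ℤ := fun b y => ∑ z, S b (z - y) * S b z
  have hP : ∀ y, cnt (C.e (true, 0)) (C.e (true, y)) - cnt (C.e (false, 0)) (C.e (false, y)) =
      P true y - P false y := by
    intro y
    show (∑ w, _) - (∑ w, _) = _
    rw [C.sum_coords, C.sum_coords]
    simp only [C.ent_eq, sub_zero]
    have e1 : ∀ b, ∑ z, C.ent i b b z * C.ent i b b (y - z) = P b y := fun b =>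
      Finset.sum_congr rfl fun z _ => by
        show _ = S b (z - y) * S b z
        rw [← hSsym b (z - y), neg_sub, mul_comm]
    have e2 : ∑ z, C.ent i true false z * C.ent i false true (y - z) =
        ∑ z, C.ent i false true z * C.ent i true false (y - z) :=
      Fintype.sum_equiv (Equiv.subLeft y) _ _ fun z => by
        simp only [Equiv.subLeft_apply, sub_sub_cancel]; ring
    rw [e1, e1, e2]; ring
  obtain ⟨δ, hδ⟩ : ∃ δ, δ = cnt (Quotient.out i).1 (Quotient.out i).2 - cnt (Quotient.out l).1 (Quotient.out l).2 :=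
    ⟨_, rfl⟩
  have hcval : ∀ x z, cnt x z = cnt (col G x z).out.1 (col G x z).out.2 := by
    intro x z
    obtain ⟨g, h1, h2⟩ := exists_of_col_eq (G := G) (x := (col G x z).out.1) (z := (col G x z).out.2) (x' := x)
      (z' := z) (Quotient.out_eq _)
    rw [← h1, ← h2, hcnt]
  have hD : ∀ y, P true y - P false y = δ * (S true y - S false y) := by
    intro y
    by_cases hy : y = 0
    · subst hy
      have e0 : ∀ b, P b 0 = C.num i b b := fun b => Finset.sum_congr rfl fun z _ => by
        show S b (z - 0) * S b z = C.ent i b b z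
        rw [sub_zero]
        show C.ent i b b z * C.ent i b b z = _
        unfold ent; split_ifs <;> simp
      rw [e0, e0, (C.num_symm i).2]
      show _ = δ * (C.ent i true true 0 - C.ent i false false 0)
      rw [C.ent_zero hid, C.ent_zero hid]; ring
    rw [← hP]
    by_cases hc : col G (C.e (true, 0)) (C.e (true, y)) = col G (C.e (false, 0)) (C.e (false, y))
    · rw [hcval, hcval (C.e (false, 0)), hc, sub_self]
      show _ = δ * (C.ent i true true y - C.ent i false false y)
      unfold ent; rw [hc]; ring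
    · obtain ⟨h1, h2⟩ := hdiff y hy hc
      show _ = δ * (C.ent i true true y - C.ent i false false y)
      unfold ent
      rw [hcval, hcval (C.e (false, 0))]
      rcases hR2 _ h1 with e1 | e1 <;> rcases hR2 _ h2 with e2 | e2
      · exact absurd (e1.trans e2.symm) hc
      · rw [e1, e2, if_pos rfl, if_neg hli, hδ]; ring
      · rw [e1, e2, if_neg hli, if_pos rfl, hδ]; ring
      · exact absurd (e1.trans e2.symm) hc
  -- a mixed difference
  obtain ⟨y₁, hy₁0, hy₁⟩ : ∃ y : ZMod p, y ≠ 0 ∧ S true y ≠ S false y := by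
    have h := C.identity hid hld
    rw [if_neg hil] at h
    have hpos : 0 < ∑ y, C.mu i y * C.mu l y := by nlinarith
    obtain ⟨y, -, hy⟩ := Finset.exists_ne_zero_of_sum_ne_zero hpos.ne'
    have hy0 : y ≠ 0 := fun e => hy (by
      rw [e]; unfold mu; rw [C.ent_zero hid, C.ent_zero hid]; ring)
    refine ⟨y, hy0, fun e => hy ?_⟩
    have he : C.ent i true true y = C.ent i false false y := e
    rcases eq_or_lt_of_le (C.ent_nonneg i true true y) with h0 | h0
    · unfold mu; rw [← he, ← h0]; ring
    · have h1 : C.ent l true true y = 0 ∧ C.ent l false false y = 0 := by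
        have hb : ∀ b, 0 < C.ent i b b y → C.ent l b b y = 0 := by
          intro b hb
          unfold ent at hb ⊢
          split_ifs at hb with c1
          · rw [if_neg (fun c2 => hil (c1.symm.trans c2))]
          · exact absurd hb (lt_irrefl _)
        exact ⟨hb _ h0, hb _ (he ▸ h0)⟩
      unfold mu; rw [h1.1, h1.2]; ring
  have hm1 : (1 : ZMod p) ≠ 0 := one_ne_zero
  have hDne : ft (fun y => ((S true y - S false y : ℤ) : ℂ)) 1 ≠ 0 := by
    intro h0
    have h := const_of_ft_eq_zero _ hm1 h0 y₁ 0
    have e : S true 0 - S false 0 = 0 := by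
      show C.ent i true true 0 - C.ent i false false 0 = 0
      rw [C.ent_zero hid, C.ent_zero hid]; ring
    exact hy₁ (by linarith)
  have hμi : ∀ y : ZMod p, y ≠ 0 → C.mu i y = 1 := by
    have hneg' : ∀ b, ft (fun y => (S b y : ℂ)) (-1) = ft (fun y => (S b y : ℂ)) 1 := by
      intro b
      simp only [ft]
      exact Fintype.sum_equiv (Equiv.neg _) _ _ fun y => by simp [hSsym]
    have hsq : ∀ b, ft (fun y => (P b y : ℂ)) 1 = ft (fun y => (S b y : ℂ)) 1 * ft (fun y => (S b y : ℂ)) 1 := by
      intro b
      conv_rhs => arg 1; rw [← hneg']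
      rw [← ft_corr]
      simp only [P, Int.cast_sum, Int.cast_mul]
    have h0 : ft (fun y => ((C.mu i y - (if y = 0 then δ else 0) : ℤ) : ℂ)) 1 = 0 := by
      have e : ft (fun y => ((C.mu i y - (if y = 0 then δ else 0) : ℤ) : ℂ)) 1 =
          ft (fun y => (S true y : ℂ)) 1 + ft (fun y => (S false y : ℂ)) 1 - δ := by
        simp [S, mu, ft, sub_mul, add_mul, Finset.sum_sub_distrib, Finset.sum_add_distrib,
          apply_ite (Int.cast : ℤ → ℂ), ite_mul]
      have e2 : ft (fun y => ((S true y - S false y : ℤ) : ℂ)) 1 =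
          ft (fun y => (S true y : ℂ)) 1 - ft (fun y => (S false y : ℂ)) 1 := by
        simp [ft, sub_mul, Finset.sum_sub_distrib]
      have e3 : ft (fun y => (P true y : ℂ)) 1 - ft (fun y => (P false y : ℂ)) 1 =
          (δ : ℂ) * ft (fun y => ((S true y - S false y : ℤ) : ℂ)) 1 := by
        simp only [ft, ← Finset.sum_sub_distrib, Finset.mul_sum, ← sub_mul, ← mul_assoc]
        refine Finset.sum_congr rfl fun y _ => ?_
        congr 1
        exact_mod_cast hD y
      rw [hsq, hsq, e2] at e3
      rw [e2] at hDne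
      rw [e]
      exact (mul_eq_zero.mp (show (_ : ℂ) * (ft (fun y => (S true y : ℂ)) 1 - ft (fun y => (S false y : ℂ)) 1) = 0
        by linear_combination e3)).resolve_right hDne
    intro y hy
    have h1 := const_of_ft_eq_zero _ hm1 h0 y y₁
    simp only [if_neg hy, if_neg hy₁0, sub_zero] at h1
    rw [h1]
    have ha := C.ent_le_one i true true y₁
    have hb := C.ent_le_one i false false y₁
    have hc := C.ent_nonneg i true true y₁
    have hd := C.ent_nonneg i false false y₁
    have : C.ent i true true y₁ ≠ C.ent i false false y₁ := hy₁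
    unfold mu; omega
  have hμl : ∀ y : ZMod p, y ≠ 0 → C.mu l y = 1 ∧
      ∀ b, col G (C.e (b, 0)) (C.e (b, y)) = i ∨ col G (C.e (b, 0)) (C.e (b, y)) = l := by
    intro y hy
    have h1 := hμi y hy
    unfold mu ent at h1
    have hne : col G (C.e (true, 0)) (C.e (true, y)) ≠ col G (C.e (false, 0)) (C.e (false, y)) := by
      intro e; rw [e] at h1; split_ifs at h1 <;> omega
    obtain ⟨r1, r2⟩ := hdiff y hy hne
    refine ⟨?_, fun b => by cases b <;> [exact hR2 _ r2; exact hR2 _ r1]⟩
    unfold mu ent
    rcases hR2 _ r1 with e1 | e1 <;> rcases hR2 _ r2 with e2 | e2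
    · exact absurd (e1.trans e2.symm) hne
    · rw [e1, e2, if_neg hil, if_pos rfl]; rfl
    · rw [e1, e2, if_neg hil, if_pos rfl]; rfl
    · exact absurd (e1.trans e2.symm) hne
  have hall : ∀ q, q ≠ C.diag → q = i ∨ q = l := by
    intro q hq
    obtain ⟨z, -, hz⟩ : ∃ z ∈ (Finset.univ : Finset (ZMod p)), 0 < C.ent q true true z := by
      by_contra hc'
      push Not at hc'
      have h2 : C.num q true true ≤ 0 := Finset.sum_nonpos hc'
      have := C.num_pos_of_ne hq
      omega
    have hz0 : z ≠ 0 := fun e => by rw [e, C.ent_zero hq] at hz; exact absurd hz (lt_irrefl _)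
    unfold ent at hz
    split_ifs at hz with h
    · rw [← h]; exact (hμl z hz0).2 true
    · exact absurd hz (lt_irrefl _)
  have hμ0 : ∀ q, q ≠ C.diag → C.mu q 0 = 0 := fun q hq => by
    unfold mu; rw [C.ent_zero hq, C.ent_zero hq]; rfl
  have hsumμ : ∀ q, q ≠ C.diag → (∀ y : ZMod p, y ≠ 0 → C.mu q y = 1) →
      ∑ y, C.mu q y = (p : ℤ) - 1 ∧ ∑ y, C.mu q y * C.mu q y = (p : ℤ) - 1 := by
    intro q hq h
    constructor <;>
    · rw [← Finset.add_sum_erase _ _ (Finset.mem_univ 0), hμ0 q hq,
        Finset.sum_congr rfl (g := fun _ => (1 : ℤ)) fun y hy => by simp [h y (Finset.mem_erase.mp hy).1]]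
      simp [Nat.cast_sub (Fact.out : p.Prime).one_le]
  obtain ⟨si1, si2⟩ := hsumμ i hid hμi
  obtain ⟨sl1, sl2⟩ := hsumμ l hld fun y hy => (hμl y hy).1
  have h1 := C.identity hid hid
  have h2 := C.identity hld hld
  rw [if_pos rfl, si2, C.deg_eq] at h1
  rw [if_pos rfl, sl2, C.deg_eq] at h2
  have hXi := (C.sum_mu i).symm.trans si1
  have hXl := (C.sum_mu l).symm.trans sl1
  obtain ⟨a, ha⟩ : ∃ a : ℕ, (a : ℤ) = C.eig l := ⟨(C.eig l).toNat, Int.toNat_of_nonneg hlpos.le⟩
  have hp : (p : ℤ) = 2 * (a : ℤ) ^ 2 + 2 * a + 1 := by rw [ha]; linarith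
  refine ⟨l, i, a, by omega, by exact_mod_cast hp, hli, hld, hid, fun q hq => (hall q hq).symm, ?_, ?_⟩
  · rw [C.deg_eq, ← C.sum_mu, sl1, ← ha, hp]; ring
  · rw [C.deg_eq, ← C.sum_mu, si1, show C.eig i = -1 - (a : ℤ) by linarith, hp]; ring

end CfsgLib.Perm.TwoP.Config
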