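import Mathlib.Analysis.SpecialFunctions.Complex.CircleAddChar
import Mathlib.NumberTheory.LegendreSymbol.AddCharacter
import Mathlib.RingTheory.Polynomial.Cyclotomic.Roots
import Mathlib.RingTheory.Polynomial.Cyclotomic.Basic
import Mathlib.FieldTheory.Minpoly.Field

/-!
Fourier transforms on `ZMod p`, and a lemma on two by two matrices with a common null vector.
-/

set_option autoImplicit false

namespace CfsgLib.Perm.TwoP

open scoped ComplexConjugate

variable {p : ℕ} [Fact p.Prime]

/-- The Fourier transform. -/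
noncomputable def ft (a : ZMod p → ℂ) (m : ZMod p) : ℂ := ∑ y, a y * ZMod.stdAddChar (m * y)

theorem ft_zero (a : ZMod p → ℂ) : ft a 0 = ∑ y, a y := by simp [ft]

theorem conj_char (x : ZMod p) : conj (ZMod.stdAddChar x : ℂ) = ZMod.stdAddChar (-x) := by
  rw [ZMod.stdAddChar_apply, ZMod.stdAddChar_apply, AddChar.map_neg_eq_inv,
    Circle.coe_inv_eq_conj]

theorem conj_ft {a : ZMod p → ℂ} (ha : ∀ y, conj (a y) = a y) (m : ZMod p) :
    conj (ft a m) = ft a (-m) := by
  simp only [ft, map_sum, map_mul, ha, conj_char, neg_mul]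

theorem ft_corr (a h : ZMod p → ℂ) (m : ZMod p) :
    ft (fun y => ∑ z, a (z - y) * h z) m = ft a (-m) * ft h m := by
  simp only [ft, Finset.sum_mul]
  rw [Finset.sum_comm]
  simp only [Finset.mul_sum]
  conv_rhs => rw [Finset.sum_comm]
  refine Finset.sum_congr rfl fun z _ => ?_
  refine Fintype.sum_equiv (Equiv.subLeft z) _ _ fun y => ?_
  simp only [Equiv.subLeft_apply]
  rw [mul_mul_mul_comm, ← AddChar.map_add_eq_mul]
  congr 2
  ring

theorem ft_parseval (a b : ZMod p → ℂ) :
    ∑ m, ft a m * ft b (-m) = (p : ℂ) * ∑ y, a y * b y := by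
  simp only [ft, Finset.sum_mul, Finset.mul_sum]
  rw [Finset.sum_comm]
  refine Finset.sum_congr rfl fun y _ => ?_
  rw [Finset.sum_comm]
  have h : ∀ y z : ZMod p, ∑ m : ZMod p,
      a y * ZMod.stdAddChar (m * y) * (b z * ZMod.stdAddChar (-m * z)) =
      a y * b z * if y - z = 0 then (p : ℂ) else 0 := by
    intro y z
    have h1 := AddChar.sum_mulShift (ψ := (ZMod.stdAddChar : AddChar (ZMod p) ℂ)) (y - z)
      (ZMod.isPrimitive_stdAddChar p)
    rw [ZMod.card] at h1
    rw [show (if y - z = 0 then (p : ℂ) else 0) = ((if y - z = 0 then p else 0 : ℕ) : ℂ) by split_ifs <;> simp,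
      ← h1, Finset.mul_sum]
    refine Finset.sum_congr rfl fun m _ => ?_
    rw [mul_mul_mul_comm, ← AddChar.map_add_eq_mul]
    congr 2
    ring
  rw [Finset.sum_congr rfl fun z _ => h z y]
  simp only [sub_eq_zero, mul_ite, mul_zero, Finset.sum_ite_eq', Finset.mem_univ, if_true]
  ring

/-- An integral function whose transform vanishes at a nonzero argument is constant. -/
theorem const_of_ft_eq_zero (h : ZMod p → ℤ) {m : ZMod p} (hm : m ≠ 0)
    (h0 : ft (fun y => (h y : ℂ)) m = 0) (y z : ZMod p) : h y = h z := by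
  have hp : p.Prime := Fact.out
  set ζ : ℂ := ZMod.stdAddChar m with hζdef
  have hζp : IsPrimitiveRoot ζ p := by
    have h1 : ζ ^ p = 1 := by
      rw [hζdef, ← AddChar.map_nsmul_eq_pow, show p • m = 0 by simp, AddChar.map_zero_eq_one]
    have h2 : ζ ≠ 1 := fun e => hm (ZMod.injective_stdAddChar (e.trans (AddChar.map_zero_eq_one _).symm))
    exact IsPrimitiveRoot.iff_def _ _ |>.mpr ⟨h1, fun l hl => by
      have := orderOf_dvd_of_pow_eq_one hl
      rwa [orderOf_eq_prime h1 h2] at this⟩
  let P : Polynomial ℚ := ∑ k ∈ Finset.range p, Polynomial.C (h (k : ZMod p) : ℚ) * Polynomial.X ^ k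
  have hcoeff : ∀ k < p, P.coeff k = (h (k : ZMod p) : ℚ) := by
    intro k hk
    simp [P, Polynomial.finsetSum_coeff, Polynomial.coeff_C_mul_X_pow, hk]
  have hroot : Polynomial.aeval ζ P = 0 := by
    rw [← h0]
    simp only [P, map_sum, map_mul, map_pow, Polynomial.aeval_C, Polynomial.aeval_X, ft, map_intCast]
    refine Finset.sum_bij' (fun k _ => (k : ZMod p)) (fun y _ => y.val) (fun _ _ => Finset.mem_univ _)
      (fun y _ => Finset.mem_range.mpr y.val_lt) (fun k hk => ZMod.val_cast_of_lt (Finset.mem_range.mp hk))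
      (fun y _ => ZMod.natCast_zmod_val y) (fun k hk => ?_)
    rw [hζdef, ← AddChar.map_nsmul_eq_pow, nsmul_eq_mul, mul_comm (k : ZMod p) m]
  have hdeg : P.natDegree ≤ p - 1 := by
    refine Polynomial.natDegree_sum_le_of_forall_le _ _ fun k hk => ?_
    exact (Polynomial.natDegree_C_mul_X_pow_le _ _).trans (by have := Finset.mem_range.mp hk; omega)
  have hdvd : Polynomial.cyclotomic p ℚ ∣ P := by
    rw [Polynomial.cyclotomic_eq_minpoly_rat hζp hp.pos]
    exact minpoly.dvd ℚ ζ hroot
  obtain ⟨Q, hQ⟩ := hdvd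
  by_cases hP0 : P = 0
  · have h1 := hcoeff y.val y.val_lt
    have h2 := hcoeff z.val z.val_lt
    rw [hP0, Polynomial.coeff_zero, ZMod.natCast_zmod_val] at h1 h2
    exact_mod_cast h1.symm.trans h2
  have hQ0 : Q ≠ 0 := fun e => hP0 (by rw [hQ, e, mul_zero])
  have hQd : Q.natDegree = 0 := by
    have h1 := Polynomial.natDegree_mul (Polynomial.cyclotomic_ne_zero p ℚ) hQ0
    rw [← hQ, Polynomial.natDegree_cyclotomic, Nat.totient_prime hp] at h1
    omega
  have hall : ∀ w : ZMod p, (h w : ℚ) = Q.coeff 0 := by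
    intro w
    rw [← ZMod.natCast_zmod_val w, ← hcoeff _ w.val_lt, hQ, Polynomial.eq_C_of_natDegree_eq_zero hQd,
      Polynomial.coeff_mul_C, Polynomial.coeff_C_zero, Polynomial.cyclotomic_prime,
      Polynomial.finsetSum_coeff]
    simp only [Polynomial.coeff_X_pow, Finset.sum_ite_eq, Finset.mem_range, w.val_lt, if_true, one_mul]
  exact_mod_cast (hall y).trans (hall z).symm

/-- The trace product of two matrices killing a common vector on both sides. -/
theorem prod_of_common_null {a b c d a' b' c' d' v w : ℂ} (hv : v ≠ 0 ∨ w ≠ 0)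
    (h1 : a * v + b * w = 0) (h2 : c * v + d * w = 0)
    (h3 : a * conj v + c * conj w = 0) (h4 : b * conj v + d * conj w = 0)
    (h1' : a' * v + b' * w = 0) (h2' : c' * v + d' * w = 0)
    (h3' : a' * conj v + c' * conj w = 0) (h4' : b' * conj v + d' * conj w = 0) :
    a * conj a' + b * conj b' + c * conj c' + d * conj d' = (a + d) * conj (a' + d') := by
  obtain ⟨u, hu⟩ : ∃ u, u = v * conj v + w * conj w := ⟨_, rfl⟩
  have hu0 : u ≠ 0 := by
    rw [hu, Complex.mul_conj, Complex.mul_conj, ← Complex.ofReal_add, Complex.ofReal_ne_zero]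
    have h5 := Complex.normSq_nonneg v
    have h6 := Complex.normSq_nonneg w
    rcases hv with h | h
    · have := Complex.normSq_pos.mpr h; linarith
    · have := Complex.normSq_pos.mpr h; linarith
  have key : ∀ {a b c d : ℂ}, a * v + b * w = 0 → c * v + d * w = 0 → a * conj v + c * conj w = 0 →
      b * conj v + d * conj w = 0 → u * a = (a + d) * (w * conj w) ∧
      u * b = -((a + d) * (v * conj w)) ∧ u * c = -((a + d) * (w * conj v)) ∧
      u * d = (a + d) * (v * conj v) := by
    intro a b c d h1 h2 h3 h4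
    rw [hu]
    refine ⟨?_, ?_, ?_, ?_⟩
    · linear_combination conj v * h1 - w * h4
    · linear_combination conj w * h1 + v * h4
    · linear_combination conj v * h2 + w * h3
    · linear_combination conj w * h2 - v * h3
  obtain ⟨ka, kb, kc, kd⟩ := key h1 h2 h3 h4
  obtain ⟨ka', kb', kc', kd'⟩ := key h1' h2' h3' h4'
  have huc : conj u = u := by
    rw [hu]; simp only [map_add, map_mul, Complex.conj_conj]; ring
  have hc : ∀ {x y : ℂ}, u * x = y → u * conj x = conj y := fun {x y} e => by
    rw [← e, map_mul, huc]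
  have ca := hc ka'
  have cb := hc kb'
  have cc := hc kc'
  have cd := hc kd'
  simp only [map_neg, map_mul, Complex.conj_conj] at ca cb cc cd
  apply mul_left_cancel₀ (mul_ne_zero hu0 hu0)
  calc u * u * (a * conj a' + b * conj b' + c * conj c' + d * conj d')
      = (u * a) * (u * conj a') + (u * b) * (u * conj b') + (u * c) * (u * conj c') +
        (u * d) * (u * conj d') := by ring
    _ = u * u * ((a + d) * conj (a' + d')) := by
        rw [ka, kb, kc, kd, ca, cb, cc, cd, hu]; ring

end CfsgLib.Perm.TwoP
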