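import Cfsg.Agent.Lib.Perm.DegreeTwoP

/-!
The orbitals of a primitive group of degree `2p`.
-/

set_option autoImplicit false
set_option linter.unusedSectionVars false
set_option linter.style.haveILetI false
set_option maxHeartbeats 1000000

namespace CfsgLib.Perm.TwoP.Config

open MulAction CfsgLib.Perm.TwoP
open scoped ComplexConjugate Classical

variable {G α : Type*} [Group G] [Finite G] [MulAction G α] [Fintype α] {p : ℕ} [Fact p.Prime]
  (C : Config G α p) [IsPreprimitive G α]

/-- Transformed vectors. -/
noncomputable def vec (g : G) (b : Bool) (m : ZMod p) : ℂ :=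
  ft (fun y => (C.sgn (g • C.e (b, y)) : ℂ)) m

/-- Transformed adjacency matrices. -/
noncomputable def mat (j : orbitRel.Quotient G (α × α)) (b b' : Bool) (m : ZMod p) : ℂ :=
  ft (fun y => (C.ent j b b' y : ℂ)) (-m)

theorem conj_mat (j : orbitRel.Quotient G (α × α)) (b b' : Bool) (m : ZMod p) :
    conj (C.mat j b b' m) = ft (fun y => (C.ent j b b' y : ℂ)) m := by
  rw [mat, conj_ft (fun y => map_intCast _ _), neg_neg]

theorem mat_row (j : orbitRel.Quotient G (α × α)) (g : G) (b : Bool) (m : ZMod p) :
    C.mat j b true m * C.vec g true m + C.mat j b false m * C.vec g false m =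
      (C.eig j : ℂ) * C.vec g b m := by
  have h : ∀ y, (C.eig j : ℂ) * (C.sgn (g • C.e (b, y)) : ℂ) =
      ∑ z, (C.ent j b true (z - y) : ℂ) * (C.sgn (g • C.e (true, z)) : ℂ) +
      ∑ z, (C.ent j b false (z - y) : ℂ) * (C.sgn (g • C.e (false, z)) : ℂ) := by
    intro y
    have h1 := C.eigen_row j g (C.e (b, y))
    rw [C.sum_coords] at h1
    simp only [C.ent_eq] at h1
    exact_mod_cast h1.symm
  rw [mat, mat, vec, vec, vec, ← ft_corr, ← ft_corr]
  simp only [ft, Finset.mul_sum, ← Finset.sum_add_distrib]
  refine Finset.sum_congr rfl fun y _ => ?_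
  rw [← add_mul, ← mul_assoc, h y]

theorem mat_col (j : orbitRel.Quotient G (α × α)) (g : G) (b : Bool) (m : ZMod p) :
    C.mat j true b m * conj (C.vec g true m) + C.mat j false b m * conj (C.vec g false m) =
      (C.eig j : ℂ) * conj (C.vec g b m) := by
  have h : ∀ y, (C.eig j : ℂ) * (C.sgn (g • C.e (b, y)) : ℂ) =
      ∑ z, (C.ent j true b (-(z - y)) : ℂ) * (C.sgn (g • C.e (true, z)) : ℂ) +
      ∑ z, (C.ent j false b (-(z - y)) : ℂ) * (C.sgn (g • C.e (false, z)) : ℂ) := by
    intro y
    have h1 := C.eigen_col j g (C.e (b, y))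
    rw [C.sum_coords] at h1
    simp only [C.ent_eq] at h1
    simp only [neg_sub]
    exact_mod_cast h1.symm
  have hneg : ∀ b' : Bool, conj (C.mat j b' b m) = ft (fun y => (C.ent j b' b (-y) : ℂ)) (-m) := by
    intro b'
    rw [C.conj_mat]
    simp only [ft]
    exact Fintype.sum_equiv (Equiv.neg _) _ _ fun y => by simp
  have key : conj (C.mat j true b m) * C.vec g true m + conj (C.mat j false b m) * C.vec g false m =
      (C.eig j : ℂ) * C.vec g b m := by
    rw [hneg, hneg, vec, vec, vec, ← ft_corr, ← ft_corr]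
    simp only [ft, Finset.mul_sum, ← Finset.sum_add_distrib]
    refine Finset.sum_congr rfl fun y _ => ?_
    rw [← add_mul, ← mul_assoc, h y]
  have h2 := congrArg conj key
  simpa only [map_add, map_mul, Complex.conj_conj, map_intCast] using h2

theorem exists_vec_ne : ∃ g : G, ∀ m : ZMod p, m ≠ 0 → C.vec g true m ≠ 0 ∨ C.vec g false m ≠ 0 := by
  obtain ⟨g, hg⟩ := C.exists_not_block
  refine ⟨g, fun m hm => ?_⟩
  by_contra hc
  rw [not_or, not_not, not_not] at hc
  have ht := const_of_ft_eq_zero (fun y => C.sgn (g • C.e (true, y))) hm hc.1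
  have hf := const_of_ft_eq_zero (fun y => C.sgn (g • C.e (false, y))) hm hc.2
  apply hg
  have hs : C.sgn (g • C.e (true, 0)) + C.sgn (g • C.e (false, 0)) = 0 := by
    have h := C.sum_sgn
    rw [← Equiv.sum_comp (MulAction.toPerm g), C.sum_coords] at h
    simp only [MulAction.toPerm_apply, ht _ 0, hf _ 0, Finset.sum_const, Finset.card_univ, ZMod.card,
      nsmul_eq_mul, ← mul_add] at h
    exact (mul_eq_zero.mp h).resolve_left (by exact_mod_cast (Fact.out : p.Prime).ne_zero)
  have hpm : ∀ w, C.sgn w = 1 ∨ C.sgn w = -1 := fun w => by unfold sgn; split_ifs <;> simp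
  rcases hpm (g • C.e (true, 0)) with e | e <;> rw [e] at hs
  · refine Or.inl fun x => ?_
    obtain ⟨⟨b, y⟩, rfl⟩ := C.e.surjective x
    cases b
    · rw [hf y 0, C.sgn_apply]; simp; omega
    · rw [ht y 0, C.sgn_apply, e]; simp
  · refine Or.inr fun x => ?_
    obtain ⟨⟨b, y⟩, rfl⟩ := C.e.surjective x
    cases b
    · rw [hf y 0, C.sgn_apply]; simp; omega
    · rw [ht y 0, C.sgn_apply, e]; simp

theorem sum_ne_zero (a a' : ZMod p → ℤ) :
    ∑ m ∈ (Finset.univ : Finset (ZMod p)).erase 0,
      ft (fun y => (a y : ℂ)) (-m) * ft (fun y => (a' y : ℂ)) m =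
      (((p : ℤ) * ∑ y, a y * a' y - (∑ y, a y) * ∑ y, a' y : ℤ) : ℂ) := by
  rw [Finset.sum_erase_eq_sub (Finset.mem_univ _), neg_zero, ft_zero, ft_zero]
  have h : ∑ m, ft (fun y => (a y : ℂ)) (-m) * ft (fun y => (a' y : ℂ)) m =
      (p : ℂ) * ∑ y, (a' y : ℂ) * (a y : ℂ) := by
    rw [← ft_parseval]
    exact Finset.sum_congr rfl fun m _ => mul_comm _ _
  rw [h]
  push_cast
  simp [mul_comm]

theorem sum_ne_zero_one (a : ZMod p → ℤ) :
    ∑ m ∈ (Finset.univ : Finset (ZMod p)).erase 0, ft (fun y => (a y : ℂ)) (-m) =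
      (((p : ℤ) * a 0 - ∑ y, a y : ℤ) : ℂ) ∧
    ∑ m ∈ (Finset.univ : Finset (ZMod p)).erase 0, ft (fun y => (a y : ℂ)) m =
      (((p : ℤ) * a 0 - ∑ y, a y : ℤ) : ℂ) := by
  have e : ∀ m : ZMod p, ft (fun y => ((if y = 0 then 1 else 0 : ℤ) : ℂ)) m = 1 := fun m => by
    simp [ft, apply_ite (Int.cast : ℤ → ℂ)]
  constructor
  · have h := sum_ne_zero (p := p) a (fun y => if y = 0 then 1 else 0)
    simp only [e, mul_one] at h
    rw [h]; simp
  · have h := sum_ne_zero (p := p) (fun y => if y = 0 then 1 else 0) a
    simp only [e, one_mul] at h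
    rw [h]; simp

/-- The diagonal orbital. -/
noncomputable def diag : orbitRel.Quotient G (α × α) := col G (C.e (true, 0)) (C.e (true, 0))

theorem ent_diag (b b' : Bool) (y : ZMod p) :
    C.ent C.diag b b' y = if b = b' ∧ y = 0 then 1 else 0 := by
  unfold ent
  split_ifs with h1 h2 h2
  · rfl
  · exfalso
    refine col_ne_diag (G := G) (x := C.e (b, 0)) (z := C.e (b', y)) (fun e => h2 ?_) h1
    have := Prod.mk.injEq _ _ _ _ ▸ C.e.injective e
    exact ⟨this.1, this.2.symm⟩
  · exact absurd (by obtain ⟨rfl, rfl⟩ := h2; exact col_diag _ _) h1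
  · rfl

theorem ne_diag_iff (j : orbitRel.Quotient G (α × α)) :
    j ≠ C.diag ↔ ∃ x z : α, x ≠ z ∧ col G x z = j := by
  constructor
  · intro h
    induction j using Quotient.inductionOn' with
    | h q => exact ⟨q.1, q.2, fun e => h (by
        show col G q.1 q.2 = C.diag
        rw [e]; exact col_diag _ _), rfl⟩
  · rintro ⟨x, z, hxz, rfl⟩
    exact col_ne_diag hxz

theorem ent_zero {j : orbitRel.Quotient G (α × α)} (hj : j ≠ C.diag) (b : Bool) : C.ent j b b 0 = 0 := by
  unfold ent
  rw [if_neg]
  intro h
  exact hj (h.symm.trans (col_diag _ _))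

/-- The sum of the two diagonal blocks. -/
noncomputable def mu (j : orbitRel.Quotient G (α × α)) (y : ZMod p) : ℤ :=
  C.ent j true true y + C.ent j false false y

theorem mu_cases (j : orbitRel.Quotient G (α × α)) (y : ZMod p) :
    0 ≤ C.mu j y ∧ C.mu j y ≤ 2 :=
  ⟨add_nonneg (C.ent_nonneg _ _ _ _) (C.ent_nonneg _ _ _ _),
    by have := C.ent_le_one j true true y; have := C.ent_le_one j false false y; unfold mu; omega⟩

theorem sum_mu (j : orbitRel.Quotient G (α × α)) : ∑ y, C.mu j y = 2 * C.num j true true := by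
  unfold mu
  rw [Finset.sum_add_distrib]
  show C.num j true true + C.num j false false = _
  rw [(C.num_symm j).2]; ring

/-- The fundamental identity. -/
theorem identity {j l : orbitRel.Quotient G (α × α)} (hj : j ≠ C.diag) (hl : l ≠ C.diag) :
    (if j = l then 2 * C.deg j else 0) = 2 * C.eig j * C.eig l + ∑ y, C.mu j y * C.mu l y := by
  obtain ⟨g, hg⟩ := C.exists_vec_ne
  have hμ : ∀ q m, C.mat q true true m + C.mat q false false m = ft (fun y => (C.mu q y : ℂ)) (-m) := by
    intro q m
    simp only [mat, ft, ← Finset.sum_add_distrib, mu, Int.cast_add, add_mul]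
  have hμc : ∀ q m, conj (C.mat q true true m + C.mat q false false m) = ft (fun y => (C.mu q y : ℂ)) m := by
    intro q m
    rw [hμ, conj_ft (fun y => map_intCast _ _), neg_neg]
  have key : ∀ m ∈ (Finset.univ : Finset (ZMod p)).erase 0,
      ft (fun y => (C.ent j true true y : ℂ)) (-m) * ft (fun y => (C.ent l true true y : ℂ)) m +
      ft (fun y => (C.ent j true false y : ℂ)) (-m) * ft (fun y => (C.ent l true false y : ℂ)) m +
      ft (fun y => (C.ent j false true y : ℂ)) (-m) * ft (fun y => (C.ent l false true y : ℂ)) m +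
      ft (fun y => (C.ent j false false y : ℂ)) (-m) * ft (fun y => (C.ent l false false y : ℂ)) m =
      ft (fun y => (C.mu j y : ℂ)) (-m) * ft (fun y => (C.mu l y : ℂ)) m -
        (C.eig j : ℂ) * ft (fun y => (C.mu l y : ℂ)) m - (C.eig l : ℂ) * ft (fun y => (C.mu j y : ℂ)) (-m) +
        2 * (C.eig j : ℂ) * (C.eig l : ℂ) := by
    intro m hm
    have a1 := C.mat_row j g true m
    have a2 := C.mat_row j g false m
    have a3 := C.mat_col j g true m
    have a4 := C.mat_col j g false m
    have b1 := C.mat_row l g true m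
    have b2 := C.mat_row l g false m
    have b3 := C.mat_col l g true m
    have b4 := C.mat_col l g false m
    have h := prod_of_common_null (hg m (Finset.mem_erase.mp hm).1)
      (a := C.mat j true true m - C.eig j) (b := C.mat j true false m) (c := C.mat j false true m)
      (d := C.mat j false false m - C.eig j) (a' := C.mat l true true m - C.eig l) (b' := C.mat l true false m)
      (c' := C.mat l false true m) (d' := C.mat l false false m - C.eig l)
      (by linear_combination a1) (by linear_combination a2) (by linear_combination a3)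
      (by linear_combination a4) (by linear_combination b1) (by linear_combination b2)
      (by linear_combination b3) (by linear_combination b4)
    rw [← hμ, ← hμc]
    simp only [map_sub, map_add, map_intCast, C.conj_mat] at h ⊢
    simp only [mat] at h ⊢
    linear_combination h
  have hs := Finset.sum_congr rfl key
  simp only [Finset.sum_add_distrib, Finset.sum_sub_distrib, ← Finset.mul_sum, sum_ne_zero,
    (sum_ne_zero_one _).1, (sum_ne_zero_one _).2, Finset.sum_const, nsmul_eq_mul,
    Finset.card_erase_of_mem (Finset.mem_univ _), Finset.card_univ, ZMod.card,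
    Nat.cast_sub (Fact.out : p.Prime).one_le, Nat.cast_one] at hs
  have hz : ((p : ℤ) * ∑ y, C.ent j true true y * C.ent l true true y - C.num j true true * C.num l true true) +
      ((p : ℤ) * ∑ y, C.ent j true false y * C.ent l true false y - C.num j true false * C.num l true false) +
      ((p : ℤ) * ∑ y, C.ent j false true y * C.ent l false true y - C.num j false true * C.num l false true) +
      ((p : ℤ) * ∑ y, C.ent j false false y * C.ent l false false y - C.num j false false * C.num l false false) =
      ((p : ℤ) * ∑ y, C.mu j y * C.mu l y - (2 * C.num j true true) * (2 * C.num l true true)) -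
        C.eig j * ((p : ℤ) * C.mu l 0 - 2 * C.num l true true) -
        C.eig l * ((p : ℤ) * C.mu j 0 - 2 * C.num j true true) +
        ((p : ℤ) - 1) * (2 * C.eig j * C.eig l) := by
    rw [← C.sum_mu, ← C.sum_mu]
    apply Int.cast_injective (α := ℂ)
    push_cast
    push_cast [num] at hs ⊢
    linear_combination hs
  have hmu0 : ∀ q, q ≠ C.diag → C.mu q 0 = 0 := fun q hq => by
    unfold mu; rw [C.ent_zero hq, C.ent_zero hq]; rfl
  have hprod : ∀ b b', ∑ y, C.ent j b b' y * C.ent l b b' y = if j = l then C.num j b b' else 0 := by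
    intro b b'
    split_ifs with h
    · subst h
      exact Finset.sum_congr rfl fun y _ => by unfold ent; split_ifs <;> simp
    · refine Finset.sum_eq_zero fun y _ => ?_
      unfold ent
      split_ifs with h1 h2 <;> simp
      exact h (h1.symm.trans h2)
  rw [hprod, hprod, hprod, hprod, hmu0 l hl, hmu0 j hj, (C.num_symm j).1, (C.num_symm j).2,
    (C.num_symm l).1, (C.num_symm l).2] at hz
  have hp0 : (p : ℤ) ≠ 0 := by exact_mod_cast (Fact.out : p.Prime).ne_zero
  apply mul_left_cancel₀ hp0
  by_cases h : j = l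
  · subst h
    simp only [if_true, deg, eig] at hz ⊢
    linear_combination hz
  · simp only [if_neg h, eig] at hz ⊢
    linear_combination hz

end CfsgLib.Perm.TwoP.Config
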