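import Mathlib

/-!
Counting fixed points of subgroups: orbit sizes point by point, the second moment, and the lower bound for
the derangements of a doubly transitive group in terms of a two-point stabiliser.
-/

set_option autoImplicit false
set_option linter.unusedSectionVars false

namespace CfsgLib.Perm.DerangeTwo

open MulAction

variable {G Ω : Type*} [Group G] [Fintype G] [DecidableEq G] [MulAction G Ω] [Fintype Ω] [DecidableEq Ω]

open scoped Classical in
/-- the elements of a subgroup -/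
noncomputable def els (U : Subgroup G) : Finset G := Finset.univ.filter fun g => g ∈ U

theorem mem_els {U : Subgroup G} {g : G} : g ∈ els U ↔ g ∈ U := by classical simp [els]

theorem card_els (U : Subgroup G) : (els U).card = Nat.card U := by
  classical
  rw [Nat.card_eq_fintype_card, Fintype.card_subtype]
  exact congrArg Finset.card (by ext g; simp [mem_els])

/-- the number of fixed points -/
def nfix (Ω : Type*) [MulAction G Ω] [Fintype Ω] [DecidableEq Ω] (g : G) : ℕ :=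
  (Finset.univ.filter fun x : Ω => g • x = x).card

open scoped Classical in
/-- the orbit of a subgroup -/
noncomputable def orb (U : Subgroup G) (x : Ω) : Finset Ω := Finset.univ.filter fun y => ∃ h ∈ U, h • x = y

open scoped Classical in
/-- the common fixed points of a subgroup -/
noncomputable def fixSet (Ω : Type*) [MulAction G Ω] [Fintype Ω] (U : Subgroup G) : Finset Ω :=
  Finset.univ.filter fun y => ∀ h ∈ U, h • y = y

theorem mem_orb {U : Subgroup G} {x y : Ω} : y ∈ orb U x ↔ ∃ h ∈ U, h • x = y := by classical simp [orb]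

theorem mem_fixSet {U : Subgroup G} {y : Ω} : y ∈ fixSet Ω U ↔ ∀ h ∈ U, h • y = y := by classical simp [fixSet]

theorem self_mem_orb (U : Subgroup G) (x : Ω) : x ∈ orb U x := mem_orb.2 ⟨1, one_mem U, one_smul G x⟩

theorem orb_eq_of_mem {U : Subgroup G} {x y : Ω} (h : y ∈ orb U x) : orb U y = orb U x := by
  obtain ⟨k, hk, rfl⟩ := mem_orb.1 h
  ext z
  rw [mem_orb, mem_orb]
  constructor
  · rintro ⟨l, hl, rfl⟩
    exact ⟨l * k, mul_mem hl hk, mul_smul l k x⟩
  · rintro ⟨l, hl, rfl⟩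
    exact ⟨l * k⁻¹, mul_mem hl (inv_mem hk), by rw [mul_smul, inv_smul_smul]⟩

theorem orb_mono {U V : Subgroup G} (h : U ≤ V) (x : Ω) : orb U x ⊆ orb V x := fun y hy => by
  obtain ⟨k, hk, rfl⟩ := mem_orb.1 hy
  exact mem_orb.2 ⟨k, h hk, rfl⟩

theorem card_orb_pos (U : Subgroup G) (x : Ω) : 0 < (orb U x).card :=
  Finset.card_pos.2 ⟨x, self_mem_orb U x⟩

theorem card_orb_eq_one {U : Subgroup G} {x : Ω} : (orb U x).card = 1 ↔ x ∈ fixSet Ω U := by
  rw [mem_fixSet, Finset.card_eq_one]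
  constructor
  · rintro ⟨z, hz⟩ h hh
    have h1 : h • x ∈ orb U x := mem_orb.2 ⟨h, hh, rfl⟩
    have h2 := self_mem_orb U x
    rw [hz, Finset.mem_singleton] at h1 h2
    rw [h1, h2]
  · intro h
    refine ⟨x, Finset.eq_singleton_iff_unique_mem.2 ⟨self_mem_orb U x, fun y hy => ?_⟩⟩
    obtain ⟨k, hk, rfl⟩ := mem_orb.1 hy
    exact h k hk

theorem card_els_stab (U : Subgroup G) (x : Ω) :
    (orb U x).card * (els (U ⊓ stabilizer G x)).card = (els U).card := by
  classical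
  rw [Finset.card_eq_sum_card_fiberwise (f := fun h => h • x) (s := els U) (t := orb U x)
    fun h hh => mem_orb.2 ⟨h, mem_els.1 hh, rfl⟩]
  rw [Finset.sum_congr rfl fun y hy => ?_, Finset.sum_const, smul_eq_mul]
  obtain ⟨k, hk, rfl⟩ := mem_orb.1 hy
  refine Finset.card_nbij' (fun h => k⁻¹ * h) (fun h => k * h) (fun h hh => ?_) (fun h hh => ?_)
    (fun h _ => by simp) (fun h _ => by simp)
  · simp only [Finset.mem_coe, Finset.mem_filter, mem_els] at hh ⊢
    exact Subgroup.mem_inf.2 ⟨mul_mem (inv_mem hk) hh.1, by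
      rw [mem_stabilizer_iff, mul_smul, hh.2, inv_smul_smul]⟩
  · simp only [Finset.mem_coe, Finset.mem_filter, mem_els] at hh ⊢
    obtain ⟨h1, h2⟩ := Subgroup.mem_inf.1 hh
    exact ⟨mul_mem hk h1, by rw [mul_smul, mem_stabilizer_iff.1 h2]⟩

/-- sum over the inverse orbit sizes: the number of orbits -/
noncomputable def orbSum (Ω : Type*) [MulAction G Ω] [Fintype Ω] [DecidableEq Ω] (U : Subgroup G) : ℚ :=
  ∑ x : Ω, ((orb U x).card : ℚ)⁻¹

theorem orbSum_eq_nat (U : Subgroup G) :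
    orbSum Ω U = ((Finset.univ.image fun x : Ω => orb U x).card : ℚ) := by
  classical
  rw [orbSum, Finset.card_eq_sum_ones, Nat.cast_sum]
  simp only [Nat.cast_one]
  refine (Finset.sum_fiberwise_of_maps_to (t := Finset.univ.image fun x : Ω => orb U x)
    (g := fun x => orb U x) (fun x hx => Finset.mem_image_of_mem _ hx) _).symm.trans
    (Finset.sum_congr rfl fun O hO => ?_)
  obtain ⟨x, -, rfl⟩ := Finset.mem_image.1 hO
  have he : (Finset.univ.filter fun y : Ω => orb U y = orb U x) = orb U x := by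
    ext y
    simp only [Finset.mem_filter, Finset.mem_univ, true_and]
    exact ⟨fun h => h ▸ self_mem_orb U y, orb_eq_of_mem⟩
  rw [he, Finset.sum_congr rfl fun y hy => by rw [orb_eq_of_mem hy], Finset.sum_const, nsmul_eq_mul,
    mul_inv_cancel₀ (Nat.cast_ne_zero.2 (card_orb_pos U x).ne')]

theorem sum_nfix_eq (U : Subgroup G) : ∑ h ∈ els U, nfix Ω h = ∑ x : Ω, (els (U ⊓ stabilizer G x)).card := by
  classical
  simp only [nfix, Finset.card_filter]
  rw [Finset.sum_comm]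
  refine Finset.sum_congr rfl fun x _ => ?_
  rw [← Finset.card_filter]
  refine congrArg Finset.card ?_
  ext h
  simp [mem_els]

theorem card_els_stab_rat (U : Subgroup G) (x : Ω) :
    ((els (U ⊓ stabilizer G x)).card : ℚ) = (els U).card * ((orb U x).card : ℚ)⁻¹ := by
  rw [← card_els_stab U x, Nat.cast_mul, mul_comm ((orb U x).card : ℚ), mul_assoc,
    mul_inv_cancel₀ (Nat.cast_ne_zero.2 (card_orb_pos U x).ne'), mul_one]

theorem sum_nfix (U : Subgroup G) : ∑ h ∈ els U, (nfix Ω h : ℚ) = (els U).card * orbSum Ω U := by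
  rw [← Nat.cast_sum, sum_nfix_eq, Nat.cast_sum, orbSum, Finset.mul_sum]
  exact Finset.sum_congr rfl fun x _ => card_els_stab_rat U x

theorem sum_nfix_sq (U : Subgroup G) :
    ∑ h ∈ els U, (nfix Ω h : ℚ) * nfix Ω h =
      (els U).card * ∑ x : Ω, orbSum Ω (U ⊓ stabilizer G x) * ((orb U x).card : ℚ)⁻¹ := by
  classical
  have h1 : ∀ h ∈ els U, (nfix Ω h : ℚ) * nfix Ω h =
      ∑ x : Ω, if h • x = x then (nfix Ω h : ℚ) else 0 := fun h _ => by
    rw [← Finset.sum_filter, Finset.sum_const, nsmul_eq_mul]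
    rfl
  rw [Finset.sum_congr rfl h1, Finset.sum_comm, Finset.mul_sum]
  refine Finset.sum_congr rfl fun x _ => ?_
  rw [← Finset.sum_filter]
  have he : (els U).filter (fun h => h • x = x) = els (U ⊓ stabilizer G x) := by ext h; simp [mem_els]
  rw [he, sum_nfix, card_els_stab_rat U x]
  ring

theorem nfix_conj (g h : G) : nfix Ω (g * h * g⁻¹) = nfix Ω h := by
  refine Finset.card_nbij' (fun x => g⁻¹ • x) (fun x => g • x) (fun x hx => ?_) (fun x hx => ?_)
    (fun x _ => by simp) (fun x _ => by simp)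
  · simp only [Finset.mem_coe, Finset.mem_filter, Finset.mem_univ, true_and, mul_smul] at hx ⊢
    exact eq_inv_smul_iff.2 hx
  · simp only [Finset.mem_coe, Finset.mem_filter, Finset.mem_univ, true_and, mul_smul] at hx ⊢
    rw [inv_smul_smul, hx]

/-- conjugate subgroups have the same fixed point numbers -/
theorem sum_conj {U V : Subgroup G} (g : G) (h1 : ∀ h ∈ U, g * h * g⁻¹ ∈ V) (h2 : ∀ h ∈ V, g⁻¹ * h * g ∈ U)
    (φ : ℕ → ℚ) : ∑ h ∈ els U, φ (nfix Ω h) = ∑ h ∈ els V, φ (nfix Ω h) :=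
  Finset.sum_nbij' (fun h => g * h * g⁻¹) (fun h => g⁻¹ * h * g)
    (fun h hh => mem_els.2 (h1 h (mem_els.1 hh))) (fun h hh => mem_els.2 (h2 h (mem_els.1 hh)))
    (fun h _ => by group) (fun h _ => by group) (fun h _ => by rw [nfix_conj])

theorem nfix_one : nfix Ω (1 : G) = Fintype.card Ω := by simp [nfix]

theorem nfix_le (g : G) : nfix Ω g ≤ Fintype.card Ω := Finset.card_le_univ _

/-- double counting over ordered pairs of fixed points -/
theorem sum_pairs (φ : ℕ → ℚ) {N : ℚ} (hN : ∀ u v : Ω, u ≠ v →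
    ∑ h ∈ els (stabilizer G u ⊓ stabilizer G v), φ (nfix Ω h) = N) :
    ∑ g : G, (nfix Ω g : ℚ) * ((nfix Ω g : ℚ) - 1) * φ (nfix Ω g) =
      (Fintype.card Ω : ℚ) * ((Fintype.card Ω : ℚ) - 1) * N := by
  classical
  have hoff : ∀ s : Finset Ω, (s.offDiag.card : ℚ) = (s.card : ℚ) * ((s.card : ℚ) - 1) := fun s => by
    rw [Finset.offDiag_card, Nat.cast_sub (Nat.le_mul_self _), Nat.cast_mul]; ring
  have h1 : ∀ g : G, (nfix Ω g : ℚ) * ((nfix Ω g : ℚ) - 1) * φ (nfix Ω g) =
      ∑ p ∈ (Finset.univ : Finset Ω).offDiag, if g • p.1 = p.1 ∧ g • p.2 = p.2 then φ (nfix Ω g) else 0 := fun g => by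
    rw [← Finset.sum_filter, Finset.sum_const, nsmul_eq_mul]
    have he : (Finset.univ : Finset Ω).offDiag.filter (fun p => g • p.1 = p.1 ∧ g • p.2 = p.2) =
        (Finset.univ.filter fun x : Ω => g • x = x).offDiag := by
      ext p; simp [Finset.mem_offDiag]; tauto
    rw [he, hoff]; rfl
  simp only [h1]
  rw [Finset.sum_comm, Finset.sum_congr rfl fun p hp => ?_, Finset.sum_const, nsmul_eq_mul, hoff, Finset.card_univ]
  rw [← Finset.sum_filter, ← hN p.1 p.2 (Finset.mem_offDiag.1 hp).2.2]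
  refine Finset.sum_congr ?_ fun _ _ => rfl
  ext g; simp [mem_els, Subgroup.mem_inf]

variable (G) in
/-- the derangements -/
def derangements' (Ω : Type*) [MulAction G Ω] [Fintype Ω] [DecidableEq Ω] : Finset G :=
  Finset.univ.filter fun g => nfix Ω g = 0

/-- the pointwise identity behind the count -/
theorem derange_identity (htr : IsPretransitive G Ω) (a : Ω) :
    (Fintype.card Ω : ℚ) * (derangements' G Ω).card = (orbSum Ω (stabilizer G a) - 1) * Fintype.card G +
      ∑ g : G, (nfix Ω g : ℚ) * ((nfix Ω g : ℚ) - 1) * (((Fintype.card Ω : ℚ) - nfix Ω g) / nfix Ω g) := by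
  classical
  have htop : els (⊤ : Subgroup G) = Finset.univ := by ext g; simp [mem_els]
  have horb : ∀ x : Ω, orb (⊤ : Subgroup G) x = Finset.univ := fun x => by
    ext y
    simp only [mem_orb, Finset.mem_univ, iff_true]
    obtain ⟨g, hg⟩ := htr.exists_smul_eq x y
    exact ⟨g, Subgroup.mem_top g, hg⟩
  have hn : (Fintype.card Ω : ℚ) ≠ 0 := Nat.cast_ne_zero.2 (Fintype.card_pos_iff.2 ⟨a⟩).ne'
  have e1 : ∑ g : G, (nfix Ω g : ℚ) = Fintype.card G := by
    have h := sum_nfix (Ω := Ω) (⊤ : Subgroup G)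
    rw [htop, Finset.card_univ] at h
    rw [h, orbSum]
    simp only [horb, Finset.card_univ, Finset.sum_const, nsmul_eq_mul]
    rw [mul_inv_cancel₀ hn, mul_one]
  have hsame : ∀ x : Ω, orbSum Ω (⊤ ⊓ stabilizer G x) = orbSum Ω (stabilizer G a) := by
    intro x
    obtain ⟨g, hg⟩ := htr.exists_smul_eq a x
    have h1 : ∀ h ∈ stabilizer G a, g * h * g⁻¹ ∈ ⊤ ⊓ stabilizer G x := fun h hh => by
      refine Subgroup.mem_inf.2 ⟨Subgroup.mem_top _, ?_⟩
      rw [mem_stabilizer_iff, mul_smul, mul_smul, ← hg, inv_smul_smul, mem_stabilizer_iff.1 hh]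
    have h2 : ∀ h ∈ ⊤ ⊓ stabilizer G x, g⁻¹ * h * g ∈ stabilizer G a := fun h hh => by
      rw [mem_stabilizer_iff, mul_smul, mul_smul, hg, mem_stabilizer_iff.1 (Subgroup.mem_inf.1 hh).2, ← hg,
        inv_smul_smul]
    have s1 := sum_conj (Ω := Ω) g h1 h2 (fun f => (f : ℚ))
    have s2 := sum_conj (Ω := Ω) g h1 h2 (fun _ => 1)
    simp only [Finset.sum_const, nsmul_eq_mul, mul_one] at s2
    rw [sum_nfix, sum_nfix, s2] at s1
    refine (mul_left_cancel₀ (Nat.cast_ne_zero.2 ?_) s1).symm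
    exact (Finset.card_pos.2 ⟨1, mem_els.2 (one_mem _)⟩).ne'
  have e2 : ∑ g : G, (nfix Ω g : ℚ) * nfix Ω g = Fintype.card G * orbSum Ω (stabilizer G a) := by
    have h := sum_nfix_sq (Ω := Ω) (⊤ : Subgroup G)
    rw [htop, Finset.card_univ] at h
    rw [h]
    congr 1
    simp only [hsame, horb, Finset.card_univ, Finset.sum_const, nsmul_eq_mul]
    field_simp
  have hterm : ∀ g : G, (Fintype.card Ω : ℚ) * (if nfix Ω g = 0 then 1 else 0) =
      ((nfix Ω g : ℚ) * nfix Ω g - ((Fintype.card Ω : ℚ) + 1) * nfix Ω g + Fintype.card Ω) +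
        (nfix Ω g : ℚ) * ((nfix Ω g : ℚ) - 1) * (((Fintype.card Ω : ℚ) - nfix Ω g) / nfix Ω g) := by
    intro g
    by_cases h : nfix Ω g = 0
    · simp [h]
    · have h' : (nfix Ω g : ℚ) ≠ 0 := Nat.cast_ne_zero.2 h
      rw [if_neg h]; field_simp; ring
  have hd : ((derangements' G Ω).card : ℚ) = ∑ g : G, if nfix Ω g = 0 then (1 : ℚ) else 0 := by
    rw [Finset.sum_boole]; rfl
  rw [hd, Finset.mul_sum, Finset.sum_congr rfl fun g _ => hterm g, Finset.sum_add_distrib, Finset.sum_add_distrib,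
    Finset.sum_sub_distrib, ← Finset.mul_sum, e1, e2, Finset.sum_const, Finset.card_univ, nsmul_eq_mul]
  ring

theorem two_le_orbSum_cases (a : Ω) :
    3 ≤ orbSum Ω (stabilizer G a) ∨ ∀ x y : Ω, x ≠ a → y ≠ a → ∃ h ∈ stabilizer G a, h • x = y := by
  classical
  by_cases h : ∀ x y : Ω, x ≠ a → y ≠ a → ∃ h ∈ stabilizer G a, h • x = y
  · exact Or.inr h
  push Not at h
  obtain ⟨x, y, hx, hy, hxy⟩ := h
  left
  rw [orbSum_eq_nat]
  have hfa : orb (stabilizer G a) a = {a} := by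
    ext z; simp only [mem_orb, Finset.mem_singleton]
    exact ⟨fun ⟨h, hh, e⟩ => e ▸ mem_stabilizer_iff.1 hh, fun e => ⟨1, one_mem _, by rw [e, one_smul]⟩⟩
  have hne : ∀ z, z ≠ a → orb (stabilizer G a) z ≠ orb (stabilizer G a) a := fun z hz e => hz (by
    have := self_mem_orb (stabilizer G a) z
    rw [e, hfa] at this
    exact Finset.mem_singleton.1 this)
  have hsub : ({orb (stabilizer G a) a, orb (stabilizer G a) x, orb (stabilizer G a) y} : Finset (Finset Ω)) ⊆
      Finset.univ.image fun z : Ω => orb (stabilizer G a) z := by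
    intro O hO
    simp only [Finset.mem_insert, Finset.mem_singleton] at hO
    rcases hO with rfl | rfl | rfl <;> exact Finset.mem_image_of_mem _ (Finset.mem_univ _)
  have h1 := Finset.card_le_card hsub
  have h2 : ({orb (stabilizer G a) a, orb (stabilizer G a) x, orb (stabilizer G a) y} : Finset (Finset Ω)).card = 3 := by
    refine Finset.card_eq_three.2 ⟨_, _, _, (hne x hx).symm, (hne y hy).symm, fun e => ?_, rfl⟩
    have := self_mem_orb (stabilizer G a) y
    rw [← e] at this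
    obtain ⟨h, hh, e'⟩ := mem_orb.1 this
    exact hxy h hh e'
  rw [h2] at h1
  exact_mod_cast h1

/-- the inequality that makes a subgroup good: enough extra orbits of the point stabilisers -/
theorem sum_ge_of_gain {U : Subgroup G} (hfix : ∀ h ∈ U, 1 ≤ nfix Ω h)
    (hA : 0 < (Fintype.card Ω : ℚ) - orbSum Ω U)
    (hgain : (Fintype.card Ω : ℚ) * orbSum Ω U - ∑ x : Ω, orbSum Ω (U ⊓ stabilizer G x) * ((orb U x).card : ℚ)⁻¹ ≤
      ((Fintype.card Ω : ℚ) - orbSum Ω U) * ((Fintype.card Ω : ℚ) - orbSum Ω U)) :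
    ((els U).card : ℚ) ≤ ∑ h ∈ els U, ((Fintype.card Ω : ℚ) - nfix Ω h) / nfix Ω h := by
  obtain ⟨A, hAe⟩ : ∃ A, A = (Fintype.card Ω : ℚ) - orbSum Ω U := ⟨_, rfl⟩
  rw [← hAe] at hgain hA
  obtain ⟨R, hR⟩ : ∃ R, R = ∑ x : Ω, orbSum Ω (U ⊓ stabilizer G x) * ((orb U x).card : ℚ)⁻¹ := ⟨_, rfl⟩
  rw [← hR] at hgain
  have hpt : ∀ h ∈ els U, A⁻¹ * 2 * ((Fintype.card Ω : ℚ) - nfix Ω h) -
      A⁻¹ * A⁻¹ * ((Fintype.card Ω : ℚ) * nfix Ω h - (nfix Ω h : ℚ) * nfix Ω h) ≤
        ((Fintype.card Ω : ℚ) - nfix Ω h) / nfix Ω h := by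
    intro h hh
    have hf : (1 : ℚ) ≤ nfix Ω h := by exact_mod_cast hfix h (mem_els.1 hh)
    have hle : (nfix Ω h : ℚ) ≤ Fintype.card Ω := by exact_mod_cast nfix_le (Ω := Ω) h
    obtain ⟨f, hfe⟩ : ∃ f, f = (nfix Ω h : ℚ) := ⟨_, rfl⟩
    rw [← hfe] at hf hle ⊢
    rw [le_div_iff₀ (by linarith)]
    nlinarith [mul_nonneg (sub_nonneg.2 hle) (sq_nonneg (1 - A⁻¹ * f))]
  refine le_trans ?_ (Finset.sum_le_sum hpt)
  simp only [Finset.sum_sub_distrib, ← Finset.mul_sum, Finset.sum_const, nsmul_eq_mul]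
  rw [sum_nfix, sum_nfix_sq, ← hR]
  have hN : (0 : ℚ) ≤ (els U).card := Nat.cast_nonneg _
  have hkey : ((Fintype.card Ω : ℚ) * orbSum Ω U - R) / (A * A) ≤ 1 := (div_le_one (mul_pos hA hA)).2 hgain
  have he : A⁻¹ * 2 * ((els U).card * (Fintype.card Ω : ℚ) - (els U).card * orbSum Ω U) -
      A⁻¹ * A⁻¹ * ((Fintype.card Ω : ℚ) * ((els U).card * orbSum Ω U) - (els U).card * R) =
      (els U).card * (2 - ((Fintype.card Ω : ℚ) * orbSum Ω U - R) / (A * A)) := by
    obtain ⟨n, hn⟩ : ∃ n, n = (Fintype.card Ω : ℚ) := ⟨_, rfl⟩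
    obtain ⟨m, hm⟩ : ∃ m, m = orbSum Ω U := ⟨_, rfl⟩
    obtain ⟨N, hN'⟩ : ∃ N, N = ((els U).card : ℚ) := ⟨_, rfl⟩
    rw [← hn, ← hm, ← hN']
    rw [← hn, ← hm] at hAe
    have hnm : n = A + m := by linear_combination -hAe
    subst hnm
    have : A ≠ 0 := hA.ne'
    field_simp
    ring
  rw [he]
  nlinarith

end CfsgLib.Perm.DerangeTwo
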