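import Cfsg.Agent.Lib.Perm.DerangeCount

/-!
The orbits of a two-point stabiliser of a doubly transitive group: enough extra orbits for the point
stabilisers, by lines of fixed points, three-cycles, the Fano plane and Burnside's transfer theorem.
-/

set_option autoImplicit false
set_option linter.unusedSectionVars false

namespace CfsgLib.Perm.DerangeTwo

open MulAction

variable {G Ω : Type*} [Group G] [Fintype G] [DecidableEq G] [MulAction G Ω] [Fintype Ω] [DecidableEq Ω]

/-- the stabiliser of an ordered pair -/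
def pairStab (G : Type*) {Ω : Type*} [Group G] [MulAction G Ω] (u v : Ω) : Subgroup G :=
  stabilizer G u ⊓ stabilizer G v

/-- the fixed points of the stabiliser of a pair -/
noncomputable def line (G : Type*) {Ω : Type*} [Group G] [Fintype G] [MulAction G Ω] [Fintype Ω] (u v : Ω) :
    Finset Ω := fixSet Ω (pairStab G u v)

/-- doubly transitive -/
def Two (G Ω : Type*) [Group G] [MulAction G Ω] : Prop :=
  ∀ u v u' v' : Ω, u ≠ v → u' ≠ v' → ∃ g : G, g • u = u' ∧ g • v = v'

theorem mem_pairStab {u v : Ω} {g : G} : g ∈ pairStab G u v ↔ g • u = u ∧ g • v = v := by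
  rw [pairStab, Subgroup.mem_inf, mem_stabilizer_iff, mem_stabilizer_iff]

theorem pairStab_comm (u v : Ω) : pairStab G u v = pairStab G v u := inf_comm _ _

theorem mem_line {u v w : Ω} : w ∈ line G u v ↔ ∀ h ∈ pairStab G u v, h • w = w := mem_fixSet

theorem left_mem_line (u v : Ω) : u ∈ line G u v := mem_line.2 fun _ hh => (mem_pairStab.1 hh).1

theorem right_mem_line (u v : Ω) : v ∈ line G u v := mem_line.2 fun _ hh => (mem_pairStab.1 hh).2

theorem conj_pairStab {g h : G} {u v : Ω} (hh : h ∈ pairStab G u v) :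
    g * h * g⁻¹ ∈ pairStab G (g • u) (g • v) := by
  rw [mem_pairStab] at hh ⊢
  simp [mul_smul, hh.1, hh.2]

theorem card_els_pairStab (h2 : Two G Ω) {u v u' v' : Ω} (huv : u ≠ v) (huv' : u' ≠ v') :
    (els (pairStab G u v)).card = (els (pairStab G u' v')).card := by
  obtain ⟨g, rfl, rfl⟩ := h2 u v u' v' huv huv'
  refine Finset.card_nbij' (fun h => g * h * g⁻¹) (fun h => g⁻¹ * h * g) (fun h hh => ?_) (fun h hh => ?_)
    (fun h _ => by group) (fun h _ => by group)
  · exact mem_els.2 (conj_pairStab (mem_els.1 hh))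
  · have := conj_pairStab (g := g⁻¹) (mem_els.1 hh)
    simp only [inv_smul_smul, inv_inv] at this
    exact mem_els.2 this

theorem card_line (h2 : Two G Ω) {u v u' v' : Ω} (huv : u ≠ v) (huv' : u' ≠ v') :
    (line G u v).card = (line G u' v').card := by
  obtain ⟨g, rfl, rfl⟩ := h2 u v u' v' huv huv'
  refine Finset.card_nbij' (fun x => g • x) (fun x => g⁻¹ • x) (fun x hx => ?_) (fun x hx => ?_)
    (fun x _ => by simp) (fun x _ => by simp)
  · refine mem_line.2 fun h hh => ?_
    have h1 := conj_pairStab (g := g⁻¹) hh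
    simp only [inv_smul_smul, inv_inv] at h1
    have h2' := mem_line.1 hx _ h1
    rw [mul_smul, mul_smul] at h2'
    exact inv_smul_eq_iff.1 h2'
  · refine mem_line.2 fun h hh => ?_
    have h2' := mem_line.1 hx _ (conj_pairStab (g := g) hh)
    rw [mul_smul, mul_smul] at h2'
    exact eq_inv_smul_iff.2 h2'

theorem pairStab_eq_of_mem (h2 : Two G Ω) {u v w : Ω} (huv : u ≠ v) (hw : w ∈ line G u v) (huw : u ≠ w) :
    pairStab G u w = pairStab G u v := by
  have hle : els (pairStab G u v) ⊆ els (pairStab G u w) := fun h hh =>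
    mem_els.2 (mem_pairStab.2 ⟨(mem_pairStab.1 (mem_els.1 hh)).1, mem_line.1 hw h (mem_els.1 hh)⟩)
  have he := Finset.eq_of_subset_of_card_le hle (card_els_pairStab h2 huw huv).le
  ext h
  rw [← mem_els, ← mem_els, he]

theorem line_eq_of_mem (h2 : Two G Ω) {u v w : Ω} (huv : u ≠ v) (hw : w ∈ line G u v) (huw : u ≠ w) :
    line G u w = line G u v := by
  unfold line
  rw [pairStab_eq_of_mem h2 huv hw huw]

theorem line_eq_of_two (h2 : Two G Ω) {u v p q : Ω} (huv : u ≠ v) (hp : p ∈ line G u v) (hq : q ∈ line G u v)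
    (hpq : p ≠ q) : line G p q = line G u v := by
  by_cases hup : u = p
  · subst hup; exact line_eq_of_mem h2 huv hq hpq
  have e1 := line_eq_of_mem h2 huv hp hup
  have e2 : line G p u = line G u v := by
    rw [← e1]; unfold line; rw [pairStab_comm]
  rw [← e2] at hq ⊢
  exact line_eq_of_mem h2 (Ne.symm hup) hq hpq

theorem smul_mem_line (g : G) {u v w : Ω} (hw : w ∈ line G u v) : g • w ∈ line G (g • u) (g • v) := by
  refine mem_line.2 fun h hh => ?_
  have h1 := conj_pairStab (g := g⁻¹) hh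
  simp only [inv_smul_smul, inv_inv] at h1
  have h2' := mem_line.1 hw _ h1
  rw [mul_smul, mul_smul] at h2'
  exact inv_smul_eq_iff.1 h2'

theorem pairStab_eq_of_two (h2 : Two G Ω) {u v p q : Ω} (huv : u ≠ v) (hp : p ∈ line G u v) (hq : q ∈ line G u v)
    (hpq : p ≠ q) : pairStab G p q = pairStab G u v := by
  by_cases hup : u = p
  · subst hup; exact pairStab_eq_of_mem h2 huv hq hpq
  have e1 := line_eq_of_mem h2 huv hp hup
  have e2 : pairStab G p u = pairStab G u v := by
    rw [pairStab_comm, pairStab_eq_of_mem h2 huv hp hup]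
  have hq' : q ∈ line G p u := by unfold line; rw [e2]; exact hq
  rw [pairStab_eq_of_mem h2 (Ne.symm hup) hq' hpq, e2]

/-- an element of order three moving few points forces the alternating group -/
theorem no_three [FaithfulSMul G Ω] (h2 : Two G Ω) (h7 : 7 ≤ Fintype.card Ω) {a b : Ω} {O : Finset Ω}
    (hO : O.card ≤ 5) (hout : ∀ z : Ω, z ∉ O → (orb (pairStab G a b) z).card ≤ 2)
    (hsmall : ∃ x, x ≠ a ∧ x ≠ b ∧ (orb (pairStab G a b) x).card ≤ 4) :
    ¬ 3 ∣ Nat.card (pairStab G a b) := by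
  intro h3
  haveI : Fact (Nat.Prime 3) := ⟨Nat.prime_three⟩
  obtain ⟨⟨h, hh⟩, hord⟩ := exists_prime_orderOf_dvd_card' 3 h3
  have hord' : orderOf h = 3 := by rw [← hord, ← Subgroup.orderOf_coe]
  have hfix : ∀ z, z ∉ O → h • z = z := by
    intro z hz
    by_contra hne
    have h1 : h • z ∈ orb (pairStab G a b) z := mem_orb.2 ⟨h, hh, rfl⟩
    have h2' : h • h • z ∈ orb (pairStab G a b) z := mem_orb.2 ⟨h * h, mul_mem hh hh, mul_smul h h z⟩
    have hpair : orb (pairStab G a b) z = {z, h • z} := (Finset.eq_of_subset_of_card_le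
      (Finset.insert_subset (self_mem_orb _ z) (Finset.singleton_subset_iff.2 h1))
      (by rw [Finset.card_pair (Ne.symm hne)]; exact hout z hz)).symm
    have hcube : h • h • h • z = z := by
      rw [← mul_smul, ← mul_smul, ← pow_three' h, ← hord', pow_orderOf_eq_one, one_smul]
    rw [hpair, Finset.mem_insert, Finset.mem_singleton] at h2'
    rcases h2' with e | e
    · rw [e] at hcube; exact hne hcube
    · rw [e, e] at hcube; exact hne hcube
  let φ := MulAction.toPermHom G Ω
  have hinj : Function.Injective φ := MulAction.toPerm_injective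
  have hσ : (φ h).IsThreeCycle := by
    rw [← card_support_eq_three_iff]
    have hsub : (φ h).support ⊆ O := fun z hz => by
      by_contra hz'
      exact (Equiv.Perm.mem_support.1 hz) (hfix z hz')
    have hp : (orderOf (φ h)).Prime := by rw [orderOf_injective φ hinj h, hord']; exact Nat.prime_three
    obtain ⟨j, hj⟩ := Equiv.Perm.cycleType_prime_order hp
    have hs := (φ h).sum_cycleType
    rw [hj, Multiset.sum_replicate, smul_eq_mul, orderOf_injective φ hinj h, hord'] at hs
    have := Finset.card_le_card hsub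
    omega
  have htwo : IsMultiplyPretransitive φ.range Ω 2 := is_two_pretransitive_iff.2 fun {u v u' v'} huv huv' => by
    obtain ⟨g, e1, e2⟩ := h2 u v u' v' huv huv'
    exact ⟨⟨φ g, g, rfl⟩, e1, e2⟩
  have hA := Equiv.Perm.alternatingGroup_le_of_isPreprimitive_of_isThreeCycle_mem
    (isPreprimitive_of_is_two_pretransitive htwo) hσ ⟨h, rfl⟩
  obtain ⟨x, hxa, hxb, hx4⟩ := hsmall
  have hall : (Finset.univ.erase a).erase b ⊆ orb (pairStab G a b) x := by
    intro y hy
    simp only [Finset.mem_erase, Finset.mem_univ, and_true] at hy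
    rcases eq_or_ne x y with rfl | hxy
    · exact self_mem_orb _ x
    obtain ⟨z, hz⟩ : ∃ z, z ∉ ({a, b, x, y} : Finset Ω) := by
      by_contra hno
      push Not at hno
      have h1 := Finset.card_le_card (fun z _ => hno z : Finset.univ ⊆ ({a, b, x, y} : Finset Ω))
      rw [Finset.card_univ] at h1
      have := (Finset.card_le_four (a := a) (b := b) (c := x) (d := y))
      omega
    simp only [Finset.mem_insert, Finset.mem_singleton, not_or] at hz
    have h3c := Equiv.Perm.isThreeCycle_swap_mul_swap_same (a := z) (b := y) (c := x) hz.2.2.2 hz.2.2.1 hxy.symm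
    obtain ⟨g, hg⟩ := hA h3c.mem_alternatingGroup
    have hgv : ∀ w, g • w = (Equiv.swap z y * Equiv.swap z x) w := fun w => by rw [← hg]; rfl
    refine mem_orb.2 ⟨g, mem_pairStab.2 ⟨?_, ?_⟩, ?_⟩
    · rw [hgv, Equiv.Perm.mul_apply, Equiv.swap_apply_of_ne_of_ne (Ne.symm hz.1) (Ne.symm hxa),
        Equiv.swap_apply_of_ne_of_ne (Ne.symm hz.1) (Ne.symm hy.2)]
    · rw [hgv, Equiv.Perm.mul_apply, Equiv.swap_apply_of_ne_of_ne (Ne.symm hz.2.1) (Ne.symm hxb),
        Equiv.swap_apply_of_ne_of_ne (Ne.symm hz.2.1) (Ne.symm hy.1)]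
    · rw [hgv, Equiv.Perm.mul_apply, Equiv.swap_apply_right, Equiv.swap_apply_left]
  have h1 := Finset.card_le_card hall
  have h2' := Finset.pred_card_le_card_erase (a := b) (s := Finset.univ.erase a)
  rw [Finset.card_erase_of_mem (Finset.mem_univ a), Finset.card_univ] at h2'
  omega

/-- with all orbits of length at most two, a common fixed line of two pairs forces order two -/
theorem no_two_kernels [FaithfulSMul G Ω] (h2 : Two G Ω) {a b : Ω} (hab : a ≠ b)
    (hK : fixSet Ω (pairStab G a b) = {a, b}) (hsmall : ∀ z : Ω, (orb (pairStab G a b) z).card ≤ 2) {x y : Ω}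
    (hx : x ∉ fixSet Ω (pairStab G a b)) :
    ∀ h ∈ pairStab G a b ⊓ stabilizer G x, h • y = y := by
  classical
  by_contra hno
  push Not at hno
  obtain ⟨p, hp, hpy⟩ := hno
  obtain ⟨hpH, hpx⟩ := Subgroup.mem_inf.1 hp
  rw [mem_stabilizer_iff] at hpx
  have hinv : ∀ h ∈ pairStab G a b, h * h = 1 := fun h hh => FaithfulSMul.eq_of_smul_eq_smul (α := Ω) fun z => by
    rw [one_smul, mul_smul]
    by_contra hne
    have hne1 : h • z ≠ z := fun e => hne (by rw [e, e])
    have h1 : h • z ∈ orb (pairStab G a b) z := mem_orb.2 ⟨h, hh, rfl⟩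
    have h2' : h • h • z ∈ orb (pairStab G a b) z := mem_orb.2 ⟨h * h, mul_mem hh hh, mul_smul h h z⟩
    have hpair : orb (pairStab G a b) z = {z, h • z} := (Finset.eq_of_subset_of_card_le
      (Finset.insert_subset (self_mem_orb _ z) (Finset.singleton_subset_iff.2 h1))
      (by rw [Finset.card_pair (Ne.symm hne1)]; exact hsmall z)).symm
    rw [hpair, Finset.mem_insert, Finset.mem_singleton] at h2'
    rcases h2' with e | e
    · exact hne e
    · exact hne1 (smul_left_cancel h e)
  have hcomm : ∀ h ∈ pairStab G a b, ∀ h' ∈ pairStab G a b, h * h' = h' * h := fun h hh h' hh' => by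
    have e1 := eq_inv_of_mul_eq_one_left (hinv h hh)
    have e2 := eq_inv_of_mul_eq_one_left (hinv h' hh')
    have e3 := eq_inv_of_mul_eq_one_left (hinv _ (mul_mem hh hh'))
    rw [e3, mul_inv_rev, ← e1, ← e2]
  -- a second element
  obtain ⟨p', hp', hp'y, hp'x⟩ : ∃ p' ∈ pairStab G a b, p' • y = y ∧ p' • x ≠ x := by
    obtain ⟨h, hh, hhx⟩ : ∃ h ∈ pairStab G a b, h • x ≠ x := by
      rw [mem_fixSet] at hx; push Not at hx; exact hx
    by_cases hhy : h • y = y
    · exact ⟨h, hh, hhy, hhx⟩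
    refine ⟨p * h, mul_mem hpH hh, ?_, ?_⟩
    · have h1 : h • y ∈ orb (pairStab G a b) y := mem_orb.2 ⟨h, hh, rfl⟩
      have h1' : p • y ∈ orb (pairStab G a b) y := mem_orb.2 ⟨p, hpH, rfl⟩
      have hpair : orb (pairStab G a b) y = {y, p • y} := (Finset.eq_of_subset_of_card_le
        (Finset.insert_subset (self_mem_orb _ y) (Finset.singleton_subset_iff.2 h1'))
        (by rw [Finset.card_pair (Ne.symm hpy)]; exact hsmall y)).symm
      rw [hpair, Finset.mem_insert, Finset.mem_singleton] at h1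
      rw [mul_smul, h1.resolve_left hhy, ← mul_smul, hinv p hpH, one_smul]
    · rw [hcomm p hpH h hh, mul_smul, hpx]; exact hhx
  haveI : Fact (Nat.Prime 2) := ⟨Nat.prime_two⟩
  obtain ⟨T, hT⟩ : ∃ T, T = stabilizer G a := ⟨_, rfl⟩
  have hHT : pairStab G a b ≤ T := hT ▸ inf_le_left
  obtain ⟨P, hP⟩ : ∃ P : Subgroup T, P = (pairStab G a b).subgroupOf T := ⟨_, rfl⟩
  have hPm : ∀ g : T, g ∈ P ↔ (g : G) • b = b := fun g => by
    rw [hP, Subgroup.mem_subgroupOf, mem_pairStab]
    exact ⟨And.right, fun h => ⟨mem_stabilizer_iff.1 (hT ▸ g.2), h⟩⟩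
  have hPp : IsPGroup 2 P := fun g => ⟨1, by
    refine Subtype.ext (Subtype.ext ?_)
    simp only [pow_one, SubgroupClass.coe_pow, OneMemClass.coe_one, sq]
    exact hinv _ (by
      have := g.2
      simp only [hP, Subgroup.mem_subgroupOf] at this
      exact this)⟩
  have horbT : ∀ z, z ≠ a → ∃ g : T, (g : G) • b = z := fun z hz => by
    obtain ⟨g, e1, e2⟩ := h2 a b a z hab (Ne.symm hz)
    exact ⟨⟨g, hT ▸ mem_stabilizer_iff.2 e1⟩, e2⟩
  have hindex : P.index = Fintype.card Ω - 1 := by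
    have h1 := card_els_stab T b
    have e : orb T b = Finset.univ.erase a := by
      ext z
      rw [mem_orb, Finset.mem_erase]
      refine ⟨?_, fun hz => ?_⟩
      · rintro ⟨g, hg, rfl⟩
        refine ⟨fun e => hab ?_, Finset.mem_univ _⟩
        rw [hT, mem_stabilizer_iff] at hg
        exact (smul_left_cancel g (e.trans hg.symm)).symm
      · obtain ⟨g, hg⟩ := horbT z hz.1
        exact ⟨g, g.2, hg⟩
    have e' : T ⊓ stabilizer G b = pairStab G a b := by rw [hT]; rfl
    rw [e, e', Finset.card_erase_of_mem (Finset.mem_univ a), Finset.card_univ, card_els, card_els] at h1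
    have hc : Nat.card P = Nat.card (pairStab G a b) := by
      rw [hP]; exact Nat.card_congr (Subgroup.subgroupOfEquivOfLe hHT).toEquiv
    have h3 := P.index_mul_card
    rw [hc, ← h1] at h3
    exact Nat.eq_of_mul_eq_mul_right Nat.card_pos h3
  have heven : 2 ∣ Fintype.card Ω := by
    have hsplit := Finset.card_filter_add_card_filter_not (s := (Finset.univ : Finset Ω))
      (fun z => z ∈ fixSet Ω (pairStab G a b))
    have e1 : (Finset.univ.filter fun z => z ∈ fixSet Ω (pairStab G a b)) = ({a, b} : Finset Ω) := by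
      rw [← hK]; ext z; simp
    obtain ⟨R, hR⟩ : ∃ R, R = Finset.univ.filter fun z => z ∉ fixSet Ω (pairStab G a b) := ⟨_, rfl⟩
    rw [e1, Finset.card_pair hab, ← hR, Finset.card_univ] at hsplit
    have : 2 ∣ R.card := by
      rw [Finset.card_eq_sum_card_image (fun z => orb (pairStab G a b) z) R]
      refine Finset.dvd_sum fun O hO => ?_
      obtain ⟨z, hz, rfl⟩ := Finset.mem_image.1 hO
      simp only [hR, Finset.mem_filter, Finset.mem_univ, true_and] at hz
      have hfib : (R.filter fun w => orb (pairStab G a b) w = orb (pairStab G a b) z) = orb (pairStab G a b) z := by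
        ext w
        simp only [Finset.mem_filter, hR, Finset.mem_univ, true_and]
        refine ⟨fun h => h.2 ▸ self_mem_orb _ w, fun h => ⟨fun hw => ?_, orb_eq_of_mem h⟩⟩
        rw [← card_orb_eq_one, orb_eq_of_mem h, card_orb_eq_one] at hw
        exact hz hw
      rw [hfib]
      have h1 := hsmall z
      have h0 := card_orb_pos (pairStab G a b) z
      have hne : (orb (pairStab G a b) z).card ≠ 1 := fun e => hz (card_orb_eq_one.1 e)
      omega
    omega
  have hodd : ¬ 2 ∣ P.index := by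
    rw [hindex]
    have : 0 < Fintype.card Ω := Fintype.card_pos_iff.2 ⟨a⟩
    omega
  obtain ⟨S, hS⟩ : ∃ S : Sylow 2 T, (S : Subgroup T) = P := ⟨hPp.toSylow hodd, rfl⟩
  have hnorm : Subgroup.normalizer ((S : Subgroup T) : Set T) ≤ Subgroup.centralizer ((S : Subgroup T) : Set T) := by
    intro g hg
    have hgb : (g : G) • b ∈ fixSet Ω (pairStab G a b) := mem_fixSet.2 fun h hh => by
      have h1 : g⁻¹ * ⟨h, hHT hh⟩ * g ∈ (S : Subgroup T) :=
        (Subgroup.mem_normalizer_iff''.1 hg ⟨h, hHT hh⟩).1 (by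
          rw [hS, hPm]; exact (mem_pairStab.1 hh).2)
      rw [hS, hPm] at h1
      simp only [Subgroup.coe_mul, Subgroup.coe_inv, mul_smul] at h1
      exact inv_smul_eq_iff.1 h1
    rw [hK, Finset.mem_insert, Finset.mem_singleton] at hgb
    have hga : (g : G) • a = a := mem_stabilizer_iff.1 (hT ▸ g.2)
    have hgb' : (g : G) • b = b := hgb.resolve_left fun e => hab (smul_left_cancel (g : G) (e.trans hga.symm)).symm
    rw [Subgroup.mem_centralizer_iff]
    intro h hh
    rw [SetLike.mem_coe, hS, hPm] at hh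
    exact Subtype.ext (hcomm _ (mem_pairStab.2 ⟨mem_stabilizer_iff.1 (hT ▸ h.2), hh⟩) _
      (mem_pairStab.2 ⟨hga, hgb'⟩))
  obtain ⟨R, hR⟩ : ∃ R : Subgroup T, R = (MonoidHom.transferSylow S hnorm).ker := ⟨_, rfl⟩
  have hcompl : Subgroup.IsComplement' R (S : Subgroup T) := by
    rw [hR]; exact MonoidHom.ker_transferSylow_isComplement' S hnorm
  have hRnorm : R.Normal := by rw [hR]; infer_instance
  have hreach : ∀ z, z ≠ a → ∃ r : T, r ∈ R ∧ (r : G) • b = z := fun z hz => by
    obtain ⟨g, hg⟩ := horbT z hz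
    obtain ⟨⟨⟨r, hr⟩, ⟨s, hs⟩⟩, e⟩ := hcompl.2 g
    have hsb : (s : G) • b = b := by rw [SetLike.mem_coe, hS] at hs; exact (hPm s).1 hs
    simp only at e
    refine ⟨r, hr, ?_⟩
    rw [← hg, ← e, Subgroup.coe_mul, mul_smul, hsb]
  have huniq : ∀ r r' : T, r ∈ R → r' ∈ R → (r : G) • b = (r' : G) • b → r = r' := by
    intro r r' hr hr' e
    have h1 : r'⁻¹ * r ∈ R := mul_mem (inv_mem hr') hr
    have h2' : r'⁻¹ * r ∈ (S : Subgroup T) := by
      rw [hS, hPm, Subgroup.coe_mul, mul_smul, e, Subgroup.coe_inv, inv_smul_smul]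
    exact (inv_mul_eq_one.1 ((Subgroup.disjoint_def.1 hcompl.disjoint) h1 h2')).symm
  have hRodd : ¬ 2 ∣ Nat.card R := by
    rw [← Subgroup.IsComplement'.index_eq_card hcompl, hS]; exact hodd
  have hxa : x ≠ a := fun e => hx (by rw [hK, e]; simp)
  have hya : y ≠ a := fun e => hpy (by rw [e]; exact (mem_pairStab.1 hpH).1)
  obtain ⟨r, hr, hrx⟩ := hreach x hxa
  obtain ⟨s, hs, hsy⟩ := hreach y hya
  obtain ⟨P₁, hP₁⟩ : ∃ P₁ : T, P₁ = ⟨p, hHT hpH⟩ := ⟨_, rfl⟩
  obtain ⟨P₂, hP₂⟩ : ∃ P₂ : T, P₂ = ⟨p', hHT hp'⟩ := ⟨_, rfl⟩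
  have c12 : P₁ * P₂ = P₂ * P₁ := Subtype.ext (by rw [hP₁, hP₂]; exact hcomm p hpH p' hp')
  have hb1 : (P₁ : G) • b = b := by rw [hP₁]; exact (mem_pairStab.1 hpH).2
  have hb2 : (P₂ : G) • b = b := by rw [hP₂]; exact (mem_pairStab.1 hp').2
  have conjb : ∀ (P t : T), (P : G) • b = b → ((P * t * P⁻¹ : T) : G) • b = (P : G) • (t : G) • b := fun P t e => by
    rw [Subgroup.coe_mul, Subgroup.coe_mul, Subgroup.coe_inv, mul_smul, mul_smul, inv_smul_eq_iff.2 e.symm]
  have fix1 : P₁ * r * P₁⁻¹ = r := huniq _ _ (hRnorm.conj_mem r hr P₁) hr (by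
    rw [conjb P₁ r hb1, hrx, hP₁]; exact hpx)
  have fix2 : P₂ * s * P₂⁻¹ = s := huniq _ _ (hRnorm.conj_mem s hs P₂) hs (by
    rw [conjb P₂ s hb2, hsy, hP₂]; exact hp'y)
  obtain ⟨r', hr'⟩ : ∃ r', r' = P₂ * r * P₂⁻¹ := ⟨_, rfl⟩
  obtain ⟨s', hs'⟩ : ∃ s', s' = P₁ * s * P₁⁻¹ := ⟨_, rfl⟩
  have hr'ne : r' ≠ r := fun e => hp'x (by
    have h := conjb P₂ r hb2
    rw [← hr', e, hrx, hP₂] at h
    exact h.symm)
  have hs'ne : s' ≠ s := fun e => hpy (by
    have h := conjb P₁ s hb1
    rw [← hs', e, hsy, hP₁] at h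
    exact h.symm)
  have hr'R : r' ∈ R := hr' ▸ hRnorm.conj_mem r hr P₂
  have hs'R : s' ∈ R := hs' ▸ hRnorm.conj_mem s hs P₁
  have g1 : P₁ * (r * s) * P₁⁻¹ = r * s' := by
    conv_rhs => rw [← fix1, hs']
    group
  have g2 : P₂ * (r * s) * P₂⁻¹ = r' * s := by
    conv_rhs => rw [← fix2, hr']
    group
  obtain ⟨z, hz⟩ : ∃ z, z = ((r * s : T) : G) • b := ⟨_, rfl⟩
  have m1 : ((r * s' : T) : G) • b ∈ orb (pairStab G a b) z := mem_orb.2 ⟨p, hpH, by
    rw [← g1, conjb P₁ _ hb1, hz, hP₁]⟩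
  have m2 : ((r' * s : T) : G) • b ∈ orb (pairStab G a b) z := mem_orb.2 ⟨p', hp', by
    rw [← g2, conjb P₂ _ hb2, hz, hP₂]⟩
  have n1 : ((r * s' : T) : G) • b ≠ z := fun e => hs'ne (mul_left_cancel
    (huniq _ _ (mul_mem hr hs'R) (mul_mem hr hs) (e.trans hz)))
  have n2 : ((r' * s : T) : G) • b ≠ z := fun e => hr'ne (mul_right_cancel
    (huniq _ _ (mul_mem hr'R hs) (mul_mem hr hs) (e.trans hz)))
  have hpair : orb (pairStab G a b) z = {z, ((r * s' : T) : G) • b} := (Finset.eq_of_subset_of_card_le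
    (Finset.insert_subset (self_mem_orb _ z) (Finset.singleton_subset_iff.2 m1))
    (by rw [Finset.card_pair (Ne.symm n1)]; exact hsmall z)).symm
  rw [hpair, Finset.mem_insert, Finset.mem_singleton] at m2
  have e : r' * s = r * s' := huniq _ _ (mul_mem hr'R hs) (mul_mem hr hs'R) (m2.resolve_left n2)
  have e1 : r⁻¹ * r' = s' * s⁻¹ := by rw [eq_mul_inv_iff_mul_eq, mul_assoc, e, inv_mul_cancel_left]
  have sq2 : P₂ * P₂ = 1 := Subtype.ext (by rw [hP₂]; exact hinv p' hp')
  have back : P₂ * r' * P₂⁻¹ = r := by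
    rw [hr', show P₂ * (P₂ * r * P₂⁻¹) * P₂⁻¹ = (P₂ * P₂) * r * (P₂ * P₂)⁻¹ by group, sq2]; simp
  have keep' : P₂ * s' * P₂⁻¹ = s' := by
    rw [hs', show P₂ * (P₁ * s * P₁⁻¹) * P₂⁻¹ = (P₂ * P₁) * s * (P₂ * P₁)⁻¹ by group, ← c12,
      show (P₁ * P₂) * s * (P₁ * P₂)⁻¹ = P₁ * (P₂ * s * P₂⁻¹) * P₁⁻¹ by group, fix2]
  have e2 : r'⁻¹ * r = s' * s⁻¹ := by
    calc r'⁻¹ * r = (P₂ * r * P₂⁻¹)⁻¹ * (P₂ * r' * P₂⁻¹) := by rw [back, ← hr']
      _ = P₂ * (r⁻¹ * r') * P₂⁻¹ := by group
      _ = P₂ * (s' * s⁻¹) * P₂⁻¹ := by rw [e1]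
      _ = (P₂ * s' * P₂⁻¹) * (P₂ * s * P₂⁻¹)⁻¹ := by group
      _ = s' * s⁻¹ := by rw [keep', fix2]
  obtain ⟨u, hu⟩ : ∃ u, u = r⁻¹ * r' := ⟨_, rfl⟩
  have hu2 : u ^ 2 = 1 := by
    rw [sq]
    nth_rewrite 2 [hu]
    rw [e1, ← e2, hu]; group
  have hord : orderOf u ∣ Nat.card R := by
    have h := orderOf_dvd_natCard (⟨u, hu ▸ mul_mem (inv_mem hr) hr'R⟩ : R)
    rwa [← Subgroup.orderOf_coe] at h
  rcases (Nat.dvd_prime Nat.prime_two).1 (orderOf_dvd_of_pow_eq_one hu2) with h1 | h1
  · rw [orderOf_eq_one_iff] at h1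
    exact hr'ne (inv_mul_eq_one.1 (hu ▸ h1)).symm
  · exact hRodd (h1 ▸ hord)

set_option maxHeartbeats 1000000 in
/-- no seven-point plane of fixed lines in which every pair stabiliser induces exactly an involution -/
theorem no_fano (h2 : Two G Ω) {U : Subgroup G} (hL : (fixSet Ω U).card = 7)
    (h3 : ∀ u v : Ω, u ≠ v → (line G u v).card = 3)
    (hU : ∀ u ∈ fixSet Ω U, ∀ v ∈ fixSet Ω U, u ≠ v →
      U ≤ pairStab G u v ∧ (els (pairStab G u v)).card = 2 * (els U).card) : False := by
  classical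
  obtain ⟨L, hLe⟩ : ∃ L, L = fixSet Ω U := ⟨_, rfl⟩
  rw [← hLe] at hL hU
  have hlineL : ∀ u ∈ L, ∀ v ∈ L, u ≠ v → ∀ w ∈ line G u v, w ∈ L := fun u hu v hv huv w hw => by
    rw [hLe]; exact mem_fixSet.2 fun h hh => mem_line.1 hw h ((hU u hu v hv huv).1 hh)
  have hidx : ∀ u ∈ L, ∀ v ∈ L, u ≠ v → ∀ e ∈ pairStab G u v, ∀ e' ∈ pairStab G u v, e ∉ U → e' ∉ U →
      e⁻¹ * e' ∈ U := by
    intro u hu v hv huv e he e' he' heU he'U
    obtain ⟨hle, hc⟩ := hU u hu v hv huv
    have hsub : els U ∪ (els U).image (e * ·) ⊆ els (pairStab G u v) := by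
      refine Finset.union_subset (fun h hh => mem_els.2 (hle (mem_els.1 hh))) fun h hh => ?_
      obtain ⟨k, hk, rfl⟩ := Finset.mem_image.1 hh
      exact mem_els.2 (mul_mem he (hle (mem_els.1 hk)))
    have hdisj : Disjoint (els U) ((els U).image (e * ·)) := by
      rw [Finset.disjoint_left]
      rintro h hh hh'
      obtain ⟨k, hk, rfl⟩ := Finset.mem_image.1 hh'
      refine heU ?_
      have := mul_mem (mem_els.1 hh) (inv_mem (mem_els.1 hk))
      rwa [mul_inv_cancel_right] at this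
    have heq := Finset.eq_of_subset_of_card_le hsub (by
      rw [Finset.card_union_of_disjoint hdisj, Finset.card_image_of_injective _ (mul_right_injective e), hc, two_mul])
    have h1 : e' ∈ els U ∪ (els U).image (e * ·) := heq ▸ mem_els.2 he'
    rcases Finset.mem_union.1 h1 with h | h
    · exact absurd (mem_els.1 h) he'U
    · obtain ⟨k, hk, rfl⟩ := Finset.mem_image.1 h
      rw [inv_mul_cancel_left]; exact mem_els.1 hk
  have hEx : ∀ u ∈ L, ∀ v ∈ L, u ≠ v → ∃ e ∈ pairStab G u v, e ∉ U := by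
    intro u hu v hv huv
    by_contra hno
    push Not at hno
    have h1 := Finset.card_le_card (fun h hh => mem_els.2 (hno h (mem_els.1 hh)) :
      els (pairStab G u v) ⊆ els U)
    have h0 : 0 < (els U).card := Finset.card_pos.2 ⟨1, mem_els.2 (one_mem U)⟩
    rw [(hU u hu v hv huv).2] at h1
    omega
  -- `e` preserves `L`, squares to the identity there, fixes exactly its line
  have hnormal : ∀ u ∈ L, ∀ v ∈ L, u ≠ v → ∀ e ∈ pairStab G u v, e ∉ U → ∀ k ∈ U, e⁻¹ * k * e ∈ U := by
    intro u hu v hv huv e he heU k hk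
    have hle := (hU u hu v hv huv).1
    have hne : k * e ∉ U := fun h => heU (by
      have := mul_mem (inv_mem hk) h
      rwa [inv_mul_cancel_left] at this)
    rw [mul_assoc]
    exact hidx u hu v hv huv e he (k * e) (mul_mem (hle hk) he) heU hne
  have hpres : ∀ u ∈ L, ∀ v ∈ L, u ≠ v → ∀ e ∈ pairStab G u v, e ∉ U →
      ∀ w ∈ L, e • w ∈ L ∧ e • e • w = w ∧ (e • w = w → w ∈ line G u v) := by
    intro u hu v hv huv e he heU w hw
    have hwU : ∀ k ∈ U, k • w = w := mem_fixSet.1 (hLe ▸ hw)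
    refine ⟨?_, ?_, fun hew => mem_line.2 fun k hk => ?_⟩
    · rw [hLe, mem_fixSet]
      intro k hk
      have := hwU _ (hnormal u hu v hv huv e he heU k hk)
      rw [mul_smul, mul_smul] at this
      exact inv_smul_eq_iff.1 this
    · have h1 := hidx u hu v hv huv e⁻¹ (inv_mem he) e he (fun h => heU (by simpa using inv_mem h)) heU
      rw [inv_inv] at h1
      rw [← mul_smul]; exact hwU _ h1
    · by_cases hkU : k ∈ U
      · exact hwU k hkU
      · have h1 := hwU _ (hidx u hu v hv huv e he k hk heU hkU)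
        rw [mul_smul, inv_smul_eq_iff, hew] at h1
        exact h1
  -- a centre of the pair
  let Cent : Ω → Ω → Ω → Prop := fun u v c => c ∈ line G u v ∧
    ∀ e ∈ pairStab G u v, e ∉ U → ∀ q ∈ L, q ∉ line G u v → e • q ∈ line G c q
  have hsame : ∀ u ∈ L, ∀ v ∈ L, u ≠ v → ∀ e ∈ pairStab G u v, ∀ e' ∈ pairStab G u v, e ∉ U → e' ∉ U →
      ∀ w ∈ L, e' • w = e • w := by
    intro u hu v hv huv e he e' he' heU he'U w hw
    have h1 := mem_fixSet.1 (hLe ▸ hw : w ∈ fixSet Ω U) _ (hidx u hu v hv huv e he e' he' heU he'U)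
    rw [mul_smul, inv_smul_eq_iff] at h1
    exact h1
  have hswap : ∀ p q : Ω, line G p q = line G q p := fun p q => by unfold line; rw [pairStab_comm]
  have hfour : ∀ u ∈ L, ∀ v ∈ L, u ≠ v → (L \ line G u v).card = 4 := fun u hu v hv huv => by
    rw [Finset.card_sdiff_of_subset (fun w hw => hlineL u hu v hv huv w hw), hL, h3 u v huv]
  have hthird : ∀ p q : Ω, p ≠ q → ∃ w, w ≠ p ∧ w ≠ q ∧ line G p q = {p, q, w} := by
    intro p q hpq
    obtain ⟨w, hw, hwq⟩ := Finset.exists_mem_ne (s := (line G p q).erase p)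
      (by rw [Finset.card_erase_of_mem (left_mem_line p q), h3 p q hpq]; omega) q
    obtain ⟨hwp, hw⟩ := Finset.mem_erase.1 hw
    refine ⟨w, hwp, hwq, (Finset.eq_of_subset_of_card_le ?_ ?_).symm⟩
    · simp [Finset.insert_subset_iff, left_mem_line, right_mem_line, hw]
    · rw [h3 p q hpq, Finset.card_eq_three.2 ⟨p, q, w, hpq, hwp.symm, hwq.symm, rfl⟩]
  have hout : ∀ u ∈ L, ∀ v ∈ L, u ≠ v → ∀ e ∈ pairStab G u v, e ∉ U → ∀ w ∈ L, w ∉ line G u v →
      e • w ∈ L ∧ e • w ∉ line G u v ∧ e • w ≠ w := by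
    intro u hu v hv huv e he heU w hw hwl
    obtain ⟨hL', h22, hf⟩ := hpres u hu v hv huv e he heU w hw
    refine ⟨hL', fun h => hwl ?_, fun h => hwl (hf h)⟩
    have h1 := mem_line.1 h e he
    rw [h22] at h1
    exact hf h1.symm
  have hsplit : ∀ u ∈ L, ∀ v ∈ L, u ≠ v → ∀ e ∈ pairStab G u v, e ∉ U → ∀ p ∈ L, p ∉ line G u v →
      ∀ q ∈ L, q ∉ line G u v → q ≠ p → q ≠ e • p → ∀ r ∈ L, r ∉ line G u v →
        r = p ∨ r = e • p ∨ r = q ∨ r = e • q := by
    intro u hu v hv huv e he heU p hp hpl q hq hql hqp hqep r hr hrl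
    obtain ⟨p1, p2, p3⟩ := hout u hu v hv huv e he heU p hp hpl
    obtain ⟨q1, q2, q3⟩ := hout u hu v hv huv e he heU q hq hql
    have hp22 := (hpres u hu v hv huv e he heU p hp).2.1
    have hqep' : e • q ≠ p := fun h => hqep (by
      rw [← (hpres u hu v hv huv e he heU q hq).2.1, h])
    have hqq : e • q ≠ e • p := fun h => hqp (smul_left_cancel e h)
    have hsub : ({p, e • p, q, e • q} : Finset Ω) ⊆ L \ line G u v := by
      simp [Finset.insert_subset_iff, hp, hpl, hq, hql, p1, p2, q1, q2]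
    have hcard : ({p, e • p, q, e • q} : Finset Ω).card = 4 := by
      rw [Finset.card_insert_of_notMem (by simp [p3.symm, hqp.symm, hqep'.symm]),
        Finset.card_insert_of_notMem (by simp [hqep.symm, hqq.symm]),
        Finset.card_insert_of_notMem (by simp [q3.symm]), Finset.card_singleton]
    have := Finset.eq_of_subset_of_card_le hsub (by rw [hcard, hfour u hu v hv huv])
    have h := Finset.mem_sdiff.2 ⟨hr, hrl⟩
    rw [← this] at h
    simpa using h
  have hexC : ∀ u ∈ L, ∀ v ∈ L, u ≠ v → ∃ c, Cent u v c := by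
    intro u hu v hv huv
    obtain ⟨e, he, heU⟩ := hEx u hu v hv huv
    obtain ⟨p, hp⟩ := Finset.card_pos.1 (show 0 < (L \ line G u v).card by rw [hfour u hu v hv huv]; omega)
    rw [Finset.mem_sdiff] at hp
    obtain ⟨p1, p2, p3⟩ := hout u hu v hv huv e he heU p hp.1 hp.2
    have hp22 := (hpres u hu v hv huv e he heU p hp.1).2.1
    obtain ⟨c, hcp, hcep, hl1⟩ := hthird p (e • p) p3.symm
    have hc1 : c ∈ line G p (e • p) := by rw [hl1]; simp
    have hcL : c ∈ L := hlineL p hp.1 _ p1 p3.symm c hc1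
    obtain ⟨-, hc22, hcf⟩ := hpres u hu v hv huv e he heU c hcL
    have hec : e • c = c := by
      have h1 := smul_mem_line e hc1
      rw [hp22, hswap, hl1] at h1
      simp only [Finset.mem_insert, Finset.mem_singleton] at h1
      rcases h1 with h | h | h
      · rw [h] at hc22; exact absurd hc22.symm hcep
      · exact absurd (smul_left_cancel e h) hcp
      · exact h
    refine ⟨c, hcf hec, fun e' he' he'U q hq hql => ?_⟩
    rw [hsame u hu v hv huv e he e' he' heU he'U q hq]
    have hlp : line G c p = line G p (e • p) :=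
      line_eq_of_two h2 p3.symm hc1 (left_mem_line p _) hcp
    have hlep : line G c (e • p) = line G p (e • p) :=
      line_eq_of_two h2 p3.symm hc1 (right_mem_line p _) hcep
    by_cases hqp : q = p
    · subst hqp; rw [hlp]; exact right_mem_line _ _
    by_cases hqep : q = e • p
    · subst hqep; rw [hp22, hlep]; exact left_mem_line _ _
    have hcq : c ≠ q := fun h => hql (h ▸ hcf hec)
    obtain ⟨r, hrc, hrq, hlq⟩ := hthird c q hcq
    have hr1 : r ∈ line G c q := by rw [hlq]; simp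
    have hrl : r ∉ line G u v := fun h => hql (by
      rw [← line_eq_of_two h2 huv (hcf hec) h hrc.symm, line_eq_of_mem h2 hcq hr1 hrc.symm]
      exact right_mem_line c q)
    have hnl : ∀ z, z = p ∨ z = e • p → r ≠ z := fun z hz hrz => by
      have hz' : line G c q = line G p (e • p) := by
        rw [← line_eq_of_mem h2 hcq hr1 hrc.symm, hrz]
        rcases hz with rfl | rfl
        · exact hlp
        · exact hlep
      have h1 : q ∈ line G p (e • p) := hz' ▸ right_mem_line c q
      rw [hl1] at h1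
      simp only [Finset.mem_insert, Finset.mem_singleton] at h1
      rcases h1 with h | h | h
      · exact hqp h
      · exact hqep h
      · exact hcq h.symm
    rcases hsplit u hu v hv huv e he heU p hp.1 hp.2 q hq hql hqp hqep r
      (hlineL c hcL q hq hcq r hr1) hrl with h | h | h | h
    · exact absurd h (hnl p (Or.inl rfl))
    · exact absurd h (hnl _ (Or.inr rfl))
    · exact absurd h hrq
    · rw [← h]; exact hr1
  have htrans : ∀ u ∈ L, ∀ v ∈ L, u ≠ v → ∀ c, Cent u v c → ∀ q ∈ L, q ∉ line G u v → Cent c q c := by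
    intro u hu v hv huv c hC q hq hql
    obtain ⟨hcl, hC⟩ := hC
    obtain ⟨e, he, heU⟩ := hEx u hu v hv huv
    obtain ⟨q1, q2, q3⟩ := hout u hu v hv huv e he heU q hq hql
    have hcL : c ∈ L := hlineL u hu v hv huv c hcl
    have hcq : c ≠ q := fun h => hql (h ▸ hcl)
    have hceq : c ≠ e • q := fun h => q2 (h ▸ hcl)
    have hec : e • c = c := mem_line.1 hcl e he
    have hm : e • q ∈ line G c q := hC e he heU q hq hql
    refine ⟨left_mem_line c q, fun e' he' he'U r hr hrm => ?_⟩
    have hcomm : ∀ w ∈ L, e' • e • w = e • e' • w := by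
      intro w hw
      have hmem : e * e' * e⁻¹ ∈ pairStab G c q := by
        have h1 := conj_pairStab (g := e) he'
        rw [hec, pairStab_eq_of_mem h2 hcq hm hceq] at h1
        exact h1
      have hnU : e * e' * e⁻¹ ∉ U := fun h => he'U (by
        have h1 := hnormal u hu v hv huv e he heU _ h
        rwa [show e⁻¹ * (e * e' * e⁻¹) * e = e' by group] at h1)
      have h1 := hsame c hcL q hq hcq e' he' _ hmem he'U hnU (e • w) (hpres u hu v hv huv e he heU w hw).1
      rw [mul_smul, mul_smul, inv_smul_smul] at h1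
      exact h1.symm
    obtain ⟨r1, r2, r3⟩ := hout c hcL q hq hcq e' he' he'U r hr hrm
    by_cases hrl : r ∈ line G u v
    · have hcr : c ≠ r := fun h => hrm (by rw [← h]; exact left_mem_line c q)
      rw [line_eq_of_two h2 huv hcl hrl hcr]
      refine (hpres u hu v hv huv e he heU _ r1).2.2 ?_
      rw [← hcomm r hr, mem_line.1 hrl e he]
    · have her : e • r ∈ line G c r := hC e he heU r hr hrl
      have hne : e • r ≠ r := (hout u hu v hv huv e he heU r hr hrl).2.2
      have h1 : e' • r ∉ line G u v := fun h => hne (smul_left_cancel e' (by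
        rw [hcomm r hr, mem_line.1 h e he]))
      have hrq : r ≠ q := fun h => hrm (by rw [h]; exact right_mem_line c q)
      have hreq : r ≠ e • q := fun h => hrm (by rw [h]; exact hm)
      rcases hsplit u hu v hv huv e he heU q hq hql r hr hrl hrq hreq (e' • r) r1 h1 with h | h | h | h
      · exact absurd (show e' • r ∈ line G c q by rw [h]; exact right_mem_line c q) r2
      · exact absurd (show e' • r ∈ line G c q by rw [h]; exact hm) r2
      · exact absurd h r3
      · rw [h]; exact her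
  have huniqC : ∀ u ∈ L, ∀ v ∈ L, u ≠ v → ∀ c c', Cent u v c → Cent u v c' → c = c' := by
    intro u hu v hv huv c c' hc hc'
    obtain ⟨e, he, heU⟩ := hEx u hu v hv huv
    obtain ⟨q, hq⟩ := Finset.card_pos.1 (show 0 < (L \ line G u v).card by rw [hfour u hu v hv huv]; omega)
    rw [Finset.mem_sdiff] at hq
    have hne := (hout u hu v hv huv e he heU q hq.1 hq.2).2.2
    have hc1 : c ≠ q := fun h => hq.2 (h ▸ hc.1)
    have hc2 : c' ≠ q := fun h => hq.2 (h ▸ hc'.1)
    have e1 := line_eq_of_two h2 hc1 (right_mem_line c q) (hc.2 e he heU q hq.1 hq.2) hne.symm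
    have e2 := line_eq_of_two h2 hc2 (right_mem_line c' q) (hc'.2 e he heU q hq.1 hq.2) hne.symm
    by_contra hcc
    have h1 : c' ∈ line G c q := by rw [← e1, e2]; exact left_mem_line c' q
    refine hq.2 ?_
    rw [← line_eq_of_two h2 huv hc.1 hc'.1 hcc, line_eq_of_mem h2 hc1 h1 hcc]
    exact right_mem_line c q
  obtain ⟨u, hu, v, hv, huv⟩ := Finset.one_lt_card.1 (show 1 < L.card by rw [hL]; omega)
  obtain ⟨c, hc⟩ := hexC u hu v hv huv
  obtain ⟨q, hq⟩ := Finset.card_pos.1 (show 0 < (L \ line G u v).card by rw [hfour u hu v hv huv]; omega)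
  rw [Finset.mem_sdiff] at hq
  obtain ⟨a₁, ha₁, ha₁c⟩ := Finset.exists_mem_ne (s := line G u v) (by rw [h3 u v huv]; omega) c
  have haL : a₁ ∈ L := hlineL u hu v hv huv a₁ ha₁
  have haq : a₁ ≠ q := fun h => hq.2 (h ▸ ha₁)
  have hcn : c ∉ line G a₁ q := fun h => hq.2 (by
    rw [← line_eq_of_two h2 huv ha₁ hc.1 ha₁c, line_eq_of_mem h2 haq h ha₁c]
    exact right_mem_line a₁ q)
  obtain ⟨c', hc'⟩ := hexC a₁ haL q hq.1 haq
  have hc'L : c' ∈ L := hlineL a₁ haL q hq.1 haq c' hc'.1
  have hcL : c ∈ L := hlineL u hu v hv huv c hc.1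
  have hne : c ≠ c' := fun h => hcn (h ▸ hc'.1)
  have k1 : Cent c c' c := by
    by_cases hl : c' ∈ line G u v
    · refine ⟨left_mem_line c c', ?_⟩
      rw [line_eq_of_two h2 huv hc.1 hl hne, pairStab_eq_of_two h2 huv hc.1 hl hne]
      exact hc.2
    · exact htrans u hu v hv huv c hc c' hc'L hl
  have k2 : Cent c c' c' := by
    obtain ⟨-, h⟩ := htrans a₁ haL q hq.1 haq c' hc' c hcL hcn
    refine ⟨right_mem_line c c', ?_⟩
    rw [hswap c c', pairStab_comm c c']
    exact h
  exact hne (huniqC c hcL c' hc'L hne c c' k1 k2)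

theorem inv_orb_le (U V : Subgroup G) (h : U ≤ V) (y : Ω) :
    ((orb V y).card : ℚ)⁻¹ ≤ ((orb U y).card : ℚ)⁻¹ :=
  inv_anti₀ (by exact_mod_cast card_orb_pos U y) (by exact_mod_cast Finset.card_le_card (orb_mono h y))

theorem two_le_card_orb {U : Subgroup G} {y : Ω} (hy : y ∉ fixSet Ω U) : 2 ≤ (orb U y).card := by
  have h0 := card_orb_pos U y
  have h1 : (orb U y).card ≠ 1 := fun e => hy (card_orb_eq_one.1 e)
  omega

theorem card_orb_dvd (U : Subgroup G) (x : Ω) : (orb U x).card ∣ Nat.card U := by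
  rw [← card_els, ← card_els_stab U x]
  exact dvd_mul_right _ _

/-- the orbits gained by fixing a moved point -/
theorem gain_bound (H : Subgroup G) {x : Ω} {t : ℕ}
    (ht : t ≤ (orb H x ∩ fixSet Ω (H ⊓ stabilizer G x)).card) (ht2 : t + 2 ≤ (orb H x).card) :
    ((fixSet Ω (H ⊓ stabilizer G x)).card : ℚ) + t ≤
      (fixSet Ω H).card + 2 * (orbSum Ω (H ⊓ stabilizer G x) - orbSum Ω H) := by
  classical
  obtain ⟨U, hU⟩ : ∃ U, U = H ⊓ stabilizer G x := ⟨_, rfl⟩
  rw [← hU] at ht ⊢
  have hUH : U ≤ H := hU ▸ inf_le_left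
  obtain ⟨L, hL⟩ : ∃ L, L = fixSet Ω U := ⟨_, rfl⟩
  obtain ⟨K, hK⟩ : ∃ K, K = fixSet Ω H := ⟨_, rfl⟩
  obtain ⟨O, hO⟩ : ∃ O, O = orb H x := ⟨_, rfl⟩
  rw [← hL, ← hK]
  rw [← hL, ← hO] at ht
  rw [← hO] at ht2
  let F : Ω → ℚ := fun y => ((orb U y).card : ℚ)⁻¹ - ((orb H y).card : ℚ)⁻¹
  have hF : ∀ y, 0 ≤ F y := fun y => sub_nonneg.2 (inv_orb_le U H hUH y)
  have hdiff : orbSum Ω U - orbSum Ω H = ∑ y, F y := by simp [orbSum, F, Finset.sum_sub_distrib]
  have hKL : K ⊆ L := fun y hy => by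
    rw [hK, mem_fixSet] at hy
    rw [hL, mem_fixSet]
    exact fun h hh => hy h (hUH hh)
  have hKO : Disjoint K O := by
    rw [Finset.disjoint_left]
    intro y hy hyO
    rw [hK, ← card_orb_eq_one, orb_eq_of_mem (hO ▸ hyO : y ∈ orb H x), ← hO] at hy
    omega
  -- off the orbit
  have hoff : ((L \ O).card : ℚ) - K.card ≤ 2 * ∑ y ∈ Oᶜ, F y := by
    have hsub : (L \ O) \ K ⊆ Oᶜ := fun y hy => by
      simp only [Finset.mem_sdiff] at hy; simpa using hy.1.2
    have h1 : ∀ y ∈ (L \ O) \ K, (1 / 2 : ℚ) ≤ F y := by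
      intro y hy
      simp only [Finset.mem_sdiff] at hy
      have e1 : (orb U y).card = 1 := card_orb_eq_one.2 (hL ▸ hy.1.1)
      have e2 : (2 : ℚ) ≤ (orb H y).card := by exact_mod_cast two_le_card_orb (U := H) (hK ▸ hy.2)
      have e3 : ((orb H y).card : ℚ)⁻¹ ≤ 2⁻¹ := inv_anti₀ two_pos e2
      simp only [F, e1, Nat.cast_one, inv_one]
      linarith
    have h2 := Finset.card_nsmul_le_sum _ F _ h1
    have h3 := Finset.sum_le_sum_of_subset_of_nonneg hsub fun y _ _ => hF y
    have h4 : ((L \ O).card : ℚ) ≤ ((L \ O) \ K).card + K.card := by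
      exact_mod_cast Finset.card_le_card_sdiff_add_card
    rw [nsmul_eq_mul] at h2
    linarith
  -- the orbit itself
  have hin : ((O ∩ L).card : ℚ) + t ≤ 2 * ∑ y ∈ O, F y := by
    have e : ∀ y ∈ O, (orb H y).card = O.card := fun y hy => by rw [orb_eq_of_mem (hO ▸ hy), hO]
    have hpos : (0 : ℚ) < O.card := by exact_mod_cast (by omega : 0 < O.card)
    have hsum : ∑ y ∈ O, F y = (∑ y ∈ O, ((orb U y).card : ℚ)⁻¹) - 1 := by
      have h1 : ∑ y ∈ O, ((orb H y).card : ℚ)⁻¹ = 1 := by
        rw [Finset.sum_congr rfl (g := fun _ => (O.card : ℚ)⁻¹) fun y hy => by rw [e y hy], Finset.sum_const,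
          nsmul_eq_mul, mul_inv_cancel₀ hpos.ne']
      simp only [F, Finset.sum_sub_distrib, h1]
    have hfixed : ∑ y ∈ O ∩ L, ((orb U y).card : ℚ)⁻¹ = (O ∩ L).card := by
      rw [Finset.card_eq_sum_ones, Nat.cast_sum]
      refine Finset.sum_congr rfl fun y hy => ?_
      rw [card_orb_eq_one.2 (hL ▸ (Finset.mem_inter.1 hy).2)]
      simp
    have htc : (t : ℚ) ≤ (O ∩ L).card := by exact_mod_cast ht
    by_cases hfull : O ⊆ L
    · rw [hsum]
      rw [Finset.inter_eq_left.2 hfull] at hfixed ⊢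
      rw [hfixed]
      have : (t : ℚ) + 2 ≤ O.card := by exact_mod_cast ht2
      linarith
    · obtain ⟨z, hzO, hzL⟩ := Finset.not_subset.1 hfull
      have hzsub : orb U z ⊆ O \ L := fun w hw => by
        refine Finset.mem_sdiff.2 ⟨?_, fun hwL => hzL ?_⟩
        · have := orb_mono hUH z hw
          rwa [orb_eq_of_mem (hO ▸ hzO), ← hO] at this
        · rw [hL, ← card_orb_eq_one] at hwL ⊢
          rwa [orb_eq_of_mem hw] at hwL
      have hone : ∑ w ∈ orb U z, ((orb U w).card : ℚ)⁻¹ = 1 := by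
        rw [Finset.sum_congr rfl fun w hw => by rw [orb_eq_of_mem hw], Finset.sum_const, nsmul_eq_mul,
          mul_inv_cancel₀ (Nat.cast_ne_zero.2 (card_orb_pos U z).ne')]
      have h5 := Finset.sum_le_sum_of_subset_of_nonneg (f := fun w => ((orb U w).card : ℚ)⁻¹) hzsub
        fun w _ _ => by positivity
      have h6 := (Finset.sum_sdiff (f := fun w => ((orb U w).card : ℚ)⁻¹)
        (Finset.inter_subset_left (s₁ := O) (s₂ := L))).symm
      rw [Finset.sdiff_inter_self_left, hfixed] at h6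
      rw [hsum]
      linarith
  have hsplit : (L.card : ℚ) = (L \ O).card + (O ∩ L).card := by
    rw [Finset.inter_comm O L]
    exact_mod_cast (Finset.card_sdiff_add_card_inter L O).symm
  rw [hdiff, ← Finset.sum_add_sum_compl O F]
  linarith

/-- the fixed points of a three-point stabiliser contain the lines through the third point -/
theorem card_fix_lower (h2 : Two G Ω) {a b x : Ω} (hab : a ≠ b) (hx : x ∉ line G a b) :
    (line G a b).card * ((line G a b).card - 1) + 1 ≤ (fixSet Ω (pairStab G a b ⊓ stabilizer G x)).card := by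
  classical
  obtain ⟨K, hK⟩ : ∃ K, K = line G a b := ⟨_, rfl⟩
  rw [← hK] at hx ⊢
  have hne : ∀ y ∈ K, x ≠ y := fun y hy e => hx (e ▸ hy)
  have hdisj : (K : Set Ω).PairwiseDisjoint fun y => (line G x y).erase x := by
    intro y hy y' hy' hyy
    rw [Function.onFun, Finset.disjoint_left]
    intro w hw hw'
    simp only [Finset.mem_erase] at hw hw'
    refine hx ?_
    have e1 := line_eq_of_mem h2 (hne y hy) hw.2 (Ne.symm hw.1)
    have e2 := line_eq_of_mem h2 (hne y' hy') hw'.2 (Ne.symm hw'.1)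
    have h1 : y' ∈ line G x y := by rw [← e1, e2]; exact right_mem_line x y'
    have e3 := line_eq_of_two h2 (hne y hy) (right_mem_line x y) h1 hyy
    rw [hK, ← line_eq_of_two h2 hab (hK ▸ hy) (hK ▸ hy') hyy, e3]
    exact left_mem_line x y
  have hsub : insert x (K.biUnion fun y => (line G x y).erase x) ⊆
      fixSet Ω (pairStab G a b ⊓ stabilizer G x) := by
    intro w hw
    rw [mem_fixSet]
    intro h hh
    obtain ⟨hhH, hhx⟩ := Subgroup.mem_inf.1 hh
    rw [mem_stabilizer_iff] at hhx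
    rcases Finset.mem_insert.1 hw with e | e
    · rw [e]; exact hhx
    · obtain ⟨y, hy, hwy⟩ := Finset.mem_biUnion.1 e
      exact mem_line.1 (Finset.mem_erase.1 hwy).2 h (mem_pairStab.2 ⟨hhx, mem_line.1 (hK ▸ hy) h hhH⟩)
  have h1 := Finset.card_le_card hsub
  rw [Finset.card_insert_of_notMem (by simp), Finset.card_biUnion hdisj,
    Finset.sum_congr rfl fun y hy => by
      rw [Finset.card_erase_of_mem (left_mem_line x y), card_line h2 (hne y hy) hab, ← hK],
    Finset.sum_const, smul_eq_mul] at h1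
  exact h1

/-- when the two-point stabilisers are not trivial, they have enough extra orbits -/
theorem sum_pair_ge [FaithfulSMul G Ω] (h2 : Two G Ω) (h7 : 7 ≤ Fintype.card Ω) {a b : Ω} (hab : a ≠ b)
    (hN : 2 ≤ (els (pairStab G a b)).card) :
    ((els (pairStab G a b)).card : ℚ) ≤
      ∑ h ∈ els (pairStab G a b), ((Fintype.card Ω : ℚ) - nfix Ω h) / nfix Ω h := by
  classical
  obtain ⟨H, hH⟩ : ∃ H, H = pairStab G a b := ⟨_, rfl⟩
  rw [← hH] at hN ⊢
  obtain ⟨K, hK⟩ : ∃ K, K = fixSet Ω H := ⟨_, rfl⟩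
  have hKl : K = line G a b := by rw [hK, hH]; rfl
  have haK : a ∈ K := hKl ▸ left_mem_line a b
  have hbK : b ∈ K := hKl ▸ right_mem_line a b
  have hfix : ∀ h ∈ H, 1 ≤ nfix Ω h := fun h hh =>
    Finset.card_pos.2 ⟨a, Finset.mem_filter.2 ⟨Finset.mem_univ _, (mem_pairStab.1 (hH ▸ hh)).1⟩⟩
  obtain ⟨x₀, hx₀⟩ : ∃ x, x ∉ K := by
    by_contra hno
    push Not at hno
    have h1 : els H ⊆ {1} := fun h hh => Finset.mem_singleton.2 (FaithfulSMul.eq_of_smul_eq_smul (α := Ω)
      fun z => by rw [one_smul]; exact mem_fixSet.1 (hK ▸ hno z) h (mem_els.1 hh))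
    have := Finset.card_le_card h1
    rw [Finset.card_singleton] at this
    omega
  have hle1 : ∀ y : Ω, ((orb H y).card : ℚ)⁻¹ ≤ 1 := fun y => by
    refine inv_le_one_of_one_le₀ ?_
    exact_mod_cast card_orb_pos H y
  have hhalf : ∀ y ∉ K, ((orb H y).card : ℚ)⁻¹ ≤ 2⁻¹ := fun y hy => by
    refine inv_anti₀ two_pos ?_
    exact_mod_cast two_le_card_orb (hK ▸ hy)
  have hnm : (Fintype.card Ω : ℚ) - orbSum Ω H = ∑ y : Ω, (1 - ((orb H y).card : ℚ)⁻¹) := by
    rw [Finset.sum_sub_distrib, Finset.sum_const, Finset.card_univ, nsmul_one]; rfl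
  have hA : 0 < (Fintype.card Ω : ℚ) - orbSum Ω H := by
    rw [hnm]
    refine Finset.sum_pos' (fun y _ => sub_nonneg.2 (hle1 y)) ⟨x₀, Finset.mem_univ _, ?_⟩
    have := hhalf x₀ hx₀
    linarith
  refine sum_ge_of_gain hfix hA ?_
  -- the excess
  let e : Ω → ℚ := fun y => 1 - 2 * ((orb H y).card : ℚ)⁻¹
  obtain ⟨X, hX⟩ : ∃ X, X = ∑ y ∈ Kᶜ, e y := ⟨_, rfl⟩
  have he0 : ∀ y ∈ Kᶜ, 0 ≤ e y := fun y hy => by
    have := hhalf y (Finset.mem_compl.1 hy)
    simp only [e]; linarith
  have hX0 : 0 ≤ X := hX ▸ Finset.sum_nonneg he0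
  have h2m : 2 * orbSum Ω H - Fintype.card Ω = (K.card : ℚ) - X := by
    have h1 : ∑ y : Ω, e y = (Fintype.card Ω : ℚ) - 2 * orbSum Ω H := by
      simp only [e, Finset.sum_sub_distrib, Finset.sum_const, Finset.card_univ, nsmul_one, ← Finset.mul_sum, orbSum]
    have h2' : ∑ y ∈ K, e y = -(K.card : ℚ) := by
      rw [Finset.sum_congr rfl (g := fun _ => (-1 : ℚ)) fun y hy => by
        simp only [e, card_orb_eq_one.2 (hK ▸ hy), Nat.cast_one, inv_one]; norm_num]
      simp
    rw [← Finset.sum_add_sum_compl K e, h2', ← hX] at h1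
    linarith
  have horbsum : ∀ y ∉ K, ∑ w ∈ orb H y, e w = ((orb H y).card : ℚ) - 2 ∧ orb H y ⊆ Kᶜ := fun y hy => by
    refine ⟨?_, fun w hw => Finset.mem_compl.2 fun hwK => hy ?_⟩
    · rw [Finset.sum_congr rfl (g := fun _ => e y) fun w hw => by simp only [e, orb_eq_of_mem hw],
        Finset.sum_const, nsmul_eq_mul]
      have : ((orb H y).card : ℚ) ≠ 0 := Nat.cast_ne_zero.2 (card_orb_pos H y).ne'
      simp only [e]
      field_simp
    · rw [hK, ← card_orb_eq_one, orb_eq_of_mem hw, card_orb_eq_one] at hwK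
      exact hK ▸ hwK
  have hone : ∀ y ∉ K, ((orb H y).card : ℚ) - 2 ≤ X := fun y hy => by
    rw [hX, ← (horbsum y hy).1]
    exact Finset.sum_le_sum_of_subset_of_nonneg (horbsum y hy).2 fun w hw _ => he0 w hw
  have htwo : ∀ y ∉ K, ∀ z ∉ K, z ∉ orb H y →
      ((orb H y).card : ℚ) - 2 + (((orb H z).card : ℚ) - 2) ≤ X := fun y hy z hz hzy => by
    have hd : Disjoint (orb H y) (orb H z) := by
      rw [Finset.disjoint_left]
      intro w h1 h1'
      refine hzy ?_
      rw [← orb_eq_of_mem h1, orb_eq_of_mem h1']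
      exact self_mem_orb H z
    rw [hX, ← (horbsum y hy).1, ← (horbsum z hz).1, ← Finset.sum_union hd]
    exact Finset.sum_le_sum_of_subset_of_nonneg
      (Finset.union_subset (horbsum y hy).2 (horbsum z hz).2) fun w hw _ => he0 w hw
  have hmovedab : ∀ y ∉ K, y ≠ a ∧ y ≠ b := fun y hy => ⟨fun h => hy (h ▸ haK), fun h => hy (h ▸ hbK)⟩
  -- a single short exceptional orbit is impossible
  have hno : ∀ y ∉ K, (orb H y).card ≤ 4 → (∀ z : Ω, z ∉ orb H y → (orb H z).card ≤ 2) → ¬ 3 ∣ Nat.card H := by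
    intro y hy hy4 hrest
    subst hH
    exact no_three h2 h7 (O := orb (pairStab G a b) y) (by omega) hrest
      ⟨y, (hmovedab y hy).1, (hmovedab y hy).2, hy4⟩
  have hmv : ∀ z : Ω, 3 ≤ (orb H z).card → z ∉ K := fun z hz h => by
    rw [hK, ← card_orb_eq_one] at h; omega
  have hbig : (∀ y : Ω, (orb H y).card ≤ 2) ∨ 2 ≤ X := by
    by_contra hc
    simp only [not_or, not_forall, not_le] at hc
    obtain ⟨⟨y, hy⟩, hlt⟩ := hc
    have h1 := hone y (hmv y hy)
    have hy3 : (orb H y).card = 3 := by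
      have : ((orb H y).card : ℚ) < 4 := by linarith
      have : (orb H y).card < 4 := by exact_mod_cast this
      omega
    refine hno y (hmv y hy) (by omega) (fun z hz => ?_) (hy3 ▸ card_orb_dvd H y)
    by_contra hz3
    push Not at hz3
    have h3 := htwo y (hmv y hy) z (hmv z hz3) hz
    rw [hy3] at h3
    have : (3 : ℚ) ≤ (orb H z).card := by exact_mod_cast hz3
    push_cast at h3
    linarith
  have hk2 : 2 ≤ K.card := Finset.one_lt_card.2 ⟨a, haK, b, hbK, hab⟩
  have key : ∀ x : Ω, (((orb H x).card : ℚ) - 1) * ((K.card : ℚ) - X) ≤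
      orbSum Ω (H ⊓ stabilizer G x) - orbSum Ω H := by
    intro x
    have hmono : orbSum Ω H ≤ orbSum Ω (H ⊓ stabilizer G x) :=
      Finset.sum_le_sum fun y _ => inv_orb_le _ _ inf_le_left y
    by_cases hxK : x ∈ K
    · rw [card_orb_eq_one.2 (hK ▸ hxK)]; simp; linarith
    obtain ⟨ℓ, hℓ⟩ : ∃ ℓ, ℓ = (orb H x).card := ⟨_, rfl⟩
    rw [← hℓ]
    have hℓ2 : 2 ≤ ℓ := hℓ ▸ two_le_card_orb (hK ▸ hxK)
    have hℓ1 : (2 : ℚ) ≤ ℓ := by exact_mod_cast hℓ2
    by_cases hkX : (K.card : ℚ) ≤ X
    · nlinarith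
    push Not at hkX
    obtain ⟨g, hg⟩ : ∃ g : ℤ, (g : ℚ) = orbSum Ω (H ⊓ stabilizer G x) - orbSum Ω H :=
      ⟨((Finset.univ.image fun y : Ω => orb (H ⊓ stabilizer G x) y).card : ℤ) -
        ((Finset.univ.image fun y : Ω => orb H y).card : ℤ), by
          rw [orbSum_eq_nat, orbSum_eq_nat]; push_cast; rfl⟩
    rw [← hg]
    obtain ⟨L, hL⟩ : ∃ L, L = fixSet Ω (H ⊓ stabilizer G x) := ⟨_, rfl⟩
    have hB : ∀ t : ℕ, t ≤ (orb H x ∩ L).card → t + 2 ≤ ℓ → (L.card : ℤ) + t ≤ K.card + 2 * g := by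
      intro t h1 h2'
      have h := gain_bound H (x := x) (t := t) (hL ▸ h1) (hℓ ▸ h2')
      rw [← hg, ← hL, ← hK] at h
      exact_mod_cast h
    have hLlow : K.card * (K.card - 1) + 1 ≤ L.card := by
      have := card_fix_lower h2 hab (hKl ▸ hxK)
      rw [← hKl, ← hH, ← hL] at this
      exact this
    have hxL : x ∈ orb H x ∩ L := Finset.mem_inter.2 ⟨self_mem_orb H x,
      hL ▸ mem_fixSet.2 fun h hh => mem_stabilizer_iff.1 (Subgroup.mem_inf.1 hh).2⟩
    have hc1 : 1 ≤ (orb H x ∩ L).card := Finset.card_pos.2 ⟨x, hxL⟩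
    have hX2 : ((ℓ : ℚ) - 2) ≤ X := hℓ ▸ hone x hxK
    obtain ⟨k, hk⟩ : ∃ k, k = K.card := ⟨_, rfl⟩
    rw [← hk] at hLlow hkX hB hk2 ⊢
    have hquad : ∀ t : ℕ, t ≤ (orb H x ∩ L).card → t + 2 ≤ ℓ →
        ((k : ℤ) - 1) * ((k : ℤ) - 1) + t ≤ 2 * g := fun t h1 h2' => by
      have h := hB t h1 h2'
      have hl : ((k * (k - 1) + 1 : ℕ) : ℤ) ≤ L.card := by exact_mod_cast hLlow
      rw [Nat.cast_add, Nat.cast_mul, Nat.cast_sub (by omega)] at hl
      push_cast at hl
      linarith
    have hkq : (2 : ℚ) ≤ k := by exact_mod_cast hk2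
    rcases Nat.lt_or_ge ℓ 3 with hℓ3 | hℓ3
    · have hℓe : ℓ = 2 := by omega
      subst hℓe
      push_cast
      have h0 := hquad 0 (Nat.zero_le _) le_rfl
      push_cast at h0
      have h0' : ((k : ℚ) - 1) * ((k : ℚ) - 1) ≤ 2 * g := by
        have := (Int.cast_le (R := ℚ)).2 h0
        push_cast at this
        linarith
      rcases hbig with hsmall | hX2'
      · suffices h : (k : ℤ) ≤ g by
          have : (k : ℚ) ≤ g := by exact_mod_cast h
          linarith
        rcases Nat.lt_or_ge k 4 with hk4 | hk4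
        · have hB0 := hB 0 (Nat.zero_le _) le_rfl
          push_cast at hB0
          obtain rfl | rfl : k = 2 ∨ k = 3 := by omega
          · have hKab : K = {a, b} := (Finset.eq_of_subset_of_card_le
              (Finset.insert_subset haK (Finset.singleton_subset_iff.2 hbK))
              (by rw [Finset.card_pair hab, ← hk])).symm
            have hLuniv : L = Finset.univ := Finset.eq_univ_iff_forall.2 fun y => by
              rw [hL, mem_fixSet]
              subst hH
              exact no_two_kernels h2 hab (hK ▸ hKab) hsmall (hK ▸ hxK)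
            rw [hLuniv, Finset.card_univ] at hB0
            omega
          · have hlines : ∀ u v : Ω, u ≠ v → (line G u v).card = 3 := fun u v huv => by
              rw [card_line h2 huv hab, ← hKl, ← hk]
            have hHcard := card_els_stab H x
            rw [← hℓ] at hHcard
            have hU : ∀ u ∈ L, ∀ v ∈ L, u ≠ v → H ⊓ stabilizer G x ≤ pairStab G u v ∧
                (els (pairStab G u v)).card = 2 * (els (H ⊓ stabilizer G x)).card := fun u hu v hv huv => by
              rw [hL, mem_fixSet] at hu hv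
              refine ⟨fun h hh => mem_pairStab.2 ⟨hu h hh, hv h hh⟩, ?_⟩
              rw [card_els_pairStab h2 huv hab, ← hH, hHcard]
            have hne7 : L.card ≠ 7 := fun h => no_fano h2 (hL ▸ h) hlines (hL ▸ hU)
            have hodd : L.card % 2 = 1 := by
              have hxL' := (Finset.mem_inter.1 hxL).2
              have h1 := Finset.card_erase_of_mem hxL'
              have h2' : 2 ∣ (L.erase x).card := by
                rw [Finset.card_eq_sum_card_image (fun y => line G x y) (L.erase x)]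
                refine Finset.dvd_sum fun l hl => ?_
                obtain ⟨y, hy, rfl⟩ := Finset.mem_image.1 hl
                obtain ⟨hyx, hyL⟩ := Finset.mem_erase.1 hy
                have hfib : ((L.erase x).filter fun w => line G x w = line G x y) = (line G x y).erase x := by
                  ext w
                  simp only [Finset.mem_filter, Finset.mem_erase]
                  constructor
                  · rintro ⟨⟨hwx, -⟩, h⟩
                    exact ⟨hwx, h ▸ right_mem_line x w⟩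
                  · rintro ⟨hwx, hw⟩
                    refine ⟨⟨hwx, ?_⟩, line_eq_of_mem h2 (Ne.symm hyx) hw (Ne.symm hwx)⟩
                    rw [hL, mem_fixSet]
                    exact fun h hh => mem_line.1 hw h ((hU x hxL' y hyL (Ne.symm hyx)).1 hh)
                rw [hfib, Finset.card_erase_of_mem (left_mem_line x y), hlines x y (Ne.symm hyx)]
              omega
            push_cast
            omega
        · have : (4 : ℤ) ≤ k := by exact_mod_cast hk4
          nlinarith
      · nlinarith [sq_nonneg ((k : ℚ) - 2)]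
    · have h1 := hquad 1 hc1 (by omega)
      push_cast at h1
      have h1' : ((k : ℚ) - 1) * ((k : ℚ) - 1) + 1 ≤ 2 * g := by
        have := (Int.cast_le (R := ℚ)).2 h1
        push_cast at this
        linarith
      have hXb : 2 ≤ X := hbig.resolve_left fun h => by have := h x; omega
      have hℓk : ℓ < k + 2 := by
        have : (ℓ : ℚ) < k + 2 := by linarith
        exact_mod_cast this
      rcases Nat.lt_or_ge k 6 with hk6 | hk6
      · obtain rfl | hℓ4 : ℓ = 3 ∨ 4 ≤ ℓ := by omega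
        · push_cast; nlinarith [sq_nonneg ((k : ℚ) - 3)]
        · obtain ⟨rfl, rfl⟩ | ⟨rfl, rfl⟩ | ⟨rfl, rfl⟩ | ⟨rfl, rfl⟩ | ⟨rfl, rfl⟩ | ⟨rfl, rfl⟩ :
              (k = 3 ∧ ℓ = 4) ∨ (k = 4 ∧ ℓ = 4) ∨ (k = 4 ∧ ℓ = 5) ∨ (k = 5 ∧ ℓ = 4) ∨ (k = 5 ∧ ℓ = 5) ∨
                (k = 5 ∧ ℓ = 6) := by omega
          all_goals push_cast at h1 h1' hX2 hkX ⊢
          · have : (3 : ℚ) ≤ g := by exact_mod_cast (by omega : (3 : ℤ) ≤ g)
            linarith
          · by_cases hX3 : 3 ≤ X
            · nlinarith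
            push Not at hX3
            have hrest : ∀ z ∉ orb H x, (orb H z).card ≤ 2 := fun z hz => by
              by_contra hz3
              push Not at hz3
              have h3 := htwo x hxK z (hmv z hz3) hz
              rw [← hℓ] at h3
              have : (3 : ℚ) ≤ (orb H z).card := by exact_mod_cast hz3
              push_cast at h3
              linarith
            have hc2 : 2 ≤ (orb H x ∩ L).card := by
              by_contra hc
              push Not at hc
              refine hno x hxK (by omega) hrest ?_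
              obtain ⟨U, hU⟩ : ∃ U, U = H ⊓ stabilizer G x := ⟨_, rfl⟩
              have hsingle : ∀ w ∈ orb H x, w ≠ x → w ∉ L := fun w hw hwx hwL => by
                have := Finset.one_lt_card.2 ⟨w, Finset.mem_inter.2 ⟨hw, hwL⟩, x, hxL, hwx⟩
                omega
              obtain ⟨z, hz, hzx⟩ := Finset.exists_mem_ne (s := orb H x) (by omega) x
              have hnofix : ∀ w ∈ orb H x, w ≠ x → orb U w ⊆ (orb H x).erase x ∧ 2 ≤ (orb U w).card := by
                intro w hw hwx
                have hwL := hsingle w hw hwx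
                rw [hL, ← hU] at hwL
                refine ⟨fun w' hw' => Finset.mem_erase.2 ⟨fun e => hwL ?_, ?_⟩, two_le_card_orb hwL⟩
                · have hxfix : orb U x = {x} := Finset.eq_singleton_iff_unique_mem.2 ⟨self_mem_orb U x,
                    fun y hy => by
                      obtain ⟨h, hh, rfl⟩ := mem_orb.1 hy
                      exact mem_stabilizer_iff.1 (Subgroup.mem_inf.1 (hU ▸ hh)).2⟩
                  subst e
                  have h := self_mem_orb U w
                  rw [← orb_eq_of_mem hw', hxfix, Finset.mem_singleton] at h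
                  exact absurd h hwx
                · have := orb_mono (hU ▸ inf_le_left : U ≤ H) w hw'
                  rwa [orb_eq_of_mem hw] at this
              obtain ⟨hz1, hz2⟩ := hnofix z hz hzx
              have h3 : ((orb H x).erase x).card = 3 := by
                rw [Finset.card_erase_of_mem (self_mem_orb H x), ← hℓ]
              have h3' : (orb U z).card = 3 := by
                by_contra h
                have hle := Finset.card_le_card hz1
                obtain ⟨w, hw⟩ := Finset.card_pos.1 (show 0 < (((orb H x).erase x) \ orb U z).card by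
                  rw [Finset.card_sdiff_of_subset hz1]; omega)
                obtain ⟨hw1, hw2⟩ := Finset.mem_sdiff.1 hw
                obtain ⟨hwx, hwO⟩ := Finset.mem_erase.1 hw1
                obtain ⟨hw3, hw4⟩ := hnofix w hwO hwx
                have hd : Disjoint (orb U z) (orb U w) := by
                  rw [Finset.disjoint_left]
                  intro y y1 y2
                  refine hw2 ?_
                  rw [← orb_eq_of_mem y1, orb_eq_of_mem y2]
                  exact self_mem_orb U w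
                have h5 := Finset.card_le_card (Finset.union_subset hz1 hw3)
                rw [Finset.card_union_of_disjoint hd] at h5
                omega
              refine (h3' ▸ card_orb_dvd U z).trans ?_
              rw [← card_els U, ← card_els H, hU, ← card_els_stab H x]
              exact dvd_mul_left _ _
            have h2g := hquad 2 hc2 le_rfl
            push_cast at h2g
            have : (6 : ℚ) ≤ g := by exact_mod_cast (by omega : (6 : ℤ) ≤ g)
            nlinarith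
          · nlinarith
          · have : (9 : ℚ) ≤ g := by exact_mod_cast (by omega : (9 : ℤ) ≤ g)
            nlinarith
          · nlinarith
          · nlinarith
      · have hk6' : (6 : ℚ) ≤ k := by exact_mod_cast hk6
        nlinarith [sq_nonneg ((k : ℚ) - 2 * ℓ + 3), mul_le_mul_of_nonneg_left hX2 (by linarith : (0 : ℚ) ≤ ℓ - 1),
          mul_nonneg (by linarith : (0 : ℚ) ≤ (k : ℚ) - 6) (by linarith : (0 : ℚ) ≤ k)]
  have hsum : ∑ y : Ω, (((orb H y).card : ℚ) - 1) * ((K.card : ℚ) - X) * ((orb H y).card : ℚ)⁻¹ ≤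
      ∑ y : Ω, (orbSum Ω (H ⊓ stabilizer G y) - orbSum Ω H) * ((orb H y).card : ℚ)⁻¹ :=
    Finset.sum_le_sum fun y _ => mul_le_mul_of_nonneg_right (key y) (by positivity)
  have hleft : ∑ y : Ω, (((orb H y).card : ℚ) - 1) * ((K.card : ℚ) - X) * ((orb H y).card : ℚ)⁻¹ =
      ((Fintype.card Ω : ℚ) - orbSum Ω H) * ((K.card : ℚ) - X) := by
    rw [hnm, Finset.sum_mul]
    refine Finset.sum_congr rfl fun y _ => ?_
    have : ((orb H y).card : ℚ) ≠ 0 := Nat.cast_ne_zero.2 (card_orb_pos H y).ne'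
    field_simp
  have hright : ∑ y : Ω, (orbSum Ω (H ⊓ stabilizer G y) - orbSum Ω H) * ((orb H y).card : ℚ)⁻¹ =
      (∑ y : Ω, orbSum Ω (H ⊓ stabilizer G y) * ((orb H y).card : ℚ)⁻¹) - orbSum Ω H * orbSum Ω H := by
    simp only [sub_mul, Finset.sum_sub_distrib, ← Finset.mul_sum]
    rfl
  rw [hleft, hright, ← h2m] at hsum
  nlinarith

end CfsgLib.Perm.DerangeTwo
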