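import Mathlib

/-!
Derived length of `p`-groups of permutations: orbits of length `p ^ j` force derived length at most `j`;
iterated wreath products attain the bound.
-/

set_option autoImplicit false

namespace CfsgLib.Perm.DerivedLength

open Subgroup
open scoped commutatorElement RegularWreathProduct

universe u v

theorem commutator_le_of_index_prime {P : Type u} [Group P] [Finite P] {p : ℕ} [Fact p.Prime]
    (hP : IsPGroup p P) {M : Subgroup P} (hM : IsCoatom M) : M.index = p ∧ commutator P ≤ M := by
  haveI := hP.isNilpotent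
  haveI hn : M.Normal := (Group.normalizerCondition_of_isNilpotent).normal_of_coatom M hM
  haveI : Nontrivial (P ⧸ M) := QuotientGroup.nontrivial_iff.2 hM.1
  haveI : IsSimpleGroup (P ⧸ M) :=
    { eq_bot_or_eq_top_of_normal := fun H _ => by
        have hle : M ≤ H.comap (QuotientGroup.mk' M) := fun x hx => by
          rw [mem_comap, QuotientGroup.mk'_apply, (QuotientGroup.eq_one_iff x).2 hx]; exact one_mem H
        rcases hle.eq_or_lt with h | h
        · left
          rw [← map_comap_eq_self_of_surjective (QuotientGroup.mk'_surjective M) H, ← h,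
            QuotientGroup.map_mk'_self]
        · right
          rw [← map_comap_eq_self_of_surjective (QuotientGroup.mk'_surjective M) H, hM.2 _ h,
            map_top_of_surjective _ (QuotientGroup.mk'_surjective M)] }
  have hq : IsPGroup p (P ⧸ M) := hP.to_quotient M
  haveI := hq.isNilpotent
  have hab : ∀ a b : P ⧸ M, a * b = b * a := IsSimpleGroup.comm_iff_isSolvable.2 inferInstance
  refine ⟨?_, ?_⟩
  · letI : CommGroup (P ⧸ M) := { (inferInstance : Group (P ⧸ M)) with mul_comm := hab }
    have hp : (Nat.card (P ⧸ M)).Prime := IsSimpleGroup.prime_card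
    obtain ⟨k, hk⟩ := IsPGroup.iff_card.1 hq
    rw [index_eq_card]
    exact (Nat.prime_dvd_prime_iff_eq hp Fact.out).1 (hp.dvd_of_dvd_pow (dvd_of_eq hk))
  · rw [commutator_def, commutator_le]
    intro a _ b _
    rw [← QuotientGroup.eq_one_iff, ← QuotientGroup.mk'_apply, map_commutatorElement,
      commutatorElement_eq_one_iff_mul_comm]
    exact hab _ _

/-- An orbit of length `p ^ j` is fixed pointwise by the `j`-th derived subgroup. -/
theorem derivedSeries_fix {p : ℕ} [hp : Fact p.Prime] {Ω : Type v} :
    ∀ (j : ℕ) {P : Type u} [Group P] [Finite P] [MulAction P Ω], IsPGroup p P → ∀ a : Ω,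
      (MulAction.stabilizer P a).index = p ^ j → derivedSeries P j ≤ MulAction.stabilizer P a := by
  intro j
  induction j with
  | zero =>
    intro P _ _ _ _ a ha
    rw [pow_zero, index_eq_one] at ha
    rw [ha]; exact le_top
  | succ j ih =>
    intro P _ _ _ hP a ha
    have hne : MulAction.stabilizer P a ≠ ⊤ := fun h => by
      rw [h, index_top] at ha
      exact (Nat.one_lt_pow j.succ_ne_zero hp.out.one_lt).ne ha
    obtain ⟨M, hM, hle⟩ := (eq_top_or_exists_le_coatom (MulAction.stabilizer P a)).resolve_left hne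
    obtain ⟨hidx, hcomm⟩ := commutator_le_of_index_prime hP hM
    have hst : (MulAction.stabilizer M a).index = p ^ j := by
      have h1 : MulAction.stabilizer M a = (MulAction.stabilizer P a).subgroupOf M := by
        ext m; rfl
      rw [h1]
      have h2 := relIndex_mul_index hle
      rw [hidx, ha, pow_succ] at h2
      exact mul_right_cancel₀ hp.out.ne_zero h2
    have h3 := ih (hP.to_subgroup M) a hst
    have key : ∀ i, derivedSeries P (i + 1) ≤ (derivedSeries M i).map M.subtype := by
      intro i
      induction i with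
      | zero =>
        rw [derivedSeries_zero, ← MonoidHom.range_eq_map, M.range_subtype, derivedSeries_one]
        exact hcomm
      | succ i hi =>
        rw [derivedSeries_succ P (i + 1), derivedSeries_succ M i, map_commutator]
        exact commutator_mono hi hi
    intro g hg
    obtain ⟨m, hm, rfl⟩ := key j hg
    exact h3 hm

/-- A `p`-group acting faithfully on `n` points has derived length at most `log p n`. -/
theorem derivedSeries_log_eq_bot {p : ℕ} [hp : Fact p.Prime] {P : Type u} [Group P] [Finite P]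
    (hP : IsPGroup p P) {Ω : Type v} [Finite Ω] [MulAction P Ω] [FaithfulSMul P Ω] :
    derivedSeries P (Nat.log p (Nat.card Ω)) = ⊥ := by
  rw [eq_bot_iff]
  intro g hg
  rw [mem_bot]
  refine FaithfulSMul.eq_of_smul_eq_smul (α := Ω) fun a => ?_
  obtain ⟨j, hj⟩ := hP.index (MulAction.stabilizer P a)
  have hjn : j ≤ Nat.log p (Nat.card Ω) := by
    refine Nat.le_log_of_pow_le hp.out.one_lt ?_
    rw [← hj, MulAction.index_stabilizer]
    exact Set.ncard_le_card _
  rw [one_smul]
  exact derivedSeries_fix j hP a hj (derivedSeries_antitone P hjn hg)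

/-- The derived series of a regular wreath product covers that of the bottom group. -/
theorem exists_derived_left {D : Type u} {Q : Type v} [Group D] [Group Q] {c : Q} (hc : c ≠ 1) :
    ∀ (i : ℕ), ∀ d ∈ derivedSeries D i,
      ∃ w ∈ derivedSeries (D ≀ᵣ Q) (i + 1), w.right = 1 ∧ w.left 1 = d := by
  classical
  intro i
  induction i with
  | zero =>
    intro d _
    obtain ⟨x, hx⟩ : ∃ x : D ≀ᵣ Q, x = ⟨fun q => if q = 1 then d else 1, 1⟩ := ⟨_, rfl⟩
    refine ⟨⁅x, RegularWreathProduct.inl c⁆, ?_, ?_, ?_⟩
    · rw [derivedSeries_one, commutator_def]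
      exact commutator_mem_commutator (mem_top _) (mem_top _)
    · simp [commutatorElement_def, hx]
    · simp [commutatorElement_def, hx, hc, Pi.mul_apply, Pi.inv_apply]
  | succ i ih =>
    intro d hd
    rw [derivedSeries_succ, Subgroup.commutator_def] at hd
    induction hd using closure_induction with
    | mem d hd =>
      obtain ⟨a, ha, b, hb, rfl⟩ := hd
      obtain ⟨wa, hwa, hra, hla⟩ := ih a ha
      obtain ⟨wb, hwb, hrb, hlb⟩ := ih b hb
      refine ⟨⁅wa, wb⁆, ?_, ?_, ?_⟩
      · rw [derivedSeries_succ]; exact commutator_mem_commutator hwa hwb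
      · simp [commutatorElement_def, hra, hrb]
      · simp [commutatorElement_def, hra, hrb, hla, hlb, Pi.mul_apply, Pi.inv_apply]
    | one => exact ⟨1, one_mem _, rfl, rfl⟩
    | mul a b _ _ ha hb =>
      obtain ⟨wa, hwa, hra, hla⟩ := ha
      obtain ⟨wb, hwb, hrb, hlb⟩ := hb
      refine ⟨wa * wb, mul_mem hwa hwb, ?_, ?_⟩
      · simp [hra, hrb]
      · simp [hra, hla, hlb, Pi.mul_apply]
    | inv a _ ha =>
      obtain ⟨wa, hwa, hra, hla⟩ := ha
      refine ⟨wa⁻¹, inv_mem hwa, ?_, ?_⟩
      · simp [hra]
      · simp [hra, hla, Pi.inv_apply]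

theorem derivedSeries_iterated_ne_bot (Q : Type u) [Group Q] {c : Q} (hc : c ≠ 1) :
    ∀ k : ℕ, derivedSeries (IteratedWreathProduct Q (k + 1)) k ≠ ⊥ := by
  intro k
  induction k with
  | zero =>
    intro h
    rw [derivedSeries_zero] at h
    have hm := mem_bot.1 (h ▸ mem_top (RegularWreathProduct.inl (D := IteratedWreathProduct Q 0) c))
    exact hc (congrArg RegularWreathProduct.right hm)
  | succ k ih =>
    intro h
    obtain ⟨d, hd, hd1⟩ := exists_ne_of_ne_bot ih
    obtain ⟨w, hw, -, hl⟩ := exists_derived_left hc k d hd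
    have hw1 : w = 1 := mem_bot.1 (h ▸ hw : w ∈ (⊥ : Subgroup (IteratedWreathProduct Q (k + 2))))
    exact hd1 (by rw [← hl, hw1]; rfl)
where
  exists_ne_of_ne_bot {G : Type u} [Group G] {H : Subgroup G} (h : H ≠ ⊥) : ∃ d ∈ H, d ≠ 1 := by
    by_contra hcon
    exact h (eq_bot_iff.2 fun x hx => mem_bot.2 (by_contra fun e => hcon ⟨x, hx, e⟩))

/-- A Sylow `p`-subgroup of `Sym(n)` has derived length at least `log p n`. -/
theorem derivedSeries_sylow_ne_bot {p : ℕ} [hp : Fact p.Prime] {n : ℕ} {k : ℕ} (hk : p ^ (k + 1) ≤ n)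
    (P : Sylow p (Equiv.Perm (Fin n))) : derivedSeries ↥(P : Subgroup (Equiv.Perm (Fin n))) k ≠ ⊥ := by
  have hc : Multiplicative.ofAdd (1 : ZMod p) ≠ 1 := fun h => one_ne_zero (Multiplicative.ofAdd.injective h :
    (1 : ZMod p) = 0)
  haveI : NeZero p := ⟨hp.out.ne_zero⟩
  let e : (Fin (k + 1) → Multiplicative (ZMod p)) ↪ Fin n :=
    (Finite.equivFinOfCardEq (by rw [Nat.card_fun, Nat.card_fin,
      show Nat.card (Multiplicative (ZMod p)) = p from Nat.card_zmod p]) :
      (Fin (k + 1) → Multiplicative (ZMod p)) ≃ Fin (p ^ (k + 1))).toEmbedding.trans (Fin.castLEEmb hk)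
  let f : IteratedWreathProduct (Multiplicative (ZMod p)) (k + 1) →* Equiv.Perm (Fin n) :=
    (Equiv.Perm.viaEmbeddingHom e).comp (iteratedWreathToPermHom _ (k + 1))
  have hf : Function.Injective f :=
    (Equiv.Perm.viaEmbeddingHom_injective e).comp (iteratedWreathToPermHomInj _ (k + 1))
  have hW : IsPGroup p (IteratedWreathProduct (Multiplicative (ZMod p)) (k + 1)) := by
    refine IsPGroup.of_card (n := ∑ i ∈ Finset.range (k + 1), p ^ i) ?_
    rw [IteratedWreathProduct.card, show Nat.card (Multiplicative (ZMod p)) = p from Nat.card_zmod p]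
  obtain ⟨P', hP'⟩ := (IsPGroup.of_equiv hW (MonoidHom.ofInjective hf)).exists_le_sylow
  let g : IteratedWreathProduct (Multiplicative (ZMod p)) (k + 1) →* ↥(P : Subgroup (Equiv.Perm (Fin n))) :=
    (P'.equiv P).toMonoidHom.comp (f.codRestrict _ fun x => hP' ⟨x, rfl⟩)
  have hg : Function.Injective g := (P'.equiv P).injective.comp fun a b h => hf (congrArg Subtype.val h)
  intro h
  refine derivedSeries_iterated_ne_bot _ hc k (eq_bot_iff.2 fun x hx => mem_bot.2 ?_)
  have hx' := map_derivedSeries_le_derivedSeries g k ⟨x, hx, rfl⟩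
  rw [h, mem_bot] at hx'
  exact hg (hx'.trans (map_one g).symm)

end CfsgLib.Perm.DerivedLength
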