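import Cfsg.Agent.Lib.Perm.InducedLift

/-!
Lifts of double transpositions in multiply transitive groups.
-/

set_option autoImplicit false
set_option linter.unusedSectionVars false

namespace CfsgLib.Perm.Induced

open Equiv Finset

variable {α : Type*} [Fintype α] [DecidableEq α] {G : Subgroup (Perm α)}

theorem exists_agree_fun {k : ℕ} (hG : MulAction.IsMultiplyPretransitive G α k)
    (hkn : k ≤ Fintype.card α) {s : Finset α} (hs : s.card ≤ k) (f : α → α)
    (hf : Set.InjOn f s) : ∃ g ∈ G, ∀ x ∈ s, g x = f x := by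
  have : MulAction.IsMultiplyPretransitive G α s.card :=
    MulAction.isMultiplyPretransitive_of_le (n := k) hs (by rwa [Nat.card_eq_fintype_card])
  rw [MulAction.isMultiplyPretransitive_iff] at this
  let e : Fin s.card ↪ α := s.equivFin.symm.toEmbedding.trans (Function.Embedding.subtype _)
  let e' : Fin s.card ↪ α := ⟨fun i => f (e i), fun i j h =>
    e.injective (hf (s.equivFin.symm i).2 (s.equivFin.symm j).2 h)⟩
  obtain ⟨g, hg⟩ := this e e'
  refine ⟨g, g.2, fun x hx => ?_⟩
  have h := congrArg (fun f : Fin s.card ↪ α => f (s.equivFin ⟨x, hx⟩)) hg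
  simpa [e, e', Function.Embedding.smul_apply, Subgroup.smul_def] using h

/-- Distinctness of four points of `S`. -/
def Four (S : Finset α) (a b c e : α) : Prop :=
  a ∈ S ∧ b ∈ S ∧ c ∈ S ∧ e ∈ S ∧ a ≠ b ∧ a ≠ c ∧ a ≠ e ∧ b ≠ c ∧ b ≠ e ∧ c ≠ e

/-- An involution of `G` inducing `(a b)(c e)` on `S`. -/
def IsDouble (G : Subgroup (Perm α)) (S : Finset α) (a b c e : α) (w : Perm α) : Prop :=
  w ∈ G ∧ w * w = 1 ∧ ∀ i ∈ S, w i = Equiv.swap a b (Equiv.swap c e i)

theorem double_apply_mem {S : Finset α} {a b c e i : α} (h : Four S a b c e) (hi : i ∈ S) :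
    Equiv.swap a b (Equiv.swap c e i) ∈ S := by
  obtain ⟨ha, hb, hc, he, -⟩ := h
  rw [Equiv.swap_apply_def, Equiv.swap_apply_def]
  split_ifs <;> assumption

theorem double_apply_twice {S : Finset α} {a b c e : α} (h : Four S a b c e) (i : α) :
    Equiv.swap a b (Equiv.swap c e (Equiv.swap a b (Equiv.swap c e i))) = i := by
  obtain ⟨-, -, -, -, h1, h2, h3, h4, h5, h6⟩ := h
  have hd : Perm.Disjoint (Equiv.swap a b) (Equiv.swap c e) := by
    intro x
    rcases eq_or_ne x a with rfl | hxa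
    · right; exact Equiv.swap_apply_of_ne_of_ne h2 h3
    rcases eq_or_ne x b with rfl | hxb
    · right; exact Equiv.swap_apply_of_ne_of_ne h4 h5
    left; exact Equiv.swap_apply_of_ne_of_ne hxa hxb
  have hc := DFunLike.congr_fun hd.commute.eq (Equiv.swap a b (Equiv.swap c e i))
  rw [Perm.mul_apply, Perm.mul_apply, Equiv.swap_apply_self] at hc
  rw [hc, Equiv.swap_apply_self]

theorem isDouble_apply_mem {S : Finset α} {a b c e : α} (h : Four S a b c e) {w : Perm α}
    (hw : IsDouble G S a b c e w) {i : α} (hi : i ∈ S) : w i ∈ S := by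
  rw [hw.2.2 i hi]
  exact double_apply_mem h hi

theorem exists_isDouble {k : ℕ} (hG : MulAction.IsMultiplyPretransitive G α k)
    (hkn : k ≤ Fintype.card α) (hno : NoInv G k) {S : Finset α} (hS : S.card = k) {a b c e : α}
    (h : Four S a b c e) : ∃ w, IsDouble G S a b c e w := by
  obtain ⟨g, hg, hgS⟩ := exists_agree hG hkn (Equiv.swap a b * Equiv.swap c e) hS.le
  simp only [Perm.mul_apply] at hgS
  have hinv : ∀ i ∈ S, g (g i) = i := fun i hi => by
    rw [hgS i hi, hgS _ (double_apply_mem h hi), double_apply_twice h]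
  obtain ⟨m, hm, hmS⟩ := exists_sq_eq_one hno hg hS.ge hinv
  exact ⟨g ^ m, G.pow_mem hg m, hm, fun i hi => by rw [hmS i (hinv i hi), hgS i hi]⟩

theorem fixed_inside_double {k : ℕ} {S : Finset α} (hS : S.card = k) {a b c e : α}
    (h : Four S a b c e) {w : Perm α} (hw : IsDouble G S a b c e w) :
    (S.filter fun i => w i = i).card = k - 4 := by
  obtain ⟨ha, hb, hc, he, h1, h2, h3, h4, h5, h6⟩ := h
  have hset : (S.filter fun i => w i = i) = S \ {a, b, c, e} := by
    ext i
    simp only [mem_filter, mem_sdiff, mem_insert, mem_singleton, not_or]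
    refine ⟨fun ⟨hi, hwi⟩ => ⟨hi, ?_, ?_, ?_, ?_⟩, fun ⟨hi, hia, hib, hic, hie⟩ => ⟨hi, ?_⟩⟩
    iterate 4
      rintro rfl
      rw [hw.2.2 i hi] at hwi
      simp_all [Equiv.swap_apply_of_ne_of_ne, Ne.symm]
    rw [hw.2.2 i hi, Equiv.swap_apply_of_ne_of_ne hic hie, Equiv.swap_apply_of_ne_of_ne hia hib]
  rw [hset, card_sdiff_of_subset (by simp [insert_subset_iff, ha, hb, hc, he]), hS]
  rw [card_insert_of_notMem (by simp [h1, h2, h3]), card_insert_of_notMem (by simp [h4, h5]),
    card_insert_of_notMem (by simp [h6]), card_singleton]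

/-- Fixed points outside of `S`. -/
def outFix (w : Perm α) (S : Finset α) : Finset α := univ.filter fun i => w i = i ∧ i ∉ S

theorem mem_outFix {w : Perm α} {S : Finset α} {i : α} : i ∈ outFix w S ↔ w i = i ∧ i ∉ S := by
  simp [outFix]

theorem fixCard_eq_outFix {k : ℕ} {S : Finset α} (hS : S.card = k) {a b c e : α}
    (h : Four S a b c e) {w : Perm α} (hw : IsDouble G S a b c e w) :
    fixCard w = k - 4 + (outFix w S).card := by
  rw [fixCard, ← fixed_inside_double hS h hw, ← card_union_of_disjoint]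
  · congr 1
    ext i
    simp only [mem_filter, mem_union, mem_univ, true_and, mem_outFix]
    tauto
  · rw [disjoint_left]
    intro i hi hi'
    exact (mem_outFix.1 hi').2 (mem_filter.1 hi).1

/-- Every lift of a double transposition has as many fixed points as any involution with two
cycles and enough fixed points. -/
theorem fixCard_double {k : ℕ} (hG : MulAction.IsMultiplyPretransitive G α k)
    (hkn : k ≤ Fintype.card α) (hno : NoInv G k) {S : Finset α} (hS : S.card = k)
    {a b c e : α} (h : Four S a b c e) {w : Perm α} (hw : IsDouble G S a b c e w)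
    {u : Perm α} (hu : u ∈ G) (hu2 : u * u = 1) (hfix : k - 4 ≤ fixCard u)
    (hmov : fixCard u + 4 ≤ Fintype.card α) : fixCard w = fixCard u := by
  have hk4 : 4 ≤ k := by
    obtain ⟨ha, hb, hc, he, h1, h2, h3, h4, h5, h6⟩ := h
    have : ({a, b, c, e} : Finset α).card ≤ S.card :=
      card_le_card (by simp [insert_subset_iff, ha, hb, hc, he])
    rw [card_insert_of_notMem (by simp [h1, h2, h3]), card_insert_of_notMem (by simp [h4, h5]),
      card_insert_of_notMem (by simp [h6]), card_singleton, hS] at this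
    exact this
  have hmoved : 4 ≤ (univ.filter fun i => ¬ u i = i).card := by
    have := card_filter_add_card_filter_not (s := (univ : Finset α)) (fun i => u i = i)
    rw [card_univ] at this
    unfold fixCard at hmov
    omega
  obtain ⟨p, hp⟩ : (univ.filter fun i => ¬ u i = i).Nonempty := card_pos.1 (by omega)
  obtain ⟨q, hq, hq'⟩ := exists_mem_notMem_of_card_lt_card (s := ({p, u p} : Finset α))
    (t := univ.filter fun i => ¬ u i = i) (lt_of_le_of_lt card_le_two (by omega))
  simp only [mem_filter, mem_univ, true_and] at hp hq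
  simp only [mem_insert, mem_singleton, not_or] at hq'
  obtain ⟨I, hI, hIc⟩ := exists_subset_card_eq (s := univ.filter fun i => u i = i) (n := k - 4) hfix
  obtain ⟨ha, hb, hc, he, h1, h2, h3, h4, h5, h6⟩ := h
  have hR : (S \ {a, b, c, e}).card = I.card := by
    rw [hIc, card_sdiff_of_subset (by simp [insert_subset_iff, ha, hb, hc, he]), hS,
      card_insert_of_notMem (by simp [h1, h2, h3]), card_insert_of_notMem (by simp [h4, h5]),
      card_insert_of_notMem (by simp [h6]), card_singleton]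
  let φ := Finset.equivOfCardEq hR
  let f : α → α := fun i => if hi : i ∈ S \ {a, b, c, e} then (φ ⟨i, hi⟩ : α) else
    if i = a then p else if i = b then u p else if i = c then q else u q
  have hfa : f a = p := by simp [f]
  have hfb : f b = u p := by simp [f, h1.symm]
  have hfc : f c = q := by simp [f, h2.symm, h4.symm]
  have hfe : f e = u q := by simp [f, h3.symm, h5.symm, h6.symm]
  have hIfix : ∀ x ∈ I, u x = x := fun x hx => (mem_filter.1 (hI hx)).2
  have hfR : ∀ i, i ∈ S → i ≠ a → i ≠ b → i ≠ c → i ≠ e → f i ∈ I := by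
    intro i hi ia ib ic ie
    have hmem : i ∈ S \ {a, b, c, e} := by simp [hi, ia, ib, ic, ie]
    simp only [f, dif_pos hmem]
    exact (φ _).2
  have huu := apply_apply_of_sq hu2
  have hqp : u q ≠ p := fun e' => hq'.2 (by rw [← e', huu])
  have hupq : u p ≠ u q := fun e' => hq'.1 (u.injective e').symm
  have hnI : ∀ x ∈ I, x ≠ p ∧ x ≠ u p ∧ x ≠ q ∧ x ≠ u q := by
    intro x hx
    have := hIfix x hx
    refine ⟨?_, ?_, ?_, ?_⟩ <;> rintro rfl
    · exact hp this
    · rw [huu] at this; exact hp this.symm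
    · exact hq this
    · rw [huu] at this; exact hq this.symm
  have hinj : Set.InjOn f S := by
    intro x hx y hy hxy
    have cases : ∀ i ∈ S, (i = a ∨ i = b ∨ i = c ∨ i = e) ∨
        (i ≠ a ∧ i ≠ b ∧ i ≠ c ∧ i ≠ e) := fun i _ => by tauto
    rcases cases x hx with hx' | hx' <;> rcases cases y hy with hy' | hy'
    · rcases hx' with rfl | rfl | rfl | rfl <;> rcases hy' with rfl | rfl | rfl | rfl <;>
        simp only [hfa, hfb, hfc, hfe] at hxy <;>
        first
          | rfl
          | exact absurd hxy hupq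
          | exact absurd hxy.symm hupq
          | exact absurd hxy hqp.symm
          | exact absurd hxy hqp
          | exact absurd hxy.symm hp
          | exact absurd hxy hp
          | exact absurd hxy.symm hq
          | exact absurd hxy hq
          | exact absurd hxy hq'.1
          | exact absurd hxy.symm hq'.1
          | exact absurd hxy hq'.2
          | exact absurd hxy.symm hq'.2
    · have := hnI _ (hfR y hy hy'.1 hy'.2.1 hy'.2.2.1 hy'.2.2.2)
      rw [← hxy] at this
      rcases hx' with rfl | rfl | rfl | rfl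
      exacts [absurd hfa this.1, absurd hfb this.2.1, absurd hfc this.2.2.1, absurd hfe this.2.2.2]
    · have := hnI _ (hfR x hx hx'.1 hx'.2.1 hx'.2.2.1 hx'.2.2.2)
      rw [hxy] at this
      rcases hy' with rfl | rfl | rfl | rfl
      exacts [absurd hfa this.1, absurd hfb this.2.1, absurd hfc this.2.2.1, absurd hfe this.2.2.2]
    · have hxm : x ∈ S \ {a, b, c, e} := mem_sdiff.2 ⟨hx, by simp [hx'.1, hx'.2.1, hx'.2.2.1, hx'.2.2.2]⟩
      have hym : y ∈ S \ {a, b, c, e} := mem_sdiff.2 ⟨hy, by simp [hy'.1, hy'.2.1, hy'.2.2.1, hy'.2.2.2]⟩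
      simp only [f, dif_pos hxm, dif_pos hym] at hxy
      exact congrArg Subtype.val (φ.injective (Subtype.ext hxy))
  obtain ⟨g, hg, hgS⟩ := exists_agree_fun hG hkn hS.le f hinj
  obtain ⟨f', -, -, hf'⟩ := exists_conj_fix hno (G.mul_mem (G.mul_mem (G.inv_mem hg) hu) hg) hw.1
    (by
      calc g⁻¹ * u * g * (g⁻¹ * u * g) = g⁻¹ * (u * u) * g := by group
        _ = 1 := by rw [hu2]; group)
    hw.2.1 hS.ge (fun i hi => by
      rw [Perm.mul_apply, Perm.mul_apply, hgS i hi, Perm.inv_eq_iff_eq, hgS _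
        (isDouble_apply_mem ⟨ha, hb, hc, he, h1, h2, h3, h4, h5, h6⟩ hw hi), hw.2.2 i hi]
      rcases eq_or_ne i a with rfl | ia
      · rw [Equiv.swap_apply_of_ne_of_ne h2 h3, Equiv.swap_apply_left, hfa, hfb]
      rcases eq_or_ne i b with rfl | ib
      · rw [Equiv.swap_apply_of_ne_of_ne h4 h5, Equiv.swap_apply_right, hfa, hfb, huu]
      rcases eq_or_ne i c with rfl | ic
      · rw [Equiv.swap_apply_left, Equiv.swap_apply_of_ne_of_ne h3.symm h5.symm, hfc, hfe]
      rcases eq_or_ne i e with rfl | ie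
      · rw [Equiv.swap_apply_right, Equiv.swap_apply_of_ne_of_ne h2.symm h4.symm, hfc, hfe, huu]
      rw [Equiv.swap_apply_of_ne_of_ne ic ie, Equiv.swap_apply_of_ne_of_ne ia ib,
        hIfix _ (hfR i hi ia ib ic ie)])
  rw [← hf', fixCard_conj]
  rw [show g⁻¹ * u * g = g⁻¹ * u * g⁻¹⁻¹ by rw [inv_inv], fixCard_conj]

/-- An element of odd order preserving a set of two points fixes both. -/
theorem apply_eq_of_odd {f : Perm α} (hodd : Odd (orderOf f)) {z z' : α}
    (hz : f z = z ∨ f z = z') (hz' : f z' = z ∨ f z' = z') : f z = z := by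
  obtain ⟨j, hj⟩ := hodd
  rcases hz with h | h
  · exact h
  rcases hz' with h' | h'
  · have h2 : (f * f) z = z := by rw [Perm.mul_apply, h, h']
    have h3 : f = (f * f) ^ (j + 1) := by
      rw [← sq, ← pow_mul, show 2 * (j + 1) = orderOf f + 1 by omega, pow_succ, pow_orderOf_eq_one,
        one_mul]
    rw [h3]
    exact Perm.pow_apply_eq_self_of_apply_eq_self h2 _
  · have := f.injective (h'.trans h.symm)
    rw [this] at h'
    exact h'

/-- An involution normalizing the pointwise stabilizer of `S` and centralizing only `1` in it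
inverts it. -/
theorem inverts_of_centralizer {S : Finset α} {w : Perm α} (hw : w ∈ G) (hw2 : w * w = 1)
    (hwS : ∀ i ∈ S, w i ∈ S)
    (hc : ∀ f ∈ G, (∀ i ∈ S, f i = i) → w * f = f * w → f = 1) {x : Perm α} (hx : x ∈ G)
    (hxS : ∀ i ∈ S, x i = i) : w * x * w = x⁻¹ := by
  classical
  let F : Finset (Perm α) := univ.filter fun f => f ∈ G ∧ ∀ i ∈ S, f i = i
  have hwi : w⁻¹ = w := inv_eq_of_mul_eq_one_right hw2
  have hmem : ∀ f ∈ F, f⁻¹ * (w * f * w) ∈ F := by
    intro f hf
    obtain ⟨-, hfG, hfS⟩ := mem_filter.1 hf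
    refine mem_filter.2 ⟨mem_univ _, G.mul_mem (G.inv_mem hfG) (G.mul_mem (G.mul_mem hw hfG) hw),
      fun i hi => ?_⟩
    simp only [Perm.mul_apply]
    rw [hfS _ (hwS i hi), apply_apply_of_sq hw2]
    exact Perm.inv_eq_iff_eq.2 (hfS i hi).symm
  have hinj : Set.InjOn (fun f => f⁻¹ * (w * f * w)) F := by
    intro f hf g hg e
    obtain ⟨-, hfG, hfS⟩ := mem_filter.1 hf
    obtain ⟨-, hgG, hgS⟩ := mem_filter.1 hg
    beta_reduce at e
    have h1 : w * (g * f⁻¹) * w = g * f⁻¹ := by
      calc w * (g * f⁻¹) * w = g * (g⁻¹ * (w * g * w)) * (w⁻¹ * f⁻¹ * w⁻¹⁻¹) := by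
            rw [hwi]
            calc w * (g * f⁻¹) * w = w * g * (w * w) * f⁻¹ * w := by rw [hw2]; group
              _ = _ := by rw [hwi]; group
        _ = g * (f⁻¹ * (w * f * w)) * (w * f⁻¹ * w) := by rw [e, hwi, hwi]
        _ = g * f⁻¹ * (w * f * (w * w) * f⁻¹ * w) := by group
        _ = g * f⁻¹ := by rw [hw2, mul_one, mul_inv_cancel_right, hw2, mul_one]
    have h2 : w * (g * f⁻¹) = g * f⁻¹ * w := by
      calc w * (g * f⁻¹) = w * (g * f⁻¹) * (w * w) := by rw [hw2, mul_one]
        _ = _ := by rw [← mul_assoc, h1]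
    have h3 := hc _ (G.mul_mem hgG (G.inv_mem hfG)) (fun i hi => by
      rw [Perm.mul_apply, show f⁻¹ i = i from Perm.inv_eq_iff_eq.2 (hfS i hi).symm, hgS i hi]) h2
    rw [mul_inv_eq_one] at h3
    exact h3.symm
  obtain ⟨f, -, hf⟩ := surjOn_of_injOn_of_card_le _ (fun f hf => hmem f hf) hinj le_rfl
    (mem_filter.2 ⟨mem_univ _, hx, hxS⟩ : x ∈ F)
  beta_reduce at hf
  rw [← hf]
  calc w * (f⁻¹ * (w * f * w)) * w = w * f⁻¹ * w * f * (w * w) := by group
    _ = w * f⁻¹ * w * f := by rw [hw2, mul_one]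
    _ = (f⁻¹ * (w * f * w))⁻¹ := by simp only [mul_inv_rev, inv_inv, hwi, mul_assoc]

/-- When `n - k` is even and only `1` fixes more than `k` points, the group is sharply
`k`-transitive. -/
theorem triv_of_even {k : ℕ} (hk : 4 ≤ k) (hG : MulAction.IsMultiplyPretransitive G α k)
    (hn : k + 3 ≤ Fintype.card α) (heven : k % 2 = Fintype.card α % 2) (hno : NoInv G k)
    (htriv : Triv G (k + 1)) : Triv G k := by
  intro x hxG hxk
  obtain ⟨S, hSsub, hS⟩ := exists_subset_card_eq (s := univ.filter fun i => x i = i) (n := k) hxk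
  have hxS : ∀ i ∈ S, x i = i := fun i hi => (mem_filter.1 (hSsub hi)).2
  have hkn : k ≤ Fintype.card α := by omega
  obtain ⟨a, ha⟩ : S.Nonempty := card_pos.1 (by omega)
  obtain ⟨b, hb⟩ : (S.erase a).Nonempty := card_pos.1 (by rw [card_erase_of_mem ha]; omega)
  obtain ⟨c, hc⟩ : ((S.erase a).erase b).Nonempty :=
    card_pos.1 (by rw [card_erase_of_mem hb, card_erase_of_mem ha]; omega)
  obtain ⟨e, he⟩ : (((S.erase a).erase b).erase c).Nonempty :=
    card_pos.1 (by rw [card_erase_of_mem hc, card_erase_of_mem hb, card_erase_of_mem ha]; omega)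
  simp only [mem_erase] at hb hc he
  obtain ⟨hab, hb⟩ := hb
  obtain ⟨hbc, hac, hc⟩ := hc
  obtain ⟨hce, hbe, hae, he⟩ := he
  have F1 : Four S a b c e := ⟨ha, hb, hc, he, hab.symm, hac.symm, hae.symm, hbc.symm, hbe.symm, hce.symm⟩
  -- every lift of a double transposition inverts
  have hinverts : ∀ a b c e : α, Four S a b c e → ∀ w, IsDouble G S a b c e w →
      w * x * w = x⁻¹ := by
    intro a b c e hF w hw
    obtain ⟨ha, hb, hc, he, h1, -⟩ := id hF
    obtain ⟨u, hu⟩ := exists_isLift hG hkn hno hS ha hb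
    have hfu : fixCard u = k - 2 := by
      have h1' : (((S.erase a).erase b)).card ≤ fixCard u := card_le_fixCard hu.2.2.1
      rw [card_erase_erase hS ha hb h1] at h1'
      have h2 : ¬ k ≤ fixCard u := fun h => isLift_ne h1 hu (hno u hu.1 hu.2.1 h)
      have := fixCard_mod_two hu.2.1
      omega
    have hout : (outFix w S).card = 2 := by
      have := fixCard_double hG hkn hno hS hF hw hu.1 hu.2.1 (by omega) (by omega)
      rw [fixCard_eq_outFix hS hF hw, hfu] at this
      omega
    obtain ⟨z, z', hzz', hset⟩ := card_eq_two.1 hout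
    refine inverts_of_centralizer hw.1 hw.2.1 (fun i hi => isDouble_apply_mem hF hw hi)
      (fun f hf hfS hfw => ?_) hxG hxS
    have hfout : ∀ i, i ∈ outFix w S → f i ∈ outFix w S := fun i hi => by
      obtain ⟨h, h'⟩ := mem_outFix.1 hi
      refine mem_outFix.2 ⟨by rw [← Perm.mul_apply, hfw, Perm.mul_apply, h], fun hm => h' ?_⟩
      have := hfS _ hm
      rwa [f.injective this] at hm
    have hzm : z ∈ outFix w S := by rw [hset]; simp
    have hzm' : z' ∈ outFix w S := by rw [hset]; simp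
    have hfz : f z = z := apply_eq_of_odd (odd_orderOf hno hf hS.ge hfS)
      (by simpa [hset] using hfout z hzm) (by simpa [hset] using hfout z' hzm')
    refine htriv f hf (le_of_eq_of_le ?_ (card_le_fixCard (s := insert z S) ?_))
    · rw [card_insert_of_notMem (mem_outFix.1 hzm).2, hS]
    · intro i hi
      rcases mem_insert.1 hi with rfl | hi
      exacts [hfz, hfS i hi]
  have F2 : Four S a c b e :=
    ⟨ha, hc, hb, he, hac.symm, hab.symm, hae.symm, hbc, hce.symm, hbe.symm⟩
  have F3 : Four S a e b c :=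
    ⟨ha, he, hb, hc, hae.symm, hab.symm, hac.symm, hbe, hce, hbc.symm⟩
  obtain ⟨w₁, hw₁⟩ := exists_isDouble hG hkn hno hS F1
  obtain ⟨w₂, hw₂⟩ := exists_isDouble hG hkn hno hS F2
  have e1 := hinverts a b c e F1 w₁ hw₁
  have e2 := hinverts a c b e F2 w₂ hw₂
  have hgS : ∀ i ∈ S, (w₁ * w₂) i = Equiv.swap a e (Equiv.swap b c i) := by
    intro i hi
    rw [Perm.mul_apply, hw₂.2.2 i hi, hw₁.2.2 _ (double_apply_mem F2 hi)]
    rcases eq_or_ne i a with rfl | ia
    · simp [Equiv.swap_apply_of_ne_of_ne, hab, hab.symm, hac, hac.symm, hae, hae.symm, hbc, hbc.symm, hbe, hbe.symm, hce, hce.symm]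
    rcases eq_or_ne i b with rfl | ib
    · simp [Equiv.swap_apply_of_ne_of_ne, hab, hab.symm, hac, hac.symm, hae, hae.symm, hbc, hbc.symm, hbe, hbe.symm, hce, hce.symm]
    rcases eq_or_ne i c with rfl | ic
    · simp [Equiv.swap_apply_of_ne_of_ne, hab, hab.symm, hac, hac.symm, hae, hae.symm, hbc, hbc.symm, hbe, hbe.symm, hce, hce.symm]
    rcases eq_or_ne i e with rfl | ie
    · simp [Equiv.swap_apply_of_ne_of_ne, hab, hab.symm, hac, hac.symm, hae, hae.symm, hbc, hbc.symm, hbe, hbe.symm, hce, hce.symm]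
    simp [Equiv.swap_apply_of_ne_of_ne, ia, ib, ic, ie]
  have hcomm : Commute (w₁ * w₂) x := by
    show w₁ * w₂ * x = x * (w₁ * w₂)
    have e1' : w₁ * x⁻¹ * w₁ = x := by
      have := congrArg (fun y => y⁻¹) e1
      beta_reduce at this
      rwa [inv_inv, mul_inv_rev, mul_inv_rev, inv_eq_of_mul_eq_one_right hw₁.2.1, ← mul_assoc] at this
    calc w₁ * w₂ * x = w₁ * (w₂ * x * w₂) * w₂ := by
          have : w₂ * w₂ = 1 := hw₂.2.1
          calc w₁ * w₂ * x = w₁ * w₂ * x * (w₂ * w₂) := by rw [this, mul_one]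
            _ = _ := by group
      _ = w₁ * x⁻¹ * w₂ := by rw [e2]
      _ = w₁ * x⁻¹ * w₁ * (w₁ * w₂) := by
          have : w₁ * w₁ = 1 := hw₁.2.1
          calc w₁ * x⁻¹ * w₂ = w₁ * x⁻¹ * (w₁ * w₁) * w₂ := by rw [this, mul_one]
            _ = _ := by group
      _ = x * (w₁ * w₂) := by rw [e1']
  have hgg : ∀ i ∈ S, (w₁ * w₂) ((w₁ * w₂) i) = i := fun i hi => by
    rw [hgS i hi, hgS _ (double_apply_mem F3 hi), double_apply_twice F3]
  obtain ⟨m, hm, hmS⟩ := exists_sq_eq_one hno (G.mul_mem hw₁.1 hw₂.1) hS.ge hgg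
  have e3 := hinverts a e b c F3 ((w₁ * w₂) ^ m)
    ⟨G.pow_mem (G.mul_mem hw₁.1 hw₂.1) m, hm, fun i hi => by rw [hmS i (hgg i hi), hgS i hi]⟩
  rw [(hcomm.pow_left m).eq, mul_assoc, hm, mul_one] at e3
  have hx2 : x ^ 2 = 1 := by rw [sq]; nth_rw 1 [e3]; exact inv_mul_cancel x
  obtain ⟨j, hj⟩ := odd_orderOf hno hxG hS.ge hxS
  have := orderOf_dvd_of_pow_eq_one hx2
  have h2 := Nat.le_of_dvd (by norm_num) this
  exact orderOf_eq_one_iff.1 (by omega)

end CfsgLib.Perm.Induced
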