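import Cfsg.Agent.Lib.Perm.MillerSetup
import Cfsg.Agent.S0713
import Cfsg.Agent.S0415

/-!
Tools for Miller's theorem: elements of prime order with small support, and the scalar action of the
normaliser of an abelian group of exponent `p` with at most three orbits.
-/

set_option autoImplicit false

namespace CfsgLib.Perm.Miller

open Subgroup MulAction
open scoped commutatorElement

universe u

variable {α : Type u} [Fintype α] [DecidableEq α]

omit [DecidableEq α] in
theorem exists_map (G : Subgroup (Equiv.Perm α)) {m : ℕ} (hG : IsMultiplyPretransitive G α m)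
    (hm : m ≤ Fintype.card α) {ι : Type u} [Fintype ι] (hι : Fintype.card ι ≤ m) (x y : ι ↪ α) :
    ∃ g ∈ G, ∀ i, g (x i) = y i := by
  have h1 : IsMultiplyPretransitive G α (Fintype.card ι) :=
    isMultiplyPretransitive_of_le (n := m) hι (by rwa [Nat.card_eq_fintype_card])
  obtain ⟨g, hg⟩ := (isMultiplyPretransitive_iff.1 h1)
    ((Fintype.equivFin ι).symm.toEmbedding.trans x) ((Fintype.equivFin ι).symm.toEmbedding.trans y)
  refine ⟨g, g.2, fun i => ?_⟩
  have h2 := DFunLike.congr_fun hg (Fintype.equivFin ι i)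
  simp only [Function.Embedding.smul_apply, Function.Embedding.trans_apply, Equiv.coe_toEmbedding,
    Equiv.symm_apply_apply] at h2
  exact h2

/-- Four distinct points as an embedding. -/
def emb4 (a b c d : α) (h1 : a ≠ b) (h2 : a ≠ c) (h3 : a ≠ d) (h4 : b ≠ c) (h5 : b ≠ d) (h6 : c ≠ d) :
    ULift.{u} (Fin 4) ↪ α :=
  ⟨fun i => ![a, b, c, d] i.down, by
    rintro ⟨i⟩ ⟨j⟩ hij
    fin_cases i <;> fin_cases j <;>
      first
        | rfl
        | simp [h1, h2, h3, h4, h5, h6, h1.symm, h2.symm, h3.symm, h4.symm, h5.symm, h6.symm] at hij⟩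

/-- In a four-transitive group a double transposition gives a three-cycle. -/
theorem threeCycle_of_double (G : Subgroup (Equiv.Perm α)) (hG : IsMultiplyPretransitive G α 4)
    (hn : 5 ≤ Fintype.card α) {g : Equiv.Perm α} (hg : g ∈ G) (hg2 : g * g = 1)
    (hs : g.support.card = 4) : ∃ c ∈ G, c.IsThreeCycle := by
  have hinv : ∀ x, g (g x) = x := fun x => by rw [← Equiv.Perm.mul_apply, hg2, Equiv.Perm.one_apply]
  obtain ⟨a, ha⟩ := Finset.card_pos.1 (show 0 < g.support.card by omega)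
  obtain ⟨b, hb⟩ : ∃ b, b = g a := ⟨_, rfl⟩
  have hab : a ≠ b := fun e => Equiv.Perm.mem_support.1 ha (hb ▸ e.symm)
  have hbs : b ∈ g.support := hb ▸ Equiv.Perm.apply_mem_support.2 ha
  obtain ⟨c, hc, hca⟩ : ∃ c ∈ g.support, c ∉ ({a, b} : Finset α) :=
    Finset.exists_mem_notMem_of_card_lt_card (by rw [hs, Finset.card_pair hab]; omega)
  rw [Finset.mem_insert, Finset.mem_singleton, not_or] at hca
  obtain ⟨hca, hcb⟩ := hca
  obtain ⟨d, hd⟩ : ∃ d, d = g c := ⟨_, rfl⟩
  have hcd : c ≠ d := fun e => Equiv.Perm.mem_support.1 hc (hd ▸ e.symm)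
  have hda : d ≠ a := fun e => hcb (by rw [← hinv c, ← hd, e, hb])
  have hdb : d ≠ b := fun e => hca (g.injective (by rw [← hd, e, hb]))
  have hds : d ∈ g.support := hd ▸ Equiv.Perm.apply_mem_support.2 hc
  have hsup : g.support = {a, b, c, d} := by
    refine (Finset.eq_of_subset_of_card_le ?_ ?_).symm
    · intro x hx
      simp only [Finset.mem_insert, Finset.mem_singleton] at hx
      rcases hx with rfl | rfl | rfl | rfl
      exacts [ha, hbs, hc, hds]
    · rw [hs, Finset.card_insert_of_notMem (by simp [hab, (Ne.symm hca), hda.symm]),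
        Finset.card_insert_of_notMem (by simp [(Ne.symm hcb), hdb.symm]), Finset.card_pair hcd]
  have hform : g = Equiv.swap a b * Equiv.swap c d := by
    refine Equiv.ext fun x => ?_
    by_cases hx : x ∈ g.support
    · rw [hsup] at hx
      simp only [Finset.mem_insert, Finset.mem_singleton] at hx
      rcases hx with rfl | rfl | rfl | rfl
      · rw [Equiv.Perm.mul_apply, Equiv.swap_apply_of_ne_of_ne (Ne.symm hca) hda.symm, Equiv.swap_apply_left, hb]
      · rw [Equiv.Perm.mul_apply, Equiv.swap_apply_of_ne_of_ne (Ne.symm hcb) hdb.symm, Equiv.swap_apply_right, hb,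
          hinv]
      · rw [Equiv.Perm.mul_apply, Equiv.swap_apply_left, Equiv.swap_apply_of_ne_of_ne hda hdb, hd]
      · rw [Equiv.Perm.mul_apply, Equiv.swap_apply_right, Equiv.swap_apply_of_ne_of_ne hca hcb, hd, hinv]
    · have hgx : g x = x := Equiv.Perm.notMem_support.1 hx
      rw [hsup] at hx
      simp only [Finset.mem_insert, Finset.mem_singleton, not_or] at hx
      rw [Equiv.Perm.mul_apply, Equiv.swap_apply_of_ne_of_ne hx.2.2.1 hx.2.2.2,
        Equiv.swap_apply_of_ne_of_ne hx.1 hx.2.1, hgx]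
  obtain ⟨e, -, he⟩ : ∃ e ∈ (Finset.univ : Finset α), e ∉ g.support :=
    Finset.exists_mem_notMem_of_card_lt_card (by rw [hs, Finset.card_univ]; omega)
  rw [hsup] at he
  simp only [Finset.mem_insert, Finset.mem_singleton, not_or] at he
  obtain ⟨hea, heb, hec, hed⟩ := he
  obtain ⟨h, hh, hmap⟩ := exists_map G hG (by omega) (ι := ULift.{u} (Fin 4))
    (by simp) (emb4 a b c d hab (Ne.symm hca) hda.symm (Ne.symm hcb) hdb.symm hcd)
    (emb4 a b c e hab (Ne.symm hca) (Ne.symm hea) (Ne.symm hcb) (Ne.symm heb) (Ne.symm hec))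
  have h0 : h a = a := hmap ⟨0⟩
  have h1 : h b = b := hmap ⟨1⟩
  have h2 : h c = c := hmap ⟨2⟩
  have h3 : h d = e := hmap ⟨3⟩
  refine ⟨g * (h * g * h⁻¹), mul_mem hg (mul_mem (mul_mem hh hg) (inv_mem hh)), ?_⟩
  have hconj : h * g * h⁻¹ = Equiv.swap a b * Equiv.swap c e := by
    have e1 : Equiv.swap a b = h * Equiv.swap a b * h⁻¹ := by rw [← Equiv.swap_apply_apply, h0, h1]
    have e2 : Equiv.swap c e = h * Equiv.swap c d * h⁻¹ := by rw [← Equiv.swap_apply_apply, h2, h3]
    rw [hform, e2]; conv_rhs => rw [e1]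
    group
  have hdis : Commute (Equiv.swap a b) (Equiv.swap c d) := by
    refine (Equiv.Perm.Disjoint.commute fun x => ?_)
    by_cases hxa : x = a
    · exact Or.inr (hxa ▸ Equiv.swap_apply_of_ne_of_ne (Ne.symm hca) hda.symm)
    by_cases hxb : x = b
    · exact Or.inr (hxb ▸ Equiv.swap_apply_of_ne_of_ne (Ne.symm hcb) hdb.symm)
    exact Or.inl (Equiv.swap_apply_of_ne_of_ne hxa hxb)
  rw [hconj, hform, hdis.eq, mul_assoc, ← mul_assoc (Equiv.swap a b), Equiv.swap_mul_self, one_mul]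
  exact Equiv.Perm.isThreeCycle_swap_mul_swap_same hcd (Ne.symm hec) (Ne.symm hed)

/-- A four-transitive group with a nontrivial element of prime order moving at most five points
contains the alternating group. -/
theorem alternating_of_small_element (G : Subgroup (Equiv.Perm α)) (hG : IsMultiplyPretransitive G α 4)
    (hn : 8 ≤ Fintype.card α) {q : ℕ} (hq : q.Prime) {g : Equiv.Perm α} (hg : g ∈ G) (hg1 : g ≠ 1)
    (hgq : g ^ q = 1) (hs : g.support.card ≤ 5) : alternatingGroup α ≤ G := by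
  have h2 : IsMultiplyPretransitive G α 2 :=
    isMultiplyPretransitive_of_le (n := 4) (by omega) (by rw [Nat.card_eq_fintype_card]; omega)
  have hp : IsPreprimitive G α := isPreprimitive_of_is_two_pretransitive h2
  haveI : Fact q.Prime := ⟨hq⟩
  have ho : orderOf g = q := orderOf_eq_prime hgq hg1
  obtain ⟨m, hm⟩ := Equiv.Perm.cycleType_prime_order (σ := g) (ho.symm ▸ hq)
  have hsum := g.sum_cycleType
  rw [hm, Multiset.sum_replicate, ho, smul_eq_mul] at hsum
  by_cases hm0 : m = 0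
  · subst hm0
    rw [zero_add, one_mul] at hsum
    exact Cfsg.Agent.S0713.result G hp hq (by omega) (by omega)
      (Equiv.Perm.card_cycleType_eq_one.1 (by rw [hm]; simp)) hsum.symm hg
  · have hq2 := hq.two_le
    have hm1 : m = 1 := by
      have : (m + 1) * 2 ≤ 5 := (Nat.mul_le_mul_left _ hq2).trans (hsum.trans_le hs)
      omega
    subst hm1
    have hq' : q = 2 := by omega
    subst hq'
    obtain ⟨c, hc, hc3⟩ := threeCycle_of_double G hG (by omega) hg (by rw [← sq, hgq]) (by omega)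
    exact Equiv.Perm.alternatingGroup_le_of_isPreprimitive_of_isThreeCycle_mem hp hc3 hc

variable {P : Subgroup (Equiv.Perm α)} {Δ : Finset α} {p : ℕ}

omit [Fintype α] [DecidableEq α] in
theorem apply_eq_of_zpow (h : Setting P Δ p) {v : Equiv.Perm α} (hv : v ∈ P) {d : ℤ}
    (hd : ¬ (p : ℤ) ∣ d) {x : α} (hx : (v ^ d) x = x) : v x = x := by
  obtain ⟨a, b, hab⟩ := (Nat.prime_iff_prime_int.1 h.prime).coprime_iff_not_dvd.2 hd
  have e : v = (v ^ d) ^ b := by
    conv_lhs => rw [← zpow_one v, ← hab, zpow_add, mul_comm a, zpow_mul, zpow_natCast, h.expp v hv,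
      one_zpow, one_mul, mul_comm b, zpow_mul]
  rw [e]
  exact Equiv.Perm.zpow_apply_eq_self_of_apply_eq_self hx b

omit [Fintype α] [DecidableEq α] in
theorem zpow_eq_one_of_dvd (h : Setting P Δ p) {v : Equiv.Perm α} (hv : v ∈ P) {d : ℤ}
    (hd : (p : ℤ) ∣ d) : v ^ d = 1 := by
  obtain ⟨c, rfl⟩ := hd
  rw [zpow_mul, zpow_natCast, h.expp v hv, one_zpow]

omit [DecidableEq α] in
/-- With at most three orbits and no element moving a single orbit, the kernel of the action on
orbits induces power maps. -/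
theorem exists_scalar (h : Setting P Δ p)
    (hno : ∀ v ∈ P, ∀ x, x ∉ Δ → (∀ y, y ∉ orb P x → v y = y) → v = 1)
    (hthree : ∀ x y z w, x ∉ Δ → y ∉ Δ → z ∉ Δ → w ∉ Δ → y ∉ orb P x → z ∉ orb P x → z ∉ orb P y →
      w ∈ orb P x ∨ w ∈ orb P y ∨ w ∈ orb P z)
    {g : Equiv.Perm α} (hg : g ∈ normalizer (P : Set (Equiv.Perm α)))
    (hK : ∀ x, x ∉ Δ → g x ∈ orb P x) : ∃ e : ℤ, ∀ v ∈ P, g * v * g⁻¹ = v ^ e := by
  by_cases hΔ : ∀ x, x ∈ Δ
  · refine ⟨1, fun v hv => ?_⟩
    have : v = 1 := Equiv.ext fun x => h.fixd v hv x (hΔ x)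
    subst this; simp
  push Not at hΔ
  obtain ⟨x, hx⟩ := hΔ
  obtain ⟨e, he⟩ := exists_exponent h hg hx (hK x hx)
  have hconj : ∀ v ∈ P, g * v * g⁻¹ ∈ P := fun v hv => (mem_normalizer_iff.1 hg v).1 hv
  refine ⟨e, fun v hv => Equiv.ext fun y => ?_⟩
  by_cases hy : y ∈ Δ
  · rw [h.fixd _ (hconj v hv) y hy, h.fixd _ (zpow_mem hv e) y hy]
  by_cases hyx : y ∈ orb P x
  · exact he v hv y hyx
  obtain ⟨e', he'⟩ := exists_exponent h hg hy (hK y hy)
  rw [he' v hv y (mem_orb_self y)]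
  by_cases hd : (p : ℤ) ∣ e' - e
  · have h1 := zpow_eq_one_of_dvd h hv hd
    rw [zpow_sub, mul_inv_eq_one] at h1
    rw [h1]
  exfalso
  obtain ⟨z, hzΔ, hcov⟩ : ∃ z, z ∉ Δ ∧ ∀ w, w ∉ Δ → w ∈ orb P x ∨ w ∈ orb P y ∨ w ∈ orb P z := by
    by_cases hz : ∃ z, z ∉ Δ ∧ z ∉ orb P x ∧ z ∉ orb P y
    · obtain ⟨z, hz, hzx, hzy⟩ := hz
      exact ⟨z, hz, fun w hw => hthree x y z w hx hy hz hw hyx hzx hzy⟩
    · push Not at hz
      refine ⟨x, hx, fun w hw => ?_⟩
      by_cases hwx : w ∈ orb P x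
      · exact Or.inl hwx
      · exact Or.inr (Or.inl (hz w hw hwx))
  have hxy : x ∉ orb P y := fun h' => hyx (orb_eq_of_mem h' ▸ mem_orb_self y)
  -- an element fixing the third orbit is trivial
  have hfix : ∀ u ∈ P, u z = z → u = 1 := by
    intro u hu huz
    have huy : u y = y := by
      obtain ⟨φ, hφ⟩ : ∃ φ, φ = g * u * g⁻¹ * (u ^ e)⁻¹ := ⟨_, rfl⟩
      have hφP : φ ∈ P := hφ ▸ mul_mem (hconj u hu) (inv_mem (zpow_mem hu e))
      have hφz : φ z = z := by
        have h1 : (u ^ e)⁻¹ z = z := by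
          rw [← zpow_neg]; exact Equiv.Perm.zpow_apply_eq_self_of_apply_eq_self huz _
        have h2 : u (g⁻¹ z) = g⁻¹ z := fix_orb h hu huz (inv_mem_orb hg (hK z hzΔ) (mem_orb_self z))
        rw [hφ, Equiv.Perm.mul_apply, h1, Equiv.Perm.mul_apply, Equiv.Perm.mul_apply, h2,
          ← Equiv.Perm.mul_apply, mul_inv_cancel, Equiv.Perm.one_apply]
      have hφx : φ x = x := by
        rw [hφ, Equiv.Perm.mul_apply, he u hu _ ⟨_, inv_mem (zpow_mem hu e), rfl⟩,
          ← Equiv.Perm.mul_apply, mul_inv_cancel, Equiv.Perm.one_apply]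
      have hφ1 : φ = 1 := by
        refine hno φ hφP y hy fun w hw => ?_
        by_cases hwΔ : w ∈ Δ
        · exact h.fixd φ hφP w hwΔ
        rcases hcov w hwΔ with h1 | h1 | h1
        · exact fix_orb h hφP hφx h1
        · exact absurd h1 hw
        · exact fix_orb h hφP hφz h1
      rw [hφ, mul_inv_eq_one] at hφ1
      have h1 := he' u hu y (mem_orb_self y)
      rw [hφ1] at h1
      refine apply_eq_of_zpow h hu hd ?_
      rw [sub_eq_neg_add, zpow_add, Equiv.Perm.mul_apply, ← h1, ← Equiv.Perm.mul_apply, ← zpow_add,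
        neg_add_cancel, zpow_zero, Equiv.Perm.one_apply]
    refine hno u hu x hx fun w hw => ?_
    by_cases hwΔ : w ∈ Δ
    · exact h.fixd u hu w hwΔ
    rcases hcov w hwΔ with h1 | h1 | h1
    · exact absurd h1 hw
    · exact fix_orb h hu huy h1
    · exact fix_orb h hu huz h1
  obtain ⟨u, hu, hmz⟩ := h.moved z hzΔ
  have hgen : ∀ w ∈ P, ∃ j : ℤ, w = u ^ j := by
    intro w hw
    obtain ⟨j, hj⟩ := pow_on h hzΔ hu hmz hw
    refine ⟨j, ?_⟩
    have := hfix (u ^ (-j) * w) (mul_mem (zpow_mem hu _) hw) (by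
      rw [Equiv.Perm.mul_apply, hj z (mem_orb_self z), ← Equiv.Perm.mul_apply, ← zpow_add, neg_add_cancel,
        zpow_zero, Equiv.Perm.one_apply])
    rwa [zpow_neg, inv_mul_eq_one, eq_comm] at this
  have hmoves : ∀ w, w ∉ Δ → u w ≠ w := by
    intro w hw huw
    obtain ⟨s, hs, hsw⟩ := h.moved w hw
    obtain ⟨j, rfl⟩ := hgen s hs
    exact hsw (Equiv.Perm.zpow_apply_eq_self_of_apply_eq_self huw j)
  obtain ⟨j, hj⟩ := hgen _ (hconj u hu)
  have key : ∀ (w : α) (f : ℤ), w ∉ Δ → (g * u * g⁻¹) w = (u ^ f) w → (p : ℤ) ∣ j - f := by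
    intro w f hw heq
    by_contra hnd
    refine hmoves w hw (apply_eq_of_zpow h hu hnd ?_)
    rw [sub_eq_neg_add, zpow_add, Equiv.Perm.mul_apply, ← hj, heq, ← Equiv.Perm.mul_apply, ← zpow_add,
      neg_add_cancel, zpow_zero, Equiv.Perm.one_apply]
  refine hd ?_
  have h1 := dvd_sub (key x e hx (he u hu x (mem_orb_self x))) (key y e' hy (he' u hu y (mem_orb_self y)))
  rwa [show j - e - (j - e') = e' - e by ring] at h1

end CfsgLib.Perm.Miller
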