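import Cfsg.Agent.Lib.Perm.HallFourTools
import Cfsg.Agent.Lib.Perm.InducedDouble
import Cfsg.Agent.Lib.Perm.MillerSmall

/-!
Hall's theorem on quadruply transitive groups in which the stabiliser of four points has odd
order: the degree is at most 7 or equal to 11, and then four points have trivial stabiliser.
-/

set_option autoImplicit false
set_option linter.unusedSectionVars false
set_option linter.unusedSimpArgs false

namespace CfsgLib.Perm.HallFour

open Equiv Finset Induced

universe u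

variable {α : Type u} [Fintype α] [DecidableEq α] {G : Subgroup (Perm α)}

/-- The fixed points. -/
abbrev FX (g : Perm α) : Finset α := univ.filter fun i => g i = i

theorem mem_FX {g : Perm α} {i : α} : i ∈ FX g ↔ g i = i := by simp [FX]

theorem FX_conj (g h : Perm α) (i : α) : i ∈ FX (g * h * g⁻¹) ↔ g⁻¹ i ∈ FX h := by
  rw [mem_FX, mem_FX, Perm.mul_apply, Perm.mul_apply, Perm.coe_inv, ← Equiv.eq_symm_apply]

theorem FX_maps {g h : Perm α} (hc : g * h = h * g) {i : α} (hi : i ∈ FX h) : g i ∈ FX h := by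
  rw [mem_FX] at hi ⊢
  rw [← Perm.mul_apply, ← hc, Perm.mul_apply, hi]

/-- The pointwise stabiliser of a set. -/
def fixSub (G : Subgroup (Perm α)) (A : Finset α) : Subgroup (Perm α) where
  carrier := {g | g ∈ G ∧ ∀ i ∈ A, g i = i}
  one_mem' := ⟨G.one_mem, fun _ _ => rfl⟩
  mul_mem' := fun {p q} hp hq => ⟨G.mul_mem hp.1 hq.1, fun i hi => by
    rw [Perm.mul_apply, hq.2 i hi, hp.2 i hi]⟩
  inv_mem' := fun {p} hp => ⟨G.inv_mem hp.1, fun i hi => Perm.inv_eq_iff_eq.2 (hp.2 i hi).symm⟩

theorem mem_fixSub {A : Finset α} {g : Perm α} : g ∈ fixSub G A ↔ g ∈ G ∧ ∀ i ∈ A, g i = i :=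
  Iff.rfl

/-- The setwise stabiliser. -/
def setStab (F : Finset α) : Subgroup (Perm α) where
  carrier := {g | ∀ i, i ∈ F ↔ g i ∈ F}
  one_mem' := fun _ => Iff.rfl
  mul_mem' := fun {p q} hp hq i => (hq i).trans (hp (q i))
  inv_mem' := fun {p} hp i => by
    have := (hp (p⁻¹ i)).symm
    rwa [Perm.coe_inv, Equiv.apply_symm_apply] at this

theorem setStab_of_maps {F : Finset α} {g : Perm α} (h : ∀ i ∈ F, g i ∈ F) : g ∈ setStab F := by
  have himg : F.image g = F := eq_of_subset_of_card_le (image_subset_iff.2 h)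
    (le_of_eq (card_image_of_injective _ g.injective).symm)
  refine fun i => ⟨h i, fun hi => ?_⟩
  rw [← himg] at hi
  obtain ⟨j, hj, e⟩ := mem_image.1 hi
  exact g.injective e ▸ hj

variable (hG : MulAction.IsMultiplyPretransitive G α 4) (hno : NoInv G 4)
variable (hn : 8 ≤ Fintype.card α) {f : ℕ}
variable (hf : (Fintype.card α % 2 = 0 ∧ f = 2) ∨ (Fintype.card α % 2 = 1 ∧ f = 3))
include hG hno hn hf

theorem fix_card {g : Perm α} (hg : g ∈ G) (hg2 : g * g = 1) (hg1 : g ≠ 1)
    (hfix : f ≤ (FX g).card + 1) : (FX g).card = f := by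
  have h1 : ¬ 4 ≤ fixCard g := fun h => hg1 (hno g hg hg2 h)
  have h2 := fixCard_mod_two hg2
  change (FX g).card % 2 = _ at h2
  change ¬ 4 ≤ (FX g).card at h1
  rcases hf with ⟨h3, rfl⟩ | ⟨h3, rfl⟩ <;> omega

theorem stab_odd {S : Finset α} (hS : S.card = 4) {g : Perm α} (hg : g ∈ fixSub G S) :
    Odd (orderOf g) :=
  odd_orderOf hno hg.1 hS.ge hg.2

theorem lift_fix {S : Finset α} (hS : S.card = 4) {x y : α} (hx : x ∈ S) (hy : y ∈ S) (hxy : x ≠ y)
    {u : Perm α} (hu : IsLift G S x y u) : (FX u).card = f := by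
  refine fix_card hG hno hn hf hu.1 hu.2.1 (isLift_ne hxy hu) ?_
  have h1 : ((S.erase x).erase y).card ≤ (FX u).card := card_le_fixCard hu.2.2.1
  rw [card_erase_erase hS hx hy hxy] at h1
  rcases hf with ⟨-, rfl⟩ | ⟨-, rfl⟩ <;> omega

theorem double_fix {S : Finset α} (hS : S.card = 4) {a b c e : α} (hF : Four S a b c e)
    {w : Perm α} (hw : IsDouble G S a b c e w) : (FX w).card = f := by
  obtain ⟨ha, hb, hc, he, hab, -⟩ := id hF
  obtain ⟨u, hu⟩ := exists_isLift hG (by omega) hno hS ha hb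
  have hfu := lift_fix hG hno hn hf hS ha hb hab hu
  have := fixCard_double hG (by omega) hno hS hF hw hu.1 hu.2.1 (by omega) (by
    show (FX u).card + 4 ≤ _
    rw [hfu]; rcases hf with ⟨-, rfl⟩ | ⟨-, rfl⟩ <;> omega)
  exact this.trans hfu

omit hn hf in
theorem double_not_fix {S : Finset α} {a b c e : α} (hF : Four S a b c e)
    {w : Perm α} (hw : IsDouble G S a b c e w) (hS : S.card = 4) {i : α} (hi : i ∈ S) : w i ≠ i := by
  intro h
  have h1 := fixed_inside_double hS hF hw
  have : i ∈ S.filter fun i => w i = i := mem_filter.2 ⟨hi, h⟩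
  rw [card_eq_zero.1 (show _ = 0 from h1)] at this
  exact notMem_empty i this

/-- Two distinct commuting involutions with the same fixed points exist. -/
def HasTwo (G : Subgroup (Perm α)) (f : ℕ) : Prop :=
  ∃ t t' : Perm α, t ∈ G ∧ t' ∈ G ∧ t * t = 1 ∧ t' * t' = 1 ∧ t ≠ 1 ∧ t' ≠ 1 ∧ t ≠ t' ∧
    t * t' = t' * t ∧ FX t = FX t' ∧ (FX t).card = f

omit hG hno hn hf in
theorem two_pow_fix {h : Perm α} (ho : Odd (orderOf h)) {p q : α} (h1 : h p = p ∨ h p = q)
    (h2 : h q = p ∨ h q = q) : h p = p := apply_eq_of_odd ho h1 h2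

/-- A canonical set of fixed points for every four-set. -/
theorem canon (h2 : HasTwo G f) {S : Finset α} (hS : S.card = 4) :
    ∃ F : Finset α, F.card = f ∧ (∀ g ∈ fixSub G S, g ∈ setStab F) ∧
      (∀ a b c e, Four S a b c e → ∀ w, IsDouble G S a b c e w → FX w = F) ∧
      ∀ p, p ∉ S → p ∉ F → Fintype.card α = 4 + f + 4 → ∀ h ∈ fixSub G S,
        (∀ a b c e, Four S a b c e → ∀ w, IsDouble G S a b c e w → w * h = h * w) → h p = p := by
  classical
  obtain ⟨t, t', htG, htG', ht, ht', ht1, ht1', htne, htc, hFX, hFc⟩ := h2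
  obtain ⟨p, hp⟩ : ∃ p, p ∉ FX t := by
    by_contra hall
    push Not at hall
    exact ht1 (Equiv.ext fun i => mem_FX.1 (hall i))
  have hti := apply_apply_of_sq ht
  have hti' := apply_apply_of_sq ht'
  have hcc : ∀ i, t (t' i) = t' (t i) := fun i => by rw [← Perm.mul_apply, htc, Perm.mul_apply]
  have h3 : (FX (t * t')).card = f ∧ FX t ⊆ FX (t * t') := by
    have hsub : FX t ⊆ FX (t * t') := fun i hi => by
      rw [mem_FX, Perm.mul_apply, mem_FX.1 (hFX ▸ hi : i ∈ FX t'), mem_FX.1 hi]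
    refine ⟨fix_card hG hno hn hf (G.mul_mem htG htG') ?_ ?_ ?_, hsub⟩
    · calc t * t' * (t * t') = t * (t' * t) * t' := by group
        _ = t * t * (t' * t') := by rw [← htc]; group
        _ = 1 := by rw [ht, ht', one_mul]
    · intro e
      exact htne (by rw [mul_eq_one_iff_eq_inv.1 e, inv_eq_of_mul_eq_one_right ht'])
    · have := card_le_card hsub; omega
  have hFX3 : FX (t * t') = FX t := (eq_of_subset_of_card_le h3.2 (by omega)).symm
  have n1 : t p ≠ p := fun e => hp (mem_FX.2 e)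
  have n2 : t' p ≠ p := fun e => hp (hFX ▸ mem_FX.2 e)
  have n3 : t (t' p) ≠ p := fun e => hp (hFX3 ▸ mem_FX.2 (by rw [Perm.mul_apply]; exact e))
  have n4 : t p ≠ t' p := fun e => n3 (by rw [← e, hti])
  have n5 : t p ≠ t (t' p) := fun e => n2 (t.injective e).symm
  have n6 : t' p ≠ t (t' p) := fun e => n1 (t'.injective (by rw [← hcc]; exact e.symm))
  obtain ⟨S₀, eS₀⟩ : ∃ S₀ : Finset α, S₀ = {p, t p, t' p, t (t' p)} := ⟨_, rfl⟩
  have hS₀ : S₀.card = 4 := by
    rw [eS₀, card_insert_of_notMem (by simp [Ne.symm n1, Ne.symm n2, Ne.symm n3]),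
      card_insert_of_notMem (by simp [n4, n5]), card_insert_of_notMem (by simp [n6]), card_singleton]
  have hS₀t : ∀ i ∈ S₀, t i ∈ S₀ ∧ t' i ∈ S₀ := by
    rw [eS₀]
    intro i hi
    simp only [mem_insert, mem_singleton] at hi ⊢
    rcases hi with rfl | rfl | rfl | rfl <;> simp [hti, hti', ← hcc]
  have hS₀F : ∀ i ∈ S₀, i ∉ FX t := by
    rw [eS₀]
    intro i hi
    simp only [mem_insert, mem_singleton] at hi
    rw [mem_FX]
    rcases hi with rfl | rfl | rfl | rfl
    · exact n1
    · rw [hti]; exact Ne.symm n1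
    · exact Ne.symm n6
    · rw [hti]; exact n6
  let φ := Finset.equivOfCardEq (hS.trans hS₀.symm)
  obtain ⟨g, hg, hgS⟩ := exists_agree_fun hG (by omega) hS.le
    (fun i => if hi : i ∈ S then (φ ⟨i, hi⟩ : α) else i) (fun x hx y hy e => by
      simp only [dif_pos (mem_coe.1 hx), dif_pos (mem_coe.1 hy)] at e
      exact congrArg Subtype.val (φ.injective (Subtype.ext e)))
  have hgS₀ : ∀ i ∈ S, g i ∈ S₀ := fun i hi => by rw [hgS i hi, dif_pos hi]; exact (φ _).2
  have hback : ∀ i, g i ∈ S₀ → i ∈ S := by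
    intro i hi
    have := φ.symm ⟨g i, hi⟩
    have e : g (φ.symm ⟨g i, hi⟩ : α) = g i := by
      rw [hgS _ (φ.symm ⟨g i, hi⟩).2, dif_pos (φ.symm ⟨g i, hi⟩).2]
      simp
    exact g.injective e ▸ (φ.symm ⟨g i, hi⟩).2
  obtain ⟨s, es⟩ : ∃ s, s = g⁻¹ * t * g := ⟨_, rfl⟩
  obtain ⟨s', es'⟩ : ∃ s', s' = g⁻¹ * t' * g := ⟨_, rfl⟩
  have hs : s * s = 1 := by
    rw [es]
    calc g⁻¹ * t * g * (g⁻¹ * t * g) = g⁻¹ * (t * t) * g := by group
      _ = 1 := by rw [ht, mul_one, inv_mul_cancel]
  have hs' : s' * s' = 1 := by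
    rw [es']
    calc g⁻¹ * t' * g * (g⁻¹ * t' * g) = g⁻¹ * (t' * t') * g := by group
      _ = 1 := by rw [ht', mul_one, inv_mul_cancel]
  have hsc : s * s' = s' * s := by
    rw [es, es']
    calc g⁻¹ * t * g * (g⁻¹ * t' * g) = g⁻¹ * (t * t') * g := by group
      _ = g⁻¹ * (t' * t) * g := by rw [htc]
      _ = _ := by group
  obtain ⟨F, eF⟩ : ∃ F, F = FX s := ⟨_, rfl⟩
  have hsi : ∀ i, g (s i) = t (g i) := fun i => by
    rw [es, Perm.mul_apply, Perm.mul_apply, Perm.coe_inv, Equiv.apply_symm_apply]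
  have hsi' : ∀ i, g (s' i) = t' (g i) := fun i => by
    rw [es', Perm.mul_apply, Perm.mul_apply, Perm.coe_inv, Equiv.apply_symm_apply]
  have hF1 : ∀ i, i ∈ F ↔ g i ∈ FX t := fun i => by
    rw [eF, mem_FX, mem_FX, ← hsi]; exact g.injective.eq_iff.symm
  have hF2 : ∀ i, i ∈ F ↔ s' i = i := fun i => by
    rw [hF1, hFX, mem_FX, ← hsi']; exact g.injective.eq_iff
  have hF3 : ∀ i, i ∈ F ↔ s (s' i) = i := fun i => by
    rw [hF1, ← hFX3, mem_FX, Perm.mul_apply, ← hsi', ← hsi]; exact g.injective.eq_iff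
  have hFcard : F.card = f := by
    refine Eq.trans ?_ hFc
    exact card_equiv g fun i => hF1 i
  have hSs : ∀ i ∈ S, s i ∈ S ∧ s' i ∈ S := fun i hi =>
    ⟨hback _ (by rw [hsi]; exact (hS₀t _ (hgS₀ i hi)).1),
      hback _ (by rw [hsi']; exact (hS₀t _ (hgS₀ i hi)).2)⟩
  have hSF : ∀ i ∈ S, i ∉ F := fun i hi h => hS₀F _ (hgS₀ i hi) ((hF1 i).1 h)
  have hsG : s ∈ G := es ▸ G.mul_mem (G.mul_mem (G.inv_mem hg) htG) hg
  have hsG' : s' ∈ G := es' ▸ G.mul_mem (G.mul_mem (G.inv_mem hg) htG') hg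
  -- the stabiliser preserves `F`
  have hodd : Odd (Nat.card (fixSub G S)) := by
    rw [← Nat.not_even_iff_odd, even_iff_two_dvd]
    intro hd
    obtain ⟨z, hz⟩ := exists_prime_orderOf_dvd_card' 2 hd
    have := stab_odd hG hno hn hf hS z.2
    rw [Subgroup.orderOf_coe, hz] at this
    exact absurd this (by decide)
  have hnorm : ∀ r ∈ G, r * r = 1 → (∀ i ∈ S, r i ∈ S) → ∀ h ∈ fixSub G S,
      r * h * r ∈ fixSub G S := fun r hr hr2 hrS h hh =>
    ⟨G.mul_mem (G.mul_mem hr hh.1) hr, fun i hi => by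
      rw [Perm.mul_apply, Perm.mul_apply, hh.2 _ (hrS i hi), apply_apply_of_sq hr2]⟩
  have hcomm : ∀ r h : Perm α, r * r = 1 → r * h * r = h → h * r = r * h := fun r h hr e => by
    calc h * r = r * h * r * r := by rw [e]
      _ = r * h := by rw [mul_assoc, hr, mul_one]
  have hH : fixSub G S ≤ setStab F := by
    refine le_of_four hodd hs hs' hsc (hnorm s hsG hs fun i hi => (hSs i hi).1)
      (hnorm s' hsG' hs' fun i hi => (hSs i hi).2) ?_ ?_ ?_
    · intro h _ e
      refine setStab_of_maps fun i hi => ?_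
      rw [eF] at hi ⊢
      exact FX_maps (hcomm s h hs e) hi
    · intro h _ e
      refine setStab_of_maps fun i hi => ?_
      rw [hF2] at hi ⊢
      rw [← Perm.mul_apply, ← hcomm s' h hs' e, Perm.mul_apply, hi]
    · intro h _ e
      refine setStab_of_maps fun i hi => ?_
      rw [hF3] at hi ⊢
      have e' : h * (s * s') = s * s' * h := hcomm (s * s') h (by
          calc s * s' * (s * s') = s * (s' * s) * s' := by group
            _ = s * s * (s' * s') := by rw [← hsc]; group
            _ = 1 := by rw [hs, hs', one_mul]) (by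
          calc s * s' * h * (s * s') = s * (s' * h) * (s * s') := by group
            _ = s * (s' * h) * (s' * s) := by rw [hsc]
            _ = s * (s' * h * s') * s := by group
            _ = h := e)
      rw [← Perm.mul_apply s s', ← Perm.mul_apply (s * s') h, ← e', Perm.mul_apply, Perm.mul_apply,
        hi]
  -- every lift of a double transposition is a conjugate
  have hdbl : ∀ a b c e, Four S a b c e → ∀ w, IsDouble G S a b c e w → FX w = F := by
    intro a b c e hFo w hw
    obtain ⟨ha, hb, hc, he, hab, hac, hae, hbc, hbe, hce⟩ := id hFo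
    have hSeq : ∀ i ∈ S, i = a ∨ i = b ∨ i = c ∨ i = e := by
      have : ({a, b, c, e} : Finset α) = S := eq_of_subset_of_card_le
        (by simp [insert_subset_iff, ha, hb, hc, he]) (by
          rw [hS, card_insert_of_notMem (by simp [hab, hac, hae]),
            card_insert_of_notMem (by simp [hbc, hbe]), card_insert_of_notMem (by simp [hce]),
            card_singleton])
      intro i hi
      rw [← this] at hi
      simpa using hi
    have d1 : s a ≠ a := fun e' => hSF a ha (eF ▸ mem_FX.2 e')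
    have d2 : s' a ≠ a := fun e' => hSF a ha ((hF2 a).2 e')
    have d3 : s (s' a) ≠ a := fun e' => hSF a ha ((hF3 a).2 e')
    have d4 : s a ≠ s' a := fun e' => d3 (by rw [← e', apply_apply_of_sq hs])
    have d5 : s a ≠ s (s' a) := fun e' => d2 (s.injective e').symm
    have d6 : s' a ≠ s (s' a) := fun e' => hSF _ (hSs a ha).2 (eF ▸ mem_FX.2 e'.symm)
    obtain ⟨r, hrG, hr2, hrS, hrFX, hra⟩ : ∃ r ∈ G, r * r = 1 ∧ (∀ i ∈ S, r i ∈ S) ∧
        (∀ i, r i = i ↔ i ∈ F) ∧ r a = b := by
      by_contra hno'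
      push Not at hno'
      have hsub : ({s a, s' a, s (s' a)} : Finset α) ⊆ {c, e} := by
        simp only [insert_subset_iff, singleton_subset_iff]
        have inS := fun (i : α) (hi : i ∈ S) (h1 : i ≠ a) (h2 : i ≠ b) =>
          (show i ∈ ({c, e} : Finset α) by
            rcases hSeq i hi with h | h | h | h
            exacts [absurd h h1, absurd h h2, by simp [h], by simp [h]])
        refine ⟨inS _ (hSs a ha).1 d1 (hno' s hsG hs (fun i hi => (hSs i hi).1)
            fun i => by rw [eF, mem_FX]),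
          inS _ (hSs a ha).2 d2 (hno' s' hsG' hs' (fun i hi => (hSs i hi).2)
            fun i => (hF2 i).symm),
          inS _ (hSs _ (hSs a ha).2).1 d3 ?_⟩
        have := hno' (s * s') (G.mul_mem hsG hsG') (by
            calc s * s' * (s * s') = s * (s' * s) * s' := by group
              _ = s * s * (s' * s') := by rw [← hsc]; group
              _ = 1 := by rw [hs, hs', one_mul])
          (fun i hi => by rw [Perm.mul_apply]; exact (hSs _ (hSs i hi).2).1)
          (fun i => by rw [Perm.mul_apply]; exact (hF3 i).symm)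
        rwa [Perm.mul_apply] at this
      have := card_le_card hsub
      rw [card_insert_of_notMem (by simp [d4, d5]), card_insert_of_notMem (by simp [d6]),
        card_singleton, card_pair hce] at this
      omega
    have hrb : r b = a := by rw [← hra, apply_apply_of_sq hr2]
    have hrc : r c = e := by
      rcases hSeq _ (hrS c hc) with h | h | h | h
      · exact absurd (r.injective (h.trans hrb.symm)) hbc.symm
      · exact absurd (r.injective (h.trans hra.symm)) hac.symm
      · exact absurd ((hrFX c).1 h) (hSF c hc)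
      · exact h
    have hre : r e = c := by rw [← hrc, apply_apply_of_sq hr2]
    obtain ⟨k, hk, hkS, hkc⟩ := exists_conj_fix hno hrG hw.1 hr2 hw.2.1 hS.ge (fun i hi => by
      rw [hw.2.2 i hi]
      rcases hSeq i hi with rfl | rfl | rfl | rfl
      · rw [hra, Equiv.swap_apply_of_ne_of_ne hac hae, Equiv.swap_apply_left]
      · rw [hrb, Equiv.swap_apply_of_ne_of_ne hbc hbe, Equiv.swap_apply_right]
      · rw [hrc, Equiv.swap_apply_left, Equiv.swap_apply_of_ne_of_ne hae.symm hbe.symm]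
      · rw [hre, Equiv.swap_apply_right, Equiv.swap_apply_of_ne_of_ne hac.symm hbc.symm])
    ext i
    have hk' : k⁻¹ ∈ setStab F := inv_mem (hH ⟨hk, hkS⟩)
    rw [← hkc, FX_conj, mem_FX, hrFX]
    exact (hk' i).symm
  refine ⟨F, hFcard, hH, hdbl, fun q hqS hqF hcard h hh hhc => ?_⟩
  -- the remaining four points form an orbit
  obtain ⟨a, ha⟩ : S.Nonempty := card_pos.1 (by omega)
  have d1 : s a ≠ a := fun e' => hSF a ha (eF ▸ mem_FX.2 e')
  have d2 : s' a ≠ a := fun e' => hSF a ha ((hF2 a).2 e')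
  have d3 : s (s' a) ≠ a := fun e' => hSF a ha ((hF3 a).2 e')
  have d4 : s a ≠ s' a := fun e' => d3 (by rw [← e', apply_apply_of_sq hs])
  have d5 : s a ≠ s (s' a) := fun e' => d2 (s.injective e').symm
  have d6 : s' a ≠ s (s' a) := fun e' => hSF _ (hSs a ha).2 (eF ▸ mem_FX.2 e'.symm)
  have hSeq : ({a, s a, s' a, s (s' a)} : Finset α) = S := eq_of_subset_of_card_le
    (by simp [insert_subset_iff, ha, (hSs a ha).1, (hSs a ha).2, (hSs _ (hSs a ha).2).1]) (by
      rw [hS, card_insert_of_notMem (by simp [Ne.symm d1, Ne.symm d2, Ne.symm d3]),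
        card_insert_of_notMem (by simp [d4, d5]), card_insert_of_notMem (by simp [d6]),
        card_singleton])
  have hcs : ∀ r : Perm α, r * r = 1 → r a ≠ a → (r = s ∨ r = s') → h * r = r * h := by
    intro r hr2 hra hr
    have hrG : r ∈ G := by rcases hr with rfl | rfl <;> assumption
    have hrS : ∀ i ∈ S, r i ∈ S := by
      rcases hr with rfl | rfl
      exacts [fun i hi => (hSs i hi).1, fun i hi => (hSs i hi).2]
    obtain ⟨c, hc⟩ : (S \ {a, r a}).Nonempty := card_pos.1 (by
      have := le_card_sdiff {a, r a} S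
      have := card_le_two (a := a) (b := r a)
      omega)
    simp only [mem_sdiff, mem_insert, mem_singleton, not_or] at hc
    have hrc : r c ≠ c := fun e' => hSF c hc.1 (by
      rcases hr with rfl | rfl
      exacts [eF ▸ mem_FX.2 e', (hF2 c).2 e'])
    have hrr := apply_apply_of_sq hr2
    have hFo : Four S a (r a) c (r c) := ⟨ha, hrS a ha, hc.1, hrS c hc.1, Ne.symm hra,
      Ne.symm hc.2.1, fun e' => hc.2.2 (by rw [e', hrr]), Ne.symm hc.2.2,
      fun e' => hc.2.1 (r.injective e').symm, Ne.symm hrc⟩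
    refine (hhc a (r a) c (r c) hFo r ⟨hrG, hr2, fun i hi => ?_⟩).symm
    obtain ⟨-, -, -, -, k1, k2, k3, k4, k5, k6⟩ := hFo
    have hall : i = a ∨ i = r a ∨ i = c ∨ i = r c := by
      have hsub : ({a, r a, c, r c} : Finset α) = S := eq_of_subset_of_card_le
        (by simp [insert_subset_iff, ha, hc.1, hrS a ha, hrS c hc.1]) (by
          rw [hS, card_insert_of_notMem (by simp [k1, k2, k3]),
            card_insert_of_notMem (by simp [k4, k5]), card_insert_of_notMem (by simp [k6]),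
            card_singleton])
      rw [← hsub] at hi
      simpa using hi
    rcases hall with rfl | rfl | rfl | rfl
    · rw [Equiv.swap_apply_of_ne_of_ne k2 k3, Equiv.swap_apply_left]
    · rw [Equiv.swap_apply_of_ne_of_ne k4 k5, Equiv.swap_apply_right, hrr]
    · rw [Equiv.swap_apply_left, Equiv.swap_apply_of_ne_of_ne k3.symm k5.symm]
    · rw [Equiv.swap_apply_right, Equiv.swap_apply_of_ne_of_ne k2.symm k4.symm, hrr]
  have c1 := hcs s hs d1 (Or.inl rfl)
  have c2 := hcs s' hs' d2 (Or.inr rfl)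
  have m1 : ∀ i, h (s i) = s (h i) := fun i => by rw [← Perm.mul_apply, c1, Perm.mul_apply]
  have m2 : ∀ i, h (s' i) = s' (h i) := fun i => by rw [← Perm.mul_apply, c2, Perm.mul_apply]
  have q1 : s q ≠ q := fun e' => hqF (eF ▸ mem_FX.2 e')
  have q2 : s' q ≠ q := fun e' => hqF ((hF2 q).2 e')
  have q3 : s (s' q) ≠ q := fun e' => hqF ((hF3 q).2 e')
  have q4 : s q ≠ s' q := fun e' => q3 (by rw [← e', apply_apply_of_sq hs])
  have q5 : s q ≠ s (s' q) := fun e' => q2 (s.injective e').symm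
  have cc : ∀ i, s (s' i) = s' (s i) := fun i => by rw [← Perm.mul_apply, hsc, Perm.mul_apply]
  have q6 : s' q ≠ s (s' q) := fun e' => q1 (s'.injective (by rw [← cc]; exact e'.symm))
  have houtS : ∀ r : Perm α, (∀ i ∈ S, r i ∈ S) → r * r = 1 → ∀ i, i ∉ S → r i ∉ S :=
    fun r hr hr2 i hi hm => hi (by have := hr _ hm; rwa [apply_apply_of_sq hr2] at this)
  have houtF : ∀ r : Perm α, r * r = 1 → (r * s = s * r) → ∀ i, i ∉ F → r i ∉ F :=
    fun r hr2 hrs i hi hm => hi (by
      rw [eF] at hm ⊢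
      have := FX_maps hrs hm
      rwa [apply_apply_of_sq hr2] at this)
  have oS := houtS s (fun i hi => (hSs i hi).1) hs
  have oS' := houtS s' (fun i hi => (hSs i hi).2) hs'
  have oF := houtF s hs rfl
  have oF' := houtF s' hs' hsc.symm
  have hR : univ \ (S ∪ F) = {q, s q, s' q, s (s' q)} := by
    refine (eq_of_subset_of_card_le ?_ ?_).symm
    · simp only [insert_subset_iff, singleton_subset_iff, mem_sdiff, mem_univ, true_and,
        mem_union, not_or]
      exact ⟨⟨hqS, hqF⟩, ⟨oS q hqS, oF q hqF⟩, ⟨oS' q hqS, oF' q hqF⟩,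
        oS _ (oS' q hqS), oF _ (oF' q hqF)⟩
    · rw [card_insert_of_notMem (by simp [Ne.symm q1, Ne.symm q2, Ne.symm q3]),
        card_insert_of_notMem (by simp [q4, q5]), card_insert_of_notMem (by simp [q6]),
        card_singleton, card_sdiff_of_subset (subset_univ _), card_univ,
        card_union_of_disjoint (disjoint_left.2 hSF), hS, hFcard]
      omega
  have hhq : h q ∈ univ \ (S ∪ F) := by
    simp only [mem_sdiff, mem_univ, true_and, mem_union, not_or]
    exact ⟨fun hm => hqS (h.injective (hh.2 _ hm) ▸ hm), fun hm => hqF ((hH hh q).2 hm)⟩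
  rw [hR] at hhq
  simp only [mem_insert, mem_singleton] at hhq
  have ho := stab_odd hG hno hn hf hS hh
  rcases hhq with e' | e' | e' | e'
  · exact e'
  · exact apply_eq_of_odd ho (Or.inr e') (Or.inl (by rw [m1, e', apply_apply_of_sq hs]))
  · exact apply_eq_of_odd ho (Or.inr e') (Or.inl (by rw [m2, e', apply_apply_of_sq hs']))
  · exact apply_eq_of_odd ho (Or.inr e') (Or.inl (by
      rw [m1, m2, e', cc q, apply_apply_of_sq hs', apply_apply_of_sq hs]))

/-- Commuting involutions with enough common fixed points give two with the same fixed points. -/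
theorem two_of_commute {A : Finset α} (hA : A.card + 1 = f) {s t : Perm α}
    (hs : s ∈ fixSub G A) (ht : t ∈ fixSub G A) (hs2 : s * s = 1) (ht2 : t * t = 1) (hs1 : s ≠ 1)
    (ht1 : t ≠ 1) (hne : s ≠ t) (hc : s * t = t * s) : HasTwo G f := by
  have hAs : A ⊆ FX s := fun i hi => mem_FX.2 (hs.2 i hi)
  have hAt : A ⊆ FX t := fun i hi => mem_FX.2 (ht.2 i hi)
  have h1 := card_le_card hAs
  have h2 := card_le_card hAt
  have hfs := fix_card hG hno hn hf hs.1 hs2 hs1 (by omega)
  have hft := fix_card hG hno hn hf ht.1 ht2 ht1 (by omega)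
  refine ⟨s, t, hs.1, ht.1, hs2, ht2, hs1, ht1, hne, hc, ?_, hfs⟩
  obtain ⟨z, hz⟩ := card_eq_one.1 (show (FX s \ A).card = 1 by
    rw [card_sdiff_of_subset hAs]; omega)
  refine eq_of_subset_of_card_le (fun i hi => ?_) (by omega)
  by_cases hiA : i ∈ A
  · exact hAt hiA
  have hmem : ∀ j, j ∈ FX s → j ∉ A → j = z := fun j hj hjA => by
    have : j ∈ FX s \ A := mem_sdiff.2 ⟨hj, hjA⟩
    rwa [hz, mem_singleton] at this
  have h3 : t i ∈ FX s := FX_maps hc.symm hi
  have h4 : t i ∉ A := fun hm => hiA (by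
    have := ht.2 _ hm
    rwa [t.injective this] at hm)
  rw [mem_FX, hmem _ h3 h4, hmem i hi hiA]

theorem unique_in {A : Finset α} (hA : A.card + 1 = f) (h2 : ¬ HasTwo G f) {s t : Perm α}
    (hs : s ∈ fixSub G A) (ht : t ∈ fixSub G A) (hs2 : s * s = 1) (ht2 : t * t = 1) (hs1 : s ≠ 1)
    (ht1 : t ≠ 1) {x : α} (hx : x ∉ A) (hst : s x = t x) : s = t := by
  have hlen : ∀ r ∈ fixSub G A, r * r = 1 → r ≠ 1 → (FX r).card = f ∧ A ⊆ FX r := by
    intro r hr hr2 hr1
    have hAr : A ⊆ FX r := fun i hi => mem_FX.2 (hr.2 i hi)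
    have := card_le_card hAr
    exact ⟨fix_card hG hno hn hf hr.1 hr2 hr1 (by omega), hAr⟩
  refine invol_unique (K := fixSub G A) (F₀ := A) (fun k hk => hk.2) ?_ ?_ ?_ ?_ hs ht hs2 ht2 hs1
    ht1 hx hst
  · intro p q p' q' hp hq hp' hq' hpq hpq'
    have hc4 : (insert p (insert q A)).card ≤ 4 := by
      have := card_insert_le p (insert q A)
      have := card_insert_le q A
      rcases hf with ⟨-, rfl⟩ | ⟨-, rfl⟩ <;> omega
    obtain ⟨k, hk, hkf⟩ := exists_agree_fun hG (by omega) hc4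
      (fun i => if i = p then p' else if i = q then q' else i) (by
        intro i hi j hj hij
        simp only [coe_insert, Set.mem_insert_iff, mem_coe] at hi hj
        beta_reduce at hij
        split_ifs at hij <;> first | (subst_vars; rfl) | (subst_vars; tauto))
    refine ⟨k, ⟨hk, fun i hi => ?_⟩, ?_, ?_⟩
    · rw [hkf i (mem_insert_of_mem (mem_insert_of_mem hi)), if_neg (by rintro rfl; exact hp hi),
        if_neg (by rintro rfl; exact hq hi)]
    · rw [hkf p (mem_insert_self _ _), if_pos rfl]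
    · rw [hkf q (mem_insert_of_mem (mem_insert_self _ _)), if_neg (Ne.symm hpq), if_pos rfl]
  · intro r hr hr2 hr1
    obtain ⟨hc, hsub⟩ := hlen r hr hr2 hr1
    obtain ⟨z, hz⟩ := card_pos.1 (show 0 < (FX r \ A).card by
      rw [card_sdiff_of_subset hsub]; omega)
    exact ⟨z, (mem_sdiff.1 hz).2, mem_FX.1 (mem_sdiff.1 hz).1⟩
  · intro r hr hr2 hr1 i j hi hj hri hrj
    obtain ⟨hc, hsub⟩ := hlen r hr hr2 hr1
    by_contra hij
    have hsub' : insert i (insert j A) ⊆ FX r :=
      insert_subset_iff.2 ⟨mem_FX.2 hri, insert_subset_iff.2 ⟨mem_FX.2 hrj, hsub⟩⟩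
    have := card_le_card hsub'
    rw [card_insert_of_notMem (by simp [hij, hi]), card_insert_of_notMem hj] at this
    omega
  · intro p hp q hq hp2 hq2 hp1 hq1 hpq
    by_contra hne
    exact h2 (two_of_commute hG hno hn hf hA hp hq hp2 hq2 hp1 hq1 hne hpq)

/-- Without two such involutions the degree is odd. -/
theorem odd_of_not_two (h2 : ¬ HasTwo G f) : Fintype.card α % 2 = 1 := by
  by_contra hev
  obtain ⟨-, rfl⟩ | ⟨h, -⟩ := hf
  swap
  · exact hev h
  obtain ⟨T, -, hT⟩ := exists_subset_card_eq (n := 5) (s := (univ : Finset α))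
    (by rw [card_univ]; omega)
  obtain ⟨a, ha⟩ := card_pos.1 (show 0 < T.card by omega)
  obtain ⟨b, hb⟩ := card_pos.1 (show 0 < (T.erase a).card by rw [card_erase_of_mem ha]; omega)
  obtain ⟨c, hc⟩ := card_pos.1 (show 0 < ((T.erase a).erase b).card by
    rw [card_erase_of_mem hb, card_erase_of_mem ha]; omega)
  obtain ⟨e, he, e', he', hee⟩ := one_lt_card.1 (show 1 < (((T.erase a).erase b).erase c).card by
    rw [card_erase_of_mem hc, card_erase_of_mem hb, card_erase_of_mem ha]; omega)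
  simp only [mem_erase] at hb hc he he'
  have mk : ∀ d, d ≠ a → d ≠ b → d ≠ c → ∃ u, u ∈ G ∧ u * u = 1 ∧ u ≠ 1 ∧ u a = a ∧ u b = b ∧
      u c = d := by
    intro d hda hdb hdc
    have hS : ({a, b, c, d} : Finset α).card = 4 := by
      rw [card_insert_of_notMem (by simp [Ne.symm hb.1, Ne.symm hc.2.1, Ne.symm hda]),
        card_insert_of_notMem (by simp [Ne.symm hc.1, Ne.symm hdb]),
        card_insert_of_notMem (by simp [Ne.symm hdc]), card_singleton]
    obtain ⟨u, hu⟩ := exists_isLift hG (by omega) hno hS (x := c) (y := d) (by simp) (by simp)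
    refine ⟨u, hu.1, hu.2.1, isLift_ne (Ne.symm hdc) hu, hu.2.2.1 a ?_, hu.2.2.1 b ?_, hu.2.2.2.1⟩
    · simp [hb.1.symm, hc.2.1.symm, hda.symm]
    · simp [hc.1.symm, hdb.symm]
  obtain ⟨u, hu, hu2, hu1, hua, hub, huc⟩ := mk e he.2.2.1 he.2.1 he.1
  obtain ⟨v, hv, hv2, hv1, hva, hvb, hvc⟩ := mk e' he'.2.2.1 he'.2.1 he'.1
  have := unique_in hG hno hn (Or.inl ⟨by omega, rfl⟩) (A := {a}) (by simp) h2
    (s := u) (t := v) ⟨hu, by simpa using hua⟩ ⟨hv, by simpa using hva⟩ hu2 hv2 hu1 hv1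
    (x := b) (by simpa using hb.1) (hub.trans hvb.symm)
  exact hee (by rw [← huc, this, hvc])

/-- Without two such involutions the stabiliser centralises the lifts of transpositions. -/
theorem commute_lift (h2 : ¬ HasTwo G f) {S : Finset α} (hS : S.card = 4) {x y : α} (hx : x ∈ S)
    (hy : y ∈ S) (hxy : x ≠ y) {u : Perm α} (hu : IsLift G S x y u) {g : Perm α}
    (hg : g ∈ fixSub G S) : g * u = u * g := by
  have hodd := odd_of_not_two hG hno hn hf h2
  obtain ⟨h, -⟩ | ⟨-, rfl⟩ := hf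
  · omega
  have hA : ((S.erase x).erase y).card + 1 = 3 := by rw [card_erase_erase hS hx hy hxy]
  have hgA : ∀ i ∈ (S.erase x).erase y, g i = i := fun i hi =>
    hg.2 i (mem_of_mem_erase (mem_of_mem_erase hi))
  have hgi : ∀ i ∈ S, g⁻¹ i = i := fun i hi => Perm.inv_eq_iff_eq.2 (hg.2 i hi).symm
  have key : g * u * g⁻¹ = u := by
    refine unique_in hG hno hn (Or.inr ⟨hodd, rfl⟩) hA h2 (s := g * u * g⁻¹) (t := u) (x := x)
      ⟨G.mul_mem (G.mul_mem hg.1 hu.1) (G.inv_mem hg.1), fun i hi => ?_⟩ ⟨hu.1, hu.2.2.1⟩ ?_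
      hu.2.1 ?_ (isLift_ne hxy hu) (fun h => (mem_erase.1 (mem_of_mem_erase h)).1 rfl) ?_
    · rw [Perm.mul_apply, Perm.mul_apply, hgi i (mem_of_mem_erase (mem_of_mem_erase hi)),
        hu.2.2.1 i hi, hgA i hi]
    · calc g * u * g⁻¹ * (g * u * g⁻¹) = g * (u * u) * g⁻¹ := by group
        _ = 1 := by rw [hu.2.1, mul_one, mul_inv_cancel]
    · intro e
      refine isLift_ne hxy hu ?_
      calc u = g⁻¹ * (g * u * g⁻¹) * g := by group
        _ = 1 := by rw [e, mul_one, inv_mul_cancel]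
    · rw [Perm.mul_apply, Perm.mul_apply, hgi x hx, hu.2.2.2.1, hg.2 y hy]
  calc g * u = g * u * g⁻¹ * g := by group
    _ = u * g := by rw [key]

/-- An element fixing a lift of a transposition and its fixed points fixes another cycle. -/
theorem cycle_fixed {S : Finset α} (hS : S.card = 4) {a b c e : α} (hF : Four S a b c e)
    {u : Perm α} (hu : IsLift G S a b u) : ∃ t, t ∉ S ∧ u t ≠ t ∧
      ∀ g ∈ G, g * u = u * g → g a = a → g b = b → (∀ i ∈ FX u, g i = i) → g t = t := by
  obtain ⟨ha, hb, hc, he, hab, hac, hae, hbc, hbe, hce⟩ := id hF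
  obtain ⟨v, hv, huv⟩ := exists_commuting_lift hG (by omega) hno hS ha hb hc he hac.symm hbc.symm
    hae.symm hbe.symm hu
  have hw : IsDouble G S a b c e (u * v) := by
    refine ⟨G.mul_mem hu.1 hv.1, ?_, fun i hi => ?_⟩
    · calc u * v * (u * v) = u * (v * u) * v := by group
        _ = u * u * (v * v) := by rw [← huv]; group
        _ = 1 := by rw [hu.2.1, hv.2.1, one_mul]
    · rw [Perm.mul_apply, isLift_apply hu (isLift_apply_mem hv hc he hi), isLift_apply hv hi]
  have hW := double_fix hG hno hn hf hS hF hw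
  have hU := lift_fix hG hno hn hf hS ha hb hab hu
  have hWS : ∀ i ∈ FX (u * v), i ∉ S := fun i hi hiS =>
    double_not_fix hG hno hF hw hS hiS (mem_FX.1 hi)
  have hcU : c ∈ FX u := mem_FX.2 (hu.2.2.1 c (by simp [hc, hac.symm, hbc.symm]))
  have heU : e ∈ FX u := mem_FX.2 (hu.2.2.1 e (by simp [he, hae.symm, hbe.symm]))
  obtain ⟨M, eM⟩ : ∃ M, M = (FX (u * v)).filter fun i => ¬ u i = i := ⟨_, rfl⟩
  have hsplit : ((FX (u * v)).filter fun i => u i = i).card + M.card = f := by
    rw [eM, ← hW]; exact card_filter_add_card_filter_not _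
  have hlow : ((FX (u * v)).filter fun i => u i = i).card + 2 ≤ f := by
    have hsub : (FX (u * v)).filter (fun i => u i = i) ⊆ FX u \ {c, e} := fun i hi => by
      obtain ⟨h1, h2⟩ := mem_filter.1 hi
      exact mem_sdiff.2 ⟨mem_FX.2 h2, fun hm => hWS i h1 (by
        simp only [mem_insert, mem_singleton] at hm; rcases hm with rfl | rfl <;> assumption)⟩
    have := card_le_card hsub
    rw [card_sdiff_of_subset (by simp [insert_subset_iff, hcU, heU]), card_pair hce, hU] at this
    rcases hf with ⟨-, rfl⟩ | ⟨-, rfl⟩ <;> omega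
  have hhigh : M.card ≤ 2 := by
    rcases hf with ⟨-, rfl⟩ | ⟨ho, rfl⟩
    · omega
    obtain ⟨z, hz, huz⟩ := isLift_exists_fix (by norm_num) hS ha hb hab hu (by omega)
    have hvz : v z = z := isLift_fix_unique (by norm_num) hno hS ha hb hab hu (fun hm => hz (by
      have := isLift_apply_mem hv hc he hm
      rwa [apply_apply_of_sq hv.2.1] at this)) hz
      (by rw [← Perm.mul_apply, huv, Perm.mul_apply, huz]) huz
    have hzW : z ∈ (FX (u * v)).filter fun i => u i = i :=
      mem_filter.2 ⟨mem_FX.2 (by rw [Perm.mul_apply, hvz, huz]), huz⟩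
    have := card_pos.2 ⟨z, hzW⟩
    omega
  obtain ⟨t, ht⟩ := card_pos.1 (show 0 < M.card by omega)
  obtain ⟨htW, hut⟩ := mem_filter.1 (eM ▸ ht)
  have hutW : u t ∈ FX (u * v) := FX_maps (by rw [mul_assoc, ← huv]) htW
  have hutM : u t ∈ M := by
    rw [eM]
    exact mem_filter.2 ⟨hutW, fun h => hut (u.injective h)⟩
  have hMeq : ∀ i ∈ M, i = t ∨ i = u t := by
    have : ({t, u t} : Finset α) = M := eq_of_subset_of_card_le
      (by simp [insert_subset_iff, ht, hutM]) (by rw [card_pair (Ne.symm hut)]; exact hhigh)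
    intro i hi
    rw [← this] at hi
    simpa using hi
  refine ⟨t, hWS t htW, hut, fun g hg hgu hga hgb hgF => ?_⟩
  have hgS : g ∈ fixSub G S := by
    refine ⟨hg, fun i hi => ?_⟩
    by_cases hia : i = a
    · rw [hia, hga]
    by_cases hib : i = b
    · rw [hib, hgb]
    exact hgF i (mem_FX.2 (hu.2.2.1 i (mem_erase.2 ⟨hib, mem_erase.2 ⟨hia, hi⟩⟩)))
  have hmaps : ∀ i ∈ FX (u * v), g i ∈ FX (u * v) := by
    intro i hi
    by_cases h2 : HasTwo G f
    · obtain ⟨F, -, hstab, hd, -⟩ := canon hG hno hn hf h2 hS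
      rw [hd a b c e hF _ hw] at hi ⊢
      exact (hstab g hgS i).1 hi
    · have e1 := commute_lift hG hno hn hf h2 hS ha hb hab hu hgS
      have e2 := commute_lift hG hno hn hf h2 hS hc he hce hv hgS
      refine FX_maps ?_ hi
      rw [← mul_assoc, e1, mul_assoc, e2, mul_assoc]
  have hgM : ∀ i ∈ M, g i = t ∨ g i = u t := fun i hi => hMeq _ (by
    rw [eM] at hi ⊢
    obtain ⟨h1, h2⟩ := mem_filter.1 hi
    refine mem_filter.2 ⟨hmaps i h1, fun h => h2 (g.injective ?_)⟩
    rw [← Perm.mul_apply, hgu, Perm.mul_apply, h])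
  exact apply_eq_of_odd (stab_odd hG hno hn hf hS hgS) (hgM t ht) (hgM (u t) hutM)

/-- The centraliser of such a lift fixing its cycle is faithful on the fixed points, whence the
degree bound. -/
theorem degree_dvd {S : Finset α} (hS : S.card = 4) {a b c e : α} (hF : Four S a b c e)
    {u : Perm α} (hu : IsLift G S a b u) :
    (Fintype.card α - 2 - f ∣ f.factorial) ∧
      ∀ g ∈ G, g * u = u * g → g a = a → g b = b → (∀ i ∈ FX u, g i = i) → g = 1 := by
  classical
  obtain ⟨ha, hb, hc, he, hab, -⟩ := id hF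
  obtain ⟨t, htS, hut, hfix⟩ := cycle_fixed hG hno hn hf hS hF hu
  obtain ⟨-, hu2, -, hua, hub⟩ := id hu
  let C : Subgroup (Perm α) :=
    { carrier := {g | g ∈ G ∧ g * u = u * g ∧ g a = a ∧ g b = b}
      one_mem' := ⟨G.one_mem, by simp, rfl, rfl⟩
      mul_mem' := fun {p q} hp hq => ⟨G.mul_mem hp.1 hq.1,
        by rw [mul_assoc, hq.2.1, ← mul_assoc, hp.2.1, mul_assoc],
        by rw [Perm.mul_apply, hq.2.2.1, hp.2.2.1], by rw [Perm.mul_apply, hq.2.2.2, hp.2.2.2]⟩
      inv_mem' := fun {p} hp => ⟨G.inv_mem hp.1, (Commute.inv_left hp.2.1).eq,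
        Perm.inv_eq_iff_eq.2 hp.2.2.1.symm, Perm.inv_eq_iff_eq.2 hp.2.2.2.symm⟩ }
  -- transitivity on the other moved points
  have htr : ∀ p q, u p ≠ p → p ≠ a → p ≠ b → u q ≠ q → q ≠ a → q ≠ b → ∃ g ∈ C, g p = q := by
    intro p q hp hpa hpb hq hqa hqb
    have hup : u p ≠ a ∧ u p ≠ b := ⟨fun h => hpb (u.injective (h.trans hub.symm)),
      fun h => hpa (u.injective (h.trans hua.symm))⟩
    have huq : u q ≠ a ∧ u q ≠ b := ⟨fun h => hqb (u.injective (h.trans hub.symm)),
      fun h => hqa (u.injective (h.trans hua.symm))⟩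
    have hc4 : ({a, b, p, u p} : Finset α).card = 4 := by
      rw [card_insert_of_notMem (by simp [hab, hpa.symm, hup.1.symm]),
        card_insert_of_notMem (by simp [hpb.symm, hup.2.symm]),
        card_insert_of_notMem (by simp [Ne.symm hp]), card_singleton]
    have hc4' : ({a, b, q, u q} : Finset α).card = 4 := by
      rw [card_insert_of_notMem (by simp [hab, hqa.symm, huq.1.symm]),
        card_insert_of_notMem (by simp [hqb.symm, huq.2.symm]),
        card_insert_of_notMem (by simp [Ne.symm hq]), card_singleton]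
    obtain ⟨g, hg, hgf⟩ := exists_agree_fun hG (by omega) hc4.le
      (fun i => if i = p then q else if i = u p then u q else i) (by
        intro i hi j hj hij
        simp only [coe_insert, Set.mem_insert_iff, coe_singleton, Set.mem_singleton_iff] at hi hj
        rcases hi with rfl | rfl | rfl | rfl <;> rcases hj with rfl | rfl | rfl | rfl <;>
          simp [hab, Ne.symm hab, hp, hpa, hpb, Ne.symm hpa, Ne.symm hpb, hup.1, hup.2,
            Ne.symm hup.1, Ne.symm hup.2, hq, Ne.symm hq, hqa, hqb, Ne.symm hqa, Ne.symm hqb,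
            huq.1, huq.2, Ne.symm huq.1, Ne.symm huq.2] at hij ⊢)
    have g1 : g a = a := by rw [hgf a (by simp), if_neg hpa.symm, if_neg hup.1.symm]
    have g2 : g b = b := by rw [hgf b (by simp), if_neg hpb.symm, if_neg hup.2.symm]
    have g3 : g p = q := by rw [hgf p (by simp), if_pos rfl]
    have g4 : g (u p) = u q := by rw [hgf (u p) (by simp), if_neg hp, if_pos rfl]
    have i1 : g⁻¹ a = a := Perm.inv_eq_iff_eq.2 g1.symm
    have i2 : g⁻¹ b = b := Perm.inv_eq_iff_eq.2 g2.symm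
    have i3 : g⁻¹ q = p := Perm.inv_eq_iff_eq.2 g3.symm
    have i4 : g⁻¹ (u q) = u p := Perm.inv_eq_iff_eq.2 g4.symm
    obtain ⟨k, hk, hkS, hkc⟩ := exists_conj_fix hno
      (G.mul_mem (G.mul_mem hg hu.1) (G.inv_mem hg)) hu.1
      (by
        calc g * u * g⁻¹ * (g * u * g⁻¹) = g * (u * u) * g⁻¹ := by group
          _ = 1 := by rw [hu2, mul_one, mul_inv_cancel]) hu2 hc4'.ge (fun i hi => by
        simp only [mem_insert, mem_singleton] at hi
        rcases hi with rfl | rfl | rfl | rfl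
        · rw [Perm.mul_apply, Perm.mul_apply, i1, hua, g2]
        · rw [Perm.mul_apply, Perm.mul_apply, i2, hub, g1]
        · rw [Perm.mul_apply, Perm.mul_apply, i3, g4]
        · rw [Perm.mul_apply, Perm.mul_apply, i4, apply_apply_of_sq hu2, g3,
            apply_apply_of_sq hu2])
    refine ⟨k * g, ⟨G.mul_mem hk hg, ?_, ?_, ?_⟩, ?_⟩
    · calc k * g * u = k * (g * u * g⁻¹) * k⁻¹ * (k * g) := by group
        _ = u * (k * g) := by rw [hkc]
    · rw [Perm.mul_apply, g1, hkS a (by simp)]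
    · rw [Perm.mul_apply, g2, hkS b (by simp)]
    · rw [Perm.mul_apply, g3, hkS q (by simp)]
  have hta : t ≠ a := fun h => htS (h ▸ ha)
  have htb : t ≠ b := fun h => htS (h ▸ hb)
  -- faithful on the fixed points
  have hker : ∀ g ∈ G, g * u = u * g → g a = a → g b = b → (∀ i ∈ FX u, g i = i) → g = 1 := by
    intro g hg hgu hga hgb hgF
    refine Equiv.ext fun p => ?_
    show g p = p
    by_cases h1 : u p = p
    · exact hgF p (mem_FX.2 h1)
    by_cases h2 : p = a
    · rw [h2, hga]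
    by_cases h3 : p = b
    · rw [h3, hgb]
    obtain ⟨k, ⟨hkG, hku, hka, hkb⟩, hkt⟩ := htr t p hut hta htb h1 h2 h3
    have hkF : ∀ i ∈ FX u, k⁻¹ i ∈ FX u := fun i hi =>
      FX_maps (Commute.inv_left hku).eq hi
    have := hfix (k⁻¹ * g * k) (G.mul_mem (G.mul_mem (G.inv_mem hkG) hg) hkG)
      (((Commute.inv_left hku).mul_left hgu).mul_left hku).eq
      (by rw [Perm.mul_apply, Perm.mul_apply, hka, hga, Perm.inv_eq_iff_eq, hka])
      (by rw [Perm.mul_apply, Perm.mul_apply, hkb, hgb, Perm.inv_eq_iff_eq, hkb])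
      (fun i hi => by
        rw [Perm.mul_apply, Perm.mul_apply, hgF _ (FX_maps hku hi), Perm.coe_inv,
          Equiv.symm_apply_apply])
    rw [Perm.mul_apply, Perm.mul_apply, hkt, Perm.inv_eq_iff_eq, hkt] at this
    exact this
  refine ⟨?_, hker⟩
  have hmapsF : ∀ g ∈ C, ∀ i, u i = i ↔ u (g i) = g i := fun g hg i => by
    rw [← Perm.mul_apply, ← hg.2.1, Perm.mul_apply]
    exact g.injective.eq_iff.symm
  let φ : ↥C →* Perm {i // u i = i} :=
    { toFun := fun g => (g : Perm α).subtypePerm (fun i => (hmapsF g g.2 i).symm)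
      map_one' := rfl
      map_mul' := fun _ _ => rfl }
  have hφ : Function.Injective φ := by
    refine (injective_iff_map_eq_one φ).2 fun g hg => Subtype.ext ?_
    refine hker g g.2.1 g.2.2.1 g.2.2.2.1 g.2.2.2.2 fun i hi => ?_
    exact congrArg Subtype.val (Equiv.congr_fun hg ⟨i, mem_FX.1 hi⟩)
  have horb : (MulAction.orbit ↥C t).ncard = Fintype.card α - 2 - f := by
    have hset : MulAction.orbit ↥C t = ↑((univ \ FX u) \ {a, b}) := by
      ext p
      simp only [MulAction.mem_orbit_iff, coe_sdiff, coe_univ, Set.mem_sdiff, Set.mem_univ, true_and,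
        mem_coe, mem_FX, coe_insert, coe_singleton, Set.mem_insert_iff, Set.mem_singleton_iff]
      constructor
      · rintro ⟨⟨g, hg⟩, rfl⟩
        show ¬ u (g t) = g t ∧ ¬ (g t = a ∨ g t = b)
        refine ⟨fun h => hut ((hmapsF g hg t).2 h), ?_⟩
        rintro (h | h)
        exacts [hta (g.injective (h.trans hg.2.2.1.symm)), htb (g.injective (h.trans hg.2.2.2.symm))]
      · rintro ⟨hp, hpab⟩
        push Not at hpab
        obtain ⟨g, hg, hgt⟩ := htr t p hut hta htb hp hpab.1 hpab.2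
        exact ⟨⟨g, hg⟩, hgt⟩
    have hab' : ({a, b} : Finset α) ⊆ univ \ FX u := by
      simp [insert_subset_iff, mem_sdiff, mem_FX, hua, hub, hab, hab.symm]
    rw [hset, Set.ncard_coe_finset, card_sdiff_of_subset hab', card_sdiff_of_subset (subset_univ _),
      card_univ, card_pair hab, lift_fix hG hno hn hf hS ha hb hab hu]
    omega
  have h1 : (MulAction.orbit ↥C t).ncard ∣ Nat.card ↥C := by
    rw [← Nat.card_coe_set_eq, Nat.card_congr (MulAction.orbitEquivQuotientStabilizer ↥C t)]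
    exact Subgroup.index_dvd_card _
  rw [← horb]
  refine h1.trans ((Subgroup.card_dvd_of_injective φ hφ).trans (dvd_of_eq ?_))
  rw [Nat.card_perm, Nat.card_eq_fintype_card, Fintype.card_subtype,
    ← lift_fix hG hno hn hf hS ha hb hab hu]

omit hn hf in
theorem exists_four (h4 : 4 ≤ Fintype.card α) :
    ∃ (S : Finset α) (a b c e : α), S.card = 4 ∧ Four S a b c e := by
  obtain ⟨S, -, hS⟩ := exists_subset_card_eq (n := 4) (s := (univ : Finset α)) (by rwa [card_univ])
  obtain ⟨a, ha⟩ := card_pos.1 (show 0 < S.card by omega)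
  obtain ⟨b, hb⟩ := card_pos.1 (show 0 < (S.erase a).card by rw [card_erase_of_mem ha]; omega)
  obtain ⟨c, hc⟩ := card_pos.1 (show 0 < ((S.erase a).erase b).card by
    rw [card_erase_of_mem hb, card_erase_of_mem ha]; omega)
  obtain ⟨e, he⟩ := card_pos.1 (show 0 < (((S.erase a).erase b).erase c).card by
    rw [card_erase_of_mem hc, card_erase_of_mem hb, card_erase_of_mem ha]; omega)
  simp only [mem_erase] at hb hc he
  exact ⟨S, a, b, c, e, hS, ha, hb.2, hc.2.2, he.2.2.2, hb.1.symm, hc.2.1.symm, he.2.2.1.symm,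
    hc.1.symm, he.2.1.symm, he.1.symm⟩

/-- The degree is `11`. -/
theorem degree : Fintype.card α = 11 := by
  obtain ⟨S, a, b, c, e, hS, hF⟩ := exists_four hG hno (α := α) (by omega)
  obtain ⟨ha, hb, -⟩ := id hF
  obtain ⟨u, hu⟩ := exists_isLift hG (by omega) hno hS ha hb
  have h := (degree_dvd hG hno hn hf hS hF hu).1
  rcases hf with ⟨h2, rfl⟩ | ⟨h2, rfl⟩
  · rw [show (2 : ℕ).factorial = 2 from rfl] at h
    have := Nat.le_of_dvd (by norm_num) h
    omega
  · rw [show (3 : ℕ).factorial = 6 from rfl] at h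
    have hle := Nat.le_of_dvd (by norm_num) h
    obtain ⟨m, hm⟩ : ∃ m, Fintype.card α = m + 5 := ⟨Fintype.card α - 5, by omega⟩
    rw [hm, show m + 5 - 2 - 3 = m by omega] at h hle
    interval_cases m <;> omega

/-- Four points have trivial stabiliser. -/
theorem triv : Triv G 4 := by
  classical
  have hn11 := degree hG hno hn hf
  obtain ⟨h, -⟩ | ⟨-, rfl⟩ := id hf
  · omega
  intro g hg hfix
  obtain ⟨S, hSs, hS⟩ := exists_subset_card_eq (n := 4) (s := FX g) hfix
  have hgS : g ∈ fixSub G S := ⟨hg, fun i hi => mem_FX.1 (hSs hi)⟩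
  by_contra hg1
  obtain ⟨a, ha, b, hb, hab⟩ := one_lt_card.1 (show 1 < S.card by omega)
  obtain ⟨c, hc, e, he, hce⟩ := one_lt_card.1 (show 1 < ((S.erase a).erase b).card by
    rw [card_erase_erase hS ha hb hab]; norm_num)
  simp only [mem_erase] at hc he
  have hF : Four S a b c e := ⟨ha, hb, hc.2.2, he.2.2, hab, Ne.symm hc.2.1, Ne.symm he.2.1,
    Ne.symm hc.1, Ne.symm he.1, hce⟩
  -- nothing in the stabiliser centralises a lift
  have hC : ∀ p q r o, Four S p q r o → ∀ u, IsLift G S p q u → ∀ k ∈ fixSub G S,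
      k * u = u * k → k = 1 := by
    intro p q r o hF' u hu k hk hku
    obtain ⟨hp, hq, -, -, hpq, -⟩ := id hF'
    refine (degree_dvd hG hno hn hf hS hF' hu).2 k hk.1 hku (hk.2 p hp) (hk.2 q hq) fun i hi => ?_
    by_cases hiS : i ∈ S
    · exact hk.2 i hiS
    have hki : k i ∉ S := fun hm => hiS (k.injective (hk.2 _ hm) ▸ hm)
    exact isLift_fix_unique (by norm_num) hno hS hp hq hpq hu hki hiS
      (mem_FX.1 (FX_maps hku hi)) (mem_FX.1 hi)
  by_cases h2 : HasTwo G 3
  swap
  · obtain ⟨u, hu⟩ := exists_isLift hG (by omega) hno hS ha hb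
    exact hg1 (hC a b c e hF u hu g hgS (commute_lift hG hno hn hf h2 hS ha hb hab hu hgS))
  obtain ⟨F, hF3, -, -, hq⟩ := canon hG hno hn hf h2 hS
  have hinv : ∀ p q r o, Four S p q r o → ∀ u, IsLift G S p q u → ∀ k ∈ fixSub G S,
      u * k * u = k⁻¹ := by
    intro p q r o hF' u hu k hk
    exact inverts_of_centralizer hu.1 hu.2.1
      (fun i hi => isLift_apply_mem hu hF'.1 hF'.2.1 hi)
      (fun w hw hwS hc' => hC p q r o hF' u hu w ⟨hw, hwS⟩ hc'.symm) hk.1 hk.2
  have hdbl : ∀ p q r o, Four S p q r o → ∀ w, IsDouble G S p q r o w → w * g = g * w := by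
    intro p q r o hF' w hw
    obtain ⟨hp, hq', hr, ho, hpq, hpr, hpo, hqr, hqo, hro⟩ := id hF'
    obtain ⟨u, hu⟩ := exists_isLift hG (by omega) hno hS hp hq'
    obtain ⟨v, hv, huv⟩ := exists_commuting_lift hG (by omega) hno hS hp hq' hr ho hpr.symm
      hqr.symm hpo.symm hqo.symm hu
    have hF'' : Four S r o p q := ⟨hr, ho, hp, hq', hro, hpr.symm, hqr.symm, hpo.symm, hqo.symm,
      hpq⟩
    have hw2 : u * v * (u * v) = 1 := by
      calc u * v * (u * v) = u * (v * u) * v := by group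
        _ = u * u * (v * v) := by rw [← huv]; group
        _ = 1 := by rw [hu.2.1, hv.2.1, one_mul]
    obtain ⟨k, hk, hkS, hkc⟩ := exists_conj_fix hno (G.mul_mem hu.1 hv.1) hw.1 hw2 hw.2.1 hS.ge
      (fun i hi => by
        rw [Perm.mul_apply, isLift_apply hu (isLift_apply_mem hv hr ho hi), isLift_apply hv hi,
          hw.2.2 i hi])
    have hk' : k⁻¹ * g * k ∈ fixSub G S :=
      ⟨G.mul_mem (G.mul_mem (G.inv_mem hk) hg) hk, fun i hi => by
        rw [Perm.mul_apply, Perm.mul_apply, hkS i hi, hgS.2 i hi, Perm.inv_eq_iff_eq, hkS i hi]⟩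
    have h1 := hinv p q r o hF' u hu
    have h3 := hinv r o p q hF'' v hv
    have e1 : u * v * (k⁻¹ * g * k) * (u * v) = k⁻¹ * g * k := by
      calc u * v * (k⁻¹ * g * k) * (u * v) = u * (v * (k⁻¹ * g * k) * v) * u := by
            conv_lhs => arg 2; rw [huv]
            group
        _ = u * (k⁻¹ * g * k)⁻¹ * u := by rw [h3 _ hk']
        _ = k⁻¹ * g * k := by rw [h1 _ (inv_mem hk'), inv_inv]
    have e2 : u * v * (k⁻¹ * g * k) = k⁻¹ * g * k * (u * v) := by
      calc u * v * (k⁻¹ * g * k) = u * v * (k⁻¹ * g * k) * ((u * v) * (u * v)) := by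
            rw [hw2, mul_one]
        _ = _ := by rw [← mul_assoc, e1]
    rw [← hkc]
    calc k * (u * v) * k⁻¹ * g = k * (u * v * (k⁻¹ * g * k)) * k⁻¹ := by group
      _ = k * (k⁻¹ * g * k * (u * v)) * k⁻¹ := by rw [e2]
      _ = g * (k * (u * v) * k⁻¹) := by group
  have hsupp : g.support ⊆ F := by
    intro i hi
    rw [Perm.mem_support] at hi
    by_contra hiF
    exact hi (hq i (fun hm => hi (hgS.2 i hm)) hiF (by omega) g hgS hdbl)
  obtain ⟨q, hqp, hqd⟩ := Nat.exists_prime_and_dvd (fun h => hg1 (orderOf_eq_one_iff.1 h) :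
    orderOf g ≠ 1)
  obtain ⟨d, hd⟩ := hqd
  have hord : 0 < orderOf g := orderOf_pos g
  have hd0 : d ≠ 0 := by rintro rfl; omega
  have halt : alternatingGroup α ≤ G := by
    refine Miller.alternating_of_small_element G hG (by omega) hqp (G.pow_mem hg d) ?_ ?_ ?_
    · refine pow_ne_one_of_lt_orderOf hd0 ?_
      rw [hd]
      exact lt_mul_left (Nat.pos_of_ne_zero hd0) hqp.one_lt
    · rw [← pow_mul, mul_comm, ← hd, pow_orderOf_eq_one]
    · have := card_le_card ((Perm.support_pow_le g d).trans hsupp)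
      omega
  obtain ⟨ha', hb', hc', he', hab', hac, hae, hbc, hbe, -⟩ := id hF
  obtain ⟨w, ew⟩ : ∃ w, w = Equiv.swap a b * Equiv.swap c e := ⟨_, rfl⟩
  have hwA : w ∈ alternatingGroup α := by
    rw [ew, Perm.mem_alternatingGroup, map_mul, Perm.sign_swap hab, Perm.sign_swap hce]
    rfl
  have hcomm : Equiv.swap a b * Equiv.swap c e = Equiv.swap c e * Equiv.swap a b :=
    (Perm.Disjoint.commute (Perm.disjoint_iff_disjoint_support.2 (by
      rw [Perm.support_swap hab, Perm.support_swap hce]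
      simp [hac, hae, hbc, hbe, hac.symm, hae.symm, hbc.symm, hbe.symm]))).eq
  have hw1 : w = 1 := by
    refine hno w (halt hwA) ?_ ?_
    · rw [ew]
      calc Equiv.swap a b * Equiv.swap c e * (Equiv.swap a b * Equiv.swap c e)
          = Equiv.swap a b * (Equiv.swap c e * Equiv.swap a b) * Equiv.swap c e := by group
        _ = 1 := by rw [← hcomm, ← mul_assoc, Equiv.swap_mul_self, one_mul, Equiv.swap_mul_self]
    · refine le_trans ?_ (card_le_fixCard (s := univ \ {a, b, c, e}) fun i hi => ?_)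
      · have := le_card_sdiff {a, b, c, e} (univ : Finset α)
        have := card_le_four (a := a) (b := b) (c := c) (d := e)
        rw [card_univ] at *
        omega
      · simp only [mem_sdiff, mem_univ, true_and, mem_insert, mem_singleton, not_or] at hi
        rw [ew, Perm.mul_apply, Equiv.swap_apply_of_ne_of_ne hi.2.2.1 hi.2.2.2,
          Equiv.swap_apply_of_ne_of_ne hi.1 hi.2.1]
  have := congrArg (fun p : Perm α => p a) (ew.symm.trans hw1)
  simp [Perm.mul_apply, Equiv.swap_apply_of_ne_of_ne hac hae, hab.symm] at this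

end CfsgLib.Perm.HallFour
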