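import Cfsg.Agent.Lib.Invol.BrauerSuzuki
import Cfsg.Agent.Lib.FT.OddOrder
import Cfsg.Agent.Lib.Solvable.MinNormal
import Cfsg.Agent.Lib.Solvable.PCore

/-!
Two tools: generation of a group of odd order by the centralisers of a four-group, and uniqueness
of involutions with a single fixed point in a doubly transitive group without commuting ones.
-/

set_option autoImplicit false
set_option linter.unusedSectionVars false
set_option linter.style.haveILetI false

namespace CfsgLib.Perm.HallFour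

open Equiv

universe u

section FourGen

variable {G : Type*} [Group G] [Finite G]

/-- A square root which is a power. -/
theorem exists_root {H : Subgroup G} (hH : Odd (Nat.card H)) {x : G} (hx : x ∈ H) :
    ∃ n : ℕ, x ^ n * x ^ n = x := by
  obtain ⟨k, hk⟩ := hH
  refine ⟨k + 1, ?_⟩
  rw [← pow_add, show k + 1 + (k + 1) = Nat.card H + 1 by omega, pow_succ]
  have : (⟨x, hx⟩ : H) ^ Nat.card H = 1 := pow_card_eq_one'
  rw [show x ^ Nat.card H = 1 from congrArg Subtype.val this, one_mul]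

/-- A group of odd order is generated by the centralisers of a four-group acting on it. -/
theorem le_of_four {H W : Subgroup G} (hH : Odd (Nat.card H)) {s t : G} (hs : s * s = 1)
    (ht : t * t = 1) (hst : s * t = t * s) (hsH : ∀ h ∈ H, s * h * s ∈ H)
    (htH : ∀ h ∈ H, t * h * t ∈ H) (h1 : ∀ h ∈ H, s * h * s = h → h ∈ W)
    (h2 : ∀ h ∈ H, t * h * t = h → h ∈ W) (h3 : ∀ h ∈ H, s * (t * h * t) * s = h → h ∈ W) :
    H ≤ W := by
  intro h hh
  -- `s` as an automorphism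
  have si : ∀ x : G, s * x⁻¹ * s = (s * x * s)⁻¹ := fun x => by
    rw [mul_inv_rev, mul_inv_rev, inv_eq_of_mul_eq_one_right hs, mul_assoc]
  have sm : ∀ x y : G, s * (x * y) * s = (s * x * s) * (s * y * s) := fun x y => by
    calc s * (x * y) * s = s * x * (s * s) * y * s := by rw [hs]; group
      _ = _ := by group
  have ti : ∀ x : G, t * x⁻¹ * t = (t * x * t)⁻¹ := fun x => by
    rw [mul_inv_rev, mul_inv_rev, inv_eq_of_mul_eq_one_right ht, mul_assoc]
  have tm : ∀ x y : G, t * (x * y) * t = (t * x * t) * (t * y * t) := fun x y => by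
    calc t * (x * y) * t = t * x * (t * t) * y * t := by rw [ht]; group
      _ = _ := by group
  have sp : ∀ (x : G) (n : ℕ), s * x ^ n * s = (s * x * s) ^ n := fun x n => by
    induction n with
    | zero => simp [hs]
    | succ n ih => rw [pow_succ, pow_succ, sm, ih]
  have tp : ∀ (x : G) (n : ℕ), t * x ^ n * t = (t * x * t) ^ n := fun x n => by
    induction n with
    | zero => simp [ht]
    | succ n ih => rw [pow_succ, pow_succ, tm, ih]
  have ss : ∀ x : G, s * (s * x * s) * s = x := fun x => by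
    calc s * (s * x * s) * s = (s * s) * x * (s * s) := by group
      _ = x := by rw [hs, one_mul, mul_one]
  have tt : ∀ x : G, t * (t * x * t) * t = x := fun x => by
    calc t * (t * x * t) * t = (t * t) * x * (t * t) := by group
      _ = x := by rw [ht, one_mul, mul_one]
  have st : ∀ x : G, s * (t * x * t) * s = t * (s * x * s) * t := fun x => by
    calc s * (t * x * t) * s = (s * t) * x * (t * s) := by group
      _ = (t * s) * x * (s * t) := by rw [hst]
      _ = _ := by group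
  -- `h = c * i` with `c` fixed and `i` inverted by `s`
  obtain ⟨x, hx⟩ : ∃ x, x = (s * h * s)⁻¹ * h := ⟨_, rfl⟩
  have hxH : x ∈ H := hx ▸ mul_mem (inv_mem (hsH h hh)) hh
  have hxs : s * x * s = x⁻¹ := by rw [hx, sm, si, ss, mul_inv_rev, inv_inv]
  obtain ⟨n, hn⟩ := exists_root hH hxH
  obtain ⟨i, hi⟩ : ∃ i, i = x ^ n := ⟨_, rfl⟩
  have hiH : i ∈ H := hi ▸ pow_mem hxH n
  have hii : i * i = x := hi ▸ hn
  have his : s * i * s = i⁻¹ := by rw [hi, sp, hxs, inv_pow]
  have hcW : h * i⁻¹ ∈ W := by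
    refine h1 _ (mul_mem hh (inv_mem hiH)) ?_
    rw [sm, si, his, inv_inv]
    have e : s * h * s = h * (i * i)⁻¹ := by rw [hii, hx]; group
    rw [e]; group
  -- `i = r * c * r`
  obtain ⟨a, ha⟩ : ∃ a, a = t * i * t := ⟨_, rfl⟩
  have haH : a ∈ H := ha ▸ htH i hiH
  have hai : s * a * s = a⁻¹ := by rw [ha, st, his, ti]
  obtain ⟨m, hm⟩ := exists_root hH (mul_mem hiH haH)
  obtain ⟨y, hy⟩ : ∃ y, y = (i * a) ^ m := ⟨_, rfl⟩
  have hyy : y * y = i * a := hy ▸ hm
  obtain ⟨σ, hσ⟩ : ∃ σ, σ = y * a⁻¹ := ⟨_, rfl⟩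
  have hyH : y ∈ H := hy ▸ pow_mem (mul_mem hiH haH) m
  have hσH : σ ∈ H := hσ ▸ mul_mem hyH (inv_mem haH)
  have hta : t * a * t = i := by rw [ha, tt]
  have hconj : a * y * a⁻¹ = (a * i) ^ m := by
    rw [hy, ← conj_pow]; congr 1; group
  have hσt : t * σ * t = σ⁻¹ := by
    have e1 : t * y * t = a * y * a⁻¹ := by
      rw [hconj, hy, tp, tm, hta, ← ha]
    rw [hσ, tm, ti, hta, e1, mul_inv_rev, inv_inv, mul_assoc (a * y), ← mul_inv_rev i a, ← hyy]
    group
  have hσs : s * σ * s = σ⁻¹ := by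
    have e1 : s * y * s = (a * y * a⁻¹)⁻¹ := by
      rw [hconj, hy, sp, sm, his, hai, ← inv_pow, mul_inv_rev]
    rw [hσ, sm, si, hai, inv_inv, e1]
    group
  obtain ⟨k, hk⟩ := exists_root hH hσH
  obtain ⟨r, hr⟩ : ∃ r, r = σ ^ k := ⟨_, rfl⟩
  have hrr : r * r = σ := hr ▸ hk
  have hrH : r ∈ H := hr ▸ pow_mem hσH k
  have hrW : r ∈ W := h3 r hrH (by
    rw [hr, tp, hσt, sp, si, hσs, inv_inv])
  have hc2 : r⁻¹ * i * r⁻¹ ∈ W := by
    refine h2 _ (mul_mem (mul_mem (inv_mem hrH) hiH) (inv_mem hrH)) ?_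
    have e1 : t * r⁻¹ * t = r := by rw [ti, hr, tp, hσt, ← inv_pow, inv_inv]
    rw [tm, tm, e1, ← ha]
    have e2 : i = r * r * a * (r * r) := by
      rw [hrr, hσ]
      calc i = i * a * a⁻¹ := by group
        _ = y * y * a⁻¹ := by rw [hyy]
        _ = _ := by group
    rw [e2]; group
  have : h = h * i⁻¹ * (r * (r⁻¹ * i * r⁻¹) * r) := by group
  rw [this]
  exact mul_mem hcW (mul_mem (mul_mem hrW hc2) hrW)

end FourGen

section Unique

variable {α : Type u} [Fintype α] [DecidableEq α] {K : Subgroup (Perm α)} {F₀ : Finset α}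

/-- In a group doubly transitive outside `F₀` in which every involution fixes exactly one further
point and no two involutions commute, two involutions agreeing at some further point coincide. -/
theorem invol_unique (hF : ∀ k ∈ K, ∀ x ∈ F₀, k x = x)
    (htrans : ∀ x y x' y' : α, x ∉ F₀ → y ∉ F₀ → x' ∉ F₀ → y' ∉ F₀ → x ≠ y → x' ≠ y' →
      ∃ k ∈ K, k x = x' ∧ k y = y')
    (hex : ∀ t ∈ K, t * t = 1 → t ≠ 1 → ∃ z, z ∉ F₀ ∧ t z = z)
    (huniq : ∀ t ∈ K, t * t = 1 → t ≠ 1 → ∀ x y, x ∉ F₀ → y ∉ F₀ → t x = x → t y = y → x = y)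
    (hcomm : ∀ s ∈ K, ∀ t ∈ K, s * s = 1 → t * t = 1 → s ≠ 1 → t ≠ 1 → s * t = t * s → s = t)
    {s t : Perm α} (hs : s ∈ K) (ht : t ∈ K) (hs2 : s * s = 1) (ht2 : t * t = 1) (hs1 : s ≠ 1)
    (ht1 : t ≠ 1) {x : α} (hx : x ∉ F₀) (hst : s x = t x) : s = t := by
  classical
  have hout : ∀ k ∈ K, ∀ y, y ∉ F₀ → k y ∉ F₀ := fun k hk y hy hm => hy (by
    rwa [k.injective (hF k hk _ hm)] at hm)
  have hinj1 : ∀ k ∈ K, (∀ y, y ∉ F₀ → k y = y) → k = 1 := fun k hk h => Equiv.ext fun y => by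
    by_cases hy : y ∈ F₀
    exacts [hF k hk y hy, h y hy]
  -- the involution `s` is isolated
  have hiso : Cfsg.IsIsolatedInvolution (⟨s, hs⟩ : ↥K) := by
    refine ⟨orderOf_eq_prime (by rw [sq]; exact Subtype.ext hs2)
      fun e => hs1 (congrArg Subtype.val e), fun g hg => Subtype.ext ?_⟩
    simp only [Subgroup.coe_mul, InvMemClass.coe_inv]
    refine (hcomm s hs _ (K.mul_mem (K.mul_mem g.2 hs) (K.inv_mem g.2)) hs2 ?_ hs1 (fun e => hs1 ?_)
      (congrArg Subtype.val hg.eq)).symm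
    · calc (g : Perm α) * s * (g : Perm α)⁻¹ * (g * s * (g : Perm α)⁻¹) = g * (s * s) * (g : Perm α)⁻¹ := by group
        _ = 1 := by rw [hs2, mul_one, mul_inv_cancel]
    · calc s = (g : Perm α)⁻¹ * (g * s * (g : Perm α)⁻¹) * g := by group
        _ = 1 := by rw [e, mul_one, inv_mul_cancel]
  obtain ⟨z, hz, hsz⟩ := hex s hs hs2 hs1
  -- the odd core is nontrivial
  obtain ⟨O, eO⟩ : ∃ O, O = Cfsg.oddCore ↥K := ⟨_, rfl⟩
  haveI : O.Normal := eO ▸ Solvable.pPrimeCore_normal 2 _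
  have hOodd : Odd (Nat.card O) := eO ▸ Nat.coprime_two_right.mp (Solvable.pPrimeCore_coprime 2)
  have hOne : O ≠ ⊥ := by
    intro e
    refine hs1 (hinj1 s hs fun y hy => ?_)
    by_cases hyz : y = z
    · rw [hyz, hsz]
    obtain ⟨k, hk, hkz, -⟩ := htrans z y y z hz hy hy hz (Ne.symm hyz) hyz
    have h := Invol.zstar ↥K hiso ⟨k, hk⟩
    rw [← eO, e, Subgroup.mem_bot] at h
    have h' : s * k * s⁻¹ * k⁻¹ = 1 := congrArg Subtype.val h
    rw [mul_inv_eq_one, mul_inv_eq_iff_eq_mul] at h'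
    rw [← hkz, ← Perm.mul_apply, h', Perm.mul_apply, hsz]
  obtain ⟨M, hMn, hMne, hMO, hMmin⟩ :=
    Solvable.exists_minimal_normal_le (inferInstance : O.Normal) hOne
  haveI := hMn
  haveI : Group.IsSolvable M :=
    FT.odd_order_solvable (Odd.of_dvd_nat hOodd (Subgroup.card_dvd_of_le hMO))
  haveI hMc := Solvable.isMulCommutative_of_minimal_normal hMne hMmin
  have hMcomm : ∀ m ∈ M, ∀ m' ∈ M, m * m' = m' * m := fun m hm m' hm' =>
    congrArg Subtype.val (IsMulCommutative.is_comm.comm (⟨m, hm⟩ : M) ⟨m', hm'⟩)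
  -- it is transitive outside `F₀`, hence regular there
  have hMtrans : ∀ p q, p ∉ F₀ → q ∉ F₀ → ∃ m ∈ M, (m : Perm α) p = q := by
    intro p q hp hq
    by_cases hpq : p = q
    · exact ⟨1, M.one_mem, by simp [hpq]⟩
    obtain ⟨m, hm, hm1⟩ := (M.bot_or_exists_ne_one).resolve_left hMne
    obtain ⟨r, hr, hmr⟩ : ∃ r, r ∉ F₀ ∧ (m : Perm α) r ≠ r := by
      by_contra hno
      push Not at hno
      exact hm1 (Subtype.ext (hinj1 m m.2 hno))
    obtain ⟨k, hk, hkr, hkm⟩ := htrans r _ p q hr (hout m m.2 r hr) hp hq (Ne.symm hmr) hpq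
    refine ⟨⟨k, hk⟩ * m * ⟨k, hk⟩⁻¹, hMn.conj_mem m hm _, ?_⟩
    simp only [Subgroup.coe_mul, InvMemClass.coe_inv, Perm.mul_apply, ← hkr, Perm.coe_inv,
      Equiv.symm_apply_apply]
    exact hkm
  have hreg : ∀ m ∈ M, ∀ p, p ∉ F₀ → (m : Perm α) p = p → m = 1 := by
    intro m hm p hp hmp
    refine Subtype.ext (hinj1 m m.2 fun q hq => ?_)
    obtain ⟨m', hm', rfl⟩ := hMtrans p q hp hq
    have h := congrArg (fun w : ↥K => (w : Perm α) p) (hMcomm m hm m' hm')
    simp only [Subgroup.coe_mul, Perm.mul_apply] at h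
    rw [h, hmp]
  have hMOdd : ∀ m ∈ M, m * m = 1 → m = 1 := fun m hm h2 => by
    have h' : orderOf (⟨m, hm⟩ : M) ∣ 2 := orderOf_dvd_of_pow_eq_one (by rw [sq]; exact Subtype.ext h2)
    have ho : Odd (Nat.card M) := Odd.of_dvd_nat hOodd (Subgroup.card_dvd_of_le hMO)
    have h1 : orderOf (⟨m, hm⟩ : M) = 1 := Nat.eq_one_of_dvd_coprimes
      (Nat.coprime_two_right.mpr ho) (orderOf_dvd_natCard _) h'
    exact congrArg Subtype.val (orderOf_eq_one_iff.1 h1)
  -- involutions invert it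
  have hinv : ∀ w ∈ K, w * w = 1 → w ≠ 1 → ∀ m ∈ M, w * (m : Perm α) * w = (m : Perm α)⁻¹ := by
    intro w hw hw2 hw1 m hm
    obtain ⟨p, hp, hwp⟩ := hex w hw hw2 hw1
    have hwi : (⟨w, hw⟩ : ↥K)⁻¹ = ⟨w, hw⟩ := inv_eq_of_mul_eq_one_right (Subtype.ext hw2)
    have hm' : (⟨w, hw⟩ : ↥K) * m * ⟨w, hw⟩ ∈ M := by
      have := hMn.conj_mem m hm ⟨w, hw⟩
      rwa [hwi] at this
    obtain ⟨i, hi⟩ : ∃ i, i = m * ((⟨w, hw⟩ : ↥K) * m * ⟨w, hw⟩) := ⟨_, rfl⟩
    have hiM : i ∈ M := hi ▸ mul_mem hm hm'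
    have hwcomm : (⟨w, hw⟩ : ↥K) * i * ⟨w, hw⟩ = i := by
      have h22 : (⟨w, hw⟩ : ↥K) * ⟨w, hw⟩ = 1 := Subtype.ext hw2
      calc (⟨w, hw⟩ : ↥K) * i * ⟨w, hw⟩
          = (⟨w, hw⟩ * m * ⟨w, hw⟩) * (m * (⟨w, hw⟩ * ⟨w, hw⟩)) := by rw [hi]; group
        _ = i := by rw [h22, mul_one, hi]; exact hMcomm _ hm' _ hm
    have hip : (i : Perm α) p = p := by
      have h1 := congrArg (fun r : ↥K => (r : Perm α) p) hwcomm
      simp only [Subgroup.coe_mul, Perm.mul_apply, hwp] at h1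
      exact huniq w hw hw2 hw1 _ _ (hout i i.2 p hp) hp h1 hwp
    have h1 := congrArg (fun r : ↥K => (r : Perm α)) (hi ▸ hreg i hiM p hp hip :)
    simp only [Subgroup.coe_mul, OneMemClass.coe_one] at h1
    exact eq_inv_of_mul_eq_one_right h1
  -- two involutions with the same fixed point coincide
  have hsame : ∀ v ∈ K, ∀ w ∈ K, v * v = 1 → w * w = 1 → v ≠ 1 → w ≠ 1 →
      ∀ p, p ∉ F₀ → v p = p → w p = p → v = w := by
    intro v hv w hw hv2 hw2 hv1 hw1 p hp hvp hwp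
    have h : v * w = 1 := by
      refine hinj1 _ (K.mul_mem hv hw) fun q hq => ?_
      obtain ⟨m, hm, rfl⟩ := hMtrans p q hp hq
      have e : v * w * (m : Perm α) = (m : Perm α) * (v * w) := by
        calc v * w * (m : Perm α) = v * (w * (m : Perm α) * w) * v * (v * w) := by
              calc v * w * (m : Perm α) = v * w * m * (w * w) := by rw [hw2, mul_one]
                _ = v * (w * m * w) * w := by group
                _ = v * (w * m * w) * (v * v) * w := by rw [hv2, mul_one]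
                _ = _ := by group
          _ = (m : Perm α) * (v * w) := by
              rw [hinv w hw hw2 hw1 m hm]
              have := hinv v hv hv2 hv1 m⁻¹ (inv_mem hm)
              rw [InvMemClass.coe_inv, inv_inv] at this
              rw [this]
      rw [← Perm.mul_apply, e, Perm.mul_apply, Perm.mul_apply, hwp, hvp]
    calc v = v * (w * w) := by rw [hw2, mul_one]
      _ = w := by rw [← mul_assoc, h, one_mul]
  obtain ⟨z', hz', htz⟩ := hex t ht ht2 ht1
  obtain ⟨m, hm, hmz⟩ := hMtrans z z' hz hz'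
  have hmi : (m : Perm α)⁻¹ z' = z := by rw [← hmz, Perm.coe_inv, Equiv.symm_apply_apply]
  have hts : (m : Perm α) * s * (m : Perm α)⁻¹ = t := by
    refine hsame _ (K.mul_mem (K.mul_mem m.2 hs) (K.inv_mem m.2)) t ht ?_ ht2 ?_ ht1 z' hz' ?_ htz
    · calc (m : Perm α) * s * (m : Perm α)⁻¹ * (m * s * (m : Perm α)⁻¹) = m * (s * s) * (m : Perm α)⁻¹ := by group
        _ = 1 := by rw [hs2, mul_one, mul_inv_cancel]
    · intro e
      apply hs1
      calc s = (m : Perm α)⁻¹ * (m * s * (m : Perm α)⁻¹) * m := by group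
        _ = 1 := by rw [e, mul_one, inv_mul_cancel]
    · rw [Perm.mul_apply, Perm.mul_apply, hmi, hsz, hmz]
  have hm2 : t = ((m * m : ↥K) : Perm α) * s := by
    have h' := hinv s hs hs2 hs1 m⁻¹ (inv_mem hm)
    rw [InvMemClass.coe_inv, inv_inv] at h'
    rw [← hts, Subgroup.coe_mul]
    calc (m : Perm α) * s * (m : Perm α)⁻¹
        = m * (s * (m : Perm α)⁻¹ * s) * s⁻¹ := by group
      _ = m * m * s := by rw [h', inv_eq_of_mul_eq_one_right hs2]
  have hfix : ((m * m : ↥K) : Perm α) (s x) = s x := by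
    rw [← Perm.mul_apply, ← hm2, hst]
  have hmm : m * m = 1 := hreg _ (mul_mem hm hm) (s x) (hout s hs x hx) hfix
  rw [hm2, hmm, OneMemClass.coe_one, one_mul]

end Unique

end CfsgLib.Perm.HallFour
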