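import Cfsg.Agent.Lib.Perm.IcoUnique

/-!
Two-nilpotent fixed-point-free groups have self-centralising abelian normal subgroups.
-/

set_option autoImplicit false
set_option linter.unusedSectionVars false

namespace CfsgLib.Perm.Ico

open QuaternionGroup

/-- The three pairs of mutually inverse elements of order four in the quaternion group. -/
def cPair : Fin 3 → Finset (QuaternionGroup 2) := ![{a 1, a 3}, {xa 0, xa 2}, {xa 1, xa 3}]

theorem cPair_exists : ∀ x : QuaternionGroup 2, x * x ≠ 1 → ∃ i, ({x, x⁻¹} : Finset _) = cPair i := by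
  decide +kernel

theorem cPair_mem : ∀ i, ∃ x ∈ cPair i, x * x ≠ 1 ∧ cPair i = {x, x⁻¹} := by decide +kernel

theorem cPair_injective : ∀ i j, cPair i = cPair j → i = j := by decide +kernel

theorem perm_three_fixed : ∀ σ : Equiv.Perm (Fin 3), σ * σ = 1 → ∃ i, σ i = i := by decide +kernel

theorem q8_commute : ∀ x y : QuaternionGroup 2, x * x ≠ 1 → x * y = y * x →
    ∃ i : Fin 4, x ^ (i : ℕ) = y := by
  decide +kernel

theorem exists_image_cPair (φ : MulAut (QuaternionGroup 2)) (i : Fin 3) :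
    ∃ j, (cPair i).image φ = cPair j := by
  obtain ⟨x, -, hx, he⟩ := cPair_mem i
  obtain ⟨j, hj⟩ := cPair_exists (φ x) (fun h => hx (φ.injective (by rw [map_mul, h, map_one])))
  exact ⟨j, by rw [he, ← hj, Finset.image_insert, Finset.image_singleton, map_inv]⟩

/-- The action of automorphisms of the quaternion group on the three cyclic subgroups of order four. -/
theorem exists_cHom : ∃ h : MulAut (QuaternionGroup 2) →* Equiv.Perm (Fin 3),
    ∀ (φ : MulAut (QuaternionGroup 2)) i, (cPair i).image φ = cPair (h φ i) := by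
  choose F hF using exists_image_cPair
  have hmul : ∀ φ ψ i, F (φ * ψ) i = F φ (F ψ i) := fun φ ψ i => by
    apply cPair_injective
    rw [← hF, ← hF, ← hF, Finset.image_image]
    rfl
  have hone : ∀ i, F 1 i = i := fun i => by
    apply cPair_injective
    rw [← hF]
    exact Finset.image_id
  exact ⟨{ toFun := fun φ =>
      { toFun := F φ
        invFun := F φ⁻¹
        left_inv := fun i => by rw [← hmul, inv_mul_cancel, hone]
        right_inv := fun i => by rw [← hmul, mul_inv_cancel, hone] }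
           map_one' := Equiv.ext hone
           map_mul' := fun φ ψ => Equiv.ext (hmul φ ψ) }, hF⟩

/-- In a quaternion group acted on by a two-group some cyclic maximal subgroup is fixed. -/
theorem exists_fixed_maximal {G P : Type*} [Group G] [Finite G] [Group P] {n : ℕ} (hn : 1 ≤ n)
    (e : P ≃* QuaternionGroup (2 ^ n)) (Φ : G →* MulAut P) (hΦ : IsPGroup 2 Φ.range) :
    ∃ c : P, (∀ g, Φ g c ∈ Subgroup.zpowers c) ∧ ∀ y, c * y = y * c → y ∈ Subgroup.zpowers c := by
  classical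
  rcases (show n = 1 ∨ 2 ≤ n by omega) with rfl | hn2
  · obtain ⟨e8⟩ : Nonempty (P ≃* QuaternionGroup 2) := ⟨e⟩
    obtain ⟨h, hh⟩ := exists_cHom
    obtain ⟨ψ, hψ⟩ : ∃ ψ : G →* Equiv.Perm (Fin 3),
        ψ = (h.comp (MulAut.congr e8).toMonoidHom).comp Φ := ⟨_, rfl⟩
    have hfix : ∃ i, ∀ g, ψ g i = i := by
      have hp : IsPGroup 2 ψ.range := by
        rw [hψ, MonoidHom.range_comp]; exact hΦ.map _
      obtain ⟨k, hk⟩ := hp.exists_card_eq
      have hd : Nat.card ψ.range ∣ 6 := by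
        refine (Subgroup.card_subgroup_dvd_card _).trans (dvd_of_eq ?_)
        rw [Nat.card_eq_fintype_card, Fintype.card_perm, Fintype.card_fin]; rfl
      have h2 : Nat.card ψ.range ∣ 2 := by
        rw [hk] at hd ⊢
        refine Nat.Coprime.dvd_of_dvd_mul_right (k := 2 ^ k) (n := 3) ?_ hd
        exact Nat.Coprime.pow_left k (by norm_num)
      by_cases h1 : ∀ g, ψ g = 1
      · exact ⟨0, fun g => by rw [h1]; rfl⟩
      · obtain ⟨g₀, hg₀⟩ := not_forall.1 h1
        have hsq : ∀ g, ψ g * ψ g = 1 := fun g => by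
          rw [← pow_two]
          exact orderOf_dvd_iff_pow_eq_one.1
            (dvd_trans (Subgroup.orderOf_dvd_natCard ψ.range ⟨g, rfl⟩) h2)
        obtain ⟨i, hi⟩ := perm_three_fixed _ (hsq g₀)
        refine ⟨i, fun g => ?_⟩
        by_cases hg : ψ g = 1
        · rw [hg]; rfl
        · have hc : Nat.card ψ.range = 2 := ((Nat.dvd_prime Nat.prime_two).1 h2).resolve_left (fun e => by
            rw [Subgroup.card_eq_one, MonoidHom.range_eq_bot_iff] at e
            exact hg₀ (by rw [e]; rfl))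
          obtain ⟨y, hy1, hy⟩ := Nat.card_eq_two_iff' (1 : ψ.range) |>.1 hc
          have a1 := hy ⟨_, g, rfl⟩ (fun e => hg (congrArg Subtype.val e))
          have a2 := hy ⟨_, g₀, rfl⟩ (fun e => hg₀ (congrArg Subtype.val e))
          have a3 : ψ g = ψ g₀ := congrArg Subtype.val (a1.trans a2.symm)
          rw [a3]; exact hi
    obtain ⟨i, hi⟩ := hfix
    obtain ⟨x, hx, hx2, he⟩ := cPair_mem i
    refine ⟨e8.symm x, fun g => ?_, fun y hy => ?_⟩
    · have h1 := hh (MulAut.congr e8 (Φ g)) i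
      rw [show h (MulAut.congr e8 (Φ g)) i = i by
        have := hi g; rw [hψ] at this; exact this] at h1
      have h2 : MulAut.congr e8 (Φ g) x ∈ cPair i := h1 ▸ Finset.mem_image_of_mem _ hx
      rw [he, Finset.mem_insert, Finset.mem_singleton] at h2
      have h3 : e8 (Φ g (e8.symm x)) = x ∨ e8 (Φ g (e8.symm x)) = x⁻¹ := by
        simpa [MulAut.congr] using h2
      rcases h3 with h3 | h3
      · rw [show Φ g (e8.symm x) = e8.symm x from e8.injective (by rw [h3, e8.apply_symm_apply])]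
        exact Subgroup.mem_zpowers _
      · rw [show Φ g (e8.symm x) = (e8.symm x)⁻¹ from e8.injective (by rw [h3, map_inv, e8.apply_symm_apply])]
        exact Subgroup.inv_mem _ (Subgroup.mem_zpowers _)
    · obtain ⟨j, hj⟩ := q8_commute x (e8 y) hx2 (by
        rw [← e8.apply_symm_apply x, ← map_mul, hy, map_mul])
      rw [show y = e8.symm x ^ (j : ℕ) from e8.injective (by rw [map_pow, e8.apply_symm_apply, hj])]
      exact Subgroup.npow_mem_zpowers _ _
  · have : NeZero (2 ^ n) := ⟨by positivity⟩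
    have : NeZero (2 * 2 ^ n) := ⟨by positivity⟩
    have h4 : 4 < 2 * 2 ^ n := by
      have := Nat.pow_le_pow_right (show 0 < 2 by norm_num) hn2
      omega
    have hmem : ∀ i, e.symm (a i) ∈ Subgroup.zpowers (e.symm (a (1 : ZMod (2 * 2 ^ n)))) := fun i => by
      rw [← ZMod.natCast_zmod_val i, ← a_one_pow, map_pow]
      exact Subgroup.npow_mem_zpowers _ _
    refine ⟨e.symm (a 1), fun g => ?_, fun y hy => ?_⟩
    · obtain ⟨w, hw⟩ : ∃ w, w = e (Φ g (e.symm (a 1))) := ⟨_, rfl⟩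
      have ho : orderOf w = 2 * 2 ^ n := by
        rw [hw, MulEquiv.orderOf_eq, MulEquiv.orderOf_eq, MulEquiv.orderOf_eq, orderOf_a_one]
      rw [show Φ g (e.symm (a 1)) = e.symm w from by rw [hw, e.symm_apply_apply]]
      rcases w with i | i
      · exact hmem i
      · rw [orderOf_xa] at ho; omega
    · have h := congrArg e hy
      rw [map_mul, map_mul, e.apply_symm_apply] at h
      rw [← e.symm_apply_apply y]
      rcases hx : e y with i | i
      · exact hmem i
      · exfalso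
        rw [hx, a_mul_xa, xa_mul_a] at h
        have h' := sub_eq_add_neg i 1 ▸ (QuaternionGroup.xa.inj h)
        have h2 : (2 : ZMod (2 * 2 ^ n)) = 0 := by linear_combination -(add_left_cancel h')
        replace h2 : ((2 : ℕ) : ZMod (2 * 2 ^ n)) = 0 := h2
        rw [ZMod.natCast_eq_zero_iff] at h2
        have := Nat.le_of_dvd (by norm_num) h2
        omega

variable {G : Type*} [Group G] [Finite G] {V : Type*} [AddCommGroup V] [Module ℂ V]
  [FiniteDimensional ℂ V] [Nontrivial V] {f : G →* Module.End ℂ V}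

/-- A two-nilpotent fixed-point-free group has an abelian normal self-centralising subgroup. -/
theorem exists_selfCentralizing (hf : Fpf f) (hnil : TwoNilp G) :
    ∃ A : Subgroup G, A.Normal ∧ (∀ a ∈ A, ∀ b ∈ A, a * b = b * a) ∧ IsCyclic A ∧
      Subgroup.centralizer (A : Set G) ≤ A := by
  classical
  have : Fact (Nat.Prime 2) := ⟨Nat.prime_two⟩
  have := CfsgLib.Solvable.pPrimeCore_normal 2 G
  obtain ⟨O, hO⟩ : ∃ O, O = Cfsg.pPrimeCore 2 G := ⟨_, rfl⟩
  have hOn : O.Normal := hO ▸ inferInstance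
  have hOcop : (Nat.card O).Coprime 2 := hO ▸ CfsgLib.Solvable.pPrimeCore_coprime (G := G) 2
  have : IsZGroup O := isZGroup_of_odd hf hOcop
  obtain ⟨D, hD⟩ : ∃ D : Subgroup G, D = (commutator O).map O.subtype := ⟨_, rfl⟩
  have hDn : D.Normal := hD ▸ ConjAct.normal_of_characteristic_of_normal
  obtain ⟨O1, hO1⟩ : ∃ O1 : Subgroup G, O1 = Subgroup.centralizer (D : Set G) ⊓ O := ⟨_, rfl⟩
  have hO1n : O1.Normal := hO1 ▸ Subgroup.normal_inf_normal _ _
  have hO1O : O1 ≤ O := hO1 ▸ inf_le_right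
  have hDO1 : D ≤ O1 := by
    rw [hO1]
    refine le_inf (fun x hx => Subgroup.mem_centralizer_iff.2 fun y hy => ?_) (hD ▸ Subgroup.map_subtype_le _)
    have := IsZGroup.isCyclic_commutator O
    rw [hD] at hx hy
    obtain ⟨x, hx', rfl⟩ := hx
    obtain ⟨y, hy', rfl⟩ := hy
    rw [← map_mul, ← map_mul]
    have h := congrArg Subtype.val (CfsgLib.Solvable.comm_of_isCyclic (⟨y, hy'⟩ : commutator O) ⟨x, hx'⟩)
    exact congrArg O.subtype h
  have : IsZGroup O1 := IsZGroup.of_injective (f := Subgroup.inclusion hO1O)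
    (Subgroup.inclusion_injective _)
  have : Group.IsNilpotent O1 := by
    refine Subgroup.isNilpotent_of_ker_le_center
      (Abelianization.of.comp (Subgroup.inclusion hO1O) : O1 →* Abelianization O) (fun x hx => ?_)
    have hxD : (x : G) ∈ D := by
      rw [hD]
      refine ⟨Subgroup.inclusion hO1O x, ?_, rfl⟩
      rw [← Abelianization.ker_of]
      exact hx
    refine Subgroup.mem_center_iff.2 fun y => Subtype.ext ?_
    have hy : (y : G) ∈ Subgroup.centralizer (D : Set G) := (hO1.le y.2).1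
    exact (Subgroup.mem_centralizer_iff.1 hy _ hxD).symm
  have hO1cyc : IsCyclic O1 := inferInstance
  obtain ⟨C2, hC2⟩ : ∃ C2 : Subgroup G, C2 = Subgroup.centralizer (O1 : Set G) := ⟨_, rfl⟩
  have hC2n : C2.Normal := hC2 ▸ inferInstance
  have hO1C2 : O1 ≤ C2 := by
    rw [hC2]
    exact fun x hx => Subgroup.mem_centralizer_iff.2 fun y hy =>
      congrArg Subtype.val (CfsgLib.Solvable.comm_of_isCyclic (⟨y, hy⟩ : O1) ⟨x, hx⟩)
  have hC2O : ∀ x ∈ C2, x ∈ O → x ∈ O1 := by
    intro x hx hxO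
    rw [hO1]
    exact ⟨Subgroup.centralizer_le hDO1 (hC2 ▸ hx), hxO⟩
  obtain ⟨k, hk⟩ := hnil
  rw [← hO] at hk
  have h2Q : IsPGroup 2 (G ⧸ O) := IsPGroup.of_card (n := k) (by rw [← Subgroup.index_eq_card, hk])
  obtain ⟨κ, hκ⟩ : ∃ κ : C2 →* G ⧸ O, κ = (QuotientGroup.mk' O).comp C2.subtype := ⟨_, rfl⟩
  have hker : ∀ x : C2, x ∈ κ.ker ↔ (x : G) ∈ O1 := fun x => by
    rw [MonoidHom.mem_ker, hκ, MonoidHom.comp_apply, QuotientGroup.mk'_apply, QuotientGroup.eq_one_iff]
    exact ⟨hC2O x x.2, fun h => hO1O h⟩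
  have : Group.IsNilpotent C2 := by
    have : Group.IsNilpotent κ.range := IsPGroup.isNilpotent (h2Q.to_subgroup _)
    refine Subgroup.isNilpotent_of_ker_le_center κ.rangeRestrict (fun x hx => ?_)
    rw [MonoidHom.ker_rangeRestrict, hker] at hx
    refine Subgroup.mem_center_iff.2 fun y => Subtype.ext ?_
    have hy : (y : G) ∈ Subgroup.centralizer (O1 : Set G) := hC2 ▸ y.2
    exact (Subgroup.mem_centralizer_iff.1 hy _ hx).symm
  have hcent : ∀ B : Subgroup G, O1 ≤ B → Subgroup.centralizer (B : Set G) ≤ C2 := fun B hB => by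
    rw [hC2]; exact Subgroup.centralizer_le hB
  by_cases hZ : IsZGroup C2
  · have : IsCyclic C2 := inferInstance
    exact ⟨C2, hC2n, fun a ha b hb => congrArg Subtype.val
      (CfsgLib.Solvable.comm_of_isCyclic (⟨a, ha⟩ : C2) ⟨b, hb⟩), inferInstance, hcent C2 hO1C2⟩
  -- quaternion Sylow subgroup
  have hf2 : Fpf (f.comp C2.subtype) := fun g hg v hv => hf g (fun h => hg (Subtype.ext h)) v hv
  obtain ⟨P, n, hn, ⟨eP⟩⟩ := exists_quaternion hf2 hZ
  have hsn : ∀ (p : ℕ) (_ : Fact p.Prime) (Q : Sylow p C2), (Q : Subgroup C2).Normal :=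
    ((Group.isNilpotent_of_finite_tfae (G := C2)).out 0 3 rfl rfl).mp (by assumption)
  have hPn : (P : Subgroup C2).Normal := hsn 2 inferInstance P
  have hPc : (P : Subgroup C2).Characteristic := P.characteristic_of_normal hPn
  obtain ⟨Pg, hPg⟩ : ∃ Pg : Subgroup G, Pg = (P : Subgroup C2).map C2.subtype := ⟨_, rfl⟩
  have hPgn : Pg.Normal := hPg ▸ ConjAct.normal_of_characteristic_of_normal
  have hPgC2 : Pg ≤ C2 := hPg ▸ Subgroup.map_subtype_le _
  obtain ⟨eg⟩ : Nonempty (Pg ≃* QuaternionGroup (2 ^ n)) :=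
    ⟨((MulEquiv.subgroupCongr hPg).trans
      (Subgroup.equivMapOfInjective (P : Subgroup C2) C2.subtype C2.subtype_injective).symm).trans eP⟩
  have hPg2 : IsPGroup 2 Pg := hPg ▸ P.2.map _
  have hPO : ∀ x ∈ O, ∀ y ∈ Pg, x * y = y * x := by
    intro x hx y hy
    refine (Subgroup.commute_of_normal_of_disjoint O Pg hOn hPgn ?_ x y hx hy).eq
    rw [disjoint_iff]
    refine (Subgroup.disjoint_of_coprime_natCard ?_).eq_bot
    obtain ⟨i, hi⟩ := hPg2.exists_card_eq
    rw [hi]
    exact hOcop.pow_right i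
  obtain ⟨Φ, hΦ⟩ : ∃ Φ : G →* MulAut Pg, Φ = MulAut.conjNormal := ⟨_, rfl⟩
  have hΦO : ∀ x ∈ O, Φ x = 1 := fun x hx => MulEquiv.ext fun y => Subtype.ext (by
    rw [hΦ, MulAut.conjNormal_apply, MulAut.one_apply, hPO x hx y y.2, mul_inv_cancel_right])
  have hΦp : IsPGroup 2 Φ.range := by
    have := h2Q.of_surjective ((QuotientGroup.lift O Φ hΦO).rangeRestrict)
      (MonoidHom.rangeRestrict_surjective _)
    refine this.of_equiv (MulEquiv.subgroupCongr ?_)
    ext y
    constructor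
    · rintro ⟨x, rfl⟩
      obtain ⟨g, rfl⟩ := QuotientGroup.mk'_surjective O x
      exact ⟨g, rfl⟩
    · rintro ⟨g, rfl⟩
      exact ⟨QuotientGroup.mk g, rfl⟩
  obtain ⟨c, hcΦ, hcC⟩ := exists_fixed_maximal hn eg Φ hΦp
  obtain ⟨Z, hZdef⟩ : ∃ Z : Subgroup G, Z = Subgroup.zpowers (c : G) := ⟨_, rfl⟩
  have hZn : Z.Normal := by
    refine ⟨fun x hx g => ?_⟩
    rw [hZdef] at hx ⊢
    obtain ⟨i, rfl⟩ := hx
    show g * (c : G) ^ i * g⁻¹ ∈ _
    rw [← conj_zpow]
    refine Subgroup.zpow_mem _ ?_ i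
    obtain ⟨j, hj⟩ := hcΦ g
    refine ⟨j, ?_⟩
    have h := congrArg (fun t : Pg => (t : G)) hj
    simp only [hΦ, MulAut.conjNormal_apply, SubgroupClass.coe_zpow] at h
    exact h
  have hZP : Z ≤ Pg := by rw [hZdef]; exact Subgroup.zpowers_le.2 c.2
  obtain ⟨A, hA⟩ : ∃ A : Subgroup G, A = O1 ⊔ Z := ⟨_, rfl⟩
  have hAc : ∀ a ∈ A, ∀ b ∈ A, a * b = b * a := by
    have : IsMulCommutative A := by
      rw [hA, hZdef, Subgroup.zpowers_eq_closure, ← Subgroup.closure_eq O1, ← Subgroup.closure_union]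
      refine Subgroup.isMulCommutative_closure fun a ha b hb => ?_
      rcases ha with ha | ha <;> rcases hb with hb | hb
      · exact congrArg Subtype.val (CfsgLib.Solvable.comm_of_isCyclic (⟨a, ha⟩ : O1) ⟨b, hb⟩)
      · rw [Set.mem_singleton_iff] at hb; subst hb; exact hPO a (hO1O ha) _ c.2
      · rw [Set.mem_singleton_iff] at ha; subst ha; exact (hPO b (hO1O hb) _ c.2).symm
      · rw [Set.mem_singleton_iff] at ha hb; rw [ha, hb]
    intro a ha b hb
    exact congrArg Subtype.val (this.is_comm.comm ⟨a, ha⟩ ⟨b, hb⟩)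
  refine ⟨A, hA ▸ Subgroup.sup_normal _ _, hAc, isCyclic_of_comm hf A hAc, fun x hx => ?_⟩
  have hxC2 : x ∈ C2 := hcent A (hA ▸ le_sup_left) hx
  -- `C2 = O1 ⊔ Pg`
  obtain ⟨o, ho, y, hy, rfl⟩ : ∃ o ∈ O1, ∃ y ∈ Pg, o * y = x := by
    have htop : O1.subgroupOf C2 ⊔ (P : Subgroup C2) = ⊤ := by
      rw [← Subgroup.index_eq_one]
      have d1 : (O1.subgroupOf C2 ⊔ (P : Subgroup C2)).index ∣ (P : Subgroup C2).index :=
        Subgroup.index_dvd_of_le le_sup_right
      have d2 : (O1.subgroupOf C2 ⊔ (P : Subgroup C2)).index ∣ κ.ker.index := by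
        refine Subgroup.index_dvd_of_le (fun z hz => Subgroup.mem_sup_left ?_)
        rw [Subgroup.mem_subgroupOf]; exact (hker z).1 hz
      rw [Subgroup.index_ker] at d2
      obtain ⟨i, hi⟩ := (h2Q.to_subgroup κ.range).exists_card_eq
      rw [hi] at d2
      exact Nat.eq_one_of_dvd_coprimes ((Nat.prime_two.coprime_iff_not_dvd.2 P.not_dvd_index).pow_left i) d2 d1
    have hn1 : (O1.subgroupOf C2).Normal := inferInstance
    have hmem : (⟨x, hxC2⟩ : C2) ∈ O1.subgroupOf C2 ⊔ (P : Subgroup C2) := htop ▸ Subgroup.mem_top _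
    rw [Subgroup.mem_sup_of_normal_left] at hmem
    obtain ⟨o, ho, y, hy, e⟩ := hmem
    exact ⟨o, ho, y, hPg ▸ ⟨y, hy, rfl⟩, congrArg Subtype.val e⟩
  have hcA : (c : G) ∈ A := hA ▸ Subgroup.mem_sup_right (hZdef ▸ Subgroup.mem_zpowers _)
  have hoA : o ∈ A := hA ▸ Subgroup.mem_sup_left ho
  refine A.mul_mem hoA (hA ▸ Subgroup.mem_sup_right ?_)
  rw [hZdef]
  have hcy : (c : G) * y = y * c := by
    have h := Subgroup.mem_centralizer_iff.1 hx _ hcA
    rw [← mul_assoc, hAc _ hcA _ hoA, mul_assoc, mul_assoc] at h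
    exact mul_left_cancel h
  obtain ⟨j, hj⟩ := hcC ⟨y, hy⟩ (Subtype.ext hcy)
  exact ⟨j, congrArg (fun t : Pg => (t : G)) hj⟩

end CfsgLib.Perm.Ico
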