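import Cfsg.Agent.Lib.Perm.IcoSL25
import Mathlib.GroupTheory.Sylow

/-!
The graph on subgroups of order three of a fixed-point-free group.
-/

set_option autoImplicit false
set_option linter.unusedSectionVars false

namespace CfsgLib.Perm.Ico

open CfsgLib.Recog

variable {G : Type*} [Group G] [Finite G] {V : Type*} [AddCommGroup V] [Module ℂ V]
  [FiniteDimensional ℂ V] [Nontrivial V] {f : G →* Module.End ℂ V} {z : G}

variable (G) in
/-- The subgroups of order three. -/
abbrev Vtx := {P : Subgroup G // Nat.card P = 3}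

/-- The subgroup generated by an element of order three. -/
def mk {a : G} (ha : orderOf a = 3) : Vtx G := ⟨Subgroup.zpowers a, by rw [Nat.card_zpowers, ha]⟩

theorem exists_gen (P : Vtx G) : ∃ a, ∃ ha : orderOf a = 3, mk ha = P := by
  have : Fact (Nat.Prime 3) := ⟨Nat.prime_three⟩
  obtain ⟨⟨a, haP⟩, ha⟩ := exists_prime_orderOf_dvd_card' (G := P.1) 3 (by rw [P.2])
  rw [Subgroup.orderOf_mk] at ha
  refine ⟨a, ha, Subtype.ext (Subgroup.eq_of_le_of_card_ge (Subgroup.zpowers_le.2 haP) ?_)⟩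
  show Nat.card P.1 ≤ Nat.card (Subgroup.zpowers a)
  rw [P.2, Nat.card_zpowers, ha]

theorem mk_inv {a : G} (ha : orderOf a = 3) (ha' : orderOf a⁻¹ = 3) : mk ha' = mk ha :=
  Subtype.ext (Subgroup.zpowers_inv)

theorem mem_three {a u : G} (ha : orderOf a = 3) (hu : u ∈ Subgroup.zpowers a) (hu1 : u ≠ 1) :
    u = a ∨ u = a⁻¹ := by
  obtain ⟨n, rfl⟩ := hu
  dsimp only at hu1 ⊢
  rw [← zpow_mod_orderOf, ha] at hu1 ⊢
  have h0 := Int.emod_nonneg n (show ((3 : ℕ) : ℤ) ≠ 0 by norm_num)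
  have h3 := Int.emod_lt_of_pos n (show (0 : ℤ) < (3 : ℕ) by norm_num)
  rcases (show n % ((3 : ℕ) : ℤ) = 0 ∨ n % ((3 : ℕ) : ℤ) = 1 ∨ n % ((3 : ℕ) : ℤ) = 2 by omega)
    with e | e | e
  · exact absurd (by rw [e, zpow_zero]) hu1
  · exact Or.inl (by rw [e, zpow_one])
  · refine Or.inr ?_
    rw [e]
    show a ^ ((2 : ℕ) : ℤ) = a⁻¹
    rw [zpow_natCast, eq_comm, inv_eq_iff_mul_eq_one, ← pow_succ', show (2 + 1 : ℕ) = orderOf a from ha.symm, pow_orderOf_eq_one]

theorem mk_eq_mk_iff {a u : G} (ha : orderOf a = 3) (hu : orderOf u = 3) :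
    mk hu = mk ha ↔ u = a ∨ u = a⁻¹ := by
  constructor
  · intro e
    have he : Subgroup.zpowers u = Subgroup.zpowers a := congrArg Subtype.val e
    exact mem_three ha (he ▸ Subgroup.mem_zpowers u) (fun h => by rw [h, orderOf_one] at hu; omega)
  · rintro (rfl | rfl)
    · rfl
    · exact mk_inv ha hu

/-- Conjugation on the vertices. -/
def conjV (g : G) (P : Vtx G) : Vtx G :=
  ⟨P.1.map (MulAut.conj g).toMonoidHom, by
    rw [Subgroup.card_map_of_injective (MulAut.conj g).injective, P.2]⟩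

theorem conjV_mk (g : G) {a : G} (ha : orderOf a = 3) :
    conjV g (mk ha) = mk (conj_ctx (a := g) ha) :=
  Subtype.ext (by simp [conjV, mk, MonoidHom.map_zpowers])

theorem conjV_mul (g h : G) (P : Vtx G) : conjV g (conjV h P) = conjV (g * h) P := by
  apply Subtype.ext
  simp only [conjV, Subgroup.map_map]
  congr 1
  ext x
  simp [mul_assoc]

theorem conjV_one (P : Vtx G) : conjV 1 P = P := by
  obtain ⟨a, ha, rfl⟩ := exists_gen P
  rw [conjV_mk]
  exact Subtype.ext (by simp [mk])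

/-- Conjugation as a permutation of the vertices. -/
def conjE (g : G) : Vtx G ≃ Vtx G where
  toFun := conjV g
  invFun := conjV g⁻¹
  left_inv P := by rw [conjV_mul, inv_mul_cancel, conjV_one]
  right_inv P := by rw [conjV_mul, mul_inv_cancel, conjV_one]

variable (z) in
/-- Adjacency of vertices. -/
def VAdj (P Q : Vtx G) : Prop :=
  ∃ a u : G, ∃ (ha : orderOf a = 3) (hu : orderOf u = 3), mk ha = P ∧ mk hu = Q ∧ Adj z a u

section

variable (hf : Fpf f) (hz : orderOf z = 2)
include hf hz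

theorem adj_sym {a u : G} (h : Adj z a u) : Adj z u a :=
  adj_symm (invol_center hf hz) (invol_inv hz) h

theorem adj_inv_left {a u : G} (h : Adj z a u) : Adj z a⁻¹ u :=
  adj_sym hf hz (adj_inv_right (adj_sym hf hz h))

theorem vAdj_mk {a u : G} (ha : orderOf a = 3) (hu : orderOf u = 3) :
    VAdj z (mk ha) (mk hu) ↔ Adj z a u := by
  refine ⟨?_, fun h => ⟨a, u, ha, hu, rfl, rfl, h⟩⟩
  rintro ⟨a', u', ha', hu', e1, e2, h⟩
  rcases (mk_eq_mk_iff ha ha').1 e1 with rfl | rfl <;> rcases (mk_eq_mk_iff hu hu').1 e2 with rfl | rfl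
  · exact h
  · simpa using adj_inv_right h
  · simpa using adj_inv_left hf hz h
  · simpa using adj_inv_right (adj_inv_left hf hz h)

theorem vAdj_symm {P Q : Vtx G} (h : VAdj z P Q) : VAdj z Q P := by
  obtain ⟨a, u, ha, hu, rfl, rfl, h⟩ := h
  exact ⟨u, a, hu, ha, rfl, rfl, adj_sym hf hz h⟩

theorem vAdj_irrefl (P : Vtx G) : ¬ VAdj z P P := by
  obtain ⟨a, ha, rfl⟩ := exists_gen P
  rw [vAdj_mk hf hz]
  intro h
  have hd : ∀ x : G, orderOf x ∣ 3 → x ^ 2 = z → False := by
    intro x hx h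
    have h6 : orderOf z ∣ 3 := by
      rw [← h]; exact (orderOf_pow_dvd 2).trans hx
    rw [hz] at h6
    norm_num at h6
  rcases h with h | h
  · exact hd _ (orderOf_dvd_of_pow_eq_one (by
      rw [← pow_two, ← pow_mul, mul_comm, pow_mul, ← ha, pow_orderOf_eq_one, one_pow])) h
  · exact hd _ (by rw [mul_inv_cancel, orderOf_one]; norm_num) h

theorem vAdj_conj (g : G) {P Q : Vtx G} (h : VAdj z P Q) : VAdj z (conjV g P) (conjV g Q) := by
  obtain ⟨a, u, ha, hu, rfl, rfl, h⟩ := h
  rw [conjV_mk, conjV_mk, vAdj_mk hf hz]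
  exact adj_conj (invol_center hf hz) g h

theorem vAdj_conj_iff (g : G) {P Q : Vtx G} :
    VAdj z (conjV g P) (conjV g Q) ↔ VAdj z P Q := by
  refine ⟨fun h => ?_, vAdj_conj hf hz g⟩
  have := vAdj_conj hf hz g⁻¹ h
  rwa [conjV_mul, conjV_mul, inv_mul_cancel, conjV_one, conjV_one] at this

/-- All subgroups of order three are conjugate. -/
theorem conjV_transitive (P Q : Vtx G) : ∃ g, conjV g P = Q := by
  have : Fact (Nat.Prime 3) := ⟨Nat.prime_three⟩
  have uniq : ∀ (S : Sylow 3 G) (a b : G), a ∈ (S : Subgroup G) → b ∈ (S : Subgroup G) →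
      ∀ (ha : orderOf a = 3) (hb : orderOf b = 3), mk ha = mk hb := by
    intro S a b haS hbS ha hb
    have : Nontrivial (S : Subgroup G) := ⟨⟨⟨a, haS⟩, 1, fun e => by
      rw [show a = 1 from congrArg Subtype.val e, orderOf_one] at ha; omega⟩⟩
    have := S.2.center_nontrivial
    obtain ⟨n, hn⟩ := (S.2.to_subgroup (Subgroup.center (S : Subgroup G))).exists_card_eq
    have hn0 : n ≠ 0 := fun e => by
      rw [e, pow_zero] at hn
      exact absurd hn (Finite.one_lt_card).ne'
    obtain ⟨⟨⟨c, hcS⟩, hcc⟩, hc⟩ := exists_prime_orderOf_dvd_card'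
      (G := Subgroup.center (S : Subgroup G)) 3 (hn ▸ dvd_pow_self 3 hn0)
    rw [Subgroup.orderOf_mk, Subgroup.orderOf_mk] at hc
    have key : ∀ x ∈ (S : Subgroup G), ∀ hx : orderOf x = 3, mk hx = mk hc := by
      intro x hx hx3
      refine (mk_eq_mk_iff hc hx3).2 (commute_three hf hc hx3 ?_)
      exact (congrArg Subtype.val (Subgroup.mem_center_iff.1 hcc ⟨x, hx⟩)).symm
    rw [key a haS ha, key b hbS hb]
  obtain ⟨a, ha, rfl⟩ := exists_gen P
  obtain ⟨b, hb, rfl⟩ := exists_gen Q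
  obtain ⟨S, hS⟩ := (IsPGroup.of_card (p := 3) (n := 1)
    (G := Subgroup.zpowers a) (by rw [Nat.card_zpowers, ha, pow_one])).exists_le_sylow
  obtain ⟨T, hT⟩ := (IsPGroup.of_card (p := 3) (n := 1)
    (G := Subgroup.zpowers b) (by rw [Nat.card_zpowers, hb, pow_one])).exists_le_sylow
  obtain ⟨g, rfl⟩ := MulAction.exists_smul_eq G S T
  refine ⟨g, ?_⟩
  rw [conjV_mk]
  exact uniq (g • S) _ _ ⟨a, hS (Subgroup.mem_zpowers a), rfl⟩ (hT (Subgroup.mem_zpowers b)) _ hb

end

variable (z) in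
open scoped _root_.Classical in
/-- The neighbours of a vertex. -/
noncomputable def nbrs [Fintype (Vtx G)] (P : Vtx G) : Finset (Vtx G) :=
  Finset.univ.filter fun Q => VAdj z P Q

open scoped _root_.Classical in
theorem mem_nbrs [Fintype (Vtx G)] {P Q : Vtx G} : Q ∈ nbrs z P ↔ VAdj z P Q := by
  simp [nbrs]

section

variable [Fintype (Vtx G)] [DecidableEq (Vtx G)] (hf : Fpf f) (hz : orderOf z = 2)
include hf hz

theorem card_nbrs_eq (P Q : Vtx G) : (nbrs z P).card = (nbrs z Q).card := by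
  obtain ⟨g, rfl⟩ := conjV_transitive hf hz P Q
  refine Finset.card_equiv (conjE g) fun R => ?_
  rw [mem_nbrs, mem_nbrs]
  exact (vAdj_conj_iff hf hz g).symm

theorem exists_rep {a : G} (ha : orderOf a = 3) {Q : Vtx G} (h : VAdj z (mk ha) Q) :
    ∃ u, ∃ hu : orderOf u = 3, mk hu = Q ∧ (a * u) ^ 2 = z := by
  obtain ⟨u, hu, rfl⟩ := exists_gen Q
  rcases (vAdj_mk hf hz ha hu).1 h with h | h
  · exact ⟨u, hu, rfl, h⟩
  · exact ⟨u⁻¹, by rwa [orderOf_inv], mk_inv hu _, h⟩

/-- The number of common neighbours of an adjacent pair. -/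
theorem card_common_adj {P Q : Vtx G} (h : VAdj z P Q) :
    3 * (nbrs z P ∩ nbrs z Q).card = (nbrs z P).card + 3 := by
  classical
  obtain ⟨a, ha, rfl⟩ := exists_gen P
  obtain ⟨u, hu, rfl, hau⟩ := exists_rep hf hz ha h
  have hzc := invol_center hf hz
  have hfix : conjV a (mk ha) = mk ha := by
    rw [conjV_mk]; exact (mk_eq_mk_iff ha _).2 (Or.inl (by rw [mul_inv_cancel_right]))
  have hcube : ∀ R : Vtx G, conjV a (conjV a (conjV a R)) = R := by
    intro R
    rw [conjV_mul, conjV_mul, ← pow_three', ← ha, pow_orderOf_eq_one, conjV_one]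
  have hN : ∀ R, R ∈ nbrs z (mk ha) → conjV a R ∈ nbrs z (mk ha) := by
    intro R hR
    rw [mem_nbrs] at hR ⊢
    have := vAdj_conj hf hz a hR
    rwa [hfix] at this
  have hsq : ∀ x, (a * x) ^ 2 = z → (a * (a * x * a⁻¹)) ^ 2 = z := by
    intro x hx
    rw [show (a * (a * x * a⁻¹)) ^ 2 = a * (a * x) ^ 2 * a⁻¹ by simp [pow_two, mul_assoc], hx,
      Subgroup.mem_center_iff.1 hzc a, mul_inv_cancel_right]
  -- the orbit of the second vertex
  have hU1 : VAdj z (mk hu) (conjV a (mk hu)) := by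
    rw [conjV_mk, vAdj_mk hf hz]; exact adj_self_conj hf hz ha hu hau
  have hU2 : VAdj z (mk hu) (conjV a (conjV a (mk hu))) := by
    have := vAdj_conj hf hz a (vAdj_conj hf hz a hU1)
    rw [hcube] at this
    exact vAdj_symm hf hz this
  let c : Vtx G → ℕ := fun R => if VAdj z (mk hu) R then 1 else 0
  have hper : ∀ R ∈ nbrs z (mk ha), c R + c (conjV a R) + c (conjV a (conjV a R)) =
      1 + (if R = mk hu ∨ conjV a R = mk hu ∨ conjV a (conjV a R) = mk hu then 1 else 0) := by
    intro R hR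
    by_cases ho : R = mk hu ∨ conjV a R = mk hu ∨ conjV a (conjV a R) = mk hu
    · rw [if_pos ho]
      have h0 : c (mk hu) = 0 := if_neg (vAdj_irrefl hf hz _)
      have h1 : c (conjV a (mk hu)) = 1 := if_pos hU1
      have h2 : c (conjV a (conjV a (mk hu))) = 1 := if_pos hU2
      rcases ho with e | e | e
      · rw [e, h0, h1, h2]
      · rw [show R = conjV a (conjV a (mk hu)) by rw [← e, hcube], hcube, h0, h1, h2]
      · rw [show R = conjV a (mk hu) by rw [← e, hcube], hcube, h0, h1, h2]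
    · rw [if_neg ho, add_zero]
      simp only [not_or] at ho
      obtain ⟨w, hw, rfl, haw⟩ := exists_rep hf hz ha (mem_nbrs.1 hR)
      simp only [conjV_mk] at ho ⊢
      have n0 : u ≠ w := fun e => ho.1 ((mk_eq_mk_iff hu hw).2 (Or.inl e.symm))
      have n1 : u ≠ a * w * a⁻¹ := fun e => ho.2.1 ((mk_eq_mk_iff hu _).2 (Or.inl e.symm))
      have n2 : u ≠ a * (a * w * a⁻¹) * a⁻¹ :=
        fun e => ho.2.2 ((mk_eq_mk_iff hu _).2 (Or.inl e.symm))
      have back : a * (a * (a * w * a⁻¹) * a⁻¹) * a⁻¹ = w := by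
        rw [show a * (a * (a * w * a⁻¹) * a⁻¹) * a⁻¹ = (a * a * a) * w * (a * a * a)⁻¹ by group,
          ← pow_three', ← ha, pow_orderOf_eq_one, one_mul, inv_one, mul_one]
      obtain ⟨hex, h01⟩ := orbit hf hz ha hu hw hau haw n0 n1 n2
      obtain ⟨-, h12⟩ := orbit hf hz ha hu (conj_ctx hw) hau (hsq w haw) n1 n2 (by rw [back]; exact n0)
      obtain ⟨-, h20⟩ := orbit hf hz ha hu (conj_ctx (conj_ctx hw)) hau (hsq _ (hsq w haw)) n2
        (by rw [back]; exact n0) (by rw [back]; exact n1)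
      rw [back] at h20
      simp only [c, vAdj_mk hf hz]
      by_cases e0 : Adj z u w
      · rw [if_pos e0, if_neg fun e => h01 ⟨e0, e⟩, if_neg fun e => h20 ⟨e, e0⟩]
      · by_cases e1 : Adj z u (a * w * a⁻¹)
        · rw [if_neg e0, if_pos e1, if_neg fun e => h12 ⟨e1, e⟩]
        · rw [if_neg e0, if_neg e1, if_pos (hex.resolve_left e0 |>.resolve_left e1)]
  have hshift : ∀ φ : Vtx G → ℕ,
      ∑ R ∈ nbrs z (mk ha), φ (conjV a R) = ∑ R ∈ nbrs z (mk ha), φ R := by
    intro φ
    refine Finset.sum_bij (fun R _ => conjV a R) hN ?_ ?_ (fun R _ => rfl)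
    · exact fun R _ R' _ e => (conjE a).injective e
    · exact fun R hR => ⟨conjV a (conjV a R), hN _ (hN _ hR), hcube R⟩
  have hsum := Finset.sum_congr rfl hper
  rw [Finset.sum_add_distrib, Finset.sum_add_distrib, Finset.sum_add_distrib, hshift c,
    hshift (fun R => c (conjV a R)), hshift c] at hsum
  have hc : ∑ R ∈ nbrs z (mk ha), c R = (nbrs z (mk ha) ∩ nbrs z (mk hu)).card := by
    rw [← Finset.sum_filter, ← Finset.card_eq_sum_ones]
    congr 1
    ext R
    simp [mem_nbrs]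
  have horb : (Finset.filter (fun R => R = mk hu ∨ conjV a R = mk hu ∨ conjV a (conjV a R) = mk hu)
      (nbrs z (mk ha))) = {mk hu, conjV a (mk hu), conjV a (conjV a (mk hu))} := by
    have hu' : mk hu ∈ nbrs z (mk ha) := mem_nbrs.2 h
    ext R
    simp only [Finset.mem_filter, Finset.mem_insert, Finset.mem_singleton]
    constructor
    · rintro ⟨-, e | e | e⟩
      · exact Or.inl e
      · exact Or.inr (Or.inr (by rw [← e, hcube]))
      · exact Or.inr (Or.inl (by rw [← e, hcube]))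
    · rintro (rfl | rfl | rfl)
      exacts [⟨hu', Or.inl rfl⟩, ⟨hN _ hu', Or.inr (Or.inr (hcube _))⟩,
        ⟨hN _ (hN _ hu'), Or.inr (Or.inl (hcube _))⟩]
  have hne1 : mk hu ≠ conjV a (mk hu) := fun e => vAdj_irrefl hf hz _ (e.symm ▸ hU1)
  have hne2 : mk hu ≠ conjV a (conjV a (mk hu)) := fun e => vAdj_irrefl hf hz _ (e.symm ▸ hU2)
  have hne12 : conjV a (mk hu) ≠ conjV a (conjV a (mk hu)) := fun e => hne1 ((conjE a).injective e)
  rw [hc, Finset.sum_const, smul_eq_mul, mul_one, ← Finset.sum_filter, ← Finset.card_eq_sum_ones]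
    at hsum
  have h3 : ({mk hu, conjV a (mk hu), conjV a (conjV a (mk hu))} : Finset (Vtx G)).card = 3 := by
    rw [Finset.card_insert_of_notMem (by simp [hne1, hne2]), Finset.card_pair hne12]
  rw [← horb] at h3
  have h3' : (nbrs z (mk ha)).card + 3 = 3 * (nbrs z (mk ha) ∩ nbrs z (mk hu)).card := by
    omega
  exact h3'.symm

/-- The number of common neighbours of a non-adjacent pair. -/
theorem card_common_nonadj {P Q : Vtx G} (hPQ : P ≠ Q) (h : ¬ VAdj z P Q) :
    (nbrs z P ∩ nbrs z Q).card = 4 := by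
  classical
  obtain ⟨a, ha, rfl⟩ := exists_gen P
  obtain ⟨u, hu, rfl⟩ := exists_gen Q
  have hadj : ¬ Adj z a u := fun e => h ((vAdj_mk hf hz ha hu).2 e)
  have hne : u ≠ a := fun e => hPQ ((mk_eq_mk_iff ha hu).2 (Or.inl e)).symm
  have hne' : u ≠ a⁻¹ := fun e => hPQ ((mk_eq_mk_iff ha hu).2 (Or.inr e)).symm
  obtain ⟨ψ, hinj, hψa, hψu, hψz, hψH⟩ := exists_sl25 hf hz ha hu hne hne' hadj
  obtain ⟨hlen, hspec⟩ := stdCommon_spec
  have ord : ∀ x ∈ stdCommon, orderOf (ψ x) = 3 := fun x hx => by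
    rw [orderOf_injective ψ hinj]
    exact orderOf_eq_prime (by rw [pow_three']; exact (hspec x hx).1) (hspec x hx).2.1
  have adjs : ∀ x ∈ stdCommon, Adj z a (ψ x) ∧ Adj z u (ψ x) := fun x hx => by
    obtain ⟨-, -, h1, h2⟩ := hspec x hx
    constructor
    · rcases h1 with h1 | h1 <;> [left; right] <;>
        rw [← hψa, ← hψz, ← h1] <;> simp [map_pow, map_mul, map_inv]
    · rcases h2 with h2 | h2 <;> [left; right] <;>
        rw [← hψu, ← hψz, ← h2] <;> simp [map_pow, map_mul, map_inv]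
  have himg : ∀ x ∈ stdCommon, ∃ R : Vtx G, R ∈ nbrs z (mk ha) ∩ nbrs z (mk hu) ∧
      R.1 = Subgroup.zpowers (ψ x) := fun x hx =>
    ⟨mk (ord x hx), Finset.mem_inter.2 ⟨mem_nbrs.2 ((vAdj_mk hf hz ha _).2 (adjs x hx).1),
      mem_nbrs.2 ((vAdj_mk hf hz hu _).2 (adjs x hx).2)⟩, rfl⟩
  have hdist : stdCommon.Pairwise fun x y => Subgroup.zpowers (ψ x) ≠ Subgroup.zpowers (ψ y) := by
    refine stdCommon_pairwise.imp_of_mem fun {x y} hx hy hxy e => ?_
    rcases (mk_eq_mk_iff (ord x hx) (ord y hy)).1 (Subtype.ext e.symm) with e' | e'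
    · exact hxy.1 (hinj e')
    · exact hxy.2 (hinj (e'.trans (map_inv ψ x).symm))
  refine le_antisymm ?_ ?_
  · -- nine elements would be one too many
    by_contra h5
    let L : Finset G := (stdCommon.map ψ ++ stdCommon.map fun x => (ψ x)⁻¹).toFinset
    have hLc : L.card = 8 := by
      rw [List.toFinset_card_of_nodup, List.length_append, List.length_map, List.length_map, hlen]
      rw [List.nodup_append]
      have nd : stdCommon.Pairwise (fun x y => ψ x ≠ ψ y) :=
        stdCommon_pairwise.imp fun hxy e => hxy.1 (hinj e.symm)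
      refine ⟨List.pairwise_map.2 nd, List.pairwise_map.2 (nd.imp fun hxy e => hxy (inv_injective e)),
        fun x hx y hy e => ?_⟩
      obtain ⟨p, hp, rfl⟩ := List.mem_map.1 hx
      obtain ⟨q, hq, rfl⟩ := List.mem_map.1 hy
      rw [← map_inv] at e
      have e' := hinj e
      by_cases hpq : p = q
      · subst hpq
        obtain ⟨h3, h1, -⟩ := hspec p hp
        refine h1 ?_
        rw [eq_inv_iff_mul_eq_one] at e'
        rwa [e', one_mul] at h3
      · have : Std.Symm (fun x y : SL25 => y ≠ x ∧ y ≠ x⁻¹) :=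
          ⟨fun x y hxy => ⟨hxy.1.symm, fun e => hxy.2 (by rw [e, inv_inv])⟩⟩
        exact ((List.Pairwise.forall stdCommon_pairwise hq hp (Ne.symm hpq)).2) e'
    have hLsub : ∀ x ∈ L, ∃ p ∈ stdCommon, x = ψ p ∨ x = (ψ p)⁻¹ := by
      intro x hx
      rw [List.mem_toFinset, List.mem_append] at hx
      rcases hx with hx | hx <;> obtain ⟨p, hp, rfl⟩ := List.mem_map.1 hx
      exacts [⟨p, hp, Or.inl rfl⟩, ⟨p, hp, Or.inr rfl⟩]
    obtain ⟨R, hR, hRnew⟩ : ∃ R ∈ nbrs z (mk ha) ∩ nbrs z (mk hu),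
        ∀ p ∈ stdCommon, R.1 ≠ Subgroup.zpowers (ψ p) := by
      by_contra hall
      simp only [not_exists, not_and, not_forall, not_not] at hall
      have := Finset.card_le_card_of_injOn (t := stdCommon.toFinset.image fun p => Subgroup.zpowers (ψ p))
        (fun R : Vtx G => R.1) (fun R hR => by
          obtain ⟨p, hp, e⟩ := hall R hR
          exact Finset.mem_image.2 ⟨p, List.mem_toFinset.2 hp, e.symm⟩)
        (fun x _ y _ e => Subtype.ext e)
      have h' := Finset.card_image_le (s := stdCommon.toFinset) (f := fun p => Subgroup.zpowers (ψ p))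
      have := List.toFinset_card_le stdCommon
      omega
    obtain ⟨w, hw, rfl⟩ := exists_gen R
    rw [Finset.mem_inter, mem_nbrs, mem_nbrs, vAdj_mk hf hz, vAdj_mk hf hz] at hR
    have hwL : w ∉ L := by
      intro hwL
      obtain ⟨p, hp, e | e⟩ := hLsub w hwL
      · exact hRnew p hp (congrArg Subtype.val ((mk_eq_mk_iff (ord p hp) hw).2 (Or.inl e)))
      · exact hRnew p hp (congrArg Subtype.val ((mk_eq_mk_iff (ord p hp) hw).2 (Or.inr e)))
    have h8 := card_common_le hf hz ha hu hne hne' hadj (insert w L) (Finset.mem_insert_self _ _)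
      (fun x hx => ?_) (fun x hx => ?_)
    · rw [Finset.card_insert_of_notMem hwL, hLc] at h8
      omega
    · rcases Finset.mem_insert.1 hx with rfl | hx
      · exact Subgroup.subset_closure (by simp)
      · have hm := fun p => Subgroup.closure_mono
          (show ({a, u} : Set G) ⊆ {a, u, w, z} from Set.insert_subset_insert (by simp)) (hψH p)
        obtain ⟨p, hp, rfl | rfl⟩ := hLsub x hx
        exacts [hm p, Subgroup.inv_mem _ (hm p)]
    · rcases Finset.mem_insert.1 hx with rfl | hx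
      · exact ⟨hw, hR⟩
      · obtain ⟨p, hp, rfl | rfl⟩ := hLsub x hx
        · exact ⟨ord p hp, adjs p hp⟩
        · exact ⟨by rw [orderOf_inv]; exact ord p hp, adj_inv_right (adjs p hp).1,
            adj_inv_right (adjs p hp).2⟩
  · -- the four known ones
    have hnd : (stdCommon.map fun x => Subgroup.zpowers (ψ x)).Nodup := List.pairwise_map.2 hdist
    calc 4 = (stdCommon.map fun x => Subgroup.zpowers (ψ x)).toFinset.card := by
          rw [List.toFinset_card_of_nodup hnd, List.length_map, hlen]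
      _ ≤ ((nbrs z (mk ha) ∩ nbrs z (mk hu)).image Subtype.val).card := Finset.card_le_card (by
          intro S hS
          rw [List.mem_toFinset, List.mem_map] at hS
          obtain ⟨p, hp, rfl⟩ := hS
          obtain ⟨R, hR, e⟩ := himg p hp
          exact Finset.mem_image.2 ⟨R, hR, e⟩)
      _ ≤ _ := Finset.card_image_le

end

end CfsgLib.Perm.Ico
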