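import Cfsg.Agent.Lib.Perm.IcoLocal

/-!
Configurations of elements of order three in a fixed-point-free group.
-/

set_option autoImplicit false

namespace CfsgLib.Perm.Ico

variable {G : Type*} [Group G] {V : Type*} [AddCommGroup V] [Module ℂ V] [FiniteDimensional ℂ V]
  [Nontrivial V] {f : G →* Module.End ℂ V}

theorem invol_unique (hf : Fpf f) {z y : G} (hz : orderOf z = 2) (hy : orderOf y = 2) : y = z :=
  eq_of_map_eq hf (by rw [map_eq_neg_one hf hz, map_eq_neg_one hf hy])

theorem invol_center (hf : Fpf f) {z : G} (hz : orderOf z = 2) : z ∈ Subgroup.center G := by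
  refine Subgroup.mem_center_iff.2 fun g => eq_of_map_eq hf ?_
  rw [map_mul, map_mul, map_eq_neg_one hf hz, mul_neg, neg_mul, one_mul, mul_one]

theorem invol_inv {z : G} (hz : orderOf z = 2) : z⁻¹ = z :=
  inv_eq_of_mul_eq_one_right (by rw [← pow_two, ← hz, pow_orderOf_eq_one])

theorem commute_three (hf : Fpf f) {a u : G} (ha : orderOf a = 3) (hu : orderOf u = 3)
    (hc : Commute a u) : u = a ∨ u = a⁻¹ := by
  obtain ⟨v, hv⟩ := exists_ne (0 : V)
  have hcm : f u * f a = f a * f u := by rw [← map_mul, ← map_mul, hc.eq]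
  have key : (f u - f a) * (f u - f a⁻¹) = 0 := by
    have h1 : f a * f a⁻¹ = 1 := map_mul_inv f a
    have h2 : f a + f a⁻¹ = -1 := by
      rw [map_inv_three hf ha, ctr]; module
    calc (f u - f a) * (f u - f a⁻¹) = f u * f u - (f u * f a⁻¹ + f a * f u) + f a * f a⁻¹ := by
          noncomm_ring
      _ = f u * f u - f u * (f a + f a⁻¹) + 1 := by rw [← hcm, h1, mul_add]; abel
      _ = 0 := by rw [h2, map_sq_of_orderOf_three hf hu]; noncomm_ring
  by_cases h : (f u - f a⁻¹) v = 0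
  · exact Or.inr (eq_of_apply hf hv (sub_eq_zero.1 (by simpa using h)))
  · have h' := congrArg (fun T : Module.End ℂ V => T v) key
    simp only [Module.End.mul_apply, LinearMap.zero_apply] at h'
    exact Or.inl (eq_of_apply hf h (sub_eq_zero.1 (by rw [LinearMap.sub_apply] at h'; exact h')))

omit [FiniteDimensional ℂ V] [Nontrivial V] in
theorem closure_four (a u w z : G) :
    Subgroup.closure ({⟨a, Subgroup.subset_closure (by simp)⟩, ⟨u, Subgroup.subset_closure (by simp)⟩,
      ⟨w, Subgroup.subset_closure (by simp)⟩, ⟨z, Subgroup.subset_closure (by simp)⟩} :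
        Set (Subgroup.closure ({a, u, w, z} : Set G))) = ⊤ := by
  rw [← Subgroup.closure_closure_coe_preimage (k := ({a, u, w, z} : Set G))]
  congr 1
  ext ⟨x, hx⟩
  simp [Subtype.ext_iff]

/-- Relations for two non-adjacent elements of order three. -/
theorem golden [Finite G] (hf : Fpf f) {z a u : G} (hz : orderOf z = 2) (ha : orderOf a = 3)
    (hu : orderOf u = 3) (hne : u ≠ a) (hne' : u ≠ a⁻¹) (hadj : ¬ Adj z a u) :
    (a * u) ^ 5 = z ∧ (a * (a * u) ^ 2) ^ 2 = z := by
  obtain ⟨a', ha'⟩ : ∃ a' : Subgroup.closure ({a, u, a, z} : Set G),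
    a' = ⟨a, Subgroup.subset_closure (by simp)⟩ := ⟨_, rfl⟩
  obtain ⟨u', hu'⟩ : ∃ u' : Subgroup.closure ({a, u, a, z} : Set G),
    u' = ⟨u, Subgroup.subset_closure (by simp)⟩ := ⟨_, rfl⟩
  obtain ⟨z', hz'⟩ : ∃ z' : Subgroup.closure ({a, u, a, z} : Set G),
    z' = ⟨z, Subgroup.subset_closure (by simp)⟩ := ⟨_, rfl⟩
  refine with_irr hf (Subgroup.closure ({a, u, a, z} : Set G)) fun E _ _ _ _ ρ hfE hirr => ?_
  have hz2 : orderOf z' = 2 := by rw [hz', Subgroup.orderOf_mk, hz]
  have hzm := map_eq_neg_one hfE hz2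
  have ha3 : orderOf a' = 3 := by rw [ha', Subgroup.orderOf_mk, ha]
  have hu3 : orderOf u' = 3 := by rw [hu', Subgroup.orderOf_mk, hu]
  have ha3i : orderOf a'⁻¹ = 3 := by rwa [orderOf_inv]
  obtain ⟨c, hc, hc5⟩ := golden_irr (z := z') (a := a') (u := u') hfE hirr hzm
    (by rw [ha', hu', hz']; exact closure_four a u a z) ha3 hu3
    (fun e => hne (by simpa [ha', hu'] using congrArg Subtype.val e))
    (fun e => hne' (by simpa [ha', hu'] using congrArg Subtype.val e))
    (fun e => hadj (by simpa [ha', hu', hz', adj_map] using e))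
  have e1 := map_mul_add_inv hfE ha3 hu3
  rw [hc] at e1
  obtain ⟨v, hvd⟩ : ∃ v, v = ρ (a' * u') := ⟨_, rfl⟩
  obtain ⟨x, hx⟩ : ∃ x : ℂ, x = c + 1 / 2 := ⟨_, rfl⟩
  have hvv : v * v = x • v - 1 := by
    have h := congrArg (fun T => ρ (a' * u') * T) e1
    simp only [mul_add, map_mul_inv, mul_smul_comm, mul_one] at h
    rw [hx, hvd, eq_sub_iff_add_eq, h, add_smul]
  have hxx : x * x = x + 1 := by rw [hx]; linear_combination hc5
  have hv3 : v * v * v = x • v - x • 1 := by
    rw [hvv, sub_mul, smul_mul_assoc, hvv, one_mul, smul_sub, smul_smul, hxx]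
    module
  have h5 : v * v * v * (v * v) = -1 := by
    rw [hv3, hvv]
    simp only [sub_mul, mul_sub, smul_mul_assoc, mul_smul_comm, one_mul, mul_one, hvv, smul_sub,
      smul_smul]
    calc _ = (x * x * x - x * x - x) • v + (x - x * x) • (1 : Module.End ℂ E) := by module
      _ = (0 : ℂ) • v + (-1 : ℂ) • (1 : Module.End ℂ E) := by
        rw [show x * x * x - x * x - x = 0 by linear_combination x * hxx,
          show x - x * x = -1 by linear_combination -hxx]
      _ = _ := by module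
  constructor
  · have h := eq_of_map_eq hfE (g := (a' * u') ^ 5) (h := z') (by
      rw [map_pow, hzm, ← h5, ← hvd]; simp only [pow_succ, pow_zero, one_mul, mul_assoc])
    simpa [ha', hu', hz'] using congrArg Subtype.val h
  · obtain ⟨g, hg⟩ : ∃ g, g = a' * (a' * u') ^ 2 := ⟨_, rfl⟩
    have h0 : ρ g + ρ g⁻¹ = 0 := by
      have e2 := map_mul_add_inv hfE ha3i hu3
      rw [anti_comm, anti_inv_right hfE u' ha3, anti_comm, hc] at e2
      have haa : a' * a' = a'⁻¹ := (inv_eq_of_mul_eq_one_right (by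
        rw [← pow_three, ← ha3, pow_orderOf_eq_one])).symm
      have g1 : ρ g = x • ρ (a'⁻¹ * u') - ρ a' := by
        rw [hg, pow_two, map_mul ρ a', map_mul ρ (a' * u'), ← hvd, hvv, mul_sub, mul_smul_comm,
          mul_one, hvd, ← map_mul, ← mul_assoc, haa]
      have g2 : ρ g⁻¹ = x • ρ (a'⁻¹ * u')⁻¹ - ρ a'⁻¹ := by
        have hinv : ρ (a' * u')⁻¹ * ρ (a' * u')⁻¹ = x • ρ (a' * u')⁻¹ - 1 := by
          have h := congrArg (fun T => ρ (a' * u')⁻¹ * T) e1
          simp only [mul_add, mul_smul_comm, mul_one, ← map_mul ρ (a' * u')⁻¹ (a' * u'),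
            inv_mul_cancel, map_one] at h
          rw [eq_sub_iff_add_eq, add_comm, h, hx, add_smul]
        rw [hg, mul_inv_rev, map_mul, ← inv_pow, pow_two, map_mul, hinv, sub_mul, smul_mul_assoc,
          one_mul, ← map_mul, ← mul_inv_rev, ← mul_assoc, haa]
      rw [g1, g2, show x • ρ (a'⁻¹ * u') - ρ a' + (x • ρ (a'⁻¹ * u')⁻¹ - ρ a'⁻¹) =
        x • (ρ (a'⁻¹ * u') + ρ (a'⁻¹ * u')⁻¹) - (ρ a' + ρ a'⁻¹) by module, e2,
        map_inv_three hfE ha3, ctr]
      calc _ = (x * (-c + 1 / 2) + 1) • (1 : Module.End ℂ E) := by module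
        _ = _ := by rw [show x * (-c + 1 / 2) + 1 = 0 by rw [hx]; linear_combination -hc5, zero_smul]
    have h := eq_of_map_eq hfE (g := g ^ 2) (h := z') (by
      calc ρ (g ^ 2) = -(ρ g * ρ g⁻¹) := by
            rw [eq_neg_of_add_eq_zero_right h0, pow_two, map_mul, mul_neg, neg_neg]
        _ = ρ z' := by rw [map_mul_inv, hzm])
    simpa [hg, ha', hu', hz'] using congrArg Subtype.val h

/-- At most eight common neighbours of two non-adjacent elements inside a generated subgroup. -/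
theorem card_common_le [Finite G] (hf : Fpf f) {z a u w : G} (hz : orderOf z = 2)
    (ha : orderOf a = 3) (hu : orderOf u = 3) (hne : u ≠ a) (hne' : u ≠ a⁻¹) (hadj : ¬ Adj z a u)
    (S : Finset G) (hw : w ∈ S) (hSH : ∀ x ∈ S, x ∈ Subgroup.closure ({a, u, w, z} : Set G))
    (hS : ∀ x ∈ S, orderOf x = 3 ∧ Adj z a x ∧ Adj z u x) : S.card ≤ 8 := by
  classical
  refine with_irr hf (Subgroup.closure ({a, u, w, z} : Set G)) fun E _ _ _ _ ρ hfE hirr => ?_
  obtain ⟨a', ha'⟩ : ∃ a' : Subgroup.closure ({a, u, w, z} : Set G),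
    a' = ⟨a, Subgroup.subset_closure (by simp)⟩ := ⟨_, rfl⟩
  obtain ⟨u', hu'⟩ : ∃ u' : Subgroup.closure ({a, u, w, z} : Set G),
    u' = ⟨u, Subgroup.subset_closure (by simp)⟩ := ⟨_, rfl⟩
  obtain ⟨w', hw'⟩ : ∃ w' : Subgroup.closure ({a, u, w, z} : Set G),
    w' = ⟨w, Subgroup.subset_closure (by simp)⟩ := ⟨_, rfl⟩
  obtain ⟨z', hz'⟩ : ∃ z' : Subgroup.closure ({a, u, w, z} : Set G),
    z' = ⟨z, Subgroup.subset_closure (by simp)⟩ := ⟨_, rfl⟩
  have hgen : Subgroup.closure ({a', u', w', z'} : Set _) = ⊤ := by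
    rw [ha', hu', hw', hz']; exact closure_four a u w z
  obtain ⟨T, hT⟩ : ∃ T : Finset (Subgroup.closure ({a, u, w, z} : Set G)),
      T = S.attach.image fun x => ⟨x.1, hSH x.1 x.2⟩ := ⟨_, rfl⟩
  have hcard : T.card = S.card := by
    rw [hT, Finset.card_image_of_injective _ (fun x y e => Subtype.ext (by simpa using e)),
      Finset.card_attach]
  rw [← hcard]
  refine card_common_le_irr (z := z') (a := a') (u := u') (w := w') hfE hirr
    (map_eq_neg_one hfE (by rw [hz', Subgroup.orderOf_mk, hz])) hgen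
    (by rw [ha', Subgroup.orderOf_mk, ha]) (by rw [hu', Subgroup.orderOf_mk, hu])
    (fun e => hne (by simpa [ha', hu'] using congrArg Subtype.val e))
    (fun e => hne' (by simpa [ha', hu'] using congrArg Subtype.val e))
    (fun e => hadj (by simpa [ha', hu', hz', adj_map] using e)) T
    (by rw [hT]; exact Finset.mem_image.2 ⟨⟨w, hw⟩, Finset.mem_attach _ _, hw'.symm⟩) ?_
  intro x hx
  rw [hT] at hx
  obtain ⟨⟨y, hy⟩, -, rfl⟩ := Finset.mem_image.1 hx
  obtain ⟨h1, h2, h3⟩ := hS y hy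
  exact ⟨by rw [Subgroup.orderOf_mk, h1], by simpa [ha', hz', adj_map] using h2,
    by simpa [hu', hz', adj_map] using h3⟩

/-- Exactly one of three conjugate neighbours is adjacent to a further neighbour. -/
theorem orbit [Finite G] (hf : Fpf f) {z a u w : G} (hz : orderOf z = 2) (ha : orderOf a = 3)
    (hu : orderOf u = 3) (hw : orderOf w = 3) (hau : (a * u) ^ 2 = z) (haw : (a * w) ^ 2 = z)
    (h0 : u ≠ w) (h1 : u ≠ a * w * a⁻¹) (h2 : u ≠ a * (a * w * a⁻¹) * a⁻¹) :
    (Adj z u w ∨ Adj z u (a * w * a⁻¹) ∨ Adj z u (a * (a * w * a⁻¹) * a⁻¹)) ∧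
      ¬ (Adj z u w ∧ Adj z u (a * w * a⁻¹)) := by
  refine with_irr hf (Subgroup.closure ({a, u, w, z} : Set G)) fun E _ _ _ _ ρ hfE hirr => ?_
  obtain ⟨a', ha'⟩ : ∃ a' : Subgroup.closure ({a, u, w, z} : Set G),
    a' = ⟨a, Subgroup.subset_closure (by simp)⟩ := ⟨_, rfl⟩
  obtain ⟨u', hu'⟩ : ∃ u' : Subgroup.closure ({a, u, w, z} : Set G),
    u' = ⟨u, Subgroup.subset_closure (by simp)⟩ := ⟨_, rfl⟩
  obtain ⟨w', hw'⟩ : ∃ w' : Subgroup.closure ({a, u, w, z} : Set G),
    w' = ⟨w, Subgroup.subset_closure (by simp)⟩ := ⟨_, rfl⟩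
  obtain ⟨z', hz'⟩ : ∃ z' : Subgroup.closure ({a, u, w, z} : Set G),
    z' = ⟨z, Subgroup.subset_closure (by simp)⟩ := ⟨_, rfl⟩
  have hgen : Subgroup.closure ({a', u', w', z'} : Set _) = ⊤ := by
    rw [ha', hu', hw', hz']; exact closure_four a u w z
  have hz2 : orderOf z' = 2 := by rw [hz', Subgroup.orderOf_mk, hz]
  have h := orbit_irr (z := z') (a := a') (u := u') (w := w') hfE hirr (map_eq_neg_one hfE hz2)
    (invol_center hfE hz2) hgen (by rw [ha', Subgroup.orderOf_mk, ha])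
    (by rw [hu', Subgroup.orderOf_mk, hu]) (by rw [hw', Subgroup.orderOf_mk, hw])
    (Subtype.ext (by simpa [ha', hu', hz'] using hau))
    (Subtype.ext (by simpa [ha', hw', hz'] using haw))
    (fun e => h0 (by simpa [hu', hw'] using congrArg Subtype.val e))
    (fun e => h1 (by simpa [ha', hu', hw'] using congrArg Subtype.val e))
    (fun e => h2 (by simpa [ha', hu', hw'] using congrArg Subtype.val e))
  simpa [adj_map, ha', hu', hw', hz'] using h

/-- The conjugate of a neighbour is adjacent to it. -/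
theorem adj_self_conj [Finite G] (hf : Fpf f) {z a u : G} (hz : orderOf z = 2) (ha : orderOf a = 3)
    (hu : orderOf u = 3) (hau : (a * u) ^ 2 = z) : Adj z u (a * u * a⁻¹) := by
  have hzm := map_eq_neg_one hf hz
  have hp := anti_of_sq_eq hf ha hu hzm hau
  have hc := coeff_conj hf ha hp (x := u) (α := 0) (β := 1) (γ := 0) (by module)
  exact adj_of_anti hf hu (conj_ctx hu) hzm (anti_of_coeff hf hu hp hc) (by norm_num)

end CfsgLib.Perm.Ico
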