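import Cfsg.Agent.Lib.Perm.IcoTriple
import Mathlib.LinearAlgebra.Dimension.Finrank

/-!
Local analysis of configurations of elements of order three.
-/

set_option autoImplicit false

namespace CfsgLib.Perm.Ico

variable {G : Type*} [Group G] {V : Type*} [AddCommGroup V] [Module ℂ V]
  {f : G →* Module.End ℂ V}

/-- Restriction of a representation to a subgroup and an invariant subspace. -/
def resHom (f : G →* Module.End ℂ V) (H : Subgroup G) (E : Submodule ℂ V)
    (hE : ∀ g : H, ∀ x ∈ E, f g x ∈ E) : H →* Module.End ℂ E where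
  toFun g := (f g).restrict (hE g)
  map_one' := by
    ext x
    simp
  map_mul' g h := by
    ext x
    simp [map_mul]

theorem exists_irr [FiniteDimensional ℂ V] [Nontrivial V] (hf : Fpf f) (H : Subgroup G) :
    ∃ (E : Submodule ℂ V) (hE : ∀ g : H, ∀ x ∈ E, f g x ∈ E),
      Nontrivial E ∧ Fpf (resHom f H E hE) ∧ Irr (resHom f H E hE) := by
  classical
  have hex : ∃ d, ∃ E : Submodule ℂ V, E ≠ ⊥ ∧ (∀ g : H, ∀ x ∈ E, f g x ∈ E) ∧
      Module.finrank ℂ E = d :=
    ⟨_, ⊤, top_ne_bot, fun g x _ => Submodule.mem_top, rfl⟩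
  obtain ⟨E, hne, hE, hd⟩ := Nat.find_spec hex
  refine ⟨E, hE, Submodule.nontrivial_iff_ne_bot.2 hne, fun g hg v hv => Subtype.ext ?_, fun W hW => ?_⟩
  · exact hf g (fun h => hg (Subtype.ext h)) v (congrArg Subtype.val hv)
  · refine or_iff_not_imp_left.2 fun hW0 => ?_
    have hne' : W.map E.subtype ≠ ⊥ := fun h =>
      hW0 (Submodule.map_injective_of_injective E.injective_subtype (by rw [h, Submodule.map_bot]))
    have hinv : ∀ g : H, ∀ x ∈ W.map E.subtype, f g x ∈ W.map E.subtype := by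
      rintro g _ ⟨x, hx, rfl⟩
      exact ⟨resHom f H E hE g x, hW g x hx, rfl⟩
    have h := Nat.find_min' hex ⟨_, hne', hinv, rfl⟩
    rw [← hd, (Submodule.equivMapOfInjective E.subtype E.injective_subtype W).finrank_eq.symm] at h
    exact Submodule.eq_top_of_finrank_eq (le_antisymm (Submodule.finrank_le W) h)

universe uV

/-- Passing to an irreducible representation of a subgroup. -/
theorem with_irr {G : Type*} [Group G] {V : Type uV} [AddCommGroup V] [Module ℂ V]
    [FiniteDimensional ℂ V] [Nontrivial V] {f : G →* Module.End ℂ V} (hf : Fpf f) (H : Subgroup G)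
    {P : Prop} (h : ∀ (W : Type uV) [AddCommGroup W] [Module ℂ W] [FiniteDimensional ℂ W]
      [Nontrivial W] (ρ : H →* Module.End ℂ W), Fpf ρ → Irr ρ → P) : P := by
  obtain ⟨E, hE, hnt, h1, h2⟩ := exists_irr hf H
  exact h E (resHom f H E hE) h1 h2

theorem adj_symm {z a u : G} (hz : z ∈ Subgroup.center G) (hz2 : z⁻¹ = z) (h : Adj z a u) :
    Adj z u a := by
  have key : ∀ x y : G, (x * y) ^ 2 = z → (y * x) ^ 2 = z := by
    intro x y h
    rw [show (y * x) ^ 2 = x⁻¹ * (x * y) ^ 2 * x by simp [pow_two, mul_assoc], h, mul_assoc,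
      ← Subgroup.mem_center_iff.1 hz x, inv_mul_cancel_left]
  rcases h with h | h
  · exact Or.inl (key a u h)
  · refine Or.inr ?_
    rw [show (u * a⁻¹) ^ 2 = ((a * u⁻¹) ^ 2)⁻¹ by simp [pow_two, mul_assoc], h, hz2]

theorem adj_inv_right {z a u : G} (h : Adj z a u) : Adj z a u⁻¹ := by
  rcases h with h | h
  · exact Or.inr (by rwa [inv_inv])
  · exact Or.inl h

theorem adj_conj {z a u : G} (hz : z ∈ Subgroup.center G) (g : G) (h : Adj z a u) :
    Adj z (g * a * g⁻¹) (g * u * g⁻¹) := by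
  have key : ∀ x : G, x ^ 2 = z → (g * x * g⁻¹) ^ 2 = z := fun x hx => by
    rw [conj_pow, hx, Subgroup.mem_center_iff.1 hz g, mul_inv_cancel_right]
  rcases h with h | h
  · exact Or.inl (by rw [show g * a * g⁻¹ * (g * u * g⁻¹) = g * (a * u) * g⁻¹ by group]; exact key _ h)
  · exact Or.inr (by rw [show g * a * g⁻¹ * (g * u * g⁻¹)⁻¹ = g * (a * u⁻¹) * g⁻¹ by group]; exact key _ h)

theorem adj_conj_left {z a u : G} (hz : z ∈ Subgroup.center G) (h : Adj z a u) :
    Adj z a (a * u * a⁻¹) := by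
  have := adj_conj hz a h
  rwa [mul_inv_cancel_right] at this

theorem adj_map {H : Subgroup G} {z a u : H} : Adj z a u ↔ Adj (z : G) (a : G) (u : G) := by
  simp only [Adj, ← Subgroup.coe_inv, ← Subgroup.coe_mul, ← Subgroup.coe_pow, Subtype.coe_inj]

theorem anti_commute_third (hf : Fpf f) {a u w : G} {q r : ℂ} (hq : anti f w a = q • 1)
    (hr : anti f w u = r • 1) : Commute (anti f a u) (f w) := by
  have h : Commute (anti f a u) (ctr f w) := by
    simp only [anti] at hq hr ⊢
    generalize ctr f a = A at hq ⊢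
    generalize ctr f u = U at hr ⊢
    generalize ctr f w = W at hq hr ⊢
    have e1 : W * A = q • 1 - A * W := by rw [← hq]; abel
    have e2 : W * U = r • 1 - U * W := by rw [← hr]; abel
    show _ = _
    rw [mul_add, add_mul, ← mul_assoc W A U, ← mul_assoc W U A, e1, e2]
    simp only [sub_mul, smul_mul_assoc, one_mul, mul_assoc, e1, e2, mul_sub, mul_smul_comm, mul_one]
    abel
  rw [map_eq_ctr_sub (f := f) w]
  exact h.sub_right ((Commute.one_right _).smul_right _)

theorem conj_ctx {a x : G} (hx : orderOf x = 3) : orderOf (a * x * a⁻¹) = 3 := by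
  rw [show a * x * a⁻¹ = MulAut.conj a x from rfl, MulEquiv.orderOf_eq, hx]

section Irreducible

variable [FiniteDimensional ℂ V] [Nontrivial V] {z a u w : G}

theorem commute_gen {T : Module.End ℂ V} (hz : f z = -1) (ha : Commute T (f a))
    (hu : Commute T (f u)) (hw : Commute T (f w)) :
    ∀ g ∈ ({a, u, w, z} : Set G), Commute T (f g) := by
  intro g hg
  rcases hg with rfl | rfl | rfl | rfl
  exacts [ha, hu, hw, hz ▸ (Commute.one_right T).neg_right]

theorem anti_scalar [Finite G] (hf : Fpf f) (hirr : Irr f) (hz : f z = -1)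
    (hgen : Subgroup.closure ({a, u, w, z} : Set G) = ⊤) (ha : orderOf a = 3) (hu : orderOf u = 3)
    (hc : Commute (anti f a u) (f w)) : ∃ c : ℂ, anti f a u = c • 1 :=
  scalar_of_commute hirr (commute_of_closure hgen (commute_gen hz (anti_commute hf ha u)
    (anti_comm (f := f) u a ▸ anti_commute hf hu a) hc))

theorem golden_irr [Finite G] (hf : Fpf f) (hirr : Irr f) (hz : f z = -1)
    (hgen : Subgroup.closure ({a, u, a, z} : Set G) = ⊤) (ha : orderOf a = 3) (hu : orderOf u = 3)
    (hne : u ≠ a) (hne' : u ≠ a⁻¹) (hadj : ¬ Adj z a u) :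
    ∃ c : ℂ, anti f a u = c • 1 ∧ c * c = 5 / 4 := by
  obtain ⟨c, hc⟩ := anti_scalar hf hirr hz hgen ha hu (anti_commute hf ha u)
  refine ⟨c, hc, ?_⟩
  rcases anti_options hf ha hu hc with h | h | h | h
  exacts [absurd h hne, absurd h hne', absurd (adj_of_anti hf ha hu hz hc h) hadj, h]

open Classical in
/-- At most four common neighbours. -/
theorem card_common_le_irr [Finite G] (hf : Fpf f) (hirr : Irr f) (hz : f z = -1)
    (hgen : Subgroup.closure ({a, u, w, z} : Set G) = ⊤) (ha : orderOf a = 3) (hu : orderOf u = 3)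
    (hne : u ≠ a) (hne' : u ≠ a⁻¹) (hadj : ¬ Adj z a u) (S : Finset G) (hw : w ∈ S)
    (hS : ∀ x ∈ S, orderOf x = 3 ∧ Adj z a x ∧ Adj z u x) : S.card ≤ 8 := by
  have hval : ∀ x ∈ S, ∃ q r : ℂ, anti f a x = q • 1 ∧ anti f u x = r • 1 ∧
      (q = -1 / 2 ∨ q = 1 / 2) ∧ (r = -1 / 2 ∨ r = 1 / 2) := by
    intro x hx
    obtain ⟨hx3, h1, h2⟩ := hS x hx
    rcases anti_of_adj hf ha hx3 hz h1 with e1 | e1 <;>
      rcases anti_of_adj hf hu hx3 hz h2 with e2 | e2 <;>
        exact ⟨_, _, e1, e2, by norm_num, by norm_num⟩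
  obtain ⟨qw, rw', eqw, erw, -, -⟩ := hval w hw
  obtain ⟨c, hc⟩ := anti_scalar hf hirr hz hgen ha hu
    (anti_commute_third hf (anti_comm (f := f) w a ▸ eqw) (anti_comm (f := f) w u ▸ erw))
  have hc5 : c * c = 5 / 4 := by
    rcases anti_options hf ha hu hc with h | h | h | h
    exacts [absurd h hne, absurd h hne', absurd (adj_of_anti hf ha hu hz hc h) hadj, h]
  have hp0 : c * c ≠ 9 / 4 := by rw [hc5]; norm_num
  obtain ⟨γw, hγw, -⟩ := exists_coeff hf hirr hgen ha hu (hS w hw).1 hc eqw erw hp0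
    (α := -3 / 2 * qw - c * rw') (β := -3 / 2 * rw' - c * qw)
    (by linear_combination (-qw) * hc5) (by linear_combination (-rw') * hc5)
    (fun T h1 h2 h3 => commute_gen hz h1 h2 h3)
  have hcoef : ∀ x ∈ S, ∀ q r : ℂ, anti f a x = q • 1 → anti f u x = r • 1 → ∃ γ : ℂ,
      ctr f x = (-3 / 2 * q - c * r) • ctr f a + (-3 / 2 * r - c * q) • ctr f u + γ • comm f a u ∧
        γ * γ * (c * c - 9 / 4) = -3 / 4 + 3 / 4 * ((-3 / 2 * q - c * r) * (-3 / 2 * q - c * r) +
          (-3 / 2 * r - c * q) * (-3 / 2 * r - c * q)) -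
          (-3 / 2 * q - c * r) * (-3 / 2 * r - c * q) * c := by
    intro x hx q r eq er
    refine exists_coeff hf hirr hgen ha hu (hS x hx).1 hc eq er hp0
      (by linear_combination (-q) * hc5) (by linear_combination (-r) * hc5) ?_
    intro T h1 h2 _
    refine commute_gen hz h1 h2 ?_
    have hT : ∀ g, Commute T (f g) → Commute T (ctr f g) := fun g h =>
      h.add_right ((Commute.one_right _).smul_right _)
    rw [map_eq_ctr_sub (f := f) w, hγw]
    refine (((hT a h1).smul_right _).add_right ((hT u h2).smul_right _) |>.add_right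
      (Commute.smul_right ?_ γw)).sub_right ((Commute.one_right _).smul_right _)
    exact ((hT a h1).mul_right (hT u h2)).sub_right ((hT u h2).mul_right (hT a h1))
  choose! q r eq er hq hr using hval
  choose! γ hγ hγ2 using fun x hx => hcoef x hx (q x) (r x) (eq x hx) (er x hx)
  choose root hroot using fun K : ℂ => IsAlgClosed.exists_eq_mul_self K
  have key := Finset.card_le_card_of_injOn (s := S)
    (t := (Finset.univ : Finset (Bool × Bool × Bool)))
    (fun x => (decide (q x = 1 / 2), decide (r x = 1 / 2), decide (γ x = root (γ x * γ x))))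
    (fun _ _ => Finset.mem_univ _) ?_
  · simpa using key
  intro x hx y hy e
  simp only [Prod.mk.injEq, decide_eq_decide] at e
  obtain ⟨e1, e2, e3⟩ := e
  have eqq : q x = q y := by
    rcases hq x hx with h | h <;> rcases hq y hy with h' | h' <;>
      first | (rw [h, h']; done) | (rw [h, h'] at e1; norm_num at e1)
  have err : r x = r y := by
    rcases hr x hx with h | h <;> rcases hr y hy with h' | h' <;>
      first | (rw [h, h']; done) | (rw [h, h'] at e2; norm_num at e2)
  have hsq : γ x * γ x = γ y * γ y := by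
    have h1 := hγ2 x hx
    rw [eqq, err, ← hγ2 y hy] at h1
    exact mul_right_cancel₀ (sub_ne_zero.2 hp0) h1
  have hγe : γ x = γ y := by
    have hx' := mul_self_eq_mul_self_iff.1 (hroot (γ x * γ x))
    have hy' := mul_self_eq_mul_self_iff.1 (hroot (γ y * γ y))
    rw [← hsq] at hy' e3
    by_cases hc' : γ x = root (γ x * γ x)
    · exact hc'.trans (e3.1 hc').symm
    · exact (hx'.resolve_left hc').trans (hy'.resolve_left fun h => hc' (e3.2 h)).symm
  apply eq_of_map_eq hf
  rw [map_eq_ctr_sub (f := f) x, map_eq_ctr_sub (f := f) y, hγ x hx, hγ y hy, eqq, err, hγe]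

/-- Among the conjugates of a neighbour, exactly one further edge. -/
theorem orbit_irr [Finite G] (hf : Fpf f) (hirr : Irr f) (hz : f z = -1) (hzc : z ∈ Subgroup.center G)
    (hgen : Subgroup.closure ({a, u, w, z} : Set G) = ⊤) (ha : orderOf a = 3) (hu : orderOf u = 3)
    (hw : orderOf w = 3) (hau : (a * u) ^ 2 = z) (haw : (a * w) ^ 2 = z) (h0 : u ≠ w)
    (h1 : u ≠ a * w * a⁻¹) (h2 : u ≠ a * (a * w * a⁻¹) * a⁻¹) :
    (Adj z u w ∨ Adj z u (a * w * a⁻¹) ∨ Adj z u (a * (a * w * a⁻¹) * a⁻¹)) ∧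
      ¬ (Adj z u w ∧ Adj z u (a * w * a⁻¹)) := by
  have hp := anti_of_sq_eq hf ha hu hz hau
  have hqw := anti_of_sq_eq hf ha hw hz haw
  obtain ⟨r, hr⟩ : ∃ r : ℂ, anti f u w = r • 1 :=
    scalar_of_commute hirr (commute_of_closure hgen (commute_gen hz
      (anti_commute_third hf hp hqw) (anti_commute hf hu w)
      (anti_comm (f := f) w u ▸ anti_commute hf hw u)))
  obtain ⟨γ, hγ, hγ2⟩ := exists_coeff hf hirr hgen ha hu hw hp hqw hr (by norm_num)
    (α := (3 / 4 + r / 2) / 2) (β := (-3 / 2 * r - 1 / 4) / 2) (by ring) (by ring)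
    (fun T k1 k2 k3 => commute_gen hz k1 k2 k3)
  have hw1 := coeff_conj hf ha hp hγ
  have hw2 := coeff_conj hf ha hp hw1
  have r1 := anti_of_coeff hf hu hp hw1
  have r2 := anti_of_coeff hf hu hp hw2
  have hsq : ∀ x, (a * x) ^ 2 = z → (a * (a * x * a⁻¹)) ^ 2 = z := by
    intro x hx
    rw [show (a * (a * x * a⁻¹)) ^ 2 = a * (a * x) ^ 2 * a⁻¹ by simp [pow_two, mul_assoc], hx,
      Subgroup.mem_center_iff.1 hzc a, mul_inv_cancel_right]
  have hne : ∀ x, orderOf x = 3 → (a * x) ^ 2 = z → u ≠ x⁻¹ := by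
    intro x hx hax e
    have := anti_of_sq_eq hf ha hx hz hax
    rw [e, anti_inv_right hf a hx, this] at hp
    have := smul_one_inj (x := (1 / 2 : ℂ)) (y := -1 / 2) (by rw [← hp]; module)
    norm_num at this
  have opt : ∀ x, orderOf x = 3 → (a * x) ^ 2 = z → u ≠ x → ∀ k : ℂ, anti f u x = k • 1 →
      (Adj z u x ∧ k * k = 1 / 4) ∨ (¬ Adj z u x ∧ k * k = 5 / 4) := by
    intro x hx hax hux k hk
    have hk4 : Adj z u x → k * k = 1 / 4 := by
      intro h
      rcases anti_of_adj hf hu hx hz h with e | e <;>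
        rw [smul_one_inj (hk.symm.trans e)] <;> norm_num
    rcases anti_options hf hu hx hk with h | h | h | h
    · exact absurd h.symm hux
    · exact absurd (inv_eq_iff_eq_inv.1 h.symm) (hne x hx hax)
    · exact Or.inl ⟨adj_of_anti hf hu hx hz hk h, h⟩
    · refine Or.inr ⟨fun hh => ?_, h⟩
      rw [hk4 hh] at h; norm_num at h
  have o0 := opt w hw haw h0 r hr
  have o1 := opt _ (conj_ctx hw) (hsq w haw) h1 _ r1
  have o2 := opt _ (conj_ctx (conj_ctx hw)) (hsq _ (hsq w haw)) h2 _ r2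
  constructor
  · by_contra hcon
    simp only [not_or] at hcon
    rcases o0 with ⟨h, -⟩ | ⟨-, k0⟩
    · exact hcon.1 h
    rcases o1 with ⟨h, -⟩ | ⟨-, k1⟩
    · exact hcon.2.1 h
    rcases o2 with ⟨h, -⟩ | ⟨-, k2⟩
    · exact hcon.2.2 h
    rw [← k0] at k1 k2
    rcases mul_self_eq_mul_self_iff.1 k1 with e1 | e1 <;>
      rcases mul_self_eq_mul_self_iff.1 k2 with e2 | e2
    · rw [show r = -1 / 6 by linear_combination (-(e1) - e2) / 3] at k0; norm_num at k0
    · rw [show r = -1 / 2 by linear_combination -e1 - e2] at k0; norm_num at k0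
    · rw [show r = -1 / 2 by linear_combination -e1 - e2] at k0; norm_num at k0
    · rw [show r = 1 / 2 by linear_combination e1 + e2] at k0; norm_num at k0
  · rintro ⟨ha0, ha1⟩
    rcases o0 with ⟨-, k0⟩ | ⟨h, -⟩
    swap
    · exact h ha0
    rcases o1 with ⟨-, k1⟩ | ⟨h, -⟩
    swap
    · exact h ha1
    have ueq : ∀ x, ctr f x = (0 : ℂ) • ctr f a + (1 : ℂ) • ctr f u + (0 : ℂ) • comm f a u →
        u = x := by
      intro x hx
      apply eq_of_map_eq hf
      rw [map_eq_ctr_sub (f := f) x, map_eq_ctr_sub (f := f) u, hx]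
      module
    rcases mul_self_eq_mul_self_iff.1 (show r * r = (1 / 2) * (1 / 2) by rw [k0]; norm_num)
      with hr' | hr' <;> subst hr'
    · rcases mul_self_eq_mul_self_iff.1 (show γ * γ = (1 / 2) * (1 / 2) by
        linear_combination (-1 / 2 : ℂ) * hγ2) with hg | hg <;> subst hg
      · refine h1 (ueq _ ?_)
        rw [hw1]; congr <;> norm_num
      · refine h2 (ueq _ ?_)
        rw [hw2]; congr <;> norm_num
    · have h5 : γ * γ = 5 / 16 := by linear_combination (-1 / 2 : ℂ) * hγ2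
      have h4 : (-1 / 2 * ((3 / 4 + (-(1 / 2)) / 2) / 2 + (-3 / 2 * (-(1 / 2)) - 1 / 4) / 2 / 2 - γ / 2) -
        3 / 2 * (-((-3 / 2 * (-(1 / 2)) - 1 / 4) / 2) / 2 + 3 * γ / 2)) = -2 * γ := by ring
      have : (5 : ℂ) / 4 = 1 / 4 := by linear_combination k1 - 4 * h5
      norm_num at this

end Irreducible

end CfsgLib.Perm.Ico
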