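import Mathlib.LinearAlgebra.Trace
import Mathlib.LinearAlgebra.Matrix.ToLin
import Mathlib.Data.Real.Sqrt
import Mathlib.Data.Matrix.Mul

/-!
An integrality condition for a family of strongly regular graphs.
-/

set_option autoImplicit false

namespace CfsgLib.Perm.Ico

open Finset Matrix

theorem exists_natCast_eq_trace {n : Type*} [Fintype n] [DecidableEq n] (E : Matrix n n ℝ)
    (h : E * E = E) : ∃ m : ℕ, E.trace = m := by
  have hi : IsIdempotentElem (Matrix.toLin' E) := by
    show Matrix.toLin' E * Matrix.toLin' E = _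
    rw [Module.End.mul_eq_comp, ← Matrix.toLin'_mul, h]
  have hp := LinearMap.IsIdempotentElem.isProj_range (f := Matrix.toLin' E) hi
  refine ⟨Module.finrank ℝ (LinearMap.range (Matrix.toLin' E)), ?_⟩
  rw [← hp.trace, Matrix.trace_toLin'_eq]

theorem srg_classify {X : Type*} [Fintype X] [DecidableEq X] (R : X → X → Prop) [DecidableRel R]
    (hsymm : ∀ x y, R x y → R y x) (hirr : ∀ x, ¬ R x x) {k : ℕ}
    (hk : ∀ x, (univ.filter fun y => R x y).card = k)
    (hadj : ∀ x y, R x y → 3 * (univ.filter fun w => R x w ∧ R y w).card = k + 3)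
    (hnon : ∀ x y, x ≠ y → ¬ R x y → (univ.filter fun w => R x w ∧ R y w).card = 4)
    (hX : 2 ≤ Fintype.card X) :
    (k = 3 ∧ Fintype.card X = 4) ∨ (k = 6 ∧ Fintype.card X = 10) := by
  obtain ⟨x₀, y₀, hxy⟩ := Fintype.exists_pair_of_one_lt_card (α := X) (by omega)
  have hk0 : k ≠ 0 := by
    intro e
    have hno : ∀ x y, ¬ R x y := fun x y h => by
      have : 0 < (univ.filter fun y => R x y).card := card_pos.2 ⟨y, mem_filter.2 ⟨mem_univ y, h⟩⟩
      have := hk x
      omega
    have := hnon x₀ y₀ hxy (hno _ _)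
    rw [show (univ.filter fun w => R x₀ w ∧ R y₀ w) = ∅ from
      filter_eq_empty_iff.2 fun w _ h => hno _ _ h.1, card_empty] at this
    omega
  obtain ⟨y₁, hy₁⟩ : ∃ y, R x₀ y := by
    by_contra h
    have := hk x₀
    rw [filter_eq_empty_iff.2 fun w _ hw => h ⟨w, hw⟩, card_empty] at this
    omega
  obtain ⟨lam, hlam⟩ : ∃ lam, k + 3 = 3 * lam := ⟨_, (hadj x₀ y₁ hy₁).symm⟩
  obtain ⟨v, hv⟩ : ∃ v, v = Fintype.card X := ⟨_, rfl⟩
  let A : Matrix X X ℝ := Matrix.of fun x y => if R x y then 1 else 0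
  let J : Matrix X X ℝ := Matrix.of fun _ _ => 1
  have hkA : ∀ x, ∑ y, (if R x y then (1 : ℝ) else 0) = k := fun x => by
    rw [sum_boole, hk x]
  have hAJ : A * J = (k : ℝ) • J := by
    ext x y
    simp [A, J, Matrix.mul_apply, hkA x]
  have hJA : J * A = (k : ℝ) • J := by
    ext x y
    simp only [A, J, Matrix.mul_apply, of_apply, one_mul, Matrix.smul_apply, smul_eq_mul, mul_one]
    rw [sum_congr rfl fun w _ => show (if R w y then (1 : ℝ) else 0) = if R y w then 1 else 0 from
      if_congr ⟨hsymm w y, hsymm y w⟩ rfl rfl]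
    exact hkA y
  have hJJ : J * J = (v : ℝ) • J := by
    ext x y
    simp [J, Matrix.mul_apply, hv]
  have hAA : A * A = ((k : ℝ) - 4) • 1 + ((lam : ℝ) - 4) • A + (4 : ℝ) • J := by
    ext x y
    have e : (A * A) x y = ((univ.filter fun w => R x w ∧ R y w).card : ℝ) := by
      rw [Matrix.mul_apply, ← sum_boole]
      refine sum_congr rfl fun w _ => ?_
      simp only [A, of_apply]
      by_cases h1 : R x w <;> by_cases h2 : R y w
      · rw [if_pos h1, if_pos (hsymm _ _ h2), if_pos ⟨h1, h2⟩, one_mul]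
      · rw [if_pos h1, if_neg (fun h => h2 (hsymm _ _ h)), if_neg (fun h : R x w ∧ R y w => h2 h.2), mul_zero]
      · rw [if_neg h1, if_neg (fun h : R x w ∧ R y w => h1 h.1), zero_mul]
      · rw [if_neg h1, if_neg (fun h : R x w ∧ R y w => h1 h.1), zero_mul]
    rw [e]
    simp only [Matrix.add_apply, Matrix.smul_apply, Matrix.one_apply, A, J, of_apply, smul_eq_mul]
    by_cases hxy : x = y
    · subst hxy
      rw [if_pos rfl, if_neg (hirr x), show (univ.filter fun w => R x w ∧ R x w) =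
        univ.filter fun w => R x w from filter_congr fun w _ => and_self_iff, hk x]
      ring
    · rw [if_neg hxy]
      by_cases hR : R x y
      · rw [if_pos hR, show (univ.filter fun w => R x w ∧ R y w).card = lam by
          have := hadj x y hR; omega]
        ring
      · rw [if_neg hR, hnon x y hxy hR]
        ring
  have hcount : (k : ℝ) * k = ((k : ℝ) - 4) + ((lam : ℝ) - 4) * k + 4 * v := by
    have h := congrArg (fun M => M * J) hAA
    simp only [mul_assoc, hAJ, Matrix.mul_smul, smul_smul, Matrix.add_mul, Matrix.smul_mul,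
      Matrix.one_mul, hJJ, ← add_smul] at h
    have h' := congrArg (fun M : Matrix X X ℝ => M x₀ x₀) h
    simpa [J] using h'
  have hcase : lam ≤ 3 := by
    by_contra hlam4
    obtain ⟨L, hL⟩ : ∃ L : ℝ, L = (lam : ℝ) - 4 := ⟨_, rfl⟩
    have hL0 : 0 ≤ L := by
      rw [hL]; have : (4 : ℝ) ≤ lam := by exact_mod_cast (by omega : 4 ≤ lam)
      linarith
    have hv0 : (0 : ℝ) < v := by exact_mod_cast (by omega : 0 < v)
    obtain ⟨c, hc⟩ : ∃ c : ℝ, c = -(2 * k - L) / v := ⟨_, rfl⟩
    have hcv : c * v = -(2 * k - L) := by rw [hc]; field_simp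
    obtain ⟨D, hD⟩ : ∃ D : ℝ, D = L * L + 4 * ((k : ℝ) - 4) := ⟨_, rfl⟩
    rw [← hL] at hAA hcount
    have hDpos : 0 < D := by
      have : (9 : ℝ) ≤ k := by exact_mod_cast (by omega : 9 ≤ k)
      nlinarith
    let P : Matrix X X ℝ := 1 - (1 / v : ℝ) • J
    let M : Matrix X X ℝ := (2 : ℝ) • A - L • 1 + c • J
    have hPP : P * P = P := by
      simp only [P, Matrix.sub_mul, Matrix.mul_sub, Matrix.one_mul, Matrix.mul_one, Matrix.smul_mul,
        Matrix.mul_smul, hJJ, smul_smul]
      rw [show 1 / (v : ℝ) * v = 1 by field_simp]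
      module
    have hMJ : M * J = 0 := by
      simp only [M, Matrix.add_mul, Matrix.sub_mul, Matrix.one_mul, Matrix.smul_mul, hAJ, hJJ,
        smul_smul, hcv]
      rw [← sub_smul, ← add_smul, show 2 * (k : ℝ) - L + -(2 * k - L) = 0 by ring, zero_smul]
    have hJM : J * M = 0 := by
      simp only [M, Matrix.mul_add, Matrix.mul_sub, Matrix.mul_one, Matrix.mul_smul, hJA, hJJ,
        smul_smul, hcv]
      rw [← sub_smul, ← add_smul, show 2 * (k : ℝ) - L + -(2 * k - L) = 0 by ring, zero_smul]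
    have hMP : M * P = M := by
      simp only [P, Matrix.mul_sub, Matrix.mul_one, Matrix.mul_smul, hMJ, smul_zero, sub_zero]
    have hPM : P * M = M := by
      simp only [P, Matrix.sub_mul, Matrix.one_mul, Matrix.smul_mul, hJM, smul_zero, sub_zero]
    have hMM : M * M = D • P := by
      have e : M * M = D • (1 : Matrix X X ℝ) + (16 + c * (4 * k - 2 * L + c * v)) • J := by
        simp only [M, Matrix.add_mul, Matrix.sub_mul, Matrix.mul_add, Matrix.mul_sub,
          Matrix.one_mul, Matrix.mul_one, Matrix.smul_mul, Matrix.mul_smul, hAA, hAJ, hJA, hJJ, hD]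
        module
      obtain ⟨t, ht⟩ : ∃ t : ℝ, t = 16 + c * (4 * k - 2 * L + c * v) := ⟨_, rfl⟩
      rw [← ht] at e
      have h := congrArg (fun N => N * J) e
      simp only [Matrix.mul_assoc, hMJ, Matrix.mul_zero, Matrix.add_mul, Matrix.smul_mul,
        Matrix.one_mul, hJJ, smul_smul, ← add_smul] at h
      have h' := congrArg (fun N : Matrix X X ℝ => N x₀ x₀) h
      simp [J] at h'
      rw [e, show t = -(D / v) by field_simp; linarith]
      simp only [P]
      module
    have hsD : Real.sqrt D * Real.sqrt D = D := Real.mul_self_sqrt hDpos.le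
    have hs0 : Real.sqrt D ≠ 0 := (Real.sqrt_pos.2 hDpos).ne'
    obtain ⟨m, hm⟩ := exists_natCast_eq_trace ((1 / 2 : ℝ) • (P + (1 / Real.sqrt D) • M)) (by
      simp only [Matrix.add_mul, Matrix.mul_add, Matrix.smul_mul, Matrix.mul_smul, hPP, hPM, hMP,
        hMM, smul_smul]
      rw [show 1 / Real.sqrt D * D = Real.sqrt D by field_simp; linarith [hsD]]
      simp only [smul_add, smul_smul]
      rw [show 1 / 2 * (1 / Real.sqrt D * (1 / 2) * Real.sqrt D) = 1 / 4 by field_simp; ring]
      module)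
    have htrJ : J.trace = v := by simp [J, Matrix.trace, hv]
    have htrA : A.trace = 0 := by simp [A, Matrix.trace, hirr]
    have htrP : P.trace = (v : ℝ) - 1 := by
      simp only [P, Matrix.trace_sub, Matrix.trace_one, Matrix.trace_smul, htrJ, smul_eq_mul, hv]
      rw [hv] at hv0
      field_simp
    have htrM : M.trace = -L * v - (2 * k - L) := by
      simp only [M, Matrix.trace_add, Matrix.trace_sub, Matrix.trace_one, Matrix.trace_smul, htrJ,
        htrA, smul_eq_mul, hcv, ← hv]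
      ring
    simp only [Matrix.trace_smul, Matrix.trace_add, htrP, htrM, smul_eq_mul] at hm
    have hrel : -L * v - (2 * k - L) = (2 * m - (v - 1)) * Real.sqrt D := by
      rw [← hm]; field_simp; ring
    have hneg : -L * (v : ℝ) - (2 * k - L) < 0 := by
      have h1 : (2 : ℝ) ≤ v := by exact_mod_cast (by omega : 2 ≤ v)
      have h2 : (9 : ℝ) ≤ k := by exact_mod_cast (by omega : 9 ≤ k)
      nlinarith
    -- an integral relation
    obtain ⟨T, hT⟩ : ∃ T : ℤ, T = -((lam : ℤ) - 4) * v - (2 * k - ((lam : ℤ) - 4)) := ⟨_, rfl⟩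
    obtain ⟨S, hS⟩ : ∃ S : ℤ, S = 2 * (m : ℤ) - ((v : ℤ) - 1) := ⟨_, rfl⟩
    obtain ⟨Dz, hDz⟩ : ∃ Dz : ℤ, Dz = ((lam : ℤ) - 4) * ((lam : ℤ) - 4) + 4 * ((k : ℤ) - 4) :=
      ⟨_, rfl⟩
    have hrelT : (T : ℝ) = (S : ℝ) * Real.sqrt D := by
      rw [hT, hS]; push_cast; rw [← hL]; exact hrel
    have hS0 : S ≠ 0 := fun e => by
      rw [e, Int.cast_zero, zero_mul] at hrelT
      rw [hT] at hrelT
      push_cast at hrelT
      rw [← hL] at hrelT
      linarith
    have hsq : T ^ 2 = S ^ 2 * Dz := by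
      have : ((T : ℝ)) ^ 2 = (S : ℝ) ^ 2 * (Dz : ℝ) := by
        rw [hrelT, mul_pow, Real.sq_sqrt hDpos.le, hD, hL, hDz]; push_cast; ring
      exact_mod_cast this
    obtain ⟨q, rfl⟩ := (Int.pow_dvd_pow_iff (n := 2) (by norm_num)).1 ⟨Dz, hsq⟩
    have hq : Dz = q ^ 2 := mul_left_cancel₀ (pow_ne_zero 2 hS0) (by rw [← hsq]; ring)
    have hk' : (k : ℤ) = 3 * lam - 3 := by omega
    have h2 : (q.natAbs : ℤ) ^ 2 = ((lam : ℤ) + 2) ^ 2 - 16 := by
      rw [Int.natAbs_sq, ← hq, hDz, hk']; ring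
    have h3 : q.natAbs < lam + 2 := by
      by_contra h
      have : ((lam : ℤ) + 2) ≤ q.natAbs := by omega
      nlinarith
    have h4 : q.natAbs ≤ lam + 1 := by omega
    have h4' : (q.natAbs : ℤ) ≤ lam + 1 := by omega
    have h5 : (lam : ℤ) ≤ 6 := by nlinarith
    have h6 : q.natAbs ^ 2 + 16 = (lam + 2) ^ 2 := by
      have h6' : (q.natAbs : ℤ) ^ 2 + 16 = ((lam : ℤ) + 2) ^ 2 := by linarith
      exact_mod_cast h6'
    have h7 : q.natAbs ≤ 7 := by omega
    rcases (show lam = 4 ∨ lam = 5 ∨ lam = 6 by omega) with rfl | rfl | rfl <;>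
      interval_cases hq' : q.natAbs <;> omega
  have hlam2 : 2 ≤ lam := by omega
  interval_cases lam
  · refine Or.inl ⟨by omega, ?_⟩
    rw [show k = 3 by omega] at hcount
    rw [← hv]
    have : (v : ℝ) = 4 := by push_cast at hcount; linarith
    exact_mod_cast this
  · refine Or.inr ⟨by omega, ?_⟩
    rw [show k = 6 by omega] at hcount
    rw [← hv]
    have : (v : ℝ) = 10 := by push_cast at hcount; linarith
    exact_mod_cast this

end CfsgLib.Perm.Ico
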