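import Cfsg.Agent.Lib.Perm.IcoGraph
import Cfsg.Agent.Lib.Perm.IcoTrace
import Cfsg.Agent.Lib.Char.Burnside
import Cfsg.Agent.Lib.Transfer.QuaternionSection
import Cfsg.Agent.Lib.Solvable.UniqueSubgroup
import Mathlib.GroupTheory.SpecificGroups.ZGroup
import Mathlib.RingTheory.IntegralDomain

/-!
A perfect fixed-point-free linear group is `SL(2,5)`.
-/

set_option autoImplicit false
set_option linter.unusedSectionVars false

namespace CfsgLib.Perm.Ico

open CfsgLib.Recog

/-- Representatives for the conjugates of the standard element. -/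
def conjList : List SL25 :=
  [⟨!![0, 1; 4, 0], by decide⟩, ⟨!![0, 1; 4, 1], by decide⟩, ⟨!![0, 1; 4, 2], by decide⟩,
    ⟨!![0, 1; 4, 3], by decide⟩, ⟨!![0, 1; 4, 4], by decide⟩, ⟨!![1, 1; 0, 1], by decide⟩,
    ⟨!![1, 1; 1, 2], by decide⟩, ⟨!![1, 1; 2, 3], by decide⟩, ⟨!![1, 1; 3, 4], by decide⟩,
    ⟨!![1, 1; 4, 0], by decide⟩]

/-- Stabilizer elements of the standard vertex. -/
def stabList : List SL25 :=
  [⟨!![0, 1; 4, 1], by decide⟩, ⟨!![0, 2; 2, 0], by decide⟩, ⟨!![1, 0; 0, 1], by decide⟩]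

theorem conjList_spec : ∀ w ∈ stdThree, ∃ x ∈ conjList,
    x * binIcoGen 0 * x⁻¹ = w ∨ x * binIcoGen 0 * x⁻¹ = w⁻¹ := by
  decide +kernel

theorem stabList_spec : ∀ w ∈ stdThree, w = binIcoGen 0 ∨ w⁻¹ = binIcoGen 0 ∨
    (binIcoGen 0 * w) ^ 2 = binIcoGen 2 ∨ (binIcoGen 0 * w⁻¹) ^ 2 = binIcoGen 2 ∨
    ∃ x ∈ stabList, (x * binIcoGen 0 * x⁻¹ = binIcoGen 0 ∨ x * binIcoGen 0 * x⁻¹ = (binIcoGen 0)⁻¹) ∧
      (x * stdU * x⁻¹ = w ∨ x * stdU * x⁻¹ = w⁻¹) := by
  decide +kernel

variable {G : Type*} [Group G] {V : Type*} [AddCommGroup V] [Module ℂ V] [FiniteDimensional ℂ V]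
  [Nontrivial V] {f : G →* Module.End ℂ V}

/-- Abelian subgroups are cyclic. -/
theorem isCyclic_of_comm [Finite G] (hf : Fpf f) (A : Subgroup G) (hA : ∀ a ∈ A, ∀ b ∈ A, a * b = b * a) :
    IsCyclic A := by
  refine with_irr hf A fun W _ _ _ _ ρ hρ hirr => ?_
  have hsc : ∀ g : A, ∃ c : ℂ, ρ g = c • 1 := fun g => scalar_of_commute hirr fun h => by
    show _ * _ = _ * _
    rw [← map_mul, ← map_mul, Subtype.ext (hA g g.2 h h.2) (a1 := g * h) (a2 := h * g)]
  choose c hc using hsc
  let χ : A →* ℂ :=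
    { toFun := c
      map_one' := smul_one_inj (V := W) (by rw [← hc, map_one, one_smul])
      map_mul' := fun g h => smul_one_inj (V := W) (by
        rw [← hc, map_mul, hc, hc, smul_mul_smul_comm, one_mul]) }
  refine isCyclic_of_subgroup_isDomain χ fun g h e => eq_of_map_eq hρ ?_
  rw [hc, hc, show c g = c h from e]

theorem cyclic_zpowers_eq {A : Type*} [Group A] [Finite A] [IsCyclic A] {x c : A}
    (h : orderOf x = orderOf c) : Subgroup.zpowers x = Subgroup.zpowers c := by
  let _ : CommGroup A := IsCyclic.commGroup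
  have key : ∀ y : A, orderOf y = orderOf c →
      Subgroup.zpowers y = (powMonoidHom (orderOf c) : A →* A).ker := by
    intro y hy
    refine Subgroup.eq_of_le_of_card_ge (Subgroup.zpowers_le.2 ?_) ?_
    · show y ^ orderOf c = 1
      rw [← hy, pow_orderOf_eq_one]
    · rw [IsCyclic.card_powMonoidHom_ker, Nat.card_zpowers, hy,
        Nat.gcd_eq_right (orderOf_dvd_natCard c)]
  rw [key x h, key c rfl]

theorem sylow_cases [Finite G] (hf : Fpf f) {p : ℕ} [hp : Fact p.Prime] (P : Sylow p G) :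
    IsCyclic P ∨ (p = 2 ∧ ∃ n : ℕ, Nonempty (P ≃* QuaternionGroup (2 ^ n))) := by
  refine CfsgLib.Solvable.isCyclic_or_quaternion_of_unique P.2 fun A B hA hB => ?_
  have : Nontrivial (P : Subgroup G) := by
    have h1 := Nat.le_of_dvd Nat.card_pos (Subgroup.card_subgroup_dvd_card A)
    rw [hA] at h1
    exact Finite.one_lt_card_iff_nontrivial.1 (lt_of_lt_of_le hp.out.one_lt h1)
  have := P.2.center_nontrivial
  obtain ⟨k, hk⟩ := (P.2.to_subgroup (Subgroup.center (P : Subgroup G))).exists_card_eq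
  have hk0 : k ≠ 0 := fun e => by
    rw [e, pow_zero] at hk
    exact absurd hk Finite.one_lt_card.ne'
  obtain ⟨⟨c, hcc⟩, hc⟩ := exists_prime_orderOf_dvd_card' (G := Subgroup.center (P : Subgroup G)) p
    (hk ▸ dvd_pow_self p hk0)
  rw [Subgroup.orderOf_mk] at hc
  have key : ∀ C : Subgroup (P : Subgroup G), Nat.card C = p → C = Subgroup.zpowers c := by
    intro C hC
    obtain ⟨⟨x, hxC⟩, hx⟩ := exists_prime_orderOf_dvd_card' p (G := C) (by rw [hC])
    rw [Subgroup.orderOf_mk] at hx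
    have hcomm : ∀ g ∈ Subgroup.closure ({(x : G), (c : G)} : Set G),
        ∀ h ∈ Subgroup.closure ({(x : G), (c : G)} : Set G), g * h = h * g := by
      have : IsMulCommutative (Subgroup.closure ({(x : G), (c : G)} : Set G)) := by
        refine Subgroup.isMulCommutative_closure fun a ha b hb => ?_
        have hxc : (x : G) * c = c * x := congrArg Subtype.val (Subgroup.mem_center_iff.1 hcc x)
        rcases ha with rfl | rfl <;> rcases hb with rfl | rfl
        exacts [rfl, hxc, hxc.symm, rfl]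
      intro g hg h hh
      exact congrArg Subtype.val (this.is_comm.comm ⟨g, hg⟩ ⟨h, hh⟩)
    have := isCyclic_of_comm hf _ hcomm
    have hxm : (x : G) ∈ Subgroup.closure ({(x : G), (c : G)} : Set G) := Subgroup.subset_closure (by simp)
    have hcm : (c : G) ∈ Subgroup.closure ({(x : G), (c : G)} : Set G) := Subgroup.subset_closure (by simp)
    have e : Subgroup.zpowers (⟨(x : G), hxm⟩ : Subgroup.closure ({(x : G), (c : G)} : Set G)) =
        Subgroup.zpowers ⟨(c : G), hcm⟩ :=
      cyclic_zpowers_eq (by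
        rw [Subgroup.orderOf_mk, Subgroup.orderOf_mk, Subgroup.orderOf_coe, Subgroup.orderOf_coe, hx, hc])
    have e' := congrArg (Subgroup.map (Subgroup.closure ({(x : G), (c : G)} : Set G)).subtype) e
    rw [MonoidHom.map_zpowers, MonoidHom.map_zpowers] at e'
    have hxP : Subgroup.zpowers x = Subgroup.zpowers c := by
      refine Subgroup.map_injective (P : Subgroup G).subtype_injective ?_
      rw [MonoidHom.map_zpowers, MonoidHom.map_zpowers]
      exact e'
    rw [← hxP]
    exact (Subgroup.eq_of_le_of_card_ge (Subgroup.zpowers_le.2 hxC)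
      (by rw [Nat.card_zpowers, hx, hC])).symm
  rw [key A hA, key B hB]

theorem perfect_image {G H : Type*} [Group G] [Group H] (hperf : commutator G = ⊤) (φ : G →* H)
    (hcomm : ∀ x y, φ x * φ y = φ y * φ x) (g : G) : φ g = 1 := by
  have hle : commutator G ≤ φ.ker := by
    rw [commutator_def, Subgroup.commutator_le]
    intro x _ y _
    rw [MonoidHom.mem_ker, map_commutatorElement, commutatorElement_eq_one_iff_mul_comm]
    exact hcomm x y
  exact hle (hperf ▸ Subgroup.mem_top g)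

theorem subsingleton_of_perfect_solvable {G : Type*} [Group G] (hperf : commutator G = ⊤)
    (hs : Group.IsSolvable G) : Subsingleton G := by
  by_contra h
  have : Nontrivial G := not_subsingleton_iff_nontrivial.1 h
  exact (IsSolvable.commutator_lt_top_of_nontrivial G).ne hperf

theorem solvable_image_trivial {G H : Type*} [Group G] [Group H] (hperf : commutator G = ⊤)
    (φ : G →* H) (hs : Group.IsSolvable φ.range) (g : G) : φ g = 1 := by
  have hp : commutator φ.range = ⊤ := by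
    have h := Subgroup.map_commutator (⊤ : Subgroup G) ⊤ φ.rangeRestrict
    rw [← commutator_def, hperf, Subgroup.map_top_of_surjective _ φ.rangeRestrict_surjective,
      ← commutator_def] at h
    exact h.symm
  have := subsingleton_of_perfect_solvable hp hs
  exact congrArg Subtype.val (Subsingleton.elim (φ.rangeRestrict g) 1)

/-- Conjugation action on the vertices. -/
def vtxHom (G : Type*) [Group G] [Finite G] : G →* Equiv.Perm (Vtx G) where
  toFun := conjE
  map_one' := Equiv.ext fun P => conjV_one P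
  map_mul' g h := Equiv.ext fun P => (conjV_mul g h P).symm

/-- An element of order three of `SL(2,3)`. -/
def sl23U : Matrix.SpecialLinearGroup (Fin 2) (ZMod 3) := ⟨!![1, 1; 0, 1], by decide⟩

theorem sl23U_spec : sl23U ^ 3 = 1 ∧ sl23U ≠ 1 := by decide +kernel

/-- Sign changes commute. -/
theorem sign_fix {G : Type*} [Group G] {n m b : G} (h1 : n * b * n⁻¹ = b ∨ n * b * n⁻¹ = b⁻¹)
    (h2 : m * b * m⁻¹ = b ∨ m * b * m⁻¹ = b⁻¹) :
    ((n * m)⁻¹ * (m * n)) * b * ((n * m)⁻¹ * (m * n))⁻¹ = b := by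
  suffices h : (m * n) * b * (m * n)⁻¹ = (n * m) * b * (n * m)⁻¹ by
    calc _ = (n * m)⁻¹ * ((m * n) * b * (m * n)⁻¹) * (n * m) := by group
      _ = _ := by rw [h]; group
  have hh : ∀ t : G, t * b⁻¹ * t⁻¹ = (t * b * t⁻¹)⁻¹ := fun t => by simp [mul_assoc]
  rw [show (m * n) * b * (m * n)⁻¹ = m * (n * b * n⁻¹) * m⁻¹ by group,
    show (n * m) * b * (n * m)⁻¹ = n * (m * b * m⁻¹) * n⁻¹ by group]
  rcases h1 with e1 | e1 <;> rcases h2 with e2 | e2 <;> simp only [e1, e2, hh, inv_inv]

/-- A perfect fixed-point-free group has an involution and an element of order three. -/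
theorem exists_orders [Finite G] [Nontrivial G] (hf : Fpf f) (hperf : commutator G = ⊤) :
    (∃ z : G, orderOf z = 2) ∧ ∃ a : G, orderOf a = 3 := by
  have : Fact (Nat.Prime 2) := ⟨Nat.prime_two⟩
  have : Fact (Nat.Prime 3) := ⟨Nat.prime_three⟩
  obtain ⟨T⟩ : Nonempty (Sylow 2 G) := inferInstance
  rcases sylow_cases hf T with hc | ⟨-, n, hn⟩
  · exfalso
    have : IsZGroup G := ⟨fun p hp Q => by
      have := Fact.mk hp
      rcases sylow_cases hf Q with h | ⟨rfl, -⟩
      · exact h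
      · obtain ⟨g, rfl⟩ := MulAction.exists_smul_eq G T Q
        exact isCyclic_of_surjective (MulEquiv.toMonoidHom (Sylow.equivSMul T g)) (MulEquiv.surjective _)⟩
    exact not_subsingleton G (subsingleton_of_perfect_solvable hperf inferInstance)
  · have h2 : 2 ∣ Nat.card G := by
      obtain ⟨e⟩ := hn
      refine dvd_trans ?_ (Subgroup.card_subgroup_dvd_card (T : Subgroup G))
      rw [Nat.card_congr e.toEquiv, Nat.card_eq_fintype_card, QuaternionGroup.card]
      exact dvd_mul_of_dvd_left (by norm_num) _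
    refine ⟨exists_prime_orderOf_dvd_card' 2 h2, ?_⟩
    rcases CfsgLib.Transfer.normalPComplement_or_sl23_section T hn with ⟨P, N, hN, hc⟩ |
      ⟨H, K, hKn, ⟨e⟩⟩
    · exfalso
      have hs : Group.IsSolvable (G ⧸ N) := by
        obtain ⟨k, hk⟩ := P.2.exists_card_eq
        have hq : IsPGroup 2 (G ⧸ N) := IsPGroup.of_card (n := k) (by
          rw [← hk, ← Subgroup.index_eq_card, hc.symm.index_eq_card])
        have := hq.isNilpotent
        infer_instance
      have hN1 : N = ⊤ := by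
        rw [eq_top_iff]
        intro g _
        have := solvable_image_trivial hperf (QuotientGroup.mk' N) inferInstance g
        exact (QuotientGroup.eq_one_iff g).1 this
      have h1 := hc.card_mul
      rw [hN1, Subgroup.card_top] at h1
      have hP1 : Nat.card (P : Subgroup G) = 1 :=
        Nat.eq_of_mul_eq_mul_left (Nat.card_pos (α := G)) (by rw [h1, mul_one])
      obtain ⟨k, hk⟩ := P.2.exists_card_eq
      have := Sylow.dvd_card_of_dvd_card P h2
      rw [hP1] at this
      norm_num at this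
    · refine exists_prime_orderOf_dvd_card' 3 ?_
      refine dvd_trans ?_ ((Subgroup.card_dvd_of_surjective (QuotientGroup.mk' (K.subgroupOf H))
        (QuotientGroup.mk'_surjective _)).trans (Subgroup.card_subgroup_dvd_card H))
      rw [Nat.card_congr e.toEquiv]
      have h3 : orderOf sl23U = 3 := orderOf_eq_prime sl23U_spec.1 sl23U_spec.2
      exact (dvd_of_eq h3.symm).trans (orderOf_dvd_natCard _)

/-- A perfect fixed-point-free linear group is isomorphic to `SL(2,5)`. -/
theorem perfect_fpf [Finite G] [Nontrivial G] (hf : Fpf f) (hperf : commutator G = ⊤) :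
    Nonempty (G ≃* SL25) := by
  classical
  obtain ⟨⟨z, hz⟩, a₀, ha₀⟩ := exists_orders hf hperf
  have : Fact (Nat.Prime 3) := ⟨Nat.prime_three⟩
  have : Fintype (Vtx G) := Fintype.ofFinite _
  have hv : 2 ≤ Fintype.card (Vtx G) := by
    by_contra hlt
    have hsub : Subsingleton (Vtx G) := Fintype.card_le_one_iff_subsingleton.1 (by omega)
    have hconj : ∀ g : G, g * a₀ * g⁻¹ = a₀ ∨ g * a₀ * g⁻¹ = a₀⁻¹ := fun g =>
      (mk_eq_mk_iff ha₀ (conj_ctx ha₀)).1 (Subsingleton.elim _ _)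
    have hcen : a₀ ∈ Subgroup.center G := by
      refine Subgroup.mem_center_iff.2 fun g => ?_
      have hle : commutator G ≤ Subgroup.centralizer {a₀} := by
        rw [commutator_def, Subgroup.commutator_le]
        intro x _ y _
        rw [Subgroup.mem_centralizer_singleton_iff, commutatorElement_def,
          show x * y * x⁻¹ * y⁻¹ = (y⁻¹ * x⁻¹)⁻¹ * (x⁻¹ * y⁻¹) by group]
        exact mul_inv_eq_iff_eq_mul.1 (sign_fix (hconj y⁻¹) (hconj x⁻¹))
      exact Subgroup.mem_centralizer_singleton_iff.1 (hle (hperf ▸ Subgroup.mem_top g))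
    obtain ⟨P, hP⟩ := (IsPGroup.of_card (p := 3) (n := 1)
      (G := Subgroup.zpowers a₀) (by rw [Nat.card_zpowers, ha₀, pow_one])).exists_le_sylow
    rcases sylow_cases hf P with hcyc | ⟨h32, -⟩
    · have : IsMulCommutative (P : Subgroup G) := IsCyclic.isMulCommutative
      letI : CommGroup (P : Subgroup G) :=
        { (inferInstance : Group (P : Subgroup G)) with
          mul_comm := fun a b => this.is_comm.comm a b }
      have hkey : ∀ (k : ℕ) (g₀ : G), g₀⁻¹ * a₀ ^ k * g₀ ∈ (P : Subgroup G) →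
          g₀⁻¹ * a₀ ^ k * g₀ = a₀ ^ k := fun k g₀ _ => by
        rw [mul_assoc, ← Subgroup.mem_center_iff.1 (Subgroup.pow_mem _ hcen k) g₀, inv_mul_cancel_left]
      have h := MonoidHom.transfer_eq_pow (MonoidHom.id (P : Subgroup G)) a₀ hkey
      rw [perfect_image hperf _ (fun x y => mul_comm _ _) a₀] at h
      have h' : a₀ ^ (P : Subgroup G).index = 1 := congrArg Subtype.val h.symm
      have hd := orderOf_dvd_of_pow_eq_one h'
      rw [ha₀] at hd
      exact P.not_dvd_index hd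
    · norm_num at h32
  have hsr := srg_classify (X := Vtx G) (VAdj z) (fun x y => vAdj_symm hf hz) (vAdj_irrefl hf hz)
    (k := (nbrs z (mk ha₀)).card)
    (fun P => (card_nbrs_eq hf hz (mk ha₀) P).symm ▸ rfl)
    (fun P Q h => by
      have := card_common_adj hf hz h
      rw [card_nbrs_eq hf hz P (mk ha₀)] at this
      rw [← this]; congr 2; ext R; simp [mem_nbrs])
    (fun P Q hne h => by
      rw [← card_common_nonadj hf hz hne h]; congr 1; ext R; simp [mem_nbrs])
    hv
  rcases hsr with ⟨-, h4⟩ | ⟨hk6, h10⟩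
  · exfalso
    have hs : Group.IsSolvable (vtxHom G).range := by
      obtain ⟨a, -, b, -, hab⟩ : ∃ a ≤ 3, ∃ b ≤ 1, Nat.card (vtxHom G).range = 2 ^ a * 3 ^ b := by
        have hd := Subgroup.card_subgroup_dvd_card (vtxHom G).range
        rw [Nat.card_eq_fintype_card (α := Equiv.Perm (Vtx G)), Fintype.card_perm, h4,
          show (4 : ℕ).factorial = 2 ^ 3 * 3 ^ 1 by rfl] at hd
        obtain ⟨x, y, hx, hy, e⟩ := exists_dvd_and_dvd_of_dvd_mul hd
        obtain ⟨a, ha, rfl⟩ := (Nat.dvd_prime_pow Nat.prime_two).1 hx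
        obtain ⟨b, hb, rfl⟩ := (Nat.dvd_prime_pow Nat.prime_three).1 hy
        exact ⟨a, ha, b, hb, e⟩
      exact CfsgLib.Char.burnside_pq 2 3 Nat.prime_two Nat.prime_three a b _ hab
    obtain ⟨P, Q, hPQ⟩ := Fintype.exists_pair_of_one_lt_card (α := Vtx G) (by omega)
    obtain ⟨g, rfl⟩ := conjV_transitive hf hz P Q
    exact hPQ (Equiv.congr_fun (solvable_image_trivial hperf _ hs g) P).symm
  -- a non-adjacent pair
  obtain ⟨Q, hQne, hQadj⟩ : ∃ Q, Q ≠ mk ha₀ ∧ ¬ VAdj z (mk ha₀) Q := by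
    by_contra hall
    simp only [not_exists, not_and, not_not] at hall
    have hle : (Finset.univ.erase (mk ha₀)).card ≤ (nbrs z (mk ha₀)).card :=
      Finset.card_le_card fun Q hQ => mem_nbrs.2 (hall Q (Finset.ne_of_mem_erase hQ))
    rw [Finset.card_erase_of_mem (Finset.mem_univ _), Finset.card_univ, h10, hk6] at hle
    omega
  obtain ⟨u, hu, rfl⟩ := exists_gen Q
  have hadj : ¬ Adj z a₀ u := fun e => hQadj ((vAdj_mk hf hz ha₀ hu).2 e)
  obtain ⟨ψ, hinj, hψa, hψu, hψz, hψH⟩ := exists_sl25 hf hz ha₀ hu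
    (fun e => hQne ((mk_eq_mk_iff ha₀ hu).2 (Or.inl e)))
    (fun e => hQne ((mk_eq_mk_iff ha₀ hu).2 (Or.inr e))) hadj
  obtain ⟨hlen, hthree, hpw⟩ := stdThree_spec
  have ord : ∀ x ∈ stdThree, orderOf (ψ x) = 3 := fun x hx => by
    rw [orderOf_injective ψ hinj]
    exact orderOf_eq_prime (by rw [pow_three']; exact (hthree x hx).1) (hthree x hx).2
  have hall : ∀ g : G, orderOf g = 3 → ∃ w ∈ stdThree, g = ψ w ∨ g = (ψ w)⁻¹ := by
    intro g hg
    have hnd : (stdThree.pmap (fun x hx => mk (ord x hx)) fun x hx => hx).Nodup := by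
      refine List.Pairwise.pmap hpw _ fun x hx y hy hxy e => ?_
      rcases (mk_eq_mk_iff (ord x hx) (ord y hy)).1 e.symm with e' | e'
      · exact hxy.1 (hinj e')
      · exact hxy.2 (hinj (e'.trans (map_inv ψ x).symm))
    have huniv := Finset.eq_univ_of_card _ (by
      rw [List.toFinset_card_of_nodup hnd, List.length_pmap, hlen, h10] :
        (stdThree.pmap (fun x hx => mk (ord x hx)) fun x hx => hx).toFinset.card = Fintype.card (Vtx G))
    have hm : mk hg ∈ (stdThree.pmap (fun x hx => mk (ord x hx)) fun x hx => hx).toFinset :=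
      huniv ▸ Finset.mem_univ _
    rw [List.mem_toFinset, List.mem_pmap] at hm
    obtain ⟨w, hw, e⟩ := hm
    exact ⟨w, hw, (mk_eq_mk_iff (ord w hw) hg).1 e.symm⟩
  obtain ⟨X, hX⟩ : ∃ X : Subgroup G, X = ψ.range := ⟨_, rfl⟩
  have hmem3 : ∀ g : G, orderOf g = 3 → g ∈ X := by
    intro g hg
    rw [hX]
    obtain ⟨w, -, rfl | rfl⟩ := hall g hg
    exacts [⟨w, rfl⟩, ⟨w⁻¹, map_inv ψ w⟩]
  have hXn : X.Normal := by
    refine ⟨fun x hx g => ?_⟩
    rw [hX] at hx
    obtain ⟨p, rfl⟩ := hx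
    have hle : Subgroup.closure ({a₀, u} : Set G) ≤ X.comap (MulAut.conj g).toMonoidHom := by
      rw [Subgroup.closure_le]
      rintro y (rfl | rfl)
      · exact hmem3 _ (conj_ctx ha₀)
      · exact hmem3 _ (conj_ctx hu)
    exact hle (hψH p)
  obtain ⟨C, hC⟩ : ∃ C : Subgroup G, C = Subgroup.centralizer (X : Set G) := ⟨_, rfl⟩
  have hCn : C.Normal := by rw [hC]; infer_instance
  have haX : a₀ ∈ X := hmem3 _ ha₀
  have huX : u ∈ X := hmem3 _ hu
  have hpm : ∀ g : G, ∀ b, orderOf b = 3 → ∀ c, orderOf c = 3 → ∀ (_ : g * b * g⁻¹ = c ∨ g * b * g⁻¹ = c⁻¹),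
      g⁻¹ * c * g = b ∨ g⁻¹ * c * g = b⁻¹ := by
    intro g b _ c _ h
    rcases h with h | h
    · left; rw [← h]; group
    · right; rw [← inv_inv c, ← h]; group
  -- the group is generated by `X`, its centralizer, and a group inducing sign changes
  have hdec : ∀ g : G, ∃ n, (∃ x ∈ X, g = x * n) ∧ (n * a₀ * n⁻¹ = a₀ ∨ n * a₀ * n⁻¹ = a₀⁻¹) ∧
      (n * u * n⁻¹ = u ∨ n * u * n⁻¹ = u⁻¹) := by
    intro g
    obtain ⟨w, hw, hgw⟩ := hall _ (conj_ctx (a := g) ha₀)
    obtain ⟨p, -, hp⟩ := conjList_spec w hw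
    have hP : ψ p * a₀ * (ψ p)⁻¹ = g * a₀ * g⁻¹ ∨ ψ p * a₀ * (ψ p)⁻¹ = (g * a₀ * g⁻¹)⁻¹ := by
      rcases hgw with e | e <;> rcases hp with e' | e' <;>
        [left; right; right; left] <;> rw [e, ← hψa, ← map_inv, ← map_mul, ← map_mul, e'] <;> simp
    obtain ⟨n, hn⟩ : ∃ n, n = (ψ p)⁻¹ * g := ⟨_, rfl⟩
    have hna : n * a₀ * n⁻¹ = a₀ ∨ n * a₀ * n⁻¹ = a₀⁻¹ := by
      rcases hpm (ψ p) a₀ ha₀ _ (conj_ctx ha₀) hP with e | e
      · left; refine Eq.trans ?_ e; rw [hn]; group
      · right; refine Eq.trans ?_ e; rw [hn]; group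
    obtain ⟨w', hw', hnw⟩ := hall _ (conj_ctx (a := n) hu)
    have hnadj : ¬ Adj z a₀ (n * u * n⁻¹) := by
      intro h
      apply hadj
      have h' : Adj z (n * a₀ * n⁻¹) (n * u * n⁻¹) := by
        rcases hna with e | e <;> rw [e]
        · exact h
        · exact adj_inv_left hf hz h
      have := adj_conj (invol_center hf hz) n⁻¹ h'
      simpa [mul_assoc] using this
    have hne1 : n * u * n⁻¹ ≠ a₀ ∧ n * u * n⁻¹ ≠ a₀⁻¹ := by
      have hh : ∀ b, (b = a₀ ∨ b = a₀⁻¹) → n * u * n⁻¹ ≠ b := by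
        intro b hb e
        apply hQne
        refine (mk_eq_mk_iff ha₀ hu).2 ?_
        have hu' : u = n⁻¹ * b * n := by rw [← e]; group
        have hinv : n⁻¹ * a₀⁻¹ * n = (n⁻¹ * a₀ * n)⁻¹ := by simp [mul_assoc]
        rcases hpm n a₀ ha₀ a₀ ha₀ hna with e1 | e1 <;> rcases hb with e2 | e2 <;>
          rw [e2] at hu' <;> rw [hu'] <;> simp only [e1, hinv, inv_inv, true_or, or_true]
      exact ⟨hh _ (Or.inl rfl), hh _ (Or.inr rfl)⟩
    rcases stabList_spec w' hw' with e | e | e | e | ⟨q, -, hqa, hqu⟩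
    · exfalso
      rcases hnw with e' | e' <;> rw [e, hψa] at e'
      exacts [hne1.1 e', hne1.2 e']
    · exfalso
      rw [inv_eq_iff_eq_inv] at e
      rcases hnw with e' | e' <;> rw [e, map_inv, hψa] at e'
      exacts [hne1.2 e', hne1.1 (e'.trans (inv_inv _))]
    · exfalso; apply hnadj
      have : Adj z a₀ (ψ w') := Or.inl (by rw [← hψa, ← hψz, ← e, map_pow, map_mul])
      rcases hnw with e' | e' <;> rw [e']
      exacts [this, adj_inv_right this]
    · exfalso; apply hnadj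
      have : Adj z a₀ (ψ w') := Or.inr (by rw [← hψa, ← hψz, ← e, map_pow, map_mul, map_inv])
      rcases hnw with e' | e' <;> rw [e']
      exacts [this, adj_inv_right this]
    · refine ⟨(ψ q)⁻¹ * n, ⟨ψ p * ψ q, ?_, by rw [hn]; group⟩, ?_, ?_⟩
      · rw [hX]; exact ⟨p * q, map_mul ψ p q⟩
      · have hA : ψ q * a₀ * (ψ q)⁻¹ = n * a₀ * n⁻¹ ∨ ψ q * a₀ * (ψ q)⁻¹ = (n * a₀ * n⁻¹)⁻¹ := by
          rcases hna with e | e <;> rcases hqa with e' | e' <;>
            [left; right; right; left] <;> rw [e, ← hψa, ← map_inv, ← map_mul, ← map_mul, e'] <;> simp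
        rcases hpm (ψ q) a₀ ha₀ _ (conj_ctx ha₀) hA with e | e
        · left; refine Eq.trans ?_ e; group
        · right; refine Eq.trans ?_ e; group
      · have hU : ψ q * u * (ψ q)⁻¹ = n * u * n⁻¹ ∨ ψ q * u * (ψ q)⁻¹ = (n * u * n⁻¹)⁻¹ := by
          rcases hnw with e | e <;> rcases hqu with e' | e' <;>
            [left; right; right; left] <;> rw [e, ← hψu, ← map_inv, ← map_mul, ← map_mul, e'] <;> simp
        rcases hpm (ψ q) u hu _ (conj_ctx hu) hU with e | e
        · left; refine Eq.trans ?_ e; group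
        · right; refine Eq.trans ?_ e; group
  have hXC : ∀ g : G, QuotientGroup.mk' (X ⊔ C) g = 1 := by
    refine fun g => perfect_image hperf _ (fun x y => ?_) g
    obtain ⟨n, ⟨x', hx', rfl⟩, hna, hnu⟩ := hdec x
    obtain ⟨m, ⟨y', hy', rfl⟩, hma, hmu⟩ := hdec y
    have hx1 : QuotientGroup.mk' (X ⊔ C) x' = 1 :=
      (QuotientGroup.eq_one_iff x').2 (Subgroup.mem_sup_left hx')
    have hy1 : QuotientGroup.mk' (X ⊔ C) y' = 1 :=
      (QuotientGroup.eq_one_iff y').2 (Subgroup.mem_sup_left hy')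
    rw [map_mul, map_mul, hx1, hy1, one_mul, one_mul, ← map_mul, ← map_mul]
    refine (QuotientGroup.eq (s := X ⊔ C)).2 (Subgroup.mem_sup_right ?_)
    rw [hC, Subgroup.mem_centralizer_iff]
    intro y hy
    obtain ⟨k, hk⟩ : ∃ k, k = (n * m)⁻¹ * (m * n) := ⟨_, rfl⟩
    rw [← hk]
    have hle : Subgroup.closure ({a₀, u} : Set G) ≤ Subgroup.centralizer {k} := by
      rw [Subgroup.closure_le]
      rintro b (rfl | rfl) <;> rw [SetLike.mem_coe, Subgroup.mem_centralizer_singleton_iff, hk]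
      · exact (mul_inv_eq_iff_eq_mul.1 (sign_fix hna hma)).symm
      · exact (mul_inv_eq_iff_eq_mul.1 (sign_fix hnu hmu)).symm
    rw [hX] at hy
    obtain ⟨p, rfl⟩ := hy
    exact Subgroup.mem_centralizer_singleton_iff.1 (hle (hψH p))
  -- the centralizer is solvable
  have hcentre : ∀ c ∈ C, c ∈ X → c = 1 ∨ c = z := by
    intro c hc hcX
    rw [hX] at hcX
    obtain ⟨p, rfl⟩ := hcX
    have hp : p ∈ Subgroup.center SL25 := Subgroup.mem_center_iff.2 fun q => hinj (by
      rw [map_mul, map_mul]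
      rw [hC, Subgroup.mem_centralizer_iff] at hc
      exact hc _ (by rw [hX]; exact ⟨q, rfl⟩))
    rw [Matrix.SpecialLinearGroup.mem_center_iff] at hp
    obtain ⟨b, hb, hbp⟩ := hp
    rw [Fintype.card_fin] at hb
    rcases zmodFive_sq_eq_one b hb with rfl | rfl
    · left
      rw [show p = 1 from Subtype.ext (by rw [← hbp]; simp), map_one]
    · right
      rw [show p = binIcoGen 2 from Subtype.ext (hbp.symm.trans scalar_neg_one_five), hψz]
  obtain ⟨q₀, hq₀⟩ : ∃ q₀, q₀ = ψ (binIcoGen 0 * binIcoGen 1) := ⟨_, rfl⟩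
  have hq₀z : q₀ * q₀ = z := by rw [hq₀, ← pow_two, ← map_pow, z_sq.2.2, hψz]
  have hno4 : ∀ b ∈ C, b * b = z → False := by
    intro b hb hbb
    have hq₀X : q₀ ∈ X := by rw [hX, hq₀]; exact ⟨_, rfl⟩
    have hb' := hb
    rw [hC, Subgroup.mem_centralizer_iff] at hb'
    have hbq : (b * q₀) * (b * q₀) = 1 := by
      rw [mul_assoc b q₀, ← mul_assoc q₀ b, hb' q₀ hq₀X, mul_assoc b q₀, hq₀z, ← mul_assoc, hbb,
        ← pow_two, ← hz, pow_orderOf_eq_one]
    have hzz : z * z = 1 := by rw [← pow_two, ← hz, pow_orderOf_eq_one]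
    have hbX : b ∈ X := by
      by_cases h1 : b * q₀ = 1
      · rw [eq_inv_of_mul_eq_one_left h1]; exact X.inv_mem hq₀X
      · have ho : orderOf (b * q₀) = 2 := by
          haveI : Fact (Nat.Prime 2) := ⟨Nat.prime_two⟩
          exact orderOf_eq_prime (by rw [pow_two]; exact hbq) h1
        rw [eq_mul_inv_of_mul_eq (invol_unique hf hz ho)]
        exact X.mul_mem (by rw [hX]; exact ⟨_, hψz⟩) (X.inv_mem hq₀X)
    have hz1 : z = 1 := by
      rcases hcentre b hb hbX with rfl | rfl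
      · rw [← hbb, one_mul]
      · rw [← hbb, hzz]
    rw [hz1, orderOf_one] at hz
    omega
  have hCs : Group.IsSolvable C := by
    have hfC : Fpf (f.comp C.subtype) := fun g hg v hv => hf g (fun h => hg (Subtype.ext h)) v hv
    haveI : Fact (Nat.Prime 2) := ⟨Nat.prime_two⟩
    have : IsZGroup C := ⟨fun p hp P => by
      have := Fact.mk hp
      rcases sylow_cases hfC P with h | ⟨rfl, n, ⟨e⟩⟩
      · exact h
      · exfalso
        obtain ⟨b, hb⟩ : ∃ b : P, orderOf b = 4 :=
          ⟨e.symm (QuaternionGroup.xa 0), by rw [MulEquiv.orderOf_eq, QuaternionGroup.orderOf_xa]⟩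
        have hb4 : orderOf (((b : C) : G)) = 4 := by
          rw [Subgroup.orderOf_coe, Subgroup.orderOf_coe, hb]
        refine hno4 _ (b : C).2 (invol_unique hf hz ?_)
        rw [← pow_two, orderOf_pow, hb4]
        rfl⟩
    infer_instance
  -- conclusion
  have htop : X = ⊤ := by
    rw [eq_top_iff]
    intro g _
    refine (QuotientGroup.eq_one_iff g).1 (solvable_image_trivial hperf (QuotientGroup.mk' X) ?_ g)
    have hsurj : Function.Surjective ((QuotientGroup.mk' X).comp C.subtype) := by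
      intro y
      obtain ⟨g, rfl⟩ := QuotientGroup.mk'_surjective X y
      have hg : g ∈ X ⊔ C := (QuotientGroup.eq_one_iff g).1 (hXC g)
      obtain ⟨x, hx, c, hc, rfl⟩ := Subgroup.mem_sup_of_normal_left.1 hg
      refine ⟨⟨c, hc⟩, ?_⟩
      rw [map_mul, show QuotientGroup.mk' X x = 1 from (QuotientGroup.eq_one_iff x).2 hx, one_mul]
      rfl
    have := Group.isSolvable_of_surjective hsurj
    infer_instance
  exact ⟨((MonoidHom.ofInjective hinj).trans
    ((MulEquiv.subgroupCongr (hX.symm.trans htop)).trans Subgroup.topEquiv)).symm⟩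

end CfsgLib.Perm.Ico
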