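import Cfsg.Agent.Lib.Perm.IcoRoots
import Mathlib.LinearAlgebra.Eigenspace.Triangularizable
import Mathlib.Analysis.Complex.Polynomial.Basic
import Mathlib.GroupTheory.OrderOfElement
import Mathlib.Tactic.Module
import Mathlib.Tactic.NoncommRing

/-!
Elements of order three in fixed-point-free linear groups: the quadratic algebra.
-/

set_option autoImplicit false

namespace CfsgLib.Perm.Ico

variable {G : Type*} [Group G] {V : Type*} [AddCommGroup V] [Module ℂ V]
  {f : G →* Module.End ℂ V}

/-- Fixed-point-free representations. -/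
def Fpf (f : G →* Module.End ℂ V) : Prop := ∀ g, g ≠ 1 → ∀ v, f g v = v → v = 0

/-- Irreducible representations. -/
def Irr (f : G →* Module.End ℂ V) : Prop :=
  ∀ E : Submodule ℂ V, (∀ g, ∀ x ∈ E, f g x ∈ E) → E = ⊥ ∨ E = ⊤

theorem map_mul_inv (f : G →* Module.End ℂ V) (g : G) : f g * f g⁻¹ = 1 := by
  rw [← map_mul, mul_inv_cancel, map_one]

theorem eq_of_apply (hf : Fpf f) {g h : G} {v : V} (hv : v ≠ 0) (e : f g v = f h v) : g = h := by
  by_contra hne
  refine hv (hf (h⁻¹ * g) (fun h1 => hne (inv_mul_eq_one.1 h1).symm) v ?_)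
  rw [map_mul, Module.End.mul_apply, e, ← Module.End.mul_apply, ← map_mul, inv_mul_cancel, map_one]
  rfl

theorem eq_of_map_eq (hf : Fpf f) [Nontrivial V] {g h : G} (e : f g = f h) : g = h := by
  obtain ⟨v, hv⟩ := exists_ne (0 : V)
  exact eq_of_apply hf hv (by rw [e])

theorem map_eq_neg_one (hf : Fpf f) {z : G} (hz : orderOf z = 2) : f z = -1 := by
  have hz1 : z ≠ 1 := fun e => by rw [e, orderOf_one] at hz; omega
  ext v
  have h2 : f z (f z v) = v := by
    rw [← Module.End.mul_apply, ← map_mul, ← pow_two, ← hz, pow_orderOf_eq_one, map_one]; rfl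
  have h := hf z hz1 (f z v + v) (by rw [map_add, h2, add_comm])
  simpa using eq_neg_of_add_eq_zero_left h

theorem map_sq_of_orderOf_three (hf : Fpf f) {a : G} (ha : orderOf a = 3) :
    f a * f a = -f a - 1 := by
  have ha1 : a ≠ 1 := fun e => by rw [e, orderOf_one] at ha; omega
  ext v
  have h3 : f a (f a (f a v)) = v := by
    rw [← Module.End.mul_apply, ← Module.End.mul_apply, ← map_mul, ← map_mul,
      ← pow_three', ← ha, pow_orderOf_eq_one, map_one]; rfl
  have h := hf a ha1 (f a (f a v) + f a v + v) (by rw [map_add, map_add, h3]; abel)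
  simp only [Module.End.mul_apply, LinearMap.sub_apply, LinearMap.neg_apply, Module.End.one_apply]
  exact sub_eq_zero.1 (by rw [← h]; abel)

/-- The trace-zero part of an element of order three. -/
noncomputable def ctr (f : G →* Module.End ℂ V) (a : G) : Module.End ℂ V := f a + (1 / 2 : ℂ) • 1

/-- The anticommutator of two trace-zero parts. -/
noncomputable def anti (f : G →* Module.End ℂ V) (a u : G) : Module.End ℂ V :=
  ctr f a * ctr f u + ctr f u * ctr f a

theorem anti_comm (a u : G) : anti f a u = anti f u a := add_comm _ _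

theorem map_eq_ctr_sub (a : G) : f a = ctr f a - (1 / 2 : ℂ) • 1 := by simp [ctr]

theorem ctr_sq (hf : Fpf f) {a : G} (ha : orderOf a = 3) :
    ctr f a * ctr f a = (-3 / 4 : ℂ) • 1 := by
  simp only [ctr, add_mul, mul_add, smul_mul_assoc, mul_smul_comm, one_mul, mul_one,
    map_sq_of_orderOf_three hf ha]
  module

theorem anti_self (hf : Fpf f) {a : G} (ha : orderOf a = 3) :
    anti f a a = (-3 / 2 : ℂ) • 1 := by
  rw [anti, ctr_sq hf ha]; module

theorem map_inv_three (hf : Fpf f) {a : G} (ha : orderOf a = 3) :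
    f a⁻¹ = -ctr f a - (1 / 2 : ℂ) • 1 := by
  rw [inv_eq_of_mul_eq_one_right (show a * (a * a) = 1 by
    rw [← pow_three, ← ha, pow_orderOf_eq_one]), map_mul, map_sq_of_orderOf_three hf ha, ctr]
  module

theorem ctr_inv (hf : Fpf f) {a : G} (ha : orderOf a = 3) : ctr f a⁻¹ = -ctr f a := by
  rw [ctr, map_inv_three hf ha]; module

theorem anti_inv_right (hf : Fpf f) (a : G) {u : G} (hu : orderOf u = 3) :
    anti f a u⁻¹ = -anti f a u := by
  rw [anti, anti, ctr_inv hf hu, mul_neg, neg_mul, neg_add]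

theorem ctr_conj (g a : G) : ctr f (g * a * g⁻¹) = f g * ctr f a * f g⁻¹ := by
  rw [ctr, ctr, map_mul, map_mul, mul_add, add_mul, mul_smul_comm, smul_mul_assoc, mul_one,
    map_mul_inv]

theorem anti_commute (hf : Fpf f) {a : G} (ha : orderOf a = 3) (u : G) :
    Commute (anti f a u) (f a) := by
  have h := ctr_sq hf ha
  have : Commute (anti f a u) (ctr f a) := by
    show _ * _ = _ * _
    simp only [anti, add_mul, mul_add]
    rw [mul_assoc (ctr f u), h, ← mul_assoc (ctr f a) (ctr f a), h, mul_assoc]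
    simp only [mul_smul_comm, smul_mul_assoc, one_mul, mul_one]
    abel
  rw [map_eq_ctr_sub (f := f) a]
  exact this.sub_right ((Commute.one_right _).smul_right _)

theorem map_mul_add_inv (hf : Fpf f) {a u : G} (ha : orderOf a = 3) (hu : orderOf u = 3) :
    f (a * u) + f (a * u)⁻¹ = anti f a u + (1 / 2 : ℂ) • 1 := by
  rw [mul_inv_rev, map_mul, map_mul, map_eq_ctr_sub (f := f) a, map_eq_ctr_sub (f := f) u,
    map_inv_three hf ha, map_inv_three hf hu, anti]
  simp only [sub_mul, mul_sub, neg_mul, mul_neg, smul_mul_assoc, mul_smul_comm, one_mul, mul_one]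
  module

theorem smul_one_inj [Nontrivial V] {x y : ℂ} (h : x • (1 : Module.End ℂ V) = y • 1) : x = y := by
  obtain ⟨v, hv⟩ := exists_ne (0 : V)
  have h' := congrArg (fun T : Module.End ℂ V => T v) h
  simp only [LinearMap.smul_apply, Module.End.one_apply] at h'
  exact smul_left_injective ℂ hv h'

theorem anti_of_sq_eq (hf : Fpf f) {a u z : G} (ha : orderOf a = 3) (hu : orderOf u = 3)
    (hz : f z = -1) (h : (a * u) ^ 2 = z) : anti f a u = (-1 / 2 : ℂ) • 1 := by
  have h1 : f (a * u) + f (a * u)⁻¹ = 0 := by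
    have : f (a * u)⁻¹ = -f (a * u) := by
      calc f (a * u)⁻¹ = -(-1 * f (a * u)⁻¹) := by simp
        _ = -(f (a * u) * f (a * u) * f (a * u)⁻¹) := by rw [← hz, ← h, pow_two, map_mul f (a * u) (a * u)]
        _ = -f (a * u) := by rw [mul_assoc, map_mul_inv, mul_one]
    rw [this, add_neg_cancel]
  rw [map_mul_add_inv hf ha hu] at h1
  rw [eq_neg_of_add_eq_zero_left h1]
  module

/-- Adjacency of two elements of order three. -/
def Adj (z a u : G) : Prop := (a * u) ^ 2 = z ∨ (a * u⁻¹) ^ 2 = z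

theorem anti_of_adj (hf : Fpf f) {a u z : G} (ha : orderOf a = 3) (hu : orderOf u = 3)
    (hz : f z = -1) (h : Adj z a u) :
    anti f a u = (-1 / 2 : ℂ) • 1 ∨ anti f a u = (1 / 2 : ℂ) • 1 := by
  rcases h with h | h
  · exact Or.inl (anti_of_sq_eq hf ha hu hz h)
  · right
    have h' := anti_of_sq_eq hf ha (by rwa [orderOf_inv]) hz h
    rw [anti_inv_right hf a hu, neg_eq_iff_eq_neg] at h'
    rw [h']; module

theorem sq_eq_of_anti (hf : Fpf f) [Nontrivial V] {a u z : G} (ha : orderOf a = 3)
    (hu : orderOf u = 3) (hz : f z = -1) (h : anti f a u = (-1 / 2 : ℂ) • 1) : (a * u) ^ 2 = z := by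
  apply eq_of_map_eq hf
  have h1 := map_mul_add_inv hf ha hu
  rw [h] at h1
  have h2 : f (a * u)⁻¹ = -f (a * u) := by
    rw [eq_neg_iff_add_eq_zero, add_comm, h1]; module
  calc f ((a * u) ^ 2) = -(f (a * u) * f (a * u)⁻¹) := by rw [h2, pow_two, map_mul, mul_neg, neg_neg]
    _ = f z := by rw [map_mul_inv, hz]

theorem adj_of_anti (hf : Fpf f) [Nontrivial V] {a u z : G} (ha : orderOf a = 3)
    (hu : orderOf u = 3) (hz : f z = -1) {c : ℂ} (h : anti f a u = c • 1) (hc : c * c = 1 / 4) :
    Adj z a u := by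
  rcases mul_self_eq_mul_self_iff.1 (show c * c = (-1 / 2) * (-1 / 2) by rw [hc]; norm_num)
    with rfl | rfl
  · exact Or.inl (sq_eq_of_anti hf ha hu hz h)
  · refine Or.inr (sq_eq_of_anti hf ha (by rwa [orderOf_inv]) hz ?_)
    rw [anti_inv_right hf a hu, h]; module

variable [FiniteDimensional ℂ V]

/-- The value of a scalar anticommutator. -/
theorem anti_options [Finite G] (hf : Fpf f) [Nontrivial V] {a u : G} (ha : orderOf a = 3)
    (hu : orderOf u = 3) {c : ℂ} (h : anti f a u = c • 1) :
    u = a ∨ u = a⁻¹ ∨ c * c = 1 / 4 ∨ c * c = 5 / 4 := by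
  have hu' : orderOf u⁻¹ = 3 := by rwa [orderOf_inv]
  have key : ∀ g : G, ∀ x : ℂ, f g + f g⁻¹ = x • 1 →
      ∃ η : ℂ, η ^ Nat.card G = 1 ∧ η + η⁻¹ = x ∧ (η = 1 → g = 1) := by
    intro g x hx
    obtain ⟨η, hη⟩ := Module.End.exists_eigenvalue (f g)
    obtain ⟨v, hv⟩ := hη.exists_hasEigenvector
    have hpow : ∀ n : ℕ, f (g ^ n) v = η ^ n • v := by
      intro n
      induction n with
      | zero => simp
      | succ n ih =>
        rw [pow_succ', map_mul, Module.End.mul_apply, ih, map_smul, hv.apply_eq_smul, smul_smul,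
          pow_succ]
    have h1 : η ^ Nat.card G = 1 := by
      have := hpow (Nat.card G)
      rw [pow_card_eq_one', map_one, Module.End.one_apply] at this
      exact smul_left_injective ℂ hv.2 (by simpa using this.symm)
    have hη0 : η ≠ 0 := fun e => by simp [e, zero_pow Nat.card_pos.ne'] at h1
    refine ⟨η, h1, ?_, fun e => eq_of_apply hf hv.2 ?_⟩
    · have hinv : f g⁻¹ v = η⁻¹ • v := by
        calc f g⁻¹ v = η⁻¹ • f g⁻¹ (f g v) := by rw [hv.apply_eq_smul, map_smul, smul_smul, inv_mul_cancel₀ hη0, one_smul]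
          _ = _ := by rw [← Module.End.mul_apply, ← map_mul, inv_mul_cancel, map_one]; rfl
      have := congrArg (fun T : Module.End ℂ V => T v) hx
      simp only [LinearMap.add_apply, LinearMap.smul_apply, Module.End.one_apply, hinv,
        hv.apply_eq_smul, ← add_smul] at this
      exact smul_left_injective ℂ hv.2 this
    · rw [hv.apply_eq_smul, e, one_smul, map_one]; rfl
  obtain ⟨η, hη, hx, he⟩ := key (a * u) (c + 1 / 2) (by rw [map_mul_add_inv hf ha hu, h]; module)
  obtain ⟨θ, hθ, hy, he'⟩ := key (a * u⁻¹) (-c + 1 / 2) (by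
    rw [map_mul_add_inv hf ha hu', anti_inv_right hf a hu, h]; module)
  rcases root_options Nat.card_pos hη hθ (by rw [hx, hy]; ring) with h1 | h1 | h1 | h1 | h1
  · exact Or.inr (Or.inl (eq_inv_of_mul_eq_one_right (he h1)))
  · exact Or.inl (mul_inv_eq_one.1 (he' h1)).symm
  · right; right; left
    rw [hx] at h1
    linear_combination (c - 1 / 2) * h1
  · right; right; left
    rw [hx] at h1
    linear_combination (c + 1 / 2) * h1
  · right; right; right
    rw [hx] at h1
    linear_combination h1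

theorem scalar_of_commute [Nontrivial V] (hirr : Irr f) {T : Module.End ℂ V}
    (hT : ∀ g, Commute T (f g)) : ∃ c : ℂ, T = c • 1 := by
  obtain ⟨c, hc⟩ := Module.End.exists_eigenvalue T
  refine ⟨c, ?_⟩
  have hinv : ∀ g, ∀ x ∈ T.eigenspace c, f g x ∈ T.eigenspace c := by
    intro g x hx
    rw [Module.End.mem_eigenspace_iff] at hx ⊢
    rw [← Module.End.mul_apply, (hT g).eq, Module.End.mul_apply, hx, map_smul]
  rcases hirr (T.eigenspace c) hinv with h | h
  · exact absurd h hc
  · ext v
    have : v ∈ T.eigenspace c := h ▸ Submodule.mem_top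
    simpa using Module.End.mem_eigenspace_iff.1 this

theorem commute_of_closure {S : Set G} (hgen : Subgroup.closure S = ⊤) {T : Module.End ℂ V}
    (hT : ∀ g ∈ S, Commute T (f g)) (g : G) : Commute T (f g) := by
  have hg : g ∈ Subgroup.closure S := hgen ▸ Subgroup.mem_top g
  induction hg using Subgroup.closure_induction with
  | mem x hx => exact hT x hx
  | one => rw [map_one]; exact Commute.one_right T
  | mul x y _ _ hx hy => rw [map_mul]; exact hx.mul_right hy
  | inv x _ hx =>
    calc T * f x⁻¹ = f x⁻¹ * f x * (T * f x⁻¹) := by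
          rw [← map_mul, inv_mul_cancel, map_one, one_mul]
      _ = f x⁻¹ * (f x * T) * f x⁻¹ := by simp only [mul_assoc]
      _ = f x⁻¹ * (T * f x) * f x⁻¹ := by rw [hx.eq]
      _ = f x⁻¹ * T := by rw [mul_assoc, mul_assoc, map_mul_inv, mul_one]

end CfsgLib.Perm.Ico
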