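import Mathlib.FieldTheory.Finite.GaloisField
import Mathlib.FieldTheory.Galois.Basic
import Mathlib.GroupTheory.GroupAction.Quotient

/-!
A regular linear group with a self-centralising abelian normal subgroup is semilinear.
-/

set_option autoImplicit false

namespace CfsgLib.Perm.Ico

variable {p : ℕ} [Fact p.Prime] {V : Type*} [AddCommGroup V] [Module (ZMod p) V] [Finite V]
  [Nontrivial V] {G : Type*} [Group G]

/-- A group regular on the non-zero vectors has order one less than the space. -/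
theorem card_regular (ρ : G →* (V ≃ₗ[ZMod p] V))
    (htrans : ∀ v w : V, v ≠ 0 → w ≠ 0 → ∃ g : G, ρ g v = w)
    (hfree : ∀ v : V, v ≠ 0 → ∀ g : G, ρ g v = v → g = 1) : Nat.card G + 1 = Nat.card V := by
  classical
  obtain ⟨v₀, hv₀⟩ := exists_ne (0 : V)
  have e : G ≃ {v : V // v ≠ 0} := Equiv.ofBijective (fun g => ⟨ρ g v₀, by simpa using hv₀⟩)
    ⟨fun g h e => by
      have e' : ρ g v₀ = ρ h v₀ := congrArg Subtype.val e
      refine (eq_of_inv_mul_eq_one (hfree v₀ hv₀ (g⁻¹ * h) ?_))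
      rw [map_mul, LinearEquiv.mul_apply, ← e', ← LinearEquiv.mul_apply, ← map_mul, inv_mul_cancel,
        map_one]
      rfl,
    fun w => ⟨(htrans v₀ w.1 hv₀ w.2).choose, Subtype.ext (htrans v₀ w.1 hv₀ w.2).choose_spec⟩⟩
  rw [Nat.card_congr e]
  have := Fintype.ofFinite V
  rw [Nat.card_eq_fintype_card, Nat.card_eq_fintype_card, Fintype.card_subtype_compl,
    Fintype.card_subtype_eq]
  have : 0 < Fintype.card V := Fintype.card_pos
  omega

/-- A regular linear group with an abelian normal self-centralising subgroup `A` is semilinear,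
and `A` is irreducible. -/
theorem semilinear_of_selfCentralizing [Finite G] (ρ : G →* (V ≃ₗ[ZMod p] V))
    (htrans : ∀ v w : V, v ≠ 0 → w ≠ 0 → ∃ g : G, ρ g v = w)
    (hfree : ∀ v : V, v ≠ 0 → ∀ g : G, ρ g v = v → g = 1)
    (A : Subgroup G) [A.Normal] (hA : ∀ a ∈ A, ∀ b ∈ A, a * b = b * a)
    (hC : Subgroup.centralizer (A : Set G) ≤ A) :
    (∃ (F : Type) (_ : Field F) (_ : Fintype F) (e : V ≃+ F),
        ∀ g : G, ∃ (a : F) (σ : F ≃+* F), ∀ v : V, e (ρ g v) = a * σ (e v)) ∧
      ∀ W : Submodule (ZMod p) V, (∀ a ∈ A, ∀ v ∈ W, ρ a v ∈ W) → W = ⊥ ∨ W = ⊤ := by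
  classical
  have hp := (Fact.out : p.Prime)
  obtain ⟨ℓ, hℓ⟩ : ∃ ℓ : G →* Module.End (ZMod p) V, ∀ g v, ℓ g v = ρ g v :=
    ⟨{ toFun := fun g => (ρ g).toLinearMap
       map_one' := by rw [map_one]; rfl
       map_mul' := fun g h => by rw [map_mul]; rfl }, fun g v => rfl⟩
  have hinv : ∀ g v, ℓ g⁻¹ (ℓ g v) = v := fun g v => by
    rw [← Module.End.mul_apply, ← map_mul, inv_mul_cancel, map_one]; rfl
  have hinj : Function.Injective ℓ := fun g h e => by
    obtain ⟨v, hv⟩ := exists_ne (0 : V)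
    refine eq_of_inv_mul_eq_one (hfree v hv (g⁻¹ * h) ?_)
    rw [← hℓ, map_mul, Module.End.mul_apply, ← e, hinv]
  have : Finite (Module.End (ZMod p) V) :=
    Finite.of_injective (fun f : Module.End (ZMod p) V => (f : V → V)) DFunLike.coe_injective
  let R : Subring (Module.End (ZMod p) V) := Subring.closure (ℓ '' (A : Set G))
  let _ : CommRing R := Subring.closureCommRingOfComm (by
    rintro _ ⟨a, ha, rfl⟩ _ ⟨b, hb, rfl⟩
    rw [← map_mul, ← map_mul, hA a ha b hb])
  let _ : Fintype R := Fintype.ofFinite R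
  have hAR : ∀ a ∈ A, ℓ a ∈ R := fun a ha => Subring.subset_closure ⟨a, ha, rfl⟩
  have hmaps : ∀ g : G, ∀ r ∈ R, ℓ g * r * ℓ g⁻¹ ∈ R := by
    intro g r hr
    induction hr using Subring.closure_induction with
    | mem x hx =>
      obtain ⟨a, ha, rfl⟩ := hx
      rw [← map_mul, ← map_mul]
      exact hAR _ (Subgroup.Normal.conj_mem inferInstance a ha g)
    | zero => simp
    | one => rw [mul_one, ← map_mul, mul_inv_cancel, map_one]; exact R.one_mem
    | add x y _ _ ihx ihy => rw [mul_add, add_mul]; exact R.add_mem ihx ihy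
    | neg x _ ihx => rw [mul_neg, neg_mul]; exact R.neg_mem ihx
    | mul x y _ _ ihx ihy =>
      have e : ℓ g * (x * y) * ℓ g⁻¹ = ℓ g * x * ℓ g⁻¹ * (ℓ g * y * ℓ g⁻¹) := by
        rw [mul_assoc (ℓ g * x), ← mul_assoc (ℓ g⁻¹), ← mul_assoc (ℓ g⁻¹), ← map_mul, inv_mul_cancel,
          map_one, one_mul]
        simp only [mul_assoc]
      rw [e]
      exact R.mul_mem ihx ihy
  -- every vector generates a simple module
  let S : V → Set V := fun v => Set.range fun r : R => (r : Module.End (ZMod p) V) v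
  have hself : ∀ v, v ∈ S v := fun v => ⟨1, rfl⟩
  have hsub : ∀ u v, u ∈ S v → S u ⊆ S v := by
    rintro _ v ⟨s, rfl⟩ _ ⟨r, rfl⟩
    exact ⟨r * s, rfl⟩
  have heq : ∀ u v, u ∈ S v → u ≠ 0 → S u = S v := by
    intro u v hu hu0
    have hv0 : v ≠ 0 := by
      rintro rfl
      obtain ⟨r, hr⟩ := hu
      exact hu0 (by rw [← hr]; exact map_zero _)
    obtain ⟨g, hg⟩ := htrans v u hv0 hu0
    rw [← hℓ] at hg
    refine Set.eq_of_subset_of_ncard_le (hsub u v hu) ?_ (Set.toFinite _)
    refine Set.ncard_le_ncard_of_injOn (ℓ g) ?_ ?_ (Set.toFinite _)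
    · rintro _ ⟨r, rfl⟩
      refine ⟨⟨_, hmaps g r r.2⟩, ?_⟩
      show (ℓ g * (r : Module.End (ZMod p) V) * ℓ g⁻¹) u = _
      rw [Module.End.mul_apply, Module.End.mul_apply, ← hg, hinv]
    · intro x _ y _ e
      simpa [hinv] using congrArg (ℓ g⁻¹) e
  have hker : ∀ (r : R) (v : V), v ≠ 0 → (r : Module.End (ZMod p) V) v = 0 → r = 0 := by
    intro r v hv h0
    apply Subtype.ext
    apply LinearMap.ext
    intro u
    by_contra hne
    have hne' : (r : Module.End (ZMod p) V) u ≠ 0 := hne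
    have hvu : v + u ≠ 0 := fun e => hne' (by
      rw [eq_neg_of_add_eq_zero_right e, map_neg, h0, neg_zero])
    have e1 : S ((r : Module.End (ZMod p) V) u) = S u := heq _ _ ⟨r, rfl⟩ hne'
    have e2 : S ((r : Module.End (ZMod p) V) u) = S (v + u) :=
      heq _ _ ⟨r, show (r : Module.End (ZMod p) V) (v + u) = _ by rw [map_add, h0, zero_add]⟩ hne'
    obtain ⟨s, hs⟩ : v + u ∈ S u := by rw [← e1, e2]; exact hself _
    have hvS : v ∈ S u := ⟨s - 1, show ((s : Module.End (ZMod p) V) - 1) u = v by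
      rw [LinearMap.sub_apply, show (s : Module.End (ZMod p) V) u = v + u from hs, Module.End.one_apply,
        add_sub_cancel_right]⟩
    obtain ⟨t, ht⟩ : u ∈ S v := by rw [heq v u hvS hv]; exact hself u
    apply hne'
    rw [← show (t : Module.End (ZMod p) V) v = u from ht, ← Module.End.mul_apply,
      show (r : Module.End (ZMod p) V) * t = t * r from congrArg Subtype.val (mul_comm r t),
      Module.End.mul_apply, h0, map_zero]
  obtain ⟨v₀, hv₀⟩ := exists_ne (0 : V)
  have : Nontrivial R := ⟨⟨0, 1, fun e => hv₀ (LinearMap.congr_fun (congrArg Subtype.val e) v₀).symm⟩⟩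
  have : NoZeroDivisors R := ⟨fun {r s} hrs => by
    by_contra hcon
    push Not at hcon
    have h1 : (s : Module.End (ZMod p) V) v₀ ≠ 0 := fun h => hcon.2 (hker s v₀ hv₀ h)
    exact hcon.1 (hker r _ h1 (LinearMap.congr_fun (congrArg Subtype.val hrs) v₀))⟩
  have : IsDomain R := NoZeroDivisors.to_isDomain R
  let _ : Field R := Fintype.fieldOfDomain R
  have hp0 : ((p : R) : R) = 0 := by
    refine hker _ v₀ hv₀ ?_
    rw [show (((p : R) : R) : Module.End (ZMod p) V) = (p : Module.End (ZMod p) V) from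
      map_natCast R.subtype p, ← nsmul_one, LinearMap.smul_apply, Module.End.one_apply,
      ← Nat.cast_smul_eq_nsmul (ZMod p), ZMod.natCast_self, zero_smul]
  have : CharP R p := (CharP.charP_iff_prime_eq_zero hp).mpr hp0
  let _ : Algebra (ZMod p) R := ZMod.algebra R p
  obtain ⟨d, hd⟩ : ∃ d, d = @Module.finrank (ZMod p) R _ _ Algebra.toModule := ⟨_, rfl⟩
  have hq : Nat.card R = p ^ d := by
    rw [hd, @Module.natCard_eq_pow_finrank (ZMod p) R _ _ Algebra.toModule, Nat.card_zmod]
  -- the automorphisms induced by `G`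
  have hmk : ∀ g : G, ∃ F : R ≃ₐ[ZMod p] R, ∀ r : R,
      (F r : Module.End (ZMod p) V) = ℓ g * r * ℓ g⁻¹ := by
    intro g
    let f : R →+* R :=
      { toFun := fun r => ⟨_, hmaps g r r.2⟩
        map_one' := Subtype.ext (show ℓ g * 1 * ℓ g⁻¹ = 1 by rw [mul_one, ← map_mul, mul_inv_cancel, map_one])
        map_zero' := Subtype.ext (show ℓ g * 0 * ℓ g⁻¹ = 0 by simp)
        map_add' := fun r s => Subtype.ext (show ℓ g * ((r : Module.End (ZMod p) V) + s) * ℓ g⁻¹ = _ by
          rw [mul_add, add_mul]; rfl)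
        map_mul' := fun r s => Subtype.ext (show ℓ g * ((r : Module.End (ZMod p) V) * s) * ℓ g⁻¹ =
            ℓ g * r * ℓ g⁻¹ * (ℓ g * s * ℓ g⁻¹) by
          rw [mul_assoc (ℓ g * (r : Module.End (ZMod p) V)), ← mul_assoc (ℓ g⁻¹), ← mul_assoc (ℓ g⁻¹),
            ← map_mul, inv_mul_cancel, map_one, one_mul]
          simp only [mul_assoc]) }
    let F : R ≃+* R := RingEquiv.ofBijective f (Finite.injective_iff_bijective.mp f.injective)
    exact ⟨AlgEquiv.ofRingEquiv (f := F) fun x => by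
      rw [← ZMod.natCast_zmod_val x, map_natCast, map_natCast], fun r => rfl⟩
  choose Φ hΦ using hmk
  have hcardA : Nat.card A ≤ Nat.card R - 1 := by
    have hc : Nat.card {r : R // r ≠ 0} = Nat.card R - 1 := by
      rw [Nat.card_eq_fintype_card, Nat.card_eq_fintype_card, Fintype.card_subtype_compl,
        Fintype.card_subtype_eq]
    rw [← hc]
    refine Nat.card_le_card_of_injective (fun a => ⟨⟨ℓ (a : G), hAR a a.2⟩, fun e => hv₀ ?_⟩)
      fun a b e => Subtype.ext (hinj (congrArg (fun t : {r : R // r ≠ 0} => ((t : R) : Module.End (ZMod p) V)) e))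
    have h := LinearMap.congr_fun (congrArg Subtype.val e) v₀
    change ℓ (a : G) v₀ = 0 at h
    rw [← hinv (a : G) v₀, h, map_zero]
  have hindex : A.index ≤ d := by
    rw [Subgroup.index_eq_card, hd]
    refine le_trans ?_ (le_of_eq (IsGalois.card_aut_eq_finrank (ZMod p) R))
    refine Nat.card_le_card_of_injective (fun x : G ⧸ A => Φ x.out) fun x y e => ?_
    rw [← QuotientGroup.out_eq' x, ← QuotientGroup.out_eq' y, QuotientGroup.eq]
    obtain ⟨g, hg⟩ : ∃ g, g = x.out := ⟨_, rfl⟩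
    obtain ⟨h, hh⟩ : ∃ h, h = y.out := ⟨_, rfl⟩
    rw [← hg, ← hh]
    change Φ x.out = Φ y.out at e
    rw [← hg, ← hh] at e
    refine hC (Subgroup.mem_centralizer_iff.2 fun a ha => ?_)
    have h1 := congrArg (fun t : R => (t : Module.End (ZMod p) V)) (AlgEquiv.congr_fun e ⟨ℓ a, hAR a ha⟩)
    simp only [hΦ, ← map_mul] at h1
    have h2 := hinj h1
    calc a * (g⁻¹ * h) = g⁻¹ * (g * a * g⁻¹) * h := by simp [mul_assoc]
      _ = g⁻¹ * (h * a * h⁻¹) * h := by rw [h2]
      _ = g⁻¹ * h * a := by simp [mul_assoc]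
  have hcardG : Nat.card G ≤ (Nat.card R - 1) * d := by
    rw [← A.card_mul_index]
    exact Nat.mul_le_mul hcardA hindex
  -- `V` is one-dimensional over `R`
  have hGV := card_regular ρ htrans hfree
  have hfull : ∀ v, v ≠ 0 → S v = Set.univ := by
    intro v hv
    by_contra hne
    obtain ⟨u, hu⟩ := (Set.ne_univ_iff_exists_notMem _).1 hne
    have hbig : Nat.card (R × R) ≤ Nat.card V := by
      refine Nat.card_le_card_of_injective
        (fun kl => (kl.1 : Module.End (ZMod p) V) v + (kl.2 : Module.End (ZMod p) V) u) ?_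
      rintro ⟨k, l⟩ ⟨k', l'⟩ e
      have e' : ((k - k' : R) : Module.End (ZMod p) V) v + ((l - l' : R) : Module.End (ZMod p) V) u = 0 := by
        show ((k : Module.End (ZMod p) V) - k') v + ((l : Module.End (ZMod p) V) - l') u = 0
        rw [LinearMap.sub_apply, LinearMap.sub_apply, sub_add_sub_comm, sub_eq_zero]
        exact e
      by_cases hl : l - l' = 0
      · rw [hl, show ((0 : R) : Module.End (ZMod p) V) = 0 from rfl, LinearMap.zero_apply, add_zero] at e'
        exact Prod.ext (sub_eq_zero.1 (hker _ v hv e')) (sub_eq_zero.1 hl)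
      · exfalso
        refine hu ⟨-((l - l')⁻¹ * (k - k')), ?_⟩
        have h := congrArg ((((l - l')⁻¹ : R)) : Module.End (ZMod p) V) e'
        rw [map_add, map_zero, ← Module.End.mul_apply, ← Module.End.mul_apply, ← R.coe_mul, ← R.coe_mul,
          inv_mul_cancel₀ hl, R.coe_one, Module.End.one_apply] at h
        show (-(((l - l')⁻¹ * (k - k') : R) : Module.End (ZMod p) V)) v = u
        rw [LinearMap.neg_apply]
        exact neg_eq_of_add_eq_zero_right h
    rw [Nat.card_prod, hq, ← hGV] at hbig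
    rw [hq] at hcardG
    have hlt : d < p ^ d := Nat.lt_pow_self hp.one_lt
    obtain ⟨m, hm⟩ : ∃ m, p ^ d = m + 1 := ⟨p ^ d - 1, by omega⟩
    rw [hm] at hcardG hbig hlt
    rw [Nat.add_sub_cancel] at hcardG
    have h1 : m * d ≤ m * m := Nat.mul_le_mul_left m (by omega)
    have h2 : (m + 1) * (m + 1) = m * m + 2 * m + 1 := by ring
    have h3 : 2 ≤ p ^ d := by rw [← hq]; exact Finite.one_lt_card
    omega
  let ev : R →+ V :=
    { toFun := fun r => (r : Module.End (ZMod p) V) v₀, map_zero' := rfl, map_add' := fun _ _ => rfl }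
  have hev : Function.Bijective ev := by
    refine ⟨(injective_iff_map_eq_zero ev).2 fun r hr => hker r v₀ hv₀ hr, fun w => ?_⟩
    exact ((hfull v₀ hv₀).ge (Set.mem_univ w) : _)
  let eR : R ≃+ V := AddEquiv.ofBijective ev hev
  refine ⟨?_, ?_⟩
  · obtain ⟨E⟩ : Nonempty (R ≃ₐ[ZMod p] GaloisField p d) := ⟨GaloisField.algEquivGaloisField p d hq⟩
    refine ⟨GaloisField p d, inferInstance, Fintype.ofFinite _, eR.symm.trans E.toAddEquiv, fun g =>
      ⟨E (eR.symm (ρ g v₀)), ((E.symm.trans (Φ g)).trans E).toRingEquiv, fun v => ?_⟩⟩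
    show E (eR.symm (ρ g v)) = E (eR.symm (ρ g v₀)) * E (Φ g (E.symm (E (eR.symm v))))
    rw [AlgEquiv.symm_apply_apply, ← map_mul]
    congr 1
    rw [AddEquiv.symm_apply_eq]
    obtain ⟨r, rfl⟩ := eR.surjective v
    rw [AddEquiv.symm_apply_apply]
    obtain ⟨c, hc⟩ := eR.surjective (ρ g v₀)
    rw [← hc, AddEquiv.symm_apply_apply, mul_comm]
    show ρ g ((r : Module.End (ZMod p) V) v₀) = ((Φ g r * c : R) : Module.End (ZMod p) V) v₀
    rw [R.coe_mul, Module.End.mul_apply, show (c : Module.End (ZMod p) V) v₀ = ρ g v₀ from hc, hΦ,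
      Module.End.mul_apply, Module.End.mul_apply, ← hℓ g v₀, hinv, hℓ]
  · intro W hW
    have hWR : ∀ r ∈ R, ∀ w ∈ W, r w ∈ W := by
      intro r hr
      induction hr using Subring.closure_induction with
      | mem x hx =>
        obtain ⟨a, ha, rfl⟩ := hx
        intro w hw
        rw [hℓ]; exact hW a ha w hw
      | zero => intro w _; exact W.zero_mem
      | one => intro w hw; exact hw
      | add x y _ _ ihx ihy => intro w hw; exact W.add_mem (ihx w hw) (ihy w hw)
      | neg x _ ihx => intro w hw; exact W.neg_mem (ihx w hw)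
      | mul x y _ _ ihx ihy => intro w hw; exact ihx _ (ihy w hw)
    refine or_iff_not_imp_left.2 fun hne => ?_
    obtain ⟨w, hw, hw0⟩ := W.exists_mem_ne_zero_of_ne_bot hne
    rw [eq_top_iff]
    intro u _
    obtain ⟨r, hr⟩ := ((hfull w hw0).ge (Set.mem_univ u) : u ∈ S w)
    exact hr ▸ hWR r r.2 w hw

end CfsgLib.Perm.Ico
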