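import Cfsg.Agent.Lib.Perm.IcoSolvableCore
import Cfsg.Agent.Lib.Perm.IcoCyclicNormal
import Cfsg.Agent.Lib.Perm.IcoSemilinear
import Cfsg.Agent.Lib.Perm.IcoBridge
import Cfsg.Agent.Lib.Transfer.QuaternionSection
import Cfsg.Agent.S0689
import Mathlib.Tactic.LinearCombination

/-!
Linear groups regular on the non-zero vectors.
-/

set_option autoImplicit false
set_option linter.unusedSectionVars false

namespace CfsgLib.Perm.Ico

open QuaternionGroup CfsgLib.Recog

universe u

variable {p : ℕ} [Fact p.Prime] {V : Type*} [AddCommGroup V] [Module (ZMod p) V] [Finite V]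
  [Nontrivial V]

/-- Half of a space on which a quaternion group acts with central element `-1`. -/
theorem half_card {G : Type*} [Group G] [Finite G] (ρ : G →* (V ≃ₗ[ZMod p] V))
    (hfree : ∀ v : V, v ≠ 0 → ∀ g : G, ρ g v = v → g = 1) {i j z : G} (hi : i * i = z) (hj : j * j = z)
    (hij : i * j = z * (j * i)) (hzz : z * z = 1) (hz1 : z ≠ 1) (M : Subgroup G)
    (hMi : ∀ g ∈ M, g * i = i * g) (hMj : ∀ g ∈ M, g * j = j * g) :
    ∃ Q k : ℕ, Nat.card V = Q * Q ∧ Q = p ^ k ∧ Nat.card M ∣ Q - 1 := by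
  classical
  let act : G → V →ₗ[ZMod p] V := fun s => (ρ s).toLinearMap
  have hact : ∀ s t, ∀ v, act s (act t v) = act (s * t) v := fun s t v => by
    simp only [act, map_mul]; rfl
  have hneg : ∀ v : V, act z v = -v := by
    intro v
    have h2 : act z (act z v) = v := by rw [hact, hzz]; simp [act]
    by_contra hne
    have h3 : act z v + v ≠ 0 := fun e => hne (eq_neg_of_add_eq_zero_left e)
    refine hz1 (hfree _ h3 z ?_)
    show act z (act z v + v) = _
    rw [map_add, h2, add_comm]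
  obtain ⟨v₀, hv₀⟩ := exists_ne (0 : V)
  have hp2 : (2 : ZMod p) ≠ 0 := by
    intro h2
    have hVV : ∀ v : V, v + v = 0 := fun v => by rw [← two_smul (ZMod p) v, h2, zero_smul]
    refine hz1 (hfree v₀ hv₀ z ?_)
    show act z v₀ = v₀
    rw [hneg, neg_eq_iff_add_eq_zero, hVV]
  have eI : ∀ v, act i (act i v) = -v := fun v => by rw [hact, hi]; exact hneg v
  have eJ : ∀ v, act j (act j v) = -v := fun v => by rw [hact, hj]; exact hneg v
  have eIJ : ∀ v, act i (act j v) = -(act j (act i v)) := fun v => by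
    rw [hact, hact, hij, ← hact]; exact hneg _
  obtain ⟨x, y, hxy⟩ := ZMod.sq_add_sq p (-1 : ZMod p)
  let N : V →ₗ[ZMod p] V := x • act i + y • act j + (act i).comp (act j)
  have hN : ∀ v, N v = x • act i v + y • act j v + act i (act j v) := fun v => rfl
  have hNN : ∀ v, N (N v) = 0 := by
    intro v
    simp only [hN, map_add, map_smul, eI, eJ, eIJ, map_neg]
    linear_combination (norm := module) (-1 : ZMod p) • congrArg (fun t : ZMod p => t • v) hxy
  have hNK : ∀ v, N (act i (act j v)) + act i (act j (N v)) = (-2 : ZMod p) • v := by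
    intro v
    simp only [hN, map_add, map_smul, eI, eJ, eIJ, map_neg]
    module
  have hker : LinearMap.ker N = LinearMap.range N := by
    ext v
    rw [LinearMap.mem_ker, LinearMap.mem_range]
    refine ⟨fun h => ⟨(-2 : ZMod p)⁻¹ • act i (act j v), ?_⟩, fun ⟨w, hw⟩ => hw ▸ hNN w⟩
    have := hNK v
    rw [h, map_zero, map_zero, add_zero] at this
    rw [map_smul, this, smul_smul, inv_mul_cancel₀ (neg_ne_zero.2 hp2), one_smul]
  refine ⟨Nat.card (LinearMap.ker N), Module.finrank (ZMod p) (LinearMap.ker N), ?_, ?_, ?_⟩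
  · have h1 := Submodule.card_eq_card_quotient_mul_card (LinearMap.ker N)
    rw [Nat.card_congr N.quotKerEquivRange.toEquiv] at h1
    rw [h1, hker]
  · rw [Module.natCard_eq_pow_finrank (K := ZMod p), Nat.card_zmod]
  have hcomN : ∀ g ∈ M, ∀ v, N (act g v) = act g (N v) := by
    intro g hg v
    have hc1 : ∀ w, act i (act g w) = act g (act i w) := fun w => by rw [hact, hact, hMi g hg]
    have hc2 : ∀ w, act j (act g w) = act g (act j w) := fun w => by rw [hact, hact, hMj g hg]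
    simp only [hN, hc1, hc2, map_add, map_smul]
  let _ : MulAction M {v : LinearMap.ker N // v ≠ 0} :=
    { smul := fun g v => ⟨⟨act (g : G) v.1.1, by
          rw [LinearMap.mem_ker, hcomN g g.2, LinearMap.mem_ker.1 v.1.2, map_zero]⟩, fun e => v.2
            (Subtype.ext (by simpa [act] using congrArg Subtype.val e))⟩
      one_smul := fun v => Subtype.ext (Subtype.ext (show act 1 v.1.1 = v.1.1 by simp [act]))
      mul_smul := fun g h v => Subtype.ext (Subtype.ext (hact g h v.1.1).symm) }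
  have horb : ∀ v : {v : LinearMap.ker N // v ≠ 0}, MulAction.stabilizer M v = ⊥ := by
    intro v
    rw [eq_bot_iff]
    intro g hg
    rw [Subgroup.mem_bot]
    refine Subtype.ext (hfree v.1.1 (fun e => v.2 (Subtype.ext e)) g ?_)
    exact congrArg (fun t : {v : LinearMap.ker N // v ≠ 0} => t.1.1) hg
  have h := Nat.card_congr (MulAction.selfEquivSigmaOrbitsQuotientStabilizer M
    {v : LinearMap.ker N // v ≠ 0})
  have : Fintype (MulAction.orbitRel.Quotient M {v : LinearMap.ker N // v ≠ 0}) := Fintype.ofFinite _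
  rw [Nat.card_sigma] at h
  rw [Finset.sum_congr rfl (fun i _ => by rw [horb, ← Subgroup.index_eq_card, Subgroup.index_bot]),
    Finset.sum_const, smul_eq_mul] at h
  have hc : Nat.card {v : LinearMap.ker N // v ≠ 0} = Nat.card (LinearMap.ker N) - 1 := by
    have := Fintype.ofFinite (LinearMap.ker N)
    rw [Nat.card_eq_fintype_card, Nat.card_eq_fintype_card, Fintype.card_subtype_compl,
      Fintype.card_subtype_eq]
  rw [← hc, h]
  exact dvd_mul_left _ _

/-- A free linear group is a fixed-point-free complex linear group. -/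
theorem fpf_of_free {G : Type u} [Group G] [Finite G] [Nontrivial G] (ρ : G →* (V ≃ₗ[ZMod p] V))
    (hfree : ∀ v : V, v ≠ 0 → ∀ g : G, ρ g v = v → g = 1) :
    ∃ (d : ℕ) (f : G →* Module.End ℂ (Fin d → ℂ)), 0 < d ∧ Fpf f := by
  obtain ⟨L, hL, hLf, C, hC, he, -⟩ := CfsgLib.StructC.exists_frobenius_of_fpf_add (H := G) (V := V)
    (fun g v => ρ g v) (fun v => by simp) (fun a b v => by simp)
    (fun a v w => map_add _ v w) (fun g hg v hv => by_contra fun h => hg (hfree v h g hv))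
  exact exists_fpf_complex ⟨L, hL, hLf, C, hC, he⟩

theorem exceptional_options {Q e m : ℕ} (hQ0 : 2 ≤ Q) (he : e = 1 ∨ e = 2) (hm : m ∣ Q - 1)
    (hodd : m % 2 = 1) (heq : Q * Q = 24 * m * e + 1) :
    (Q = 5 ∧ e = 1 ∧ m = 1) ∨ (Q = 7 ∧ e = 2 ∧ m = 1) ∨ (Q = 11 ∧ e = 1 ∧ m = 5) ∨
      (Q = 23 ∧ e = 2 ∧ m = 11) := by
  have key : ∀ Q ∈ List.range 48, ∀ e ∈ [1, 2], ∀ m ∈ List.range 48, Q * Q = 24 * m * e + 1 →
      (Q - 1) % m = 0 → m % 2 = 1 →
      (Q = 5 ∧ e = 1 ∧ m = 1) ∨ (Q = 7 ∧ e = 2 ∧ m = 1) ∨ (Q = 11 ∧ e = 1 ∧ m = 5) ∨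
        (Q = 23 ∧ e = 2 ∧ m = 11) := by
    decide +kernel
  have hm0 : 0 < m := by omega
  obtain ⟨s, hs⟩ := id hm
  have h1 : s * (Q + 1) = 24 * e := by
    have : (Q - 1) * (Q + 1) = 24 * m * e := by
      obtain ⟨t, rfl⟩ : ∃ t, Q = t + 1 := ⟨Q - 1, by omega⟩
      rw [Nat.add_sub_cancel]
      linarith
    rw [hs] at this
    exact Nat.eq_of_mul_eq_mul_left hm0 (by linarith)
  have hs0 : 1 ≤ s := by
    rcases Nat.eq_zero_or_pos s with rfl | h
    · omega
    · exact h
  have hQ : Q + 1 ≤ 48 := by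
    have h2 : Q + 1 ≤ s * (Q + 1) := Nat.le_mul_of_pos_left _ hs0
    omega
  have hmQ : m ≤ Q - 1 := Nat.le_of_dvd (by omega) hm
  exact key Q (List.mem_range.2 (by omega)) e (by rcases he with rfl | rfl <;> simp) m
    (List.mem_range.2 (by omega)) heq (Nat.mod_eq_zero_of_dvd hm) hodd

/-- The solvable regular linear groups that are not `2`-nilpotent. -/
theorem solvable_exceptional {G : Type u} [Group G] [Finite G] [Nontrivial G]
    (ρ : G →* (V ≃ₗ[ZMod p] V))
    (htrans : ∀ v w : V, v ≠ 0 → w ≠ 0 → ∃ g : G, ρ g v = w)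
    (hfree : ∀ v : V, v ≠ 0 → ∀ g : G, ρ g v = v → g = 1)
    (hsol : Group.IsSolvable G) (hnil : ¬ TwoNilp G) :
    ∃ (R : Subgroup G) (Q : ℕ), Q8Core G R ∧ Nat.card V = Q * Q ∧ Q.Prime ∧
      IsCyclic (Cfsg.pPrimeCore 2 G) ∧
      ((∃ N : Subgroup G, N.Normal ∧ N.index = 2) ∨
        (Q = 5 ∧ Nonempty (G ≃* Matrix.SpecialLinearGroup (Fin 2) (ZMod 3))) ∨
        (Q = 11 ∧ Nonempty (G ≃* Matrix.SpecialLinearGroup (Fin 2) (ZMod 3) × Multiplicative (ZMod 5)))) ∧
      (Q = 5 ∨ Q = 7 ∨ Q = 11 ∨ Q = 23) := by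
  classical
  obtain ⟨d, f, hd, hf⟩ := fpf_of_free ρ hfree
  have : Nonempty (Fin d) := ⟨⟨0, hd⟩⟩
  have : Fact (Nat.Prime 2) := ⟨Nat.prime_two⟩
  have := CfsgLib.Solvable.pPrimeCore_normal 2 G
  obtain ⟨R, hR⟩ := exists_q8Core hf hsol hnil
  obtain ⟨eR⟩ := hR.iso
  obtain ⟨si, hsi⟩ : ∃ s : R, s = eR.symm (QuaternionGroup.a 1) := ⟨_, rfl⟩
  obtain ⟨sj, hsj⟩ : ∃ s : R, s = eR.symm (QuaternionGroup.xa 0) := ⟨_, rfl⟩
  obtain ⟨sz, hsz⟩ : ∃ s : R, s = eR.symm (QuaternionGroup.a 2) := ⟨_, rfl⟩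
  obtain ⟨p1, p2, p3, p4, p5⟩ := q8_pair
  obtain ⟨m, hm⟩ : ∃ m, m = Nat.card (Cfsg.pPrimeCore 2 G) := ⟨_, rfl⟩
  obtain ⟨Q, k, hQ, hQk, hdvd⟩ := half_card ρ hfree (i := (si : G)) (j := (sj : G)) (z := (sz : G))
    (by rw [← Subgroup.coe_mul, hsi, hsz, ← map_mul, p1])
    (by rw [← Subgroup.coe_mul, hsj, hsz, ← map_mul, p2])
    (by rw [← Subgroup.coe_mul, ← Subgroup.coe_mul, ← Subgroup.coe_mul, hsi, hsj, hsz, ← map_mul,
      ← map_mul, ← map_mul, p3])
    (by rw [← Subgroup.coe_mul, hsz, ← map_mul, p4, map_one, Subgroup.coe_one])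
    (fun h => p5 (by
      have h' : eR sz = 1 := by rw [show sz = 1 from Subtype.ext h, map_one]
      rwa [hsz, eR.apply_symm_apply] at h'))
    (Cfsg.pPrimeCore 2 G) (fun g hg => hR.commO g hg _ si.2) (fun g hg => hR.commO g hg _ sj.2)
  have hmodd : m % 2 = 1 := by
    have h := Nat.coprime_two_right.1 (CfsgLib.Solvable.pPrimeCore_coprime (G := G) 2)
    rw [← hm] at h
    exact Nat.odd_iff.1 h
  obtain ⟨e, he, hidx⟩ : ∃ e, (e = 1 ∨ e = 2) ∧
      (Subgroup.centralizer (R : Set G)).index = 12 * e := by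
    rcases hR.index_cent with h | ⟨h, -⟩
    · exact ⟨1, Or.inl rfl, h⟩
    · exact ⟨2, Or.inr rfl, h⟩
  have hG : Nat.card G = 24 * m * e := by
    rw [← (Subgroup.centralizer (R : Set G)).card_mul_index, hR.card_cent, hidx, ← hm]; ring
  have hGV := card_regular ρ htrans hfree
  have hQ2 : 2 ≤ Q := by
    by_contra h
    interval_cases Q
    · have : 0 < Nat.card V := Nat.card_pos
      omega
    · have : 1 < Nat.card V := Finite.one_lt_card
      omega
  have hcases := exceptional_options hQ2 he (hm ▸ hdvd) hmodd (by rw [← hQ, ← hGV, hG])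
  have hQp : Q.Prime := by
    rcases hcases with ⟨h, -⟩ | ⟨h, -⟩ | ⟨h, -⟩ | ⟨h, -⟩ <;> rw [h] <;> norm_num
  have hmp : m = 1 ∨ m.Prime := by
    rcases hcases with ⟨-, -, h⟩ | ⟨-, -, h⟩ | ⟨-, -, h⟩ | ⟨-, -, h⟩
    · exact Or.inl h
    · exact Or.inl h
    · exact Or.inr (by rw [h]; norm_num)
    · exact Or.inr (by rw [h]; norm_num)
  have hcyc : IsCyclic (Cfsg.pPrimeCore 2 G) := by
    rcases hmp with h | h
    · have : Subsingleton (Cfsg.pPrimeCore 2 G) := (Nat.card_eq_one_iff_unique.1 (hm ▸ h)).1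
      exact isCyclic_of_subsingleton
    · have := Fact.mk h
      exact isCyclic_of_prime_card hm.symm
  refine ⟨R, Q, hR, hQ, hQp, hcyc, ?_, by
    rcases hcases with ⟨h, -⟩ | ⟨h, -⟩ | ⟨h, -⟩ | ⟨h, -⟩ <;> simp [h]⟩
  rcases hR.index_cent with hi12 | ⟨-, hN⟩
  swap
  · exact Or.inl hN
  have he1 : e = 1 := by omega
  subst he1
  -- the odd core is central
  have hc15 : m = 1 ∨ m = 5 := by
    rcases hcases with ⟨-, -, h⟩ | ⟨-, h, -⟩ | ⟨-, -, h⟩ | ⟨-, h, -⟩
    · exact Or.inl h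
    · omega
    · exact Or.inr h
    · omega
  obtain ⟨Φ, hΦ⟩ : ∃ Φ : G →* MulAut (Cfsg.pPrimeCore 2 G), Φ = MulAut.conjNormal := ⟨_, rfl⟩
  have hcentral : ∀ g : G, ∀ o ∈ Cfsg.pPrimeCore 2 G, g * o = o * g := by
    have hcard : Nat.card Φ.range = 1 := by
      have h1 : Nat.card Φ.range ∣ Nat.card G := by
        rw [← Subgroup.index_ker]; exact Subgroup.index_dvd_card _
      have h2 : Nat.card Φ.range ∣ Nat.totient m := by
        refine (Subgroup.card_subgroup_dvd_card _).trans (dvd_of_eq ?_)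
        rw [IsCyclic.card_mulAut, hm]
      have hCle : R ⊔ Cfsg.pPrimeCore 2 G ≤ Φ.ker := by
        refine sup_le (fun r hr => ?_) (fun o ho => ?_)
        · refine MulEquiv.ext fun y => Subtype.ext ?_
          rw [hΦ, MulAut.conjNormal_apply, MulAut.one_apply, ← hR.commO _ y.2 r hr, mul_inv_cancel_right]
        · refine MulEquiv.ext fun y => Subtype.ext ?_
          rw [hΦ, MulAut.conjNormal_apply, MulAut.one_apply]
          have h := congrArg Subtype.val (CfsgLib.Solvable.comm_of_isCyclic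
            (⟨o, ho⟩ : Cfsg.pPrimeCore 2 G) y)
          simp only [Subgroup.coe_mul] at h
          rw [h, mul_inv_cancel_right]
      have h8 : 8 * m ∣ Nat.card Φ.ker := by
        refine Nat.Coprime.mul_dvd_of_dvd_of_dvd ?_ ?_ ?_
        · rw [show (8 : ℕ) = 2 ^ 3 by norm_num, hm]
          exact (CfsgLib.Solvable.pPrimeCore_coprime (G := G) 2).symm.pow_left 3
        · have hc : Nat.card R = 8 := by
            rw [Nat.card_congr eR.toEquiv, Nat.card_eq_fintype_card, QuaternionGroup.card]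
          rw [← hc]
          exact Subgroup.card_dvd_of_le (le_sup_left.trans hCle)
        · rw [hm]; exact Subgroup.card_dvd_of_le (le_sup_right.trans hCle)
      have h3 : Nat.card Φ.range ∣ 3 := by
        obtain ⟨c, hc⟩ := h8
        have h := Φ.ker.card_mul_index
        rw [Subgroup.index_ker, hc, hG] at h
        refine ⟨c, ?_⟩
        have hm0 : 0 < 8 * m := by omega
        refine Nat.eq_of_mul_eq_mul_left hm0 ?_
        rw [← mul_assoc, mul_right_comm]
        linarith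
      have htot : Nat.totient m ∣ 4 := by
        rcases hc15 with h | h <;> rw [h]
        · simp
        · rw [Nat.totient_prime (by norm_num : Nat.Prime 5)]
      exact Nat.eq_one_of_dvd_coprimes (show Nat.Coprime 3 4 by norm_num) h3 (h2.trans htot)
    intro g o ho
    have hg : Φ g = 1 := by
      have h := Subgroup.card_eq_one.1 hcard
      exact Subgroup.mem_bot.1 (h ▸ ⟨g, rfl⟩)
    have h := congrArg (fun φ : MulAut (Cfsg.pPrimeCore 2 G) => ((φ ⟨o, ho⟩ : _) : G)) hg
    simp only [hΦ, MulAut.conjNormal_apply, MulAut.one_apply] at h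
    exact mul_inv_eq_iff_eq_mul.1 h
  -- the quotient by the odd core
  obtain ⟨π, hπ⟩ : ∃ π, π = QuotientGroup.mk' (Cfsg.pPrimeCore 2 G) := ⟨_, rfl⟩
  have hquo : Nat.card (G ⧸ Cfsg.pPrimeCore 2 G) = 24 := by
    have h := Subgroup.card_eq_card_quotient_mul_card_subgroup (Cfsg.pPrimeCore 2 G)
    rw [hG, mul_one, ← hm] at h
    exact (Nat.eq_of_mul_eq_mul_right (by omega) h).symm
  obtain ⟨eS⟩ : Nonempty (Matrix.SpecialLinearGroup (Fin 2) (ZMod 3) ≃* G ⧸ Cfsg.pPrimeCore 2 G) := by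
    have hR2 : IsPGroup 2 R := IsPGroup.of_card (n := 3) (by
      rw [Nat.card_congr eR.toEquiv, Nat.card_eq_fintype_card, QuaternionGroup.card]; rfl)
    have hinj := mk_injOn_two hR2
    rw [← hπ] at hinj
    have e : (π.comp R.subtype).range ≃* Q8 := (MonoidHom.ofInjective hinj).symm.trans eR
    have hp2 : IsPGroup 2 (π.comp R.subtype).range := hR2.of_equiv (MonoidHom.ofInjective hinj)
    have h8 : Nat.card (π.comp R.subtype).range = 8 := by
      rw [Nat.card_congr e.toEquiv, Nat.card_eq_fintype_card, QuaternionGroup.card]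
    have hidx : ¬ 2 ∣ (π.comp R.subtype).range.index := by
      have h := (π.comp R.subtype).range.card_mul_index
      rw [h8, hquo] at h
      omega
    obtain ⟨T, hT⟩ : ∃ T : Sylow 2 (G ⧸ Cfsg.pPrimeCore 2 G), (T : Subgroup _) = (π.comp R.subtype).range :=
      ⟨hp2.toSylow hidx, rfl⟩
    rcases CfsgLib.Transfer.normalPComplement_or_sl23_section (n := 1) T
      ⟨(MulEquiv.subgroupCongr hT).trans e⟩ with ⟨P, N, hNn, hNc⟩ | ⟨A, B, hB, ⟨es⟩⟩
    · exfalso
      have hNcop : (Nat.card N).Coprime 2 := by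
        rw [← hNc.index_eq_card, Nat.coprime_two_right]
        exact Nat.not_even_iff_odd.1 (fun h => P.not_dvd_index (even_iff_two_dvd.1 h))
      have hN1 := CfsgLib.Solvable.le_pPrimeCore hNn hNcop
      rw [CfsgLib.Solvable.pPrimeCore_quotient_eq_bot, le_bot_iff] at hN1
      obtain ⟨i, hi⟩ := P.2.exists_card_eq
      have h := hNc.symm.index_eq_card
      rw [hN1, Subgroup.index_bot, hquo, hi] at h
      have h3 : 3 ∣ 2 ^ i := h ▸ (by norm_num)
      exact absurd (Nat.prime_three.dvd_of_dvd_pow h3) (by norm_num)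
    · have hc : Nat.card (A ⧸ B.subgroupOf A) = 24 := by
        rw [Nat.card_congr es.toEquiv, CfsgLib.Classical.card_sl_two_eq, ZMod.card]
        norm_num
      have h1 := Subgroup.card_eq_card_quotient_mul_card_subgroup (B.subgroupOf A)
      rw [hc] at h1
      have h2 : Nat.card A ≤ 24 := hquo ▸ Subgroup.card_le_card_group A
      have hpos : 0 < Nat.card (B.subgroupOf A) := Nat.card_pos
      have hB1 : Nat.card (B.subgroupOf A) = 1 := by nlinarith
      have hA : A = ⊤ := Subgroup.eq_top_of_card_eq _ (by rw [h1, hB1, hquo])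
      have hbot := Subgroup.card_eq_one.1 hB1
      exact ⟨es.symm.trans (((QuotientGroup.quotientMulEquivOfEq hbot).trans
        QuotientGroup.quotientBot).trans ((MulEquiv.subgroupCongr hA).trans Subgroup.topEquiv))⟩
  obtain ⟨K, hK⟩ : ∃ K : Subgroup G, K.IsComplement' (Cfsg.pPrimeCore 2 G) := by
    refine Subgroup.exists_left_complement'_of_coprime ?_
    rw [Subgroup.index_eq_card, hquo, ← hm]
    rcases hc15 with h | h <;> rw [h] <;> norm_num
  have hcm : ∀ (a : K) (b : Cfsg.pPrimeCore 2 G), Commute (K.subtype a) ((Cfsg.pPrimeCore 2 G).subtype b) :=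
    fun a b => hcentral _ _ b.2
  have hprod : Function.Bijective (MonoidHom.noncommCoprod K.subtype (Cfsg.pPrimeCore 2 G).subtype hcm) :=
    hK
  have iso : G ≃* Matrix.SpecialLinearGroup (Fin 2) (ZMod 3) × (Cfsg.pPrimeCore 2 G) :=
    (MulEquiv.ofBijective _ hprod).symm.trans
      (MulEquiv.prodCongr ((eS.trans hK.QuotientMulEquiv).symm) (MulEquiv.refl _))
  refine Or.inr ?_
  rcases hc15 with h | h
  · refine Or.inl ⟨?_, ⟨iso.trans ?_⟩⟩
    · rcases hcases with ⟨h', -⟩ | ⟨-, h', -⟩ | ⟨-, -, h'⟩ | ⟨-, h', -⟩ <;> omega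
    · have : Subsingleton (Cfsg.pPrimeCore 2 G) := (Nat.card_eq_one_iff_unique.1 (hm ▸ h)).1
      exact
        { toFun := Prod.fst, invFun := fun s => (s, 1),
          left_inv := fun a => Prod.ext rfl (Subsingleton.elim _ _), right_inv := fun s => rfl,
          map_mul' := fun a b => rfl }
  · refine Or.inr ⟨?_, ⟨iso.trans (MulEquiv.prodCongr (MulEquiv.refl _) ?_)⟩⟩
    · rcases hcases with ⟨-, -, h'⟩ | ⟨-, h', -⟩ | ⟨h', -⟩ | ⟨-, h', -⟩ <;> omega
    · have : Fact (Nat.Prime 5) := ⟨by norm_num⟩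
      exact mulEquivOfPrimeCardEq (p := 5) (hm ▸ h) (by rw [Nat.card_congr Multiplicative.toAdd, Nat.card_zmod])

/-- A non-commutative free subgroup is irreducible on a space of order `Q²`. -/
theorem irreducible_of_card_sq {G : Type*} [Group G] (ρ : G →* (V ≃ₗ[ZMod p] V))
    (hfree : ∀ v : V, v ≠ 0 → ∀ g : G, ρ g v = v → g = 1) {Q : ℕ} (hQ : Q.Prime)
    (hV : Nat.card V = Q * Q) (X : Subgroup G) (hX : ∃ s ∈ X, ∃ t ∈ X, s * t ≠ t * s)
    (W : Submodule (ZMod p) V) (hW : ∀ n ∈ X, ∀ v ∈ W, ρ n v ∈ W) : W = ⊥ ∨ W = ⊤ := by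
  by_contra hcon
  push Not at hcon
  obtain ⟨s, hs, t, ht, hst⟩ := hX
  have hd : Nat.card W.toAddSubgroup ∣ Q ^ 2 := by
    rw [pow_two, ← hV]; exact AddSubgroup.card_addSubgroup_dvd_card _
  obtain ⟨i, hi2, hi⟩ := (Nat.dvd_prime_pow hQ).1 hd
  have hWQ : Nat.card W.toAddSubgroup = Q := by
    interval_cases i
    · refine absurd ((Submodule.eq_bot_iff W).2 fun x hx => ?_) hcon.1
      have hb : W.toAddSubgroup = ⊥ := AddSubgroup.card_eq_one.1 (by rw [hi, pow_zero])
      exact (AddSubgroup.eq_bot_iff_forall _).1 hb x hx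
    · simpa using hi
    · refine absurd ((Submodule.eq_top_iff').2 fun x => ?_) hcon.2
      have htop : W.toAddSubgroup = ⊤ := AddSubgroup.eq_top_of_card_eq _ (by rw [hi, hV, pow_two])
      exact (htop.ge (AddSubgroup.mem_top x) : x ∈ W.toAddSubgroup)
  have := Fact.mk hQ
  obtain ⟨w, hw, hw0⟩ := W.exists_mem_ne_zero_of_ne_bot hcon.1
  have hgen : ∀ x ∈ W, ∃ k : ℤ, k • w = x := by
    intro x hx
    have h := mem_zmultiples_of_prime_card (p := Q) (g := (⟨w, hw⟩ : W.toAddSubgroup))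
      (g' := ⟨x, hx⟩) hWQ (fun e => hw0 (congrArg Subtype.val e))
    obtain ⟨k, hk⟩ := h
    exact ⟨k, congrArg Subtype.val hk⟩
  obtain ⟨a, ha⟩ := hgen _ (hW s hs w hw)
  obtain ⟨b, hb⟩ := hgen _ (hW t ht w hw)
  have h1 : ρ (s * t) w = (a * b) • w := by
    rw [map_mul, LinearEquiv.mul_apply, ← hb, map_zsmul, ← ha, smul_smul, mul_comm]
  have h2 : ρ (t * s) w = (a * b) • w := by
    rw [map_mul, LinearEquiv.mul_apply, ← ha, map_zsmul, ← hb, smul_smul]
  refine hst (eq_of_inv_mul_eq_one (hfree w hw0 ((s * t)⁻¹ * (t * s)) ?_))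
  rw [map_mul, LinearEquiv.mul_apply, h2, ← h1, ← LinearEquiv.mul_apply, ← map_mul, inv_mul_cancel,
    map_one]
  rfl

theorem sl25_normal (N : Subgroup SL25) (hN : N.Normal) : N = ⊤ ∨ N ≤ Subgroup.center SL25 := by
  have : Fact (Nat.Prime 5) := ⟨by decide +kernel⟩
  have := CfsgLib.ClassK.isSimpleGroup_psl_two (F := ZMod 5) (by simp)
  rcases IsSimpleGroup.eq_bot_or_eq_top_of_normal _
    (hN.map (QuotientGroup.mk' (Subgroup.center SL25)) (QuotientGroup.mk'_surjective _)) with e | e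
  · refine Or.inr fun g hg => ?_
    exact (QuotientGroup.eq_one_iff g).1 ((Subgroup.eq_bot_iff_forall _).1 e _ ⟨g, hg, rfl⟩)
  · by_cases hz : binIcoGen 2 ∈ N
    · refine Or.inl (eq_top_iff.2 fun g _ => ?_)
      obtain ⟨k, hk, hke⟩ : QuotientGroup.mk' (Subgroup.center SL25) g ∈
          N.map (QuotientGroup.mk' (Subgroup.center SL25)) := e ▸ Subgroup.mem_top _
      rw [QuotientGroup.mk'_eq_mk'] at hke
      obtain ⟨c, hc, rfl⟩ := hke
      refine N.mul_mem hk ?_
      rw [Matrix.SpecialLinearGroup.mem_center_iff] at hc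
      obtain ⟨b, hb, hbc⟩ := hc
      rw [Fintype.card_fin] at hb
      rcases zmodFive_sq_eq_one b hb with rfl | rfl
      · rw [show c = 1 from Subtype.ext (by rw [← hbc]; simp)]; exact N.one_mem
      · rw [show c = binIcoGen 2 from Subtype.ext (hbc.symm.trans scalar_neg_one_five)]; exact hz
    · refine Or.inr fun g hg => ?_
      have hinj := injective_of_map_ne_one (QuotientGroup.mk' N)
        (fun h => hz ((QuotientGroup.eq_one_iff _).1 h))
      have : g = 1 := hinj (by rw [map_one]; exact (QuotientGroup.eq_one_iff g).2 hg)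
      rw [this]; exact Subgroup.one_mem _

theorem sl25_not_comm : binIcoGen 0 * stdU * (binIcoGen 0)⁻¹ * stdU⁻¹ * stdU ≠
      stdU * (binIcoGen 0 * stdU * (binIcoGen 0)⁻¹ * stdU⁻¹) ∧
    binIcoGen 0 * stdU ≠ stdU * binIcoGen 0 := by
  decide +kernel

theorem sl25_perfect : commutator SL25 = ⊤ := by
  refine (sl25_normal _ inferInstance).resolve_right fun h => sl25_not_comm.1 ?_
  have hm : binIcoGen 0 * stdU * (binIcoGen 0)⁻¹ * stdU⁻¹ ∈ commutator SL25 := by
    rw [← commutatorElement_def, commutator_def]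
    exact Subgroup.commutator_mem_commutator (Subgroup.mem_top _) (Subgroup.mem_top _)
  exact (Subgroup.mem_center_iff.1 (h hm) stdU).symm

/-- The core of a regular group without irreducible cyclic normal subgroup. -/
theorem exists_core (H : Subgroup (V ≃ₗ[ZMod p] V))
    (hreg : ∀ v w : V, v ≠ 0 → w ≠ 0 → ∃! h : H, (h : V ≃ₗ[ZMod p] V) v = w)
    (hI : ∀ A : Subgroup H, A.Normal → IsCyclic A → ∃ W : Submodule (ZMod p) V, W ≠ ⊥ ∧ W ≠ ⊤ ∧
      ∀ a ∈ A, ∀ v ∈ W, ((a : H) : V ≃ₗ[ZMod p] V) v ∈ W) [Nontrivial H] :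
    ∃ (X : Subgroup H) (Q : ℕ), X.Normal ∧ (Nonempty (X ≃* QuaternionGroup 2) ∨ Nonempty (X ≃* SL25)) ∧
      (∃ s ∈ X, ∃ t ∈ X, s * t ≠ t * s) ∧
      IsMulCommutative (Subgroup.centralizer (X : Set H)) ∧
      (∀ N : Subgroup H, N.Normal → X ≤ N ∨ N ≤ Subgroup.centralizer (X : Set H)) ∧
      Q.Prime ∧ Nat.card V = Q * Q := by
  classical
  have : Finite H := Finite.of_injective (fun g : H => fun v => (g : V ≃ₗ[ZMod p] V) v)
    (fun g h e => Subtype.ext (LinearEquiv.ext (congrFun e)))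
  have htrans : ∀ v w : V, v ≠ 0 → w ≠ 0 → ∃ g : H, H.subtype g v = w := fun v w hv hw =>
    (hreg v w hv hw).exists
  have hfree : ∀ v : V, v ≠ 0 → ∀ g : H, H.subtype g v = v → g = 1 := fun v hv g h =>
    (hreg v v hv hv).unique h rfl
  obtain ⟨d, f, hd, hf⟩ := fpf_of_free H.subtype hfree
  have : Nonempty (Fin d) := ⟨⟨0, hd⟩⟩
  by_cases hsol : Group.IsSolvable H
  · by_cases hnil : TwoNilp H
    · exfalso
      obtain ⟨A, hAn, hAc, hAcyc, hC⟩ := exists_selfCentralizing hf hnil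
      obtain ⟨W, h1, h2, h3⟩ := hI A hAn hAcyc
      exact ((semilinear_of_selfCentralizing H.subtype htrans hfree A hAc hC).2 W h3).elim h1 h2
    · obtain ⟨R, Q, hR, hV, hQ, hcyc, -, -⟩ := solvable_exceptional H.subtype htrans hfree hsol hnil
      obtain ⟨e⟩ := hR.iso
      refine ⟨R, Q, hR.normal, Or.inl hR.iso, ⟨_, (e.symm (QuaternionGroup.a 1)).2, _,
        (e.symm (QuaternionGroup.xa 0)).2, fun h => ?_⟩, ⟨⟨?_⟩⟩, hR.dichotomy, hQ, hV⟩
      · have h' := congrArg e (Subtype.ext h : e.symm (QuaternionGroup.a 1) * e.symm (QuaternionGroup.xa 0) =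
          e.symm (QuaternionGroup.xa 0) * e.symm (QuaternionGroup.a 1))
        rw [map_mul, map_mul, e.apply_symm_apply, e.apply_symm_apply] at h'
        exact absurd h' (by decide +kernel)
      · rintro ⟨x, hx⟩ ⟨y, hy⟩
        apply Subtype.ext
        show x * y = y * x
        obtain ⟨r, hr, o, ho, -, rfl⟩ := hR.cent x hx
        obtain ⟨r', hr', o', ho', hsq', rfl⟩ := hR.cent y hy
        have hrr : r * r' = r' * r := by
          obtain ⟨a1, ha1⟩ : ∃ a : R, (a : H) = r := ⟨⟨r, hr⟩, rfl⟩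
          obtain ⟨a2, ha2⟩ : ∃ a : R, (a : H) = r' := ⟨⟨r', hr'⟩, rfl⟩
          have h := q8_central (e a2) (by
            rw [← map_mul, EmbeddingLike.map_eq_one_iff]; apply Subtype.ext
            rw [Subgroup.coe_mul, ha2]; exact hsq') (e a1)
          rw [← map_mul, ← map_mul] at h
          rw [← ha1, ← ha2]
          exact (congrArg Subtype.val (e.injective h)).symm
        have hoo : o * o' = o' * o := congrArg Subtype.val
          (CfsgLib.Solvable.comm_of_isCyclic (⟨o, ho⟩ : Cfsg.pPrimeCore 2 H) ⟨o', ho'⟩)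
        exact ((Commute.mul_right hrr (hR.commO o' ho' r hr).symm).mul_left
          (Commute.mul_right (hR.commO o ho r' hr') hoo)).eq
  · have h0689 := Cfsg.Agent.S0689.result H hreg hsol
    obtain ⟨ψ, M, hinj, hXn, -, hinf, hcomm, -, hcop, -, hidx⟩ := nonsolvable_structure hf hsol
    obtain ⟨Q, hQ, hV, hm⟩ : ∃ Q, Q.Prime ∧ Nat.card V = Q * Q ∧
        (Nat.card H = 120 ∨ Nat.card H = 840 ∨ Nat.card H = 3480) := by
      rcases h0689 with ⟨h, ⟨e⟩⟩ | ⟨h, ⟨e⟩⟩ | ⟨h, ⟨e⟩⟩
      · exact ⟨11, by norm_num, by rw [h], Or.inl (by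
          rw [Nat.card_congr e.toEquiv, CfsgLib.Recog.natCard_slTwoFive])⟩
      · exact ⟨29, by norm_num, by rw [h], Or.inr (Or.inl (by
          rw [Nat.card_congr e.toEquiv, Nat.card_prod, CfsgLib.Recog.natCard_slTwoFive,
            Nat.card_congr Multiplicative.toAdd, Nat.card_zmod]))⟩
      · exact ⟨59, by norm_num, by rw [h], Or.inr (Or.inr (by
          rw [Nat.card_congr e.toEquiv, Nat.card_prod, CfsgLib.Recog.natCard_slTwoFive,
            Nat.card_congr Multiplicative.toAdd, Nat.card_zmod]))⟩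
    have hcm : ∀ (s : SL25) (x : M), Commute (ψ s) (M.subtype x) :=
      fun s x => hcomm (ψ s) (MonoidHom.mem_range.2 ⟨s, rfl⟩) x x.2
    obtain ⟨φ, hφ⟩ : ∃ φ : SL25 × M →* H, φ = MonoidHom.noncommCoprod ψ M.subtype hcm := ⟨_, rfl⟩
    have hφinj : Function.Injective φ := by
      rw [← MonoidHom.ker_eq_bot_iff, eq_bot_iff]
      rintro ⟨s, x⟩ h
      rw [MonoidHom.mem_ker, hφ, MonoidHom.noncommCoprod_apply] at h
      have h1 : ψ s ∈ ψ.range ⊓ M := ⟨⟨s, rfl⟩, by
        rw [eq_inv_of_mul_eq_one_left h]; exact M.inv_mem x.2⟩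
      rw [hinf, Subgroup.mem_bot] at h1
      rw [h1, one_mul] at h
      rw [Subgroup.mem_bot, Prod.mk_eq_one]
      exact ⟨hinj (h1.trans (map_one ψ).symm), Subtype.ext h⟩
    have hrange : φ.range = ψ.range ⊔ M := by
      rw [hφ, MonoidHom.noncommCoprod_range, Subgroup.range_subtype]
    have hcard : Nat.card H = 120 * Nat.card M * (ψ.range ⊔ M).index := by
      rw [← (ψ.range ⊔ M).card_mul_index, ← hrange, ← Nat.card_congr (MonoidHom.ofInjective hφinj).toEquiv,
        Nat.card_prod, CfsgLib.Recog.natCard_slTwoFive]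
    have hModd : Nat.card M % 2 = 1 :=
      Nat.odd_iff.1 (Nat.coprime_two_right.1 (hcop.coprime_dvd_right (by norm_num)))
    obtain ⟨hidx1, hMp⟩ : (ψ.range ⊔ M).index = 1 ∧ (Nat.card M = 1 ∨ (Nat.card M).Prime) := by
      rcases hidx with h | h <;> rw [h] at hcard
      · refine ⟨h, ?_⟩
        rcases hm with h' | h' | h'
        · exact Or.inl (by omega)
        · exact Or.inr (by rw [show Nat.card M = 7 by omega]; norm_num)
        · exact Or.inr (by rw [show Nat.card M = 29 by omega]; norm_num)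
      · exfalso; omega
    have hMcyc : IsCyclic M := by
      rcases hMp with h | h
      · have : Subsingleton M := (Nat.card_eq_one_iff_unique.1 h).1
        exact isCyclic_of_subsingleton
      · have := Fact.mk h
        exact isCyclic_of_prime_card rfl
    have hsurj : ∀ h : H, ∃ s x, x ∈ M ∧ h = ψ s * x := by
      intro h
      have hm : h ∈ φ.range := by rw [hrange, Subgroup.index_eq_one.1 hidx1]; trivial
      obtain ⟨⟨s, x⟩, rfl⟩ := hm
      exact ⟨s, x, x.2, by rw [hφ, MonoidHom.noncommCoprod_apply]; rfl⟩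
    refine ⟨ψ.range, Q, hXn, Or.inr ⟨(MonoidHom.ofInjective hinj).symm⟩,
      ⟨ψ (binIcoGen 0), ⟨_, rfl⟩, ψ stdU, ⟨_, rfl⟩, fun h => sl25_not_comm.2 (hinj (by
        rw [map_mul, map_mul]; exact h))⟩, ⟨⟨?_⟩⟩, ?_, hQ, hV⟩
    · have hel : ∀ c ∈ Subgroup.centralizer (ψ.range : Set H),
          ∃ s x, x ∈ M ∧ s ∈ Subgroup.center SL25 ∧ c = ψ s * x := by
        intro c hc
        obtain ⟨s, x, hx, rfl⟩ := hsurj c
        refine ⟨s, x, hx, Subgroup.mem_center_iff.2 fun t => hinj ?_, rfl⟩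
        rw [map_mul, map_mul]
        have h := Subgroup.mem_centralizer_iff.1 hc (ψ t) ⟨t, rfl⟩
        rw [← mul_assoc, mul_assoc (ψ s) x, ← hcomm (ψ t) ⟨t, rfl⟩ x hx, ← mul_assoc] at h
        exact mul_right_cancel h
      rintro ⟨c, hc⟩ ⟨c', hc'⟩
      apply Subtype.ext
      show c * c' = c' * c
      obtain ⟨s, x, hx, hs, rfl⟩ := hel c hc
      obtain ⟨s', x', hx', hs', rfl⟩ := hel c' hc'
      have h1 : Commute (ψ s) (ψ s') := by
        rw [Commute, SemiconjBy, ← map_mul, ← map_mul, Subgroup.mem_center_iff.1 hs s']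
      have h2 : Commute x x' := congrArg Subtype.val
        (CfsgLib.Solvable.comm_of_isCyclic (⟨x, hx⟩ : M) ⟨x', hx'⟩)
      have h3 : Commute (ψ s) x' := hcomm _ ⟨s, rfl⟩ x' hx'
      have h4 : Commute x (ψ s') := (hcomm _ ⟨s', rfl⟩ x hx).symm
      exact ((h1.mul_right h3).mul_left (h4.mul_right h2)).eq
    · intro N hN
      rcases sl25_normal (N.comap ψ) (hN.comap ψ) with h | h
      · left
        rintro _ ⟨s, rfl⟩
        exact h.ge (Subgroup.mem_top s)
      · right
        intro n hn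
        have hmem : ∀ s, ∃ c ∈ Subgroup.center SL25, n * ψ s * n⁻¹ * (ψ s)⁻¹ = ψ c := by
          intro s
          obtain ⟨c, hc⟩ : n * ψ s * n⁻¹ * (ψ s)⁻¹ ∈ ψ.range :=
            ψ.range.mul_mem (hXn.conj_mem _ ⟨s, rfl⟩ n) (ψ.range.inv_mem ⟨s, rfl⟩)
          refine ⟨c, h ?_, hc.symm⟩
          rw [Subgroup.mem_comap, hc, mul_assoc n, mul_assoc n]
          exact N.mul_mem hn (hN.conj_mem _ (N.inv_mem hn) (ψ s))
        choose c hc hceq using hmem
        let χ : SL25 →* Subgroup.center SL25 :=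
          { toFun := fun s => ⟨c s, hc s⟩
            map_one' := Subtype.ext (hinj (by rw [← hceq, map_one]; simp))
            map_mul' := fun s t => Subtype.ext (hinj (by
              show ψ (c (s * t)) = ψ (c s * c t)
              have key : Commute (n * ψ t * n⁻¹ * (ψ t)⁻¹) (ψ s) := by
                rw [hceq t, Commute, SemiconjBy, ← map_mul, ← map_mul, Subgroup.mem_center_iff.1 (hc t) s]
              rw [map_mul ψ (c s), ← hceq (s * t), ← hceq s, map_mul ψ, mul_inv_rev,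
                show n * (ψ s * ψ t) * n⁻¹ * ((ψ t)⁻¹ * (ψ s)⁻¹) =
                n * ψ s * n⁻¹ * ((n * ψ t * n⁻¹ * (ψ t)⁻¹) * (ψ s)⁻¹) by simp [mul_assoc],
                key.inv_right.eq, ← mul_assoc, hceq t])) }
        have hχ : ∀ s, χ s = 1 := fun s => perfect_image sl25_perfect χ (fun x y => Subtype.ext
          (Subgroup.mem_center_iff.1 (χ y).2 (χ x))) s
        refine Subgroup.mem_centralizer_iff.2 ?_
        rintro _ ⟨s, rfl⟩
        have h1 : c s = 1 := congrArg Subtype.val (hχ s)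
        have h2 := hceq s
        rw [h1, map_one, mul_inv_eq_one, mul_inv_eq_iff_eq_mul] at h2
        exact h2.symm

/-- The minimal non-abelian normal subgroup centralising a maximal abelian normal subgroup is the core. -/
theorem eq_core {G : Type*} [Group G] (A : Subgroup G) (hAn : A.Normal) (hAc : IsMulCommutative A)
    (hAmax : ∀ B : Subgroup G, B.Normal → IsMulCommutative B → A ≤ B → B = A)
    (N : Subgroup G) (hNn : N.Normal) (hNle : N ≤ Subgroup.centralizer (A : Set G))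
    (hNna : ¬ IsMulCommutative N)
    (hNmin : ∀ M : Subgroup G, M.Normal → M ≤ N → ¬ IsMulCommutative M → M = N)
    {X : Subgroup G} (hXn : X.Normal) (hXne : ∃ s ∈ X, ∃ t ∈ X, s * t ≠ t * s) (hXc : IsMulCommutative (Subgroup.centralizer (X : Set G)))
    (hdich : ∀ M : Subgroup G, M.Normal → X ≤ M ∨ M ≤ Subgroup.centralizer (X : Set G)) :
    N = X ∧ Subgroup.centralizer (N : Set G) = A := by
  have hmono : ∀ {K L : Subgroup G}, K ≤ L → IsMulCommutative L → IsMulCommutative K :=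
    fun {K L} h hL => ⟨⟨fun a b => Subtype.ext
      (congrArg Subtype.val (hL.is_comm.comm ⟨(a : G), h a.2⟩ ⟨(b : G), h b.2⟩) : _)⟩⟩
  have hXN : X ≤ N := (hdich N hNn).resolve_right fun h => hNna (hmono h hXc)
  have hAle : A ≤ Subgroup.centralizer (X : Set G) := fun a ha => Subgroup.mem_centralizer_iff.2
    fun x hx => (Subgroup.mem_centralizer_iff.1 (hNle (hXN hx)) a ha).symm
  have hA : Subgroup.centralizer (X : Set G) = A := hAmax _ inferInstance hXc hAle
  have hXna : ¬ IsMulCommutative X := fun h => by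
    obtain ⟨u, hu, v, hv, huv⟩ := hXne
    exact huv (congrArg Subtype.val (h.is_comm.comm ⟨u, hu⟩ ⟨v, hv⟩))
  have hNX : N = X := (hNmin X hXn hXN hXna).symm
  exact ⟨hNX, hNX ▸ hA⟩

end CfsgLib.Perm.Ico
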