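import Mathlib.RingTheory.RootsOfUnity.Complex
import Mathlib.RingTheory.Polynomial.Cyclotomic.Roots
import Mathlib.Analysis.SpecialFunctions.Trigonometric.Basic
import Mathlib.Data.ZMod.Units

/-!
Two roots of unity with `η + η⁻¹ + θ + θ⁻¹ = 1`.
-/

set_option autoImplicit false

namespace CfsgLib.Perm.Ico

open Complex Polynomial

theorem exists_coprime_middle {n : ℕ} (h0 : 2 ≤ n) (h3 : n ≠ 3) (h4 : n ≠ 4) (h6 : n ≠ 6)
    (h10 : n ≠ 10) : ∃ k, k.Coprime n ∧ n < 3 * k ∧ 3 * k < 2 * n := by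
  rcases Nat.even_or_odd n with ⟨t, rfl⟩ | ⟨t, rfl⟩
  · rcases (show t = 1 ∨ 2 ≤ t by omega) with rfl | ht
    · exact ⟨1, by norm_num, by omega, by omega⟩
    rcases Nat.even_or_odd t with ⟨s, rfl⟩ | ⟨s, rfl⟩
    · refine ⟨2 * s - 1, ?_, by omega, by omega⟩
      obtain ⟨r, rfl⟩ : ∃ r, s = r + 1 := ⟨s - 1, by omega⟩
      refine Nat.coprime_of_dvd fun p hp hp1 hp2 => ?_
      rw [show r + 1 + (r + 1) + (r + 1 + (r + 1)) = 2 * (2 * (r + 1) - 1) + 2 by omega] at hp2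
      have h2 : p ∣ 2 := (Nat.dvd_add_right (hp1.mul_left 2)).1 hp2
      rw [(Nat.prime_dvd_prime_iff_eq hp Nat.prime_two).1 h2] at hp1
      omega
    · refine ⟨2 * s - 1, ?_, by omega, by omega⟩
      refine Nat.coprime_of_dvd fun p hp hp1 hp2 => ?_
      rw [show 2 * s + 1 + (2 * s + 1) = 2 * (2 * s - 1) + 4 by omega] at hp2
      have h4' : p ∣ 2 ^ 2 := (Nat.dvd_add_right (hp1.mul_left 2)).1 hp2
      rw [(Nat.prime_dvd_prime_iff_eq hp Nat.prime_two).1 (hp.dvd_of_dvd_pow h4')] at hp1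
      omega
  · refine ⟨t, ?_, by omega, by omega⟩
    refine Nat.coprime_of_dvd fun p hp hp1 hp2 => ?_
    exact hp.ne_one (Nat.dvd_one.1 ((Nat.dvd_add_right (hp1.mul_left 2)).1 hp2))

theorem cos_lt_neg_half {x : ℝ} (h1 : 2 * Real.pi / 3 < x) (h2 : x < 4 * Real.pi / 3) :
    Real.cos x < -1 / 2 := by
  have hy : |x - Real.pi| < Real.pi / 3 := by rw [abs_lt]; constructor <;> linarith
  have h := Real.cos_lt_cos_of_nonneg_of_le_pi (abs_nonneg _)
    (by linarith [Real.pi_pos]) hy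
  rw [Real.cos_pi_div_three, Real.cos_abs, Real.cos_sub_pi] at h
  linarith

/-- Galois conjugation of a linear relation between roots of unity. -/
theorem conj_relation {η θ : ℂ} {N : ℕ} (hN : 0 < N) (hη : η ^ N = 1) (hθ : θ ^ N = 1)
    (h : η + η⁻¹ + (θ + θ⁻¹) = 1) {K : ℕ} (hK : K.Coprime N) :
    η ^ K + (η ^ K)⁻¹ + (θ ^ K + (θ ^ K)⁻¹) = 1 := by
  have : NeZero N := ⟨hN.ne'⟩
  have hω := Complex.isPrimitiveRoot_exp N hN.ne'
  obtain ⟨ω, hωdef⟩ : ∃ ω : ℂ, ω = Complex.exp (2 * Real.pi * Complex.I / N) := ⟨_, rfl⟩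
  rw [← hωdef] at hω
  obtain ⟨i, -, rfl⟩ := hω.eq_pow_of_pow_eq_one hη
  obtain ⟨j, -, rfl⟩ := hω.eq_pow_of_pow_eq_one hθ
  have hinv : ∀ (x : ℂ), x ^ N = 1 → x⁻¹ = x ^ (N - 1) := fun x hx =>
    inv_eq_of_mul_eq_one_right (by rw [← pow_succ', Nat.sub_add_cancel hN, hx])
  let p : ℚ[X] := X ^ i + (X ^ i) ^ (N - 1) + (X ^ j + (X ^ j) ^ (N - 1)) - 1
  have hp : Polynomial.aeval ω p = 0 := by
    simp only [p, map_sub, map_add, map_pow, aeval_X, map_one]
    rw [← hinv _ hη, ← hinv _ hθ, h, sub_self]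
  have hωK := hω.pow_of_coprime K hK
  have hdvd := minpoly.dvd ℚ ω hp
  rw [← cyclotomic_eq_minpoly_rat hω hN, cyclotomic_eq_minpoly_rat hωK hN] at hdvd
  obtain ⟨q, hq⟩ := hdvd
  have hzero : Polynomial.aeval (ω ^ K) p = 0 := by
    rw [hq, map_mul, minpoly.aeval, zero_mul]
  simp only [p, map_sub, map_add, map_pow, aeval_X, map_one] at hzero
  rw [← hinv _ (by rw [← pow_mul, ← pow_mul, show K * (i * N) = N * (K * i) by ring, pow_mul,
        hω.pow_eq_one, one_pow]),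
    ← hinv _ (by rw [← pow_mul, ← pow_mul, show K * (j * N) = N * (K * j) by ring, pow_mul,
        hω.pow_eq_one, one_pow])] at hzero
  rw [← pow_right_comm ω K i, ← pow_right_comm ω K j]
  exact sub_eq_zero.1 hzero

theorem re_inv_of_pow {x : ℂ} {N : ℕ} (hN : 0 < N) (hx : x ^ N = 1) : (x⁻¹).re = x.re ∧ x.re ≤ 1 := by
  have h1 : ‖x‖ = 1 := Complex.norm_eq_one_of_pow_eq_one hx hN.ne'
  refine ⟨?_, h1 ▸ Complex.re_le_norm x⟩
  rw [Complex.inv_re, Complex.normSq_eq_norm_sq, h1]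
  norm_num

/-- The possible values of `η + η⁻¹`. -/
theorem root_options {η θ : ℂ} {N : ℕ} (hN : 0 < N) (hη : η ^ N = 1) (hθ : θ ^ N = 1)
    (h : η + η⁻¹ + (θ + θ⁻¹) = 1) :
    η = 1 ∨ θ = 1 ∨ η + η⁻¹ = 0 ∨ η + η⁻¹ = 1 ∨
      (η + η⁻¹) * (η + η⁻¹) = η + η⁻¹ + 1 := by
  obtain ⟨n, hndef⟩ : ∃ n, n = orderOf η := ⟨_, rfl⟩
  have hn : IsPrimitiveRoot η n := hndef ▸ IsPrimitiveRoot.orderOf η
  have hnN : n ∣ N := hn.dvd_of_pow_eq_one _ hη
  have hn0 : 0 < n := Nat.pos_of_dvd_of_pos hnN hN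
  have : NeZero N := ⟨hN.ne'⟩
  have : NeZero n := ⟨hn0.ne'⟩
  have hη0 : η ≠ 0 := fun e => by simp [e, zero_pow hN.ne'] at hη
  by_cases hcase : n = 1 ∨ n = 3 ∨ n = 4 ∨ n = 6 ∨ n = 10
  · rcases hcase with rfl | rfl | rfl | rfl | rfl
    · exact Or.inl (IsPrimitiveRoot.one_right_iff.1 hn)
    · refine Or.inr (Or.inl ?_)
      have h3 : η ^ 3 = 1 := hn.pow_eq_one
      have h1 : η ≠ 1 := hn.ne_one (by norm_num)
      have hs : η * η + η + 1 = 0 := by
        apply mul_left_cancel₀ (sub_ne_zero.2 h1)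
        linear_combination h3
      have hx : η + η⁻¹ = -1 := by field_simp; linear_combination hs
      rw [hx] at h
      have hθ0 : θ ≠ 0 := fun e => by simp [e, zero_pow hN.ne'] at hθ
      have h2 : θ + θ⁻¹ = 2 := by linear_combination h
      field_simp at h2
      have : (θ - 1) * (θ - 1) = 0 := by linear_combination h2
      exact sub_eq_zero.1 (mul_self_eq_zero.1 this)
    · refine Or.inr (Or.inr (Or.inl ?_))
      have h2 : η ^ 2 = -1 := (hn.pow (by norm_num) (show 4 = 2 * 2 by norm_num)).eq_neg_one_of_two_right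
      field_simp
      linear_combination h2
    · refine Or.inr (Or.inr (Or.inr (Or.inl ?_)))
      have h3 : η ^ 3 = -1 := (hn.pow (by norm_num) (show 6 = 3 * 2 by norm_num)).eq_neg_one_of_two_right
      have h1 : η + 1 ≠ 0 := fun e => hn.pow_ne_one_of_pos_of_lt (show (2 : ℕ) ≠ 0 by norm_num)
        (by norm_num) (by rw [eq_neg_of_add_eq_zero_left e]; norm_num)
      have hs : η * η - η + 1 = 0 := by
        apply mul_left_cancel₀ h1
        linear_combination h3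
      field_simp
      linear_combination hs
    · refine Or.inr (Or.inr (Or.inr (Or.inr ?_)))
      have h5 : η ^ 5 = -1 := (hn.pow (by norm_num) (show 10 = 5 * 2 by norm_num)).eq_neg_one_of_two_right
      have h1 : η + 1 ≠ 0 := fun e => hn.pow_ne_one_of_pos_of_lt (show (2 : ℕ) ≠ 0 by norm_num)
        (by norm_num) (by rw [eq_neg_of_add_eq_zero_left e]; norm_num)
      have hs : η ^ 4 - η ^ 3 + η ^ 2 - η + 1 = 0 := by
        apply mul_left_cancel₀ h1
        linear_combination h5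
      field_simp
      linear_combination hs
  · exfalso
    simp only [not_or] at hcase
    obtain ⟨k, hk, hk1, hk2⟩ := exists_coprime_middle (n := n) (by omega) hcase.2.1 hcase.2.2.1
      hcase.2.2.2.1 hcase.2.2.2.2
    have hξ := Complex.isPrimitiveRoot_exp_of_coprime k n hn0.ne' hk
    obtain ⟨m, -, hm⟩ := hn.eq_pow_of_pow_eq_one hξ.pow_eq_one
    have hmc : m.Coprime n := (hn.pow_iff_coprime hn0 m).1 (hm ▸ hξ)
    obtain ⟨u, hu⟩ := ZMod.unitsMap_surjective hnN (ZMod.unitOfCoprime m hmc)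
    have hKc : (u : ZMod N).val.Coprime N := ZMod.val_coe_unit_coprime u
    have hKm : η ^ (u : ZMod N).val = η ^ m := by
      rw [← pow_mod_orderOf η (u : ZMod N).val, ← pow_mod_orderOf η m]
      refine congrArg (η ^ ·) ?_
      show (u : ZMod N).val ≡ m [MOD orderOf η]
      rw [← hndef, ← ZMod.natCast_eq_natCast_iff]
      have := congrArg (fun w : (ZMod n)ˣ => (w : ZMod n)) hu
      simp only [ZMod.unitsMap_val, ZMod.coe_unitOfCoprime] at this
      rw [← this, ZMod.cast_eq_val]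
    have hrel := congrArg Complex.re (conj_relation hN hη hθ h hKc)
    rw [hKm, hm] at hrel
    obtain ⟨e1, -⟩ := re_inv_of_pow hn0 hξ.pow_eq_one
    obtain ⟨e2, e3⟩ := re_inv_of_pow (x := θ ^ (u : ZMod N).val) hN
      (by rw [← pow_mul, mul_comm, pow_mul, hθ, one_pow])
    simp only [Complex.add_re, e1, e2, Complex.one_re] at hrel
    have hre : (Complex.exp (2 * Real.pi * Complex.I * (k / n))).re =
        Real.cos (2 * Real.pi * k / n) := by
      rw [show 2 * (Real.pi : ℂ) * Complex.I * (k / n) = ((2 * Real.pi * k / n : ℝ) : ℂ) * Complex.I by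
        push_cast; ring]
      exact Complex.exp_ofReal_mul_I_re _
    rw [hre] at hrel
    have hn' : (0 : ℝ) < n := by exact_mod_cast hn0
    have k1 : (n : ℝ) < 3 * k := by exact_mod_cast hk1
    have k2 : 3 * (k : ℝ) < 2 * n := by exact_mod_cast hk2
    have := cos_lt_neg_half (x := 2 * Real.pi * k / n)
      (by rw [lt_div_iff₀ hn']; nlinarith [Real.pi_pos])
      (by rw [div_lt_iff₀ hn']; nlinarith [Real.pi_pos])
    linarith

end CfsgLib.Perm.Ico
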