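import Cfsg.Agent.Lib.Perm.IcoGroup
import Cfsg.Agent.Lib.Recog.Icosahedral

/-!
Two non-adjacent elements of order three generate `SL(2,5)`.
-/

set_option autoImplicit false

namespace CfsgLib.Perm.Ico

open CfsgLib.Recog Matrix

/-- Shorthand for the group of order 120. -/
abbrev SL25 := Matrix.SpecialLinearGroup (Fin 2) (ZMod 5)

/-- The second element of order three. -/
def stdU : SL25 := ⟨!![1, 2; 1, 3], by decide⟩

theorem stdU_eq : (binIcoGen 0)⁻¹ * (binIcoGen 2 * binIcoGen 1 ^ 3) = stdU := by decide +kernel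

/-- The four common neighbours of the standard pair. -/
def stdCommon : List SL25 :=
  [⟨!![0, 3; 3, 4], by decide⟩, ⟨!![1, 1; 2, 3], by decide⟩, ⟨!![1, 3; 4, 3], by decide⟩,
    ⟨!![2, 1; 3, 2], by decide⟩]

/-- The ten subgroups of order three, by generators. -/
def stdThree : List SL25 :=
  [⟨!![0, 1; 4, 4], by decide⟩, ⟨!![0, 2; 2, 4], by decide⟩, ⟨!![0, 3; 3, 4], by decide⟩,
    ⟨!![0, 4; 1, 4], by decide⟩, ⟨!![1, 1; 2, 3], by decide⟩, ⟨!![1, 2; 1, 3], by decide⟩,
    ⟨!![1, 3; 4, 3], by decide⟩, ⟨!![1, 4; 3, 3], by decide⟩, ⟨!![2, 1; 3, 2], by decide⟩,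
    ⟨!![2, 2; 4, 2], by decide⟩]

theorem stdCommon_spec : stdCommon.length = 4 ∧ ∀ w ∈ stdCommon, w * w * w = 1 ∧ w ≠ 1 ∧
    ((binIcoGen 0 * w) ^ 2 = binIcoGen 2 ∨ (binIcoGen 0 * w⁻¹) ^ 2 = binIcoGen 2) ∧
    ((stdU * w) ^ 2 = binIcoGen 2 ∨ (stdU * w⁻¹) ^ 2 = binIcoGen 2) := by
  decide +kernel

theorem stdCommon_pairwise : stdCommon.Pairwise fun x y => y ≠ x ∧ y ≠ x⁻¹ := by
  decide +kernel

theorem stdThree_spec : stdThree.length = 10 ∧ (∀ w ∈ stdThree, w * w * w = 1 ∧ w ≠ 1) ∧
    stdThree.Pairwise fun x y => y ≠ x ∧ y ≠ x⁻¹ := by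
  decide +kernel

theorem z_sq : binIcoGen 2 ^ 2 = 1 ∧ binIcoGen 2 ≠ 1 ∧
    (binIcoGen 0 * binIcoGen 1) ^ 2 = binIcoGen 2 := by
  decide +kernel

/-- A homomorphism that does not kill the central involution is injective. -/
theorem injective_of_map_ne_one {G : Type*} [Group G] (ψ : SL25 →* G)
    (h : ψ (binIcoGen 2) ≠ 1) : Function.Injective ψ := by
  have : Fact (Nat.Prime 5) := ⟨by decide +kernel⟩
  have := CfsgLib.ClassK.isSimpleGroup_psl_two (F := ZMod 5) (by simp)
  have hcz : ∀ g ∈ Subgroup.center SL25, g = 1 ∨ g = binIcoGen 2 := by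
    intro g hg
    rw [Matrix.SpecialLinearGroup.mem_center_iff] at hg
    obtain ⟨a, ha, hag⟩ := hg
    rw [Fintype.card_fin] at ha
    rcases zmodFive_sq_eq_one a ha with rfl | rfl
    · exact Or.inl (Subtype.ext (by rw [← hag]; simp))
    · exact Or.inr (Subtype.ext (hag.symm.trans scalar_neg_one_five))
  have hn : (ψ.ker.map (QuotientGroup.mk' (Subgroup.center SL25))).Normal :=
    (inferInstance : ψ.ker.Normal).map _ (QuotientGroup.mk'_surjective _)
  rw [← MonoidHom.ker_eq_bot_iff, eq_bot_iff]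
  intro g hg
  rcases IsSimpleGroup.eq_bot_or_eq_top_of_normal _ hn with e | e
  · rcases hcz g ((QuotientGroup.eq_one_iff g).mp
      ((Subgroup.eq_bot_iff_forall _).mp e _ ⟨g, hg, rfl⟩)) with rfl | rfl
    · exact Subgroup.one_mem _
    · exact absurd hg h
  · exfalso
    obtain ⟨k, hk, hke⟩ : QuotientGroup.mk' _ (binIcoGen 0 * binIcoGen 1) ∈
        ψ.ker.map (QuotientGroup.mk' (Subgroup.center SL25)) := e ▸ Subgroup.mem_top _
    rw [QuotientGroup.mk'_eq_mk'] at hke
    obtain ⟨c, hc, hkc⟩ := hke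
    have hcc : c * c = 1 := by
      rcases hcz c hc with rfl | rfl
      · exact one_mul 1
      · rw [← pow_two]; exact z_sq.1
    apply h
    rw [← z_sq.2.2, ← hkc, map_pow, map_mul, show ψ k = 1 from hk, one_mul, ← map_pow, pow_two, hcc,
      map_one]

variable {G : Type*} [Group G] {V : Type*} [AddCommGroup V] [Module ℂ V] [FiniteDimensional ℂ V]
  [Nontrivial V] {f : G →* Module.End ℂ V}

/-- Two non-adjacent elements of order three generate a copy of `SL(2,5)`. -/
theorem exists_sl25 [Finite G] (hf : Fpf f) {z a u : G} (hz : orderOf z = 2) (ha : orderOf a = 3)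
    (hu : orderOf u = 3) (hne : u ≠ a) (hne' : u ≠ a⁻¹) (hadj : ¬ Adj z a u) :
    ∃ ψ : SL25 →* G, Function.Injective ψ ∧ ψ (binIcoGen 0) = a ∧ ψ stdU = u ∧
      ψ (binIcoGen 2) = z ∧ ∀ x, ψ x ∈ Subgroup.closure ({a, u} : Set G) := by
  obtain ⟨h5, h2⟩ := golden hf hz ha hu hne hne' hadj
  have hzz : z ^ 2 = 1 := by rw [← hz, pow_orderOf_eq_one]
  have hzc := invol_center hf hz
  let gen : Fin 3 → G := ![a, (a * u) ^ 2, z]
  have hrels : ∀ r ∈ binIcoRels, FreeGroup.lift gen r = 1 := by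
    rintro r (rfl | rfl | rfl | rfl | rfl | rfl) <;>
      simp only [map_pow, map_mul, map_inv, FreeGroup.lift_apply_of] <;>
      simp only [gen, Matrix.cons_val_zero, Matrix.cons_val_one, Matrix.cons_val]
    · rw [← ha, pow_orderOf_eq_one]
    · rw [← pow_mul, show 2 * 5 = 5 * 2 by norm_num, pow_mul, h5, hzz]
    · exact hzz
    · rw [mul_assoc z⁻¹ a z, Subgroup.mem_center_iff.1 hzc a, inv_mul_cancel_left, mul_inv_cancel]
    · rw [mul_assoc z⁻¹ _ z, Subgroup.mem_center_iff.1 hzc _, inv_mul_cancel_left, mul_inv_cancel]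
    · rw [h2, mul_inv_cancel]
  obtain ⟨hfin, hle⟩ := binIco_bound
  have hbij : Function.Bijective (PresentedGroup.toGroup binIco_rels_hold) := by
    refine (Nat.bijective_iff_surjective_and_card _).mpr ⟨binIco_hom_surjective, ?_⟩
    have := Nat.card_le_card_of_surjective _ binIco_hom_surjective
    have := natCard_slTwoFive
    omega
  let e := MulEquiv.ofBijective _ hbij
  let ψ : SL25 →* G := (PresentedGroup.toGroup hrels).comp e.symm.toMonoidHom
  have hgen : ∀ i, ψ (binIcoGen i) = gen i := by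
    intro i
    have : e.symm (binIcoGen i) = PresentedGroup.of i := by
      rw [MulEquiv.symm_apply_eq]
      exact (PresentedGroup.toGroup.of binIco_rels_hold).symm
    show PresentedGroup.toGroup hrels (e.symm (binIcoGen i)) = gen i
    rw [this, PresentedGroup.toGroup.of]
  have hU : ψ stdU = u := by
    rw [← stdU_eq, map_mul, map_inv, map_mul, map_pow, hgen, hgen, hgen]
    simp only [gen, Matrix.cons_val_zero, Matrix.cons_val_one, Matrix.cons_val]
    rw [← pow_mul, show 2 * 3 = 5 + 1 by norm_num, pow_succ, h5, ← mul_assoc z z, ← pow_two, hzz,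
      one_mul, inv_mul_cancel_left]
  refine ⟨ψ, injective_of_map_ne_one ψ ?_, hgen 0, hU, hgen 2, fun x => ?_⟩
  · rw [hgen 2]
    intro h
    rw [show gen 2 = z from rfl] at h
    rw [h, orderOf_one] at hz
    omega
  · show PresentedGroup.toGroup hrels (e.symm x) ∈ _
    have hm : ∀ i, gen i ∈ Subgroup.closure ({a, u} : Set G) := by
      have hA : a ∈ Subgroup.closure ({a, u} : Set G) := Subgroup.subset_closure (by simp)
      have hB : a * u ∈ Subgroup.closure ({a, u} : Set G) :=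
        Subgroup.mul_mem _ hA (Subgroup.subset_closure (by simp))
      intro i
      fin_cases i
      · exact hA
      · exact Subgroup.pow_mem _ hB 2
      · show z ∈ _
        exact h5 ▸ Subgroup.pow_mem _ hB 5
    obtain ⟨w, hw⟩ : ∃ w, PresentedGroup.mk binIcoRels w = e.symm x := PresentedGroup.mk_surjective _ _
    rw [← hw]
    have hr : (FreeGroup.lift gen).range ≤ Subgroup.closure ({a, u} : Set G) := by
      rw [FreeGroup.range_lift_eq_closure, Subgroup.closure_le]
      rintro _ ⟨i, rfl⟩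
      exact hm i
    exact hr ⟨w, rfl⟩

end CfsgLib.Perm.Ico
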