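import Cfsg.Agent.Lib.Perm.IcoUnique
import Cfsg.Agent.Lib.Transfer.QuaternionSection

/-!
Solvable fixed-point-free groups: the quotient by the largest normal `Z`-subgroup.
-/

set_option autoImplicit false
set_option linter.unusedSectionVars false

namespace CfsgLib.Perm.Ico

open QuaternionGroup

/-- Shorthand for the quaternion group of order eight. -/
abbrev Q8 := QuaternionGroup 2

/-- Oriented bases of the quaternion group. -/
def diagPair : Fin 4 → Q8 × Q8 :=
  ![(a 1, xa 0), (a 1, xa 2), (a 3, xa 0), (a 3, xa 2)]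

/-- The six oriented pairs attached to an oriented basis. -/
def orb (p : Q8 × Q8) : Finset (Q8 × Q8) :=
  {(p.1, p.2), (p.2, p.1 * p.2), (p.1 * p.2, p.1), (p.2⁻¹, p.1⁻¹), (p.1⁻¹, (p.1 * p.2)⁻¹),
    ((p.1 * p.2)⁻¹, p.2⁻¹)}

/-- The four diagonals. -/
def diag (i : Fin 4) : Finset (Q8 × Q8) := orb (diagPair i)

theorem diagPair_noncomm : ∀ i, (diagPair i).1 * (diagPair i).2 ≠ (diagPair i).2 * (diagPair i).1 := by
  decide +kernel

theorem exists_diag : ∀ x y : Q8, x * y ≠ y * x → ∃ j, orb (x, y) = diag j := by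
  decide +kernel

theorem diag_injective : ∀ i j, diag i = diag j → i = j := by decide +kernel

theorem diag_rigid : ∀ x y : Q8, (x, y) ∈ diag 0 → (x, y * (x * x)) ∈ diag 1 →
    (x * x * x, y) ∈ diag 2 → (x * x * x, y * (x * x)) ∈ diag 3 → x = a 1 ∧ y = xa 0 := by
  decide +kernel

theorem q8_generated : ∀ x : Q8, ∃ i : Fin 4, x = a 1 ^ (i : ℕ) ∨ x = xa 0 * a 1 ^ (i : ℕ) := by
  decide +kernel

theorem exists_image_diag (φ : MulAut Q8) (i : Fin 4) :
    ∃ j, (diag i).image (fun p => (φ p.1, φ p.2)) = diag j := by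
  have h := exists_diag (φ (diagPair i).1) (φ (diagPair i).2) (fun e => diagPair_noncomm i
    (φ.injective (by rw [map_mul, map_mul, e])))
  obtain ⟨j, hj⟩ := h
  refine ⟨j, ?_⟩
  rw [← hj]
  simp [diag, orb]

/-- The permutation of the diagonals induced by an automorphism. -/
noncomputable def diagFun (φ : MulAut Q8) (i : Fin 4) : Fin 4 := (exists_image_diag φ i).choose

theorem diagFun_spec (φ : MulAut Q8) (i : Fin 4) : (diag i).image (fun p => (φ p.1, φ p.2)) = diag (diagFun φ i) :=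
  (exists_image_diag φ i).choose_spec

theorem diagFun_mul (φ ψ : MulAut Q8) (i : Fin 4) :
    diagFun (φ * ψ) i = diagFun φ (diagFun ψ i) := by
  apply diag_injective
  rw [← diagFun_spec, ← diagFun_spec, ← diagFun_spec, Finset.image_image]
  rfl

theorem diagFun_one (i : Fin 4) : diagFun 1 i = i := by
  apply diag_injective
  rw [← diagFun_spec]
  exact Finset.image_id

/-- The action of the automorphisms of the quaternion group on its diagonals. -/
noncomputable def diagHom : MulAut Q8 →* Equiv.Perm (Fin 4) where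
  toFun φ :=
    { toFun := diagFun φ
      invFun := diagFun φ⁻¹
      left_inv := fun i => by rw [← diagFun_mul, inv_mul_cancel, diagFun_one]
      right_inv := fun i => by rw [← diagFun_mul, mul_inv_cancel, diagFun_one] }
  map_one' := Equiv.ext diagFun_one
  map_mul' φ ψ := Equiv.ext (diagFun_mul φ ψ)

theorem diagHom_injective : Function.Injective diagHom := by
  rw [← MonoidHom.ker_eq_bot_iff, eq_bot_iff]
  intro φ hφ
  have hfix : ∀ i, (φ (diagPair i).1, φ (diagPair i).2) ∈ diag i := fun i => by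
    have h := diagFun_spec φ i
    rw [show diagFun φ i = i from Equiv.congr_fun hφ i] at h
    exact h.le (Finset.mem_image.2 ⟨diagPair i, Finset.mem_insert_self _ _, rfl⟩)
  have e1 : (a 3 : Q8) = a 1 * a 1 * a 1 := by decide +kernel
  have e2 : (xa 2 : Q8) = xa 0 * (a 1 * a 1) := by decide +kernel
  have h0 : (φ (a 1), φ (xa 0)) ∈ diag 0 := hfix 0
  have h1 : (φ (a 1), φ (xa 2)) ∈ diag 1 := hfix 1
  have h2 : (φ (a 3), φ (xa 0)) ∈ diag 2 := hfix 2
  have h3 : (φ (a 3), φ (xa 2)) ∈ diag 3 := hfix 3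
  rw [e2, map_mul φ, map_mul φ] at h1
  rw [e1, map_mul φ, map_mul φ] at h2
  rw [e1, e2, map_mul φ, map_mul φ, map_mul φ, map_mul φ] at h3
  obtain ⟨hx, hy⟩ := diag_rigid _ _ h0 h1 h2 h3
  rw [Subgroup.mem_bot]
  refine MulEquiv.ext fun x => ?_
  obtain ⟨i, rfl | rfl⟩ := q8_generated x
  · show φ _ = _
    rw [map_pow, hx]; rfl
  · show φ _ = _
    rw [map_mul, map_pow, hx, hy]; rfl

variable {G : Type*} [Group G] [Finite G] {V : Type*} [AddCommGroup V] [Module ℂ V]
  [FiniteDimensional ℂ V] [Nontrivial V] {f : G →* Module.End ℂ V}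

theorem pgroup_two_cases (hf : Fpf f) {R : Subgroup G} (hR : IsPGroup 2 R) :
    IsCyclic R ∨ ∃ n : ℕ, Nonempty (R ≃* QuaternionGroup (2 ^ n)) := by
  have : Fact (Nat.Prime 2) := ⟨Nat.prime_two⟩
  have hfR : Fpf (f.comp R.subtype) := fun g hg v hv => hf g (fun h => hg (Subtype.ext h)) v hv
  obtain ⟨P⟩ : Nonempty (Sylow 2 R) := inferInstance
  have hP : (P : Subgroup R) = ⊤ := by
    obtain ⟨k, hk⟩ := hR.exists_card_eq
    apply Subgroup.eq_top_of_card_eq
    rw [Sylow.card_eq_multiplicity, hk, Nat.Prime.factorization_pow Nat.prime_two,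
      Finsupp.single_eq_same]
  obtain ⟨e⟩ : Nonempty (P ≃* R) := ⟨(MulEquiv.subgroupCongr hP).trans Subgroup.topEquiv⟩
  rcases sylow_cases hfR P with h | ⟨-, n, ⟨e'⟩⟩
  · exact Or.inl (e.isCyclic.1 h)
  · exact Or.inr ⟨n, ⟨e.symm.trans e'⟩⟩

/-- The quotient by the odd core is faithful on `2`-subgroups. -/
theorem mk_injOn_two [(Cfsg.pPrimeCore 2 G).Normal] {R : Subgroup G} (hR : IsPGroup 2 R) :
    Function.Injective ((QuotientGroup.mk' (Cfsg.pPrimeCore 2 G)).comp R.subtype) := by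
  have : Fact (Nat.Prime 2) := ⟨Nat.prime_two⟩
  rw [← MonoidHom.ker_eq_bot_iff, eq_bot_iff]
  intro x hx
  have hxO : (x : G) ∈ Cfsg.pPrimeCore 2 G := (QuotientGroup.eq_one_iff (x : G)).1 hx
  rw [Subgroup.mem_bot]
  apply Subtype.ext
  refine orderOf_eq_one_iff.1 (Nat.eq_one_of_dvd_coprimes (CfsgLib.Solvable.pPrimeCore_coprime
    (G := G) 2 |>.pow_right ((IsPGroup.iff_card.1 hR).choose)) ?_ ?_)
  · exact Subgroup.orderOf_dvd_natCard _ hxO
  · rw [← (IsPGroup.iff_card.1 hR).choose_spec]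
    exact Subgroup.orderOf_dvd_natCard _ x.2

/-- Two-nilpotent groups with quaternion Sylow subgroup map onto the four-group. -/
theorem exists_quotient_twoNilp (hf : Fpf f) (hZ : ¬ IsZGroup G) (hnil : TwoNilp G) :
    ∃ N : Subgroup G, N.Normal ∧ IsZGroup N ∧
      (∃ φ : G →* DihedralGroup 2, Function.Surjective φ ∧ φ.ker = N) ∧
      (∀ N' : Subgroup G, (∃ φ : G →* DihedralGroup 2, Function.Surjective φ ∧ φ.ker = N') →
        N' = N) := by
  have : Fact (Nat.Prime 2) := ⟨Nat.prime_two⟩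
  have := CfsgLib.Solvable.pPrimeCore_normal 2 G
  obtain ⟨T, n, hn, ⟨eT⟩⟩ := exists_quaternion hf hZ
  obtain ⟨m, rfl⟩ : ∃ m, n = m + 1 := ⟨n - 1, by omega⟩
  obtain ⟨k, hk⟩ := hnil
  have hbij : Function.Bijective
      ((QuotientGroup.mk' (Cfsg.pPrimeCore 2 G)).comp (T : Subgroup G).subtype) := by
    refine (Nat.bijective_iff_injective_and_card _).2 ⟨mk_injOn_two T.2, ?_⟩
    rw [← Subgroup.index_eq_card, hk, Sylow.card_eq_multiplicity]
    congr 1
    have h := (Cfsg.pPrimeCore 2 G).index_mul_card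
    rw [hk] at h
    have hodd : ¬ 2 ∣ Nat.card (Cfsg.pPrimeCore 2 G) :=
      (Nat.prime_two.coprime_iff_not_dvd).1 (CfsgLib.Solvable.pPrimeCore_coprime (G := G) 2).symm
    rw [← h, Nat.factorization_mul (by positivity) Nat.card_pos.ne', Finsupp.add_apply,
      Nat.Prime.factorization_pow Nat.prime_two, Finsupp.single_eq_same,
      Nat.factorization_eq_zero_of_not_dvd hodd, add_zero]
  obtain ⟨π, hπ⟩ : ∃ π : G →* QuaternionGroup (2 ^ (m + 1)),
      π = (eT.toMonoidHom.comp (MulEquiv.ofBijective _ hbij).symm.toMonoidHom).comp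
        (QuotientGroup.mk' (Cfsg.pPrimeCore 2 G)) := ⟨_, rfl⟩
  have hπker : π.ker = Cfsg.pPrimeCore 2 G := by
    ext g
    rw [MonoidHom.mem_ker, hπ]
    simp only [MonoidHom.comp_apply, MulEquiv.coe_toMonoidHom, EmbeddingLike.map_eq_one_iff,
      QuotientGroup.mk'_apply]
    exact QuotientGroup.eq_one_iff g
  have hπs : Function.Surjective π := by
    intro y
    obtain ⟨g, hg⟩ := QuotientGroup.mk'_surjective (Cfsg.pPrimeCore 2 G)
      ((MulEquiv.ofBijective _ hbij) (eT.symm y))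
    exact ⟨g, by rw [hπ]; simp only [MonoidHom.comp_apply, MulEquiv.coe_toMonoidHom, hg,
      MulEquiv.symm_apply_apply, MulEquiv.apply_symm_apply]⟩
  -- the map onto the four group
  have hdvd : 2 ∣ 2 * 2 ^ (m + 1) := dvd_mul_right _ _
  have hn2 : ((2 ^ (m + 1) : ℕ) : ZMod 2) = 0 := by
    rw [ZMod.natCast_eq_zero_iff]; exact dvd_pow_self 2 m.succ_ne_zero
  let c : ZMod (2 * 2 ^ (m + 1)) →+* ZMod 2 := ZMod.castHom hdvd _
  let q : QuaternionGroup (2 ^ (m + 1)) → DihedralGroup 2 := fun x =>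
    match x with
    | a i => DihedralGroup.r (c i)
    | xa i => DihedralGroup.sr (c i)
  let q' : QuaternionGroup (2 ^ (m + 1)) →* DihedralGroup 2 := MonoidHom.mk' q (by
    rintro (i | i) (j | j)
    · show q (a i * a j) = q (a i) * q (a j)
      rw [a_mul_a]; simp [q, map_add]
    · show q (a i * xa j) = q (a i) * q (xa j)
      rw [a_mul_xa]; simp [q, map_sub]
    · show q (xa i * a j) = q (xa i) * q (a j)
      rw [xa_mul_a]; simp [q, map_add]
    · show q (xa i * xa j) = q (xa i) * q (xa j)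
      rw [xa_mul_xa]; simp [q, map_sub, map_add, map_pow, hn2, show c 2 = 0 from (map_ofNat c 2).trans rfl])
  have hq's : Function.Surjective q' := by
    rintro (i | i) <;> obtain ⟨j, rfl⟩ := ZMod.castHom_surjective hdvd i
    exacts [⟨a j, rfl⟩, ⟨xa j, rfl⟩]
  obtain ⟨φ, hφ⟩ : ∃ φ, φ = q'.comp π := ⟨_, rfl⟩
  have hφs : Function.Surjective φ := hφ ▸ hq's.comp hπs
  have hsq : ∀ g ∈ φ.ker, ∃ h : G, π g = π h * π h := by
    intro g hg
    rw [MonoidHom.mem_ker, hφ, MonoidHom.comp_apply] at hg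
    cases hx : π g with
    | a i =>
      rw [hx] at hg
      change DihedralGroup.r (c i) = DihedralGroup.r 0 at hg
      have hi : c i = 0 := DihedralGroup.r.inj hg
      have : NeZero (2 * 2 ^ (m + 1)) := ⟨by positivity⟩
      have h2 : 2 ∣ i.val := by
        rw [← ZMod.natCast_eq_zero_iff, ← hi]
        conv_rhs => rw [← ZMod.natCast_zmod_val i, map_natCast c]
      obtain ⟨t, ht⟩ := h2
      obtain ⟨h, hh⟩ := hπs (a (t : ZMod (2 * 2 ^ (m + 1))))
      refine ⟨h, ?_⟩
      rw [hh, a_mul_a, ← Nat.cast_add, ← two_mul, ← ht, ZMod.natCast_zmod_val]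
    | xa i =>
      rw [hx] at hg
      change DihedralGroup.sr (c i) = DihedralGroup.r 0 at hg
      injection hg
  have hN : IsZGroup φ.ker := by
    refine ⟨fun p hp P => ?_⟩
    have := Fact.mk hp
    have hfN : Fpf (f.comp φ.ker.subtype) := fun g hg v hv => hf g (fun h => hg (Subtype.ext h)) v hv
    rcases sylow_cases hfN P with h | ⟨rfl, j, ⟨e⟩⟩
    · exact h
    · rcases Nat.eq_zero_or_pos j with rfl | hj
      · have : IsCyclic (QuaternionGroup (2 ^ 0)) := QuaternionGroup.quaternionGroup_one_isCyclic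
        exact e.isCyclic.2 this
      exfalso
      let ι : P →* QuaternionGroup (2 ^ (m + 1)) :=
        (π.comp φ.ker.subtype).comp (P : Subgroup φ.ker).subtype
      have hι : Function.Injective ι := by
        rw [← MonoidHom.ker_eq_bot_iff, eq_bot_iff]
        intro x hx
        have hx' : ((x : φ.ker) : G) ∈ Cfsg.pPrimeCore 2 G := hπker ▸ hx
        rw [Subgroup.mem_bot]
        obtain ⟨i, hi⟩ := P.2.exists_card_eq
        refine orderOf_eq_one_iff.1 (Nat.eq_one_of_dvd_coprimes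
          ((CfsgLib.Solvable.pPrimeCore_coprime (G := G) 2).pow_right i) ?_ (hi ▸ orderOf_dvd_natCard x))
        rw [← Subgroup.orderOf_coe, ← Subgroup.orderOf_coe]
        exact Subgroup.orderOf_dvd_natCard _ hx'
      have hcomm : ∀ x y : P, x * y = y * x := by
        intro x y
        apply hι
        rw [map_mul, map_mul]
        obtain ⟨h, hh⟩ := hsq _ (x : φ.ker).2
        obtain ⟨h', hh'⟩ := hsq _ (y : φ.ker).2
        show π ((x : φ.ker) : G) * π ((y : φ.ker) : G) = π ((y : φ.ker) : G) * π ((x : φ.ker) : G)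
        rw [hh, hh']
        have hsqa : ∀ x : QuaternionGroup (2 ^ (m + 1)), ∃ i, x * x = a i := by
          rintro (i | i)
          · exact ⟨_, a_mul_a i i⟩
          · exact ⟨_, xa_mul_xa i i⟩
        obtain ⟨i, hi⟩ := hsqa (π h)
        obtain ⟨i', hi'⟩ := hsqa (π h')
        rw [hi, hi', a_mul_a, a_mul_a]
        exact congrArg QuaternionGroup.a (add_comm i i')
      have hne : (xa 0 : QuaternionGroup (2 ^ j)) * a 1 ≠ a 1 * xa 0 := by
        simp only [xa_mul_a, a_mul_xa, ne_eq, xa.injEq, zero_add, zero_sub]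
        intro h
        rw [eq_neg_iff_add_eq_zero, ← Nat.cast_one, ← Nat.cast_add, ZMod.natCast_eq_zero_iff] at h
        have h2 := Nat.le_of_dvd (by norm_num) h
        have : 2 ^ 1 ≤ 2 ^ j := Nat.pow_le_pow_right (by norm_num) hj
        omega
      apply hne
      apply e.symm.injective
      rw [map_mul, map_mul, hcomm]
  refine ⟨φ.ker, φ.normal_ker, hN, ⟨φ, hφs, rfl⟩, ?_⟩
  rintro N' ⟨ψ, hψs, rfl⟩
  have hexp : ∀ d : DihedralGroup 2, d * d = 1 := by decide +kernel
  have hO : ∀ g ∈ Cfsg.pPrimeCore 2 G, ψ g = 1 := by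
    intro g hg
    have h2 : orderOf (ψ g) ∣ 2 := orderOf_dvd_of_pow_eq_one (by rw [pow_two]; exact hexp _)
    exact orderOf_eq_one_iff.1 (Nat.eq_one_of_dvd_coprimes (CfsgLib.Solvable.pPrimeCore_coprime (G := G) 2)
      ((orderOf_map_dvd ψ g).trans (Subgroup.orderOf_dvd_natCard _ hg)) h2)
  have hle : φ.ker ≤ ψ.ker := by
    intro g hg
    obtain ⟨h, hh⟩ := hsq g hg
    have hm : (h * h)⁻¹ * g ∈ π.ker := by
      rw [MonoidHom.mem_ker, map_mul, map_inv, map_mul, hh, inv_mul_cancel]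
    rw [hπker] at hm
    have := hO _ hm
    rw [map_mul, map_inv, map_mul, hexp, inv_one, one_mul] at this
    exact this
  refine (Subgroup.eq_of_le_of_card_ge hle ?_).symm
  have e1 := φ.ker.index_mul_card
  have e2 := ψ.ker.index_mul_card
  rw [Subgroup.index_ker, MonoidHom.range_eq_top.2 hφs, Subgroup.card_top] at e1
  rw [Subgroup.index_ker, MonoidHom.range_eq_top.2 hψs, Subgroup.card_top, ← e1] at e2
  exact (Nat.eq_of_mul_eq_mul_left Nat.card_pos e2).le

/-- Solvable groups that are not `2`-nilpotent map onto `A₄` or `S₄`. -/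
theorem exists_quotient_solvable (hf : Fpf f) (hsol : Group.IsSolvable G) (hnil : ¬ TwoNilp G) :
    ∃ N : Subgroup G, N.Normal ∧ IsZGroup N ∧
      ((∃ φ : G →* alternatingGroup (Fin 4), Function.Surjective φ ∧ φ.ker = N) ∨
        (∃ φ : G →* Equiv.Perm (Fin 4), Function.Surjective φ ∧ φ.ker = N)) := by
  classical
  have : Fact (Nat.Prime 2) := ⟨Nat.prime_two⟩
  have := CfsgLib.Solvable.pPrimeCore_normal 2 G
  obtain ⟨π, hπ⟩ : ∃ π, π = QuotientGroup.mk' (Cfsg.pPrimeCore 2 G) := ⟨_, rfl⟩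
  have hπs : Function.Surjective π := hπ ▸ QuotientGroup.mk'_surjective _
  have : Group.IsSolvable (G ⧸ Cfsg.pPrimeCore 2 G) := Group.isSolvable_of_surjective hπs
  obtain ⟨Q, hQ⟩ : ∃ Q, Q = Cfsg.pCore 2 (G ⧸ Cfsg.pPrimeCore 2 G) := ⟨_, rfl⟩
  have hCQ : Subgroup.centralizer (Q : Set (G ⧸ Cfsg.pPrimeCore 2 G)) ≤ Q := by
    rw [hQ]; exact CfsgLib.Solvable.centralizer_pCore_le 2 (CfsgLib.Solvable.pPrimeCore_quotient_eq_bot 2)
  have hQn : Q.Normal := hQ ▸ CfsgLib.Solvable.pCore_normal 2 _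
  have hQp : IsPGroup 2 Q := hQ ▸ CfsgLib.Solvable.pCore_isPGroup 2
  -- a two-subgroup mapping onto `Q`
  obtain ⟨K, hK⟩ : ∃ K, K = Q.comap π := ⟨_, rfl⟩
  obtain ⟨P⟩ : Nonempty (Sylow 2 K) := inferInstance
  obtain ⟨R, hR⟩ : ∃ R : Subgroup G, R = (P : Subgroup K).map K.subtype := ⟨_, rfl⟩
  have hRp : IsPGroup 2 R := hR ▸ P.2.map _
  have hRQ : R.map π = Q := by
    have hle : R.map π ≤ Q := by
      rw [hR, Subgroup.map_le_iff_le_comap, ← hK]
      exact Subgroup.map_subtype_le _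
    refine Subgroup.eq_of_le_of_card_ge hle ?_
    obtain ⟨j, hj⟩ := hQp.exists_card_eq
    have hRc : Nat.card (R.map π) = Nat.card R := by
      have hinj := mk_injOn_two hRp
      rw [← hπ] at hinj
      rw [Nat.card_congr (MonoidHom.ofInjective hinj).toEquiv, MonoidHom.range_comp, Subgroup.range_subtype]
    rw [hRc, hR, Subgroup.card_map_of_injective K.subtype_injective, Sylow.card_eq_multiplicity,
      hj, hK]
    refine Nat.pow_le_pow_right (by norm_num) ?_
    have h2 : Nat.card Q ∣ Nat.card (Q.comap π) := by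
      refine Subgroup.card_dvd_of_surjective (π.subgroupComap Q) fun y => ?_
      obtain ⟨x, hx⟩ := hπs y
      exact ⟨⟨x, by rw [Subgroup.mem_comap, hx]; exact y.2⟩, Subtype.ext hx⟩
    rw [hj] at h2
    exact (Nat.Prime.pow_dvd_iff_le_factorization Nat.prime_two Nat.card_pos.ne').1 h2
  obtain ⟨eRQ⟩ : Nonempty (R ≃* Q) := by
    have hinj := mk_injOn_two hRp
    rw [← hπ] at hinj
    refine ⟨(MonoidHom.ofInjective hinj).trans (MulEquiv.subgroupCongr ?_)⟩
    rw [MonoidHom.range_comp, Subgroup.range_subtype, hRQ]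
  -- an element of odd order acting non-trivially
  have hnot2 : ¬ ∀ g : G ⧸ Cfsg.pPrimeCore 2 G, Odd (orderOf g) → g ∈ Q := by
    intro hall
    apply hnil
    have hp2 : IsPGroup 2 (G ⧸ Cfsg.pPrimeCore 2 G) := by
      refine IsPGroup.of_card (n := (Nat.card (G ⧸ Cfsg.pPrimeCore 2 G)).factorization 2) ?_
      refine Nat.eq_pow_of_factorization_eq_single Nat.card_pos.ne' ?_
      ext p
      rcases eq_or_ne p 2 with rfl | hp2
      · simp
      · rw [Finsupp.single_eq_of_ne hp2]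
        by_contra hne
        have hp : p.Prime := Nat.prime_of_mem_primeFactors (Finsupp.mem_support_iff.2 hne)
        have := Fact.mk hp
        obtain ⟨g, hg⟩ := exists_prime_orderOf_dvd_card' p
          (Nat.dvd_of_mem_primeFactors (Finsupp.mem_support_iff.2 hne))
        have hgQ := hall g (hg ▸ hp.odd_of_ne_two hp2)
        obtain ⟨i, hi⟩ := hQp.exists_card_eq
        have := Subgroup.orderOf_dvd_natCard _ hgQ
        rw [hg, hi] at this
        exact hp2 ((Nat.prime_dvd_prime_iff_eq hp Nat.prime_two).1 (hp.dvd_of_dvd_pow this))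
    obtain ⟨i, hi⟩ := hp2.exists_card_eq
    exact ⟨i, by rw [Subgroup.index_eq_card, hi]⟩
  simp only [not_forall] at hnot2
  obtain ⟨g₀, hg₀, hg₀Q⟩ := hnot2
  have hg₀ne : MulAut.conjNormal (H := Q) g₀ ≠ 1 := by
    intro h
    refine hg₀Q (hCQ (Subgroup.mem_centralizer_iff.2 fun y hy => ?_))
    have := congrArg (fun φ : MulAut Q => ((φ ⟨y, hy⟩ : Q) : G ⧸ Cfsg.pPrimeCore 2 G)) h
    simp only [MulAut.conjNormal_apply, MulAut.one_apply] at this
    exact (mul_inv_eq_iff_eq_mul.1 this).symm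
  have hg₀pow : MulAut.conjNormal (H := Q) g₀ ^ orderOf g₀ = 1 := by
    rw [← map_pow, pow_orderOf_eq_one, map_one]
  obtain ⟨e8⟩ : Nonempty (Q ≃* Q8) := by
    rcases pgroup_two_cases hf hRp with h | ⟨n, ⟨e⟩⟩
    · have : IsCyclic Q := eRQ.isCyclic.1 h
      exact absurd (CfsgLib.Transfer.mulAut_eq_one_of_isCyclic_two hQp _ hg₀ hg₀pow) hg₀ne
    rcases (show n = 0 ∨ n = 1 ∨ 2 ≤ n by omega) with rfl | rfl | hn
    · have : IsCyclic (QuaternionGroup (2 ^ 0)) := QuaternionGroup.quaternionGroup_one_isCyclic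
      have : IsCyclic Q := (eRQ.symm.trans e).isCyclic.2 this
      exact absurd (CfsgLib.Transfer.mulAut_eq_one_of_isCyclic_two hQp _ hg₀ hg₀pow) hg₀ne
    · exact ⟨eRQ.symm.trans e⟩
    · have h := CfsgLib.Transfer.mulAut_eq_one_of_quaternion_big hn
        (MulAut.congr (eRQ.symm.trans e) (MulAut.conjNormal (H := Q) g₀)) hg₀
        (by rw [← map_pow, hg₀pow, map_one])
      rw [EmbeddingLike.map_eq_one_iff] at h
      exact absurd h hg₀ne
  -- the homomorphism
  obtain ⟨θ₀, hθ₀⟩ : ∃ θ : G ⧸ Cfsg.pPrimeCore 2 G →* Equiv.Perm (Fin 4),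
      θ = (diagHom.comp (MulAut.congr e8).toMonoidHom).comp (MulAut.conjNormal (H := Q)) := ⟨_, rfl⟩
  have hker₀ : ∀ x, θ₀ x = 1 → x ∈ Subgroup.centralizer (Q : Set (G ⧸ Cfsg.pPrimeCore 2 G)) := by
    intro x hx
    rw [hθ₀] at hx
    simp only [MonoidHom.comp_apply, MulEquiv.coe_toMonoidHom] at hx
    have hx' : MulAut.conjNormal (H := Q) x = 1 := by
      have := diagHom_injective (hx.trans (map_one diagHom).symm)
      rwa [EmbeddingLike.map_eq_one_iff] at this
    refine Subgroup.mem_centralizer_iff.2 fun y hy => ?_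
    have := congrArg (fun φ : MulAut Q => ((φ ⟨y, hy⟩ : Q) : G ⧸ Cfsg.pPrimeCore 2 G)) hx'
    simp only [MulAut.conjNormal_apply, MulAut.one_apply] at this
    exact (mul_inv_eq_iff_eq_mul.1 this).symm
  obtain ⟨θ, hθ⟩ : ∃ θ, θ = θ₀.comp π := ⟨_, rfl⟩
  have hN : IsZGroup θ.ker := by
    refine ⟨fun p hp S => ?_⟩
    have := Fact.mk hp
    have hfN : Fpf (f.comp θ.ker.subtype) := fun g hg v hv => hf g (fun h => hg (Subtype.ext h)) v hv
    rcases sylow_cases hfN S with h | ⟨rfl, j, ⟨e⟩⟩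
    · exact h
    · rcases Nat.eq_zero_or_pos j with rfl | hj
      · have : IsCyclic (QuaternionGroup (2 ^ 0)) := QuaternionGroup.quaternionGroup_one_isCyclic
        exact e.isCyclic.2 this
      exfalso
      have hcomm : ∀ x y : S, x * y = y * x := by
        intro x y
        have hinj : Function.Injective ((π.comp θ.ker.subtype).comp (S : Subgroup θ.ker).subtype) := by
          intro a b e
          have h := mk_injOn_two (R := (S : Subgroup θ.ker).map θ.ker.subtype) (S.2.map _)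
          rw [← hπ] at h
          have := h (a₁ := ⟨((a : θ.ker) : G), _, a.2, rfl⟩) (a₂ := ⟨((b : θ.ker) : G), _, b.2, rfl⟩) e
          exact Subtype.ext (Subtype.ext (congrArg (fun t : ((S : Subgroup θ.ker).map θ.ker.subtype) => (t : G)) this))
        apply hinj
        rw [map_mul, map_mul]
        have hx : π ((x : θ.ker) : G) ∈ Subgroup.centralizer (Q : Set (G ⧸ Cfsg.pPrimeCore 2 G)) :=
          hker₀ _ ((DFunLike.congr_fun hθ _).symm.trans (MonoidHom.mem_ker.1 (x : θ.ker).2))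
        have hy : π ((y : θ.ker) : G) ∈ Subgroup.centralizer (Q : Set (G ⧸ Cfsg.pPrimeCore 2 G)) :=
          hker₀ _ ((DFunLike.congr_fun hθ _).symm.trans (MonoidHom.mem_ker.1 (y : θ.ker).2))
        exact Subgroup.mem_centralizer_iff.1 hy _ (hCQ hx)
      have hne : (xa 0 : QuaternionGroup (2 ^ j)) * a 1 ≠ a 1 * xa 0 := by
        simp only [xa_mul_a, a_mul_xa, ne_eq, xa.injEq, zero_add, zero_sub]
        intro h
        rw [eq_neg_iff_add_eq_zero, ← Nat.cast_one, ← Nat.cast_add, ZMod.natCast_eq_zero_iff] at h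
        have h2 := Nat.le_of_dvd (by norm_num) h
        have : 2 ^ 1 ≤ 2 ^ j := Nat.pow_le_pow_right (by norm_num) hj
        omega
      apply hne
      apply e.symm.injective
      rw [map_mul, map_mul, hcomm]
  -- the image
  have h4 : 4 ∣ Nat.card θ₀.range := by
    let mu₀ : Q →* Equiv.Perm (Fin 4) := θ₀.comp Q.subtype
    refine dvd_trans ?_ (Subgroup.card_dvd_of_le (show mu₀.range ≤ θ₀.range by
      rintro _ ⟨x, rfl⟩; exact ⟨_, rfl⟩))
    have hk : Nat.card mu₀.ker ≤ 2 := by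
      have h2 : Nat.card {x : Q8 // ∀ y : Q8, x * y = y * x} = 2 := by
        rw [Nat.card_eq_fintype_card]; decide +kernel
      refine le_trans ?_ h2.le
      refine Nat.card_le_card_of_injective (fun x => ⟨e8 (x : Q), fun y => ?_⟩)
        (fun x y e => Subtype.ext (e8.injective (congrArg Subtype.val e)))
      have hx := Subgroup.mem_centralizer_iff.1 (hker₀ _ x.2) _ (e8.symm y).2
      have hx' : e8.symm y * (x : Q) = (x : Q) * e8.symm y := Subtype.ext hx
      have := congrArg e8 hx'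
      rw [map_mul, map_mul, e8.apply_symm_apply] at this
      exact this.symm
    have h8 : Nat.card Q = 8 := by
      rw [Nat.card_congr e8.toEquiv, Nat.card_eq_fintype_card, QuaternionGroup.card]
    have hm := mu₀.ker.index_mul_card
    rw [Subgroup.index_ker, h8] at hm
    have hpos : 0 < Nat.card mu₀.ker := Nat.card_pos
    interval_cases h : Nat.card mu₀.ker <;> omega
  have h3 : 3 ∣ Nat.card θ₀.range := by
    have hne : θ₀ g₀ ≠ 1 := fun e => hg₀Q (hCQ (hker₀ g₀ e))
    have hd : orderOf (θ₀ g₀) ∣ Nat.card θ₀.range := Subgroup.orderOf_dvd_natCard _ ⟨g₀, rfl⟩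
    have hd24 : orderOf (θ₀ g₀) ∣ 2 ^ 3 * 3 := by
      refine (orderOf_dvd_natCard (θ₀ g₀)).trans (dvd_of_eq ?_)
      rw [Nat.card_eq_fintype_card, Fintype.card_perm, Fintype.card_fin]; rfl
    have hodd : (orderOf (θ₀ g₀)).Coprime (2 ^ 3) :=
      ((Nat.coprime_two_right.2 (hg₀.of_dvd_nat (orderOf_map_dvd θ₀ g₀))).pow_right 3)
    rcases (Nat.dvd_prime Nat.prime_three).1 (hodd.dvd_of_dvd_mul_left hd24) with h | h
    · exact absurd (orderOf_eq_one_iff.1 h) hne
    · rwa [h] at hd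
  have hrange : θ.range = θ₀.range := by
    rw [hθ, MonoidHom.range_comp, MonoidHom.range_eq_top.2 hπs, ← MonoidHom.range_eq_map]
  have h12 : 12 ∣ Nat.card θ.range := hrange ▸ Nat.Coprime.mul_dvd_of_dvd_of_dvd (by norm_num) h4 h3
  have hidx := θ.range.index_mul_card
  rw [Nat.card_eq_fintype_card (α := Equiv.Perm (Fin 4)), Fintype.card_perm, Fintype.card_fin,
    show Nat.factorial 4 = 24 by rfl] at hidx
  obtain ⟨t, ht⟩ := h12
  rw [ht] at hidx
  have hit : θ.range.index * t = 2 := by linarith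
  refine ⟨θ.ker, θ.normal_ker, hN, ?_⟩
  rcases (Nat.dvd_prime Nat.prime_two).1 ⟨t, hit.symm⟩ with h | h
  · exact Or.inr ⟨θ, MonoidHom.range_eq_top.1 (Subgroup.index_eq_one.1 h), rfl⟩
  · have he : θ.range = alternatingGroup (Fin 4) := Equiv.Perm.eq_alternatingGroup_of_index_eq_two h
    refine Or.inl ⟨θ.codRestrict _ (fun g => by rw [← he]; exact ⟨g, rfl⟩), fun y => ?_, ?_⟩
    · obtain ⟨g, hg⟩ : (y : Equiv.Perm (Fin 4)) ∈ θ.range := by rw [he]; exact y.2
      exact ⟨g, Subtype.ext hg⟩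
    · ext g
      simp [MonoidHom.mem_ker]

end CfsgLib.Perm.Ico
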