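import Cfsg.Agent.Lib.Perm.IcoSolvable
import Cfsg.Agent.Lib.Transfer.Q8SL

/-!
The quaternion core of a solvable fixed-point-free group that is not `2`-nilpotent.
-/

set_option autoImplicit false
set_option linter.unusedSectionVars false

namespace CfsgLib.Perm.Ico

open QuaternionGroup

theorem q8_sq_one : ∀ x : Q8, x * x = 1 → x = 1 ∨ x = a 2 := by decide +kernel

theorem q8_central : ∀ x : Q8, x * x = 1 → ∀ y, x * y = y * x := by decide +kernel

theorem q8_central_iff : ∀ x : Q8, (∀ y, x * y = y * x) → x * x = 1 := by decide +kernel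

theorem q8_pair : (a 1 : Q8) * a 1 = a 2 ∧ (xa 0 : Q8) * xa 0 = a 2 ∧
    (a 1 : Q8) * xa 0 = a 2 * (xa 0 * a 1) ∧ (a 2 : Q8) * a 2 = 1 ∧ (a 2 : Q8) ≠ 1 := by
  decide +kernel

theorem q8_pow_eight : ∀ x : Q8, x ^ 8 = 1 := by decide +kernel

theorem q8_span : ∀ x y : Q8, x * x ≠ 1 → y * y ≠ 1 → y ≠ x → y ≠ x⁻¹ →
    ∀ w, ∃ i j : Fin 4, w = x ^ (i : ℕ) * y ^ (j : ℕ) := by
  decide +kernel

theorem q8_quot : ∀ x y : Q8, x * x ≠ 1 → y * y ≠ 1 → y ≠ x → y ≠ x⁻¹ →
    y * x⁻¹ * (y * x⁻¹) ≠ 1 := by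
  decide +kernel

theorem q8_inner : ∀ u v : Q8, u * (a 1)⁻¹ * (u * (a 1)⁻¹) = 1 → v * (xa 0)⁻¹ * (v * (xa 0)⁻¹) = 1 →
    ∃ r : Q8, r * a 1 * r⁻¹ = u ∧ r * xa 0 * r⁻¹ = v := by
  decide +kernel

open CfsgLib.Transfer.QSL in
theorem q8_three : ∀ u v : Q8, u * u = a 2 → v * v = a 2 → u * v ≠ v * u →
    qM u v (qM u v (qM u v (a 1))) = a 1 → qM u v (qM u v (qM u v (xa 0))) = xa 0 →
    (u, v) ≠ (a 1, xa 0) → ∀ x, x * x ≠ 1 → qM u v x ≠ x ∧ qM u v x ≠ x⁻¹ := by
  decide +kernel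

open CfsgLib.Transfer.QSL in
theorem q8_odd_moves (φ : MulAut Q8) (hne : φ ≠ 1) {r : ℕ} (hr : Odd r) (hφ : φ ^ r = 1)
    (x : Q8) (hx : x * x ≠ 1) : φ x ≠ x ∧ φ x ≠ x⁻¹ := by
  obtain ⟨-, -, -, -, h3, -⟩ := exists_sl23_realization φ hne hr hφ
  have hpow : ∀ y, φ (φ (φ y)) = y := fun y => by
    have h := DFunLike.congr_fun (h3 ▸ pow_orderOf_eq_one φ) y
    exact h
  have hval : ∀ y, qM (φ (a 1)) (φ (xa 0)) y = φ y := fun y => by
    rw [show φ y = (φ.toMonoidHom : Q8 →* Q8) y from rfl, qM_eq_of_hom]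
    rcases y with i | i <;> rfl
  rw [← hval]
  refine q8_three _ _ ?_ ?_ ?_ ?_ ?_ ?_ x hx
  · rw [← map_mul, q8_pair.1]
    rcases q8_sq_one (φ (a 2)) (by rw [← map_mul, q8_pair.2.2.2.1, map_one]) with h | h
    · exact absurd (φ.injective (h.trans (map_one φ).symm)) q8_pair.2.2.2.2
    · exact h
  · rw [← map_mul, q8_pair.2.1]
    rcases q8_sq_one (φ (a 2)) (by rw [← map_mul, q8_pair.2.2.2.1, map_one]) with h | h
    · exact absurd (φ.injective (h.trans (map_one φ).symm)) q8_pair.2.2.2.2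
    · exact h
  · rw [← map_mul, ← map_mul]
    exact fun h => absurd (φ.injective h) (by decide +kernel)
  · rw [hval, hval, hval]; exact hpow _
  · rw [hval, hval, hval]; exact hpow _
  · intro h
    apply hne
    refine MulEquiv.ext fun y => ?_
    obtain ⟨e1, e2⟩ := Prod.ext_iff.1 h
    dsimp only at e1 e2
    rw [← hval, e1, e2]
    obtain ⟨i, rfl | rfl⟩ := q8_generated y
    · rw [MulAut.one_apply]; revert i; decide +kernel
    · rw [MulAut.one_apply]; revert i; decide +kernel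

section General

variable {H : Type*} [Group H]

/-- A normal subgroup meeting a moved quaternion subgroup outside its centre contains it. -/
theorem q8_le_of_normal {S : Subgroup H} (e : S ≃* Q8) {M : Subgroup H} (hM : M.Normal) {g : H}
    (hg : ∀ x ∈ S, g * x * g⁻¹ ∈ S)
    (hmove : ∀ x ∈ S, x * x ≠ 1 → g * x * g⁻¹ ≠ x ∧ g * x * g⁻¹ ≠ x⁻¹)
    {c : H} (hcS : c ∈ S) (hcM : c ∈ M) (hc : c * c ≠ 1) : S ≤ M := by
  intro w hw
  obtain ⟨h1, h2⟩ := hmove c hcS hc
  have hsq : g * c * g⁻¹ * (g * c * g⁻¹) ≠ 1 := fun h => hc (by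
    have : g * (c * c) * g⁻¹ = 1 := by rw [← h]; simp [mul_assoc]
    exact conj_eq_one_iff.1 this)
  obtain ⟨i, j, hij⟩ := q8_span (e ⟨c, hcS⟩) (e ⟨g * c * g⁻¹, hg c hcS⟩)
    (fun h => hc (congrArg Subtype.val (e.injective ((map_mul e _ _).trans (h.trans (map_one e).symm)))))
    (fun h => hsq (congrArg Subtype.val (e.injective ((map_mul e _ _).trans (h.trans (map_one e).symm)))))
    (fun h => h1 (congrArg Subtype.val (e.injective h)))
    (fun h => h2 (congrArg Subtype.val (e.injective (h.trans (map_inv e _).symm)))) (e ⟨w, hw⟩)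
  rw [← map_pow, ← map_pow, ← map_mul] at hij
  have hval : w = c ^ (i : ℕ) * (g * c * g⁻¹) ^ (j : ℕ) := congrArg Subtype.val (e.injective hij)
  rw [hval]
  exact M.mul_mem (M.pow_mem hcM _) (M.pow_mem (hM.conj_mem c hcM g) _)

/-- An element of coprime order in the derived group times a subgroup acts trivially on a cyclic group. -/
theorem aut_trivial {X : Type*} [Group X] [Finite X] [IsCyclic X] (Φ : H →* MulAut X)
    {O : Subgroup H} [O.Normal] {r : H} (hr : r ∈ commutator H ⊔ O) {k : ℕ} (hrk : r ^ 2 ^ k = 1)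
    (hO : (Nat.card O).Coprime 2) : Φ r = 1 := by
  obtain ⟨χ, hχ⟩ : ∃ χ : H →* (ZMod (Nat.card X))ˣ, χ = (IsCyclic.mulAutMulEquiv X).toMonoidHom.comp Φ :=
    ⟨_, rfl⟩
  rw [Subgroup.mem_sup_of_normal_right] at hr
  obtain ⟨c, hc, o, ho, rfl⟩ := hr
  have hc1 : χ c = 1 := Abelianization.commutator_subset_ker χ hc
  have h1 : orderOf (χ (c * o)) ∣ Nat.card O := by
    rw [map_mul, hc1, one_mul]
    exact (orderOf_map_dvd χ o).trans (Subgroup.orderOf_dvd_natCard _ ho)
  have h2 : orderOf (χ (c * o)) ∣ 2 ^ k := by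
    exact (orderOf_map_dvd χ _).trans (orderOf_dvd_of_pow_eq_one hrk)
  have h3 := orderOf_eq_one_iff.1 (Nat.eq_one_of_dvd_coprimes (hO.pow_right k) h1 h2)
  rw [hχ, MonoidHom.comp_apply, MulEquiv.coe_toMonoidHom, EmbeddingLike.map_eq_one_iff] at h3
  exact h3

end General

variable {G : Type*} [Group G] [Finite G] {V : Type*} [AddCommGroup V] [Module ℂ V]
  [FiniteDimensional ℂ V] [Nontrivial V] {f : G →* Module.End ℂ V}

/-- A two-subgroup of `G'·O` centralises the odd core `O`. -/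
theorem commute_oddCore (hf : Fpf f) {R : Subgroup G}
    (hRle : R ≤ commutator G ⊔ Cfsg.pPrimeCore 2 G) {k : ℕ} (hRk : ∀ r ∈ R, r ^ 2 ^ k = 1) :
    ∀ o ∈ Cfsg.pPrimeCore 2 G, ∀ r ∈ R, o * r = r * o := by
  have := CfsgLib.Solvable.pPrimeCore_normal 2 G
  have hOcop : (Nat.card (Cfsg.pPrimeCore 2 G)).Coprime 2 := CfsgLib.Solvable.pPrimeCore_coprime (G := G) 2
  have : IsZGroup (Cfsg.pPrimeCore 2 G) := isZGroup_of_odd hf hOcop
  obtain ⟨D, hD⟩ : ∃ D : Subgroup G,
      D = (commutator (Cfsg.pPrimeCore 2 G)).map (Cfsg.pPrimeCore 2 G).subtype := ⟨_, rfl⟩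
  have hDn : D.Normal := hD ▸ ConjAct.normal_of_characteristic_of_normal
  have : IsCyclic D := by
    rw [hD]
    have := IsZGroup.isCyclic_commutator (Cfsg.pPrimeCore 2 G)
    exact (Subgroup.equivMapOfInjective _ _ (Cfsg.pPrimeCore 2 G).subtype_injective).isCyclic.1 this
  obtain ⟨X, hX⟩ : ∃ X : Subgroup (G ⧸ D), X = (Cfsg.pPrimeCore 2 G).map (QuotientGroup.mk' D) := ⟨_, rfl⟩
  have hXn : X.Normal := hX ▸ Subgroup.Normal.map inferInstance _ (QuotientGroup.mk'_surjective D)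
  have : IsCyclic X := by
    subst hX
    let q : Abelianization (Cfsg.pPrimeCore 2 G) →* (Cfsg.pPrimeCore 2 G).map (QuotientGroup.mk' D) :=
      QuotientGroup.lift (commutator _) ((QuotientGroup.mk' D).subgroupMap _) (fun x hx => by
        apply Subtype.ext
        show QuotientGroup.mk' D (x : G) = 1
        rw [QuotientGroup.mk'_apply, QuotientGroup.eq_one_iff, hD]
        exact ⟨x, hx, rfl⟩)
    refine isCyclic_of_surjective q (fun y => ?_)
    obtain ⟨x, hx⟩ := (QuotientGroup.mk' D).subgroupMap_surjective _ y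
    exact ⟨QuotientGroup.mk x, hx⟩
  intro o ho r hr
  have h1 := aut_trivial (MulAut.conjNormal (H := D)) (hRle hr) (hRk r hr) hOcop
  have h2 := aut_trivial ((MulAut.conjNormal (H := X)).comp (QuotientGroup.mk' D)) (hRle hr) (hRk r hr) hOcop
  have hc : ∀ c ∈ D, r * c * r⁻¹ = c := fun c hc =>
    congrArg (fun φ : MulAut D => ((φ ⟨c, hc⟩ : D) : G)) h1
  obtain ⟨c, hcd⟩ : ∃ c, c = o⁻¹ * (r * o * r⁻¹) := ⟨_, rfl⟩
  have hcD : c ∈ D := by
    have hoX : QuotientGroup.mk' D o ∈ X := hX ▸ ⟨o, ho, rfl⟩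
    have h := congrArg (fun φ : MulAut X => ((φ ⟨_, hoX⟩ : X) : G ⧸ D)) h2
    simp only [MonoidHom.comp_apply, MulAut.conjNormal_apply, MulAut.one_apply] at h
    rw [← map_inv, ← map_mul, ← map_mul] at h
    rw [hcd, ← QuotientGroup.eq]
    exact h.symm
  have hit : ∀ i : ℕ, r ^ i * o * (r ^ i)⁻¹ = o * c ^ i := by
    intro i
    induction i with
    | zero => simp
    | succ i ih =>
      rw [pow_succ' r, pow_succ' c, mul_inv_rev]
      calc r * r ^ i * o * ((r ^ i)⁻¹ * r⁻¹) = r * (r ^ i * o * (r ^ i)⁻¹) * r⁻¹ := by simp [mul_assoc]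
        _ = r * o * r⁻¹ * (r * c ^ i * r⁻¹) := by rw [ih]; simp [mul_assoc]
        _ = o * (c * c ^ i) := by
          rw [hc _ (D.pow_mem hcD i), hcd]; simp [mul_assoc]
  have hck : c ^ 2 ^ k = 1 := by
    have := hit (2 ^ k)
    rw [hRk r hr, one_mul, inv_one, mul_one] at this
    exact mul_left_cancel (this.symm.trans (mul_one o).symm)
  have hcO : c ∈ Cfsg.pPrimeCore 2 G := by
    have := hD ▸ hcD
    exact Subgroup.map_subtype_le _ this
  have hc1 : c = 1 := orderOf_eq_one_iff.1 (Nat.eq_one_of_dvd_coprimes (hOcop.pow_right k)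
    (Subgroup.orderOf_dvd_natCard _ hcO) (orderOf_dvd_of_pow_eq_one hck))
  rw [hcd, inv_mul_eq_one, eq_mul_inv_iff_mul_eq] at hc1
  exact hc1

/-- The data of the quaternion core. -/
structure Q8Core (G : Type*) [Group G] (R : Subgroup G) : Prop where
  normal : R.Normal
  iso : Nonempty (R ≃* Q8)
  commO : ∀ o ∈ Cfsg.pPrimeCore 2 G, ∀ r ∈ R, o * r = r * o
  cent : ∀ c ∈ Subgroup.centralizer (R : Set G),
    ∃ r ∈ R, ∃ o ∈ Cfsg.pPrimeCore 2 G, r * r = 1 ∧ c = r * o
  card_cent : Nat.card (Subgroup.centralizer (R : Set G)) = 2 * Nat.card (Cfsg.pPrimeCore 2 G)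
  index_cent : (Subgroup.centralizer (R : Set G)).index = 12 ∨
    ((Subgroup.centralizer (R : Set G)).index = 24 ∧ ∃ N : Subgroup G, N.Normal ∧ N.index = 2)
  dichotomy : ∀ N : Subgroup G, N.Normal → R ≤ N ∨ N ≤ Subgroup.centralizer (R : Set G)

theorem exists_q8Core (hf : Fpf f) (hsol : Group.IsSolvable G) (hnil : ¬ TwoNilp G) :
    ∃ R : Subgroup G, Q8Core G R := by
  classical
  have : Fact (Nat.Prime 2) := ⟨Nat.prime_two⟩
  have := CfsgLib.Solvable.pPrimeCore_normal 2 G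
  obtain ⟨π, hπ⟩ : ∃ π, π = QuotientGroup.mk' (Cfsg.pPrimeCore 2 G) := ⟨_, rfl⟩
  have hπs : Function.Surjective π := hπ ▸ QuotientGroup.mk'_surjective _
  have : Group.IsSolvable (G ⧸ Cfsg.pPrimeCore 2 G) := Group.isSolvable_of_surjective hπs
  obtain ⟨Q, hQ⟩ : ∃ Q, Q = Cfsg.pCore 2 (G ⧸ Cfsg.pPrimeCore 2 G) := ⟨_, rfl⟩
  have hCQ : Subgroup.centralizer (Q : Set (G ⧸ Cfsg.pPrimeCore 2 G)) ≤ Q := by
    rw [hQ]; exact CfsgLib.Solvable.centralizer_pCore_le 2 (CfsgLib.Solvable.pPrimeCore_quotient_eq_bot 2)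
  have hQn : Q.Normal := hQ ▸ CfsgLib.Solvable.pCore_normal 2 _
  have hQp : IsPGroup 2 Q := hQ ▸ CfsgLib.Solvable.pCore_isPGroup 2
  -- a two-subgroup mapping onto `Q`
  obtain ⟨K, hK⟩ : ∃ K, K = Q.comap π := ⟨_, rfl⟩
  obtain ⟨P⟩ : Nonempty (Sylow 2 K) := inferInstance
  obtain ⟨R, hR⟩ : ∃ R : Subgroup G, R = (P : Subgroup K).map K.subtype := ⟨_, rfl⟩
  have hRp : IsPGroup 2 R := hR ▸ P.2.map _
  have hRQ : R.map π = Q := by
    have hle : R.map π ≤ Q := by
      rw [hR, Subgroup.map_le_iff_le_comap, ← hK]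
      exact Subgroup.map_subtype_le _
    refine Subgroup.eq_of_le_of_card_ge hle ?_
    obtain ⟨j, hj⟩ := hQp.exists_card_eq
    have hRc : Nat.card (R.map π) = Nat.card R := by
      have hinj := mk_injOn_two hRp
      rw [← hπ] at hinj
      rw [Nat.card_congr (MonoidHom.ofInjective hinj).toEquiv, MonoidHom.range_comp, Subgroup.range_subtype]
    rw [hRc, hR, Subgroup.card_map_of_injective K.subtype_injective, Sylow.card_eq_multiplicity,
      hj, hK]
    refine Nat.pow_le_pow_right (by norm_num) ?_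
    have h2 : Nat.card Q ∣ Nat.card (Q.comap π) := by
      refine Subgroup.card_dvd_of_surjective (π.subgroupComap Q) fun y => ?_
      obtain ⟨x, hx⟩ := hπs y
      exact ⟨⟨x, by rw [Subgroup.mem_comap, hx]; exact y.2⟩, Subtype.ext hx⟩
    rw [hj] at h2
    exact (Nat.Prime.pow_dvd_iff_le_factorization Nat.prime_two Nat.card_pos.ne').1 h2
  obtain ⟨eRQ⟩ : Nonempty (R ≃* Q) := by
    have hinj := mk_injOn_two hRp
    rw [← hπ] at hinj
    refine ⟨(MonoidHom.ofInjective hinj).trans (MulEquiv.subgroupCongr ?_)⟩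
    rw [MonoidHom.range_comp, Subgroup.range_subtype, hRQ]
  -- an element of odd order acting non-trivially
  have hnot2 : ¬ ∀ g : G ⧸ Cfsg.pPrimeCore 2 G, Odd (orderOf g) → g ∈ Q := by
    intro hall
    apply hnil
    have hp2 : IsPGroup 2 (G ⧸ Cfsg.pPrimeCore 2 G) := by
      refine IsPGroup.of_card (n := (Nat.card (G ⧸ Cfsg.pPrimeCore 2 G)).factorization 2) ?_
      refine Nat.eq_pow_of_factorization_eq_single Nat.card_pos.ne' ?_
      ext p
      rcases eq_or_ne p 2 with rfl | hp2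
      · simp
      · rw [Finsupp.single_eq_of_ne hp2]
        by_contra hne
        have hp : p.Prime := Nat.prime_of_mem_primeFactors (Finsupp.mem_support_iff.2 hne)
        have := Fact.mk hp
        obtain ⟨g, hg⟩ := exists_prime_orderOf_dvd_card' p
          (Nat.dvd_of_mem_primeFactors (Finsupp.mem_support_iff.2 hne))
        have hgQ := hall g (hg ▸ hp.odd_of_ne_two hp2)
        obtain ⟨i, hi⟩ := hQp.exists_card_eq
        have := Subgroup.orderOf_dvd_natCard _ hgQ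
        rw [hg, hi] at this
        exact hp2 ((Nat.prime_dvd_prime_iff_eq hp Nat.prime_two).1 (hp.dvd_of_dvd_pow this))
    obtain ⟨i, hi⟩ := hp2.exists_card_eq
    exact ⟨i, by rw [Subgroup.index_eq_card, hi]⟩
  simp only [not_forall] at hnot2
  obtain ⟨g₀, hg₀, hg₀Q⟩ := hnot2
  have hg₀ne : MulAut.conjNormal (H := Q) g₀ ≠ 1 := by
    intro h
    refine hg₀Q (hCQ (Subgroup.mem_centralizer_iff.2 fun y hy => ?_))
    have := congrArg (fun φ : MulAut Q => ((φ ⟨y, hy⟩ : Q) : G ⧸ Cfsg.pPrimeCore 2 G)) h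
    simp only [MulAut.conjNormal_apply, MulAut.one_apply] at this
    exact (mul_inv_eq_iff_eq_mul.1 this).symm
  have hg₀pow : MulAut.conjNormal (H := Q) g₀ ^ orderOf g₀ = 1 := by
    rw [← map_pow, pow_orderOf_eq_one, map_one]
  obtain ⟨e8⟩ : Nonempty (Q ≃* Q8) := by
    rcases pgroup_two_cases hf hRp with h | ⟨n, ⟨e⟩⟩
    · have : IsCyclic Q := eRQ.isCyclic.1 h
      exact absurd (CfsgLib.Transfer.mulAut_eq_one_of_isCyclic_two hQp _ hg₀ hg₀pow) hg₀ne
    rcases (show n = 0 ∨ n = 1 ∨ 2 ≤ n by omega) with rfl | rfl | hn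
    · have : IsCyclic (QuaternionGroup (2 ^ 0)) := QuaternionGroup.quaternionGroup_one_isCyclic
      have : IsCyclic Q := (eRQ.symm.trans e).isCyclic.2 this
      exact absurd (CfsgLib.Transfer.mulAut_eq_one_of_isCyclic_two hQp _ hg₀ hg₀pow) hg₀ne
    · exact ⟨eRQ.symm.trans e⟩
    · have h := CfsgLib.Transfer.mulAut_eq_one_of_quaternion_big hn
        (MulAut.congr (eRQ.symm.trans e) (MulAut.conjNormal (H := Q) g₀)) hg₀
        (by rw [← map_pow, hg₀pow, map_one])
      rw [EmbeddingLike.map_eq_one_iff] at h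
      exact absurd h hg₀ne
  have hinjR : ∀ r ∈ R, π r = 1 → r = 1 := fun r hr h => by
    have h' := mk_injOn_two hRp (a₁ := ⟨r, hr⟩) (a₂ := 1) (by
      simp only [MonoidHom.comp_apply, Subgroup.coe_subtype, OneMemClass.coe_one, map_one, ← hπ]; exact h)
    exact congrArg Subtype.val h'
  have hconjQ : ∀ g, ∀ x ∈ Q, g * x * g⁻¹ ∈ Q := fun g x hx => hQn.conj_mem x hx g
  have hmove : ∀ x ∈ Q, x * x ≠ 1 → g₀ * x * g₀⁻¹ ≠ x ∧ g₀ * x * g₀⁻¹ ≠ x⁻¹ := by
    intro x hx hx2
    obtain ⟨y, hy⟩ : ∃ y : Q, y = ⟨x, hx⟩ := ⟨_, rfl⟩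
    obtain ⟨h1, h2⟩ := q8_odd_moves (MulAut.congr e8 (MulAut.conjNormal (H := Q) g₀))
      (fun h => hg₀ne (by rwa [EmbeddingLike.map_eq_one_iff] at h)) hg₀
      (by rw [← map_pow, hg₀pow, map_one]) (e8 y)
      (fun h => hx2 (by
        rw [← map_mul, EmbeddingLike.map_eq_one_iff] at h
        subst hy; exact congrArg Subtype.val h))
    have hval : MulAut.congr e8 (MulAut.conjNormal (H := Q) g₀) (e8 y) =
        e8 (MulAut.conjNormal (H := Q) g₀ y) := by
      simp [MulAut.congr]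
    rw [hval] at h1 h2
    subst hy
    exact ⟨fun h => h1 (congrArg e8 (Subtype.ext (by rw [MulAut.conjNormal_apply]; exact h))),
      fun h => h2 (by
        rw [← map_inv]
        exact congrArg e8 (Subtype.ext (by rw [MulAut.conjNormal_apply]; exact h)))⟩
  obtain ⟨eR⟩ : Nonempty (R ≃* Q8) := ⟨eRQ.trans e8⟩
  have hQR : ∀ x ∈ Q, ∃ r ∈ R, π r = x := fun x hx => by
    rw [← hRQ] at hx; obtain ⟨r, hr, e⟩ := hx; exact ⟨r, hr, e⟩
  -- the core lies in the derived group modulo `O`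
  have hRle : R ≤ commutator G ⊔ Cfsg.pPrimeCore 2 G := by
    intro r hr
    have hQle : Q ≤ commutator (G ⧸ Cfsg.pPrimeCore 2 G) := by
      obtain ⟨x, hx⟩ : ∃ x : Q, x = e8.symm (QuaternionGroup.a 1) := ⟨_, rfl⟩
      have hx2 : (x : G ⧸ Cfsg.pPrimeCore 2 G) * x ≠ 1 := fun h => by
        have h' : e8 (x * x) = 1 := by
          rw [EmbeddingLike.map_eq_one_iff]; exact Subtype.ext h
        rw [map_mul, hx, e8.apply_symm_apply] at h'
        exact absurd h' (by decide +kernel)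
      obtain ⟨m1, m2⟩ := hmove _ x.2 hx2
      obtain ⟨c, hc⟩ : ∃ c, c = g₀ * (x : G ⧸ Cfsg.pPrimeCore 2 G) * g₀⁻¹ *
          (x : G ⧸ Cfsg.pPrimeCore 2 G)⁻¹ := ⟨_, rfl⟩
      have hcQ : c ∈ Q := hc ▸ Q.mul_mem (hconjQ _ _ x.2) (Q.inv_mem x.2)
      have hcC : c ∈ commutator (G ⧸ Cfsg.pPrimeCore 2 G) := by
        rw [hc, ← commutatorElement_def, commutator_def]
        exact Subgroup.commutator_mem_commutator (Subgroup.mem_top _) (Subgroup.mem_top _)
      refine q8_le_of_normal e8 inferInstance (hconjQ g₀) hmove hcQ hcC ?_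
      have hgx := hconjQ g₀ _ x.2
      have k0 := q8_quot (e8 x) (e8 ⟨_, hgx⟩) (fun h => hx2 (by
          rw [← map_mul, EmbeddingLike.map_eq_one_iff] at h; exact congrArg Subtype.val h))
        (fun h => by
          rw [← map_mul, EmbeddingLike.map_eq_one_iff] at h
          have h' := congrArg Subtype.val h
          simp only [Subgroup.coe_mul, OneMemClass.coe_one] at h'
          refine hx2 ((conj_eq_one_iff (a := g₀)).1 (Eq.trans ?_ h'))
          simp [mul_assoc])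
        (fun h => m1 (congrArg Subtype.val (e8.injective h)))
        (fun h => m2 (congrArg Subtype.val (e8.injective (h.trans (map_inv e8 _).symm))))
      intro h
      rw [hc] at h
      apply k0
      rw [← map_inv, ← map_mul, ← map_mul, EmbeddingLike.map_eq_one_iff]
      exact Subtype.ext h
    have hm : π r ∈ (commutator G).map π := by
      rw [commutator_def, Subgroup.map_commutator, Subgroup.map_top_of_surjective π hπs, ← commutator_def]
      exact hQle (hRQ ▸ Subgroup.mem_map_of_mem π hr)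
    obtain ⟨c, hc, hcr⟩ := hm
    rw [hπ, QuotientGroup.mk'_apply, QuotientGroup.mk'_apply, QuotientGroup.eq] at hcr
    rw [Subgroup.mem_sup_of_normal_right]
    exact ⟨c, hc, _, hcr, by simp⟩
  have hR8 : ∀ r ∈ R, r ^ 2 ^ 3 = 1 := fun r hr => by
    obtain ⟨s, hs⟩ : ∃ s : R, (s : G) = r := ⟨⟨r, hr⟩, rfl⟩
    have h : s ^ 8 = 1 := eR.injective (by rw [map_pow, map_one]; exact q8_pow_eight _)
    rw [← hs]; exact congrArg Subtype.val h
  have hcom := commute_oddCore hf hRle hR8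
  -- normality
  have hRn : R.Normal := by
    refine ⟨fun r hr g => ?_⟩
    obtain ⟨r', hr', he'⟩ := hQR (π g * π r * (π g)⁻¹) (hconjQ _ _ (hRQ ▸ Subgroup.mem_map_of_mem π hr))
    rw [← map_inv, ← map_mul, ← map_mul, hπ, QuotientGroup.mk'_apply, QuotientGroup.mk'_apply,
      QuotientGroup.eq] at he'
    obtain ⟨o, ho⟩ : ∃ o, o = r'⁻¹ * (g * r * g⁻¹) := ⟨_, rfl⟩
    rw [← ho] at he'
    have h1 : (g * r * g⁻¹) ^ 8 = 1 := by
      rw [conj_pow, show r ^ 8 = 1 from hR8 r hr, mul_one, mul_inv_cancel]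
    have e1 : g * r * g⁻¹ = r' * o := by rw [ho, mul_inv_cancel_left]
    rw [e1, (show Commute r' o from (hcom o he' r' hr').symm).mul_pow,
      show r' ^ 8 = 1 from hR8 r' hr', one_mul] at h1
    have ho1 : o = 1 := orderOf_eq_one_iff.1 (Nat.eq_one_of_dvd_coprimes
      ((CfsgLib.Solvable.pPrimeCore_coprime (G := G) 2).pow_right 3)
      (Subgroup.orderOf_dvd_natCard _ he') (orderOf_dvd_of_pow_eq_one h1))
    rw [e1, ho1, mul_one]
    exact hr'
  obtain ⟨g₁, hg₁⟩ := hπs g₀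
  have hmoveR : ∀ x ∈ R, x * x ≠ 1 → g₁ * x * g₁⁻¹ ≠ x ∧ g₁ * x * g₁⁻¹ ≠ x⁻¹ := by
    intro x hx hx2
    obtain ⟨h1, h2⟩ := hmove (π x) (hRQ ▸ Subgroup.mem_map_of_mem π hx) (fun h => by
      rw [← map_mul] at h; exact hx2 (hinjR _ (R.mul_mem hx hx) h))
    exact ⟨fun e => h1 (by rw [← hg₁, ← map_inv, ← map_mul, ← map_mul, e]),
      fun e => h2 (by rw [← hg₁, ← map_inv, ← map_mul, ← map_mul, e, map_inv])⟩
  have hRc : ∀ r ∈ R, r * r = 1 → ∀ y ∈ R, r * y = y * r := by
    intro r hr h y hy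
    obtain ⟨s, hs⟩ : ∃ s : R, (s : G) = r := ⟨⟨r, hr⟩, rfl⟩
    obtain ⟨t, ht⟩ : ∃ t : R, (t : G) = y := ⟨⟨y, hy⟩, rfl⟩
    have h0 := q8_central (eR s) (by
      rw [← map_mul, EmbeddingLike.map_eq_one_iff]; apply Subtype.ext; rw [Subgroup.coe_mul, hs]; exact h)
      (eR t)
    rw [← map_mul, ← map_mul] at h0
    rw [← hs, ← ht]
    exact congrArg Subtype.val (eR.injective h0)
  have hcent : ∀ c ∈ Subgroup.centralizer (R : Set G),
      ∃ r ∈ R, ∃ o ∈ Cfsg.pPrimeCore 2 G, r * r = 1 ∧ c = r * o := by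
    intro c hc
    rw [Subgroup.mem_centralizer_iff] at hc
    have hπc : π c ∈ Q := hCQ (Subgroup.mem_centralizer_iff.2 fun y hy => by
      obtain ⟨r, hr, rfl⟩ := hQR y hy
      rw [← map_mul, ← map_mul, hc r hr])
    obtain ⟨r, hr, hrc⟩ := hQR _ hπc
    rw [hπ, QuotientGroup.mk'_apply, QuotientGroup.mk'_apply, QuotientGroup.eq] at hrc
    obtain ⟨o, ho⟩ : ∃ o, o = r⁻¹ * c := ⟨_, rfl⟩
    rw [← ho] at hrc
    have e1 : c = r * o := by rw [ho, mul_inv_cancel_left]
    refine ⟨r, hr, o, hrc, ?_, e1⟩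
    have hcentral : ∀ y ∈ R, r * y = y * r := fun y hy => by
      have h := hc y hy
      rw [e1, mul_assoc r o y, hcom o hrc y hy, ← mul_assoc, ← mul_assoc] at h
      exact (mul_right_cancel h).symm
    obtain ⟨s, hs⟩ : ∃ s : R, (s : G) = r := ⟨⟨r, hr⟩, rfl⟩
    have h := q8_central_iff (eR s) fun w => by
      obtain ⟨t, rfl⟩ := eR.surjective w
      rw [← map_mul, ← map_mul]
      exact congrArg eR (Subtype.ext (by rw [Subgroup.coe_mul, Subgroup.coe_mul, hs]; exact hcentral t t.2))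
    rw [← map_mul, EmbeddingLike.map_eq_one_iff] at h
    rw [← hs]; exact congrArg Subtype.val h
  have hmemC : ∀ r ∈ R, r * r = 1 → ∀ o ∈ Cfsg.pPrimeCore 2 G,
      r * o ∈ Subgroup.centralizer (R : Set G) := fun r hr h o ho =>
    Subgroup.mem_centralizer_iff.2 fun y hy => by
      rw [mul_assoc, hcom o ho y hy, ← mul_assoc, ← mul_assoc, hRc r hr h y hy]
  refine ⟨R, hRn, ⟨eR⟩, hcom, hcent, ?_, ?_, ?_⟩
  · obtain ⟨z, hz⟩ : ∃ z : R, z = eR.symm (QuaternionGroup.a 2) := ⟨_, rfl⟩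
    have hzz : (z : G) * z = 1 := by
      have h : z * z = 1 := by rw [hz, ← map_mul, q8_pair.2.2.2.1, map_one]
      exact congrArg Subtype.val h
    have hz1 : (z : G) ≠ 1 := fun h => q8_pair.2.2.2.2 (by
      have h' : eR z = 1 := by rw [show z = 1 from Subtype.ext h, map_one]
      rwa [hz, eR.apply_symm_apply] at h')
    have htwo : ∀ r ∈ R, r * r = 1 → ∃ i : Fin 2, (z : G) ^ (i : ℕ) = r := by
      intro r hr h
      obtain ⟨s, hs⟩ : ∃ s : R, (s : G) = r := ⟨⟨r, hr⟩, rfl⟩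
      rcases q8_sq_one (eR s) (by
        rw [← map_mul, EmbeddingLike.map_eq_one_iff]
        apply Subtype.ext; rw [Subgroup.coe_mul, hs]; exact h) with h0 | h0
      · rw [EmbeddingLike.map_eq_one_iff] at h0
        exact ⟨0, by rw [← hs, h0]; simp⟩
      · exact ⟨1, by rw [← hs, ← eR.symm_apply_apply s, h0, ← hz]; simp⟩
    have hsq : ∀ i : ℕ, (z : G) ^ i * (z : G) ^ i = 1 := fun i => by
      rw [← (Commute.refl (z : G)).mul_pow, hzz, one_pow]
    let F : Fin 2 × (Cfsg.pPrimeCore 2 G) → Subgroup.centralizer (R : Set G) := fun io =>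
      ⟨(z : G) ^ (io.1 : ℕ) * io.2, hmemC _ (R.pow_mem z.2 _) (hsq _) _ io.2.2⟩
    have hF : Function.Bijective F := by
      constructor
      · rintro ⟨i, o⟩ ⟨i', o'⟩ h
        have h' : (z : G) ^ (i : ℕ) * o = (z : G) ^ (i' : ℕ) * o' := congrArg Subtype.val h
        obtain ⟨u, hu⟩ : ∃ u, u = ((z : G) ^ (i' : ℕ))⁻¹ * (z : G) ^ (i : ℕ) := ⟨_, rfl⟩
        have huR : u ∈ R := hu ▸ R.mul_mem (R.inv_mem (R.pow_mem z.2 _)) (R.pow_mem z.2 _)
        have huO : u ∈ Cfsg.pPrimeCore 2 G := by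
          have e : u = (o' : G) * (o : G)⁻¹ := by
            rw [hu, eq_mul_inv_iff_mul_eq, mul_assoc, h', inv_mul_cancel_left]
          rw [e]; exact Subgroup.mul_mem _ o'.2 (Subgroup.inv_mem _ o.2)
        have hu1 : u = 1 := orderOf_eq_one_iff.1 (Nat.eq_one_of_dvd_coprimes
          ((CfsgLib.Solvable.pPrimeCore_coprime (G := G) 2).pow_right 3)
          (Subgroup.orderOf_dvd_natCard _ huO) (orderOf_dvd_of_pow_eq_one (hR8 u huR)))
        have h1 : (z : G) ^ (i : ℕ) = (z : G) ^ (i' : ℕ) := (inv_mul_eq_one.1 (hu ▸ hu1)).symm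
        have h2 : (o : G) = o' := by rw [h1] at h'; exact mul_left_cancel h'
        refine Prod.ext ?_ (Subtype.ext h2)
        fin_cases i <;> fin_cases i'
        · rfl
        · exfalso; apply hz1; simpa using h1.symm
        · exfalso; apply hz1; simpa using h1
        · rfl
      · rintro ⟨c, hc⟩
        obtain ⟨r, hr, o, ho, h, rfl⟩ := hcent c hc
        obtain ⟨i, hi⟩ := htwo r hr h
        exact ⟨(i, ⟨o, ho⟩), Subtype.ext (by show _ * _ = _; rw [hi])⟩
    rw [← Nat.card_congr (Equiv.ofBijective F hF), Nat.card_prod, Nat.card_fin]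
  · obtain ⟨θ, hθ⟩ : ∃ θ : G →* Equiv.Perm (Fin 4),
        θ = (diagHom.comp (MulAut.congr eR).toMonoidHom).comp (MulAut.conjNormal (H := R)) := ⟨_, rfl⟩
    have hker : θ.ker = Subgroup.centralizer (R : Set G) := by
      ext x
      rw [MonoidHom.mem_ker, hθ]
      simp only [MonoidHom.comp_apply, MulEquiv.coe_toMonoidHom]
      rw [map_eq_one_iff _ diagHom_injective, EmbeddingLike.map_eq_one_iff]
      refine ⟨fun h => Subgroup.mem_centralizer_iff.2 fun y hy => ?_, fun h => ?_⟩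
      · have := congrArg (fun φ : MulAut R => ((φ ⟨y, hy⟩ : R) : G)) h
        simp only [MulAut.conjNormal_apply, MulAut.one_apply] at this
        exact (mul_inv_eq_iff_eq_mul.1 this).symm
      · refine MulEquiv.ext fun y => Subtype.ext ?_
        rw [MulAut.conjNormal_apply, MulAut.one_apply, ← Subgroup.mem_centralizer_iff.1 h _ y.2,
          mul_inv_cancel_right]
    have h4 : 4 ∣ Nat.card θ.range := by
      let mu₀ : R →* Equiv.Perm (Fin 4) := θ.comp R.subtype
      refine dvd_trans ?_ (Subgroup.card_dvd_of_le (show mu₀.range ≤ θ.range by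
        rintro _ ⟨x, rfl⟩; exact ⟨_, rfl⟩))
      have hk : Nat.card mu₀.ker ≤ 2 := by
        have h2 : Nat.card {x : Q8 // x * x = 1} = 2 := by
          rw [Nat.card_eq_fintype_card]; decide +kernel
        refine le_trans ?_ h2.le
        refine Nat.card_le_card_of_injective (fun x => ⟨eR (x : R), q8_central_iff _ fun y => ?_⟩)
          (fun x y e => Subtype.ext (eR.injective (congrArg Subtype.val e)))
        have hx : ((x : R) : G) ∈ θ.ker := x.2
        rw [hker, Subgroup.mem_centralizer_iff] at hx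
        obtain ⟨t, rfl⟩ := eR.surjective y
        rw [← map_mul, ← map_mul]
        exact congrArg eR (Subtype.ext (hx t t.2).symm)
      have h8 : Nat.card R = 8 := by
        rw [Nat.card_congr eR.toEquiv, Nat.card_eq_fintype_card, QuaternionGroup.card]
      have hm := mu₀.ker.index_mul_card
      rw [Subgroup.index_ker, h8] at hm
      have hpos : 0 < Nat.card mu₀.ker := Nat.card_pos
      interval_cases h : Nat.card mu₀.ker <;> omega
    have h3 : 3 ∣ Nat.card θ.range := by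
      have hne : θ g₁ ≠ 1 := fun e => by
        obtain ⟨s, hs⟩ : ∃ s : R, s = eR.symm (QuaternionGroup.a 1) := ⟨_, rfl⟩
        have hg : g₁ ∈ θ.ker := e
        rw [hker, Subgroup.mem_centralizer_iff] at hg
        refine (hmoveR _ s.2 (fun h => ?_)).1 (by rw [← hg _ s.2, mul_inv_cancel_right])
        have h' : eR (s * s) = 1 := by rw [EmbeddingLike.map_eq_one_iff]; exact Subtype.ext h
        rw [map_mul, hs, eR.apply_symm_apply] at h'
        exact absurd h' (by decide +kernel)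
      have hd : orderOf (θ g₁) ∣ Nat.card θ.range := Subgroup.orderOf_dvd_natCard _ ⟨g₁, rfl⟩
      have hpow : θ g₁ ^ orderOf g₀ = 1 := by
        have hO : g₁ ^ orderOf g₀ ∈ Cfsg.pPrimeCore 2 G := by
          rw [← QuotientGroup.eq_one_iff, ← QuotientGroup.mk'_apply, ← hπ, map_pow, hg₁,
            pow_orderOf_eq_one]
        have hc : g₁ ^ orderOf g₀ ∈ θ.ker := by
          rw [hker, Subgroup.mem_centralizer_iff]; exact fun y hy => (hcom _ hO y hy).symm
        rw [MonoidHom.mem_ker, map_pow] at hc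
        exact hc
      have hd24 : orderOf (θ g₁) ∣ 2 ^ 3 * 3 := by
        refine (orderOf_dvd_natCard (θ g₁)).trans (dvd_of_eq ?_)
        rw [Nat.card_eq_fintype_card, Fintype.card_perm, Fintype.card_fin]; rfl
      have hodd : (orderOf (θ g₁)).Coprime (2 ^ 3) :=
        (Nat.coprime_two_right.2 (hg₀.of_dvd_nat (orderOf_dvd_of_pow_eq_one hpow))).pow_right 3
      rcases (Nat.dvd_prime Nat.prime_three).1 (hodd.dvd_of_dvd_mul_left hd24) with h | h
      · exact absurd (orderOf_eq_one_iff.1 h) hne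
      · rwa [h] at hd
    have h12 : 12 ∣ Nat.card θ.range := Nat.Coprime.mul_dvd_of_dvd_of_dvd (by norm_num) h4 h3
    have h24 : Nat.card θ.range ∣ 24 := by
      refine (Subgroup.card_subgroup_dvd_card _).trans (dvd_of_eq ?_)
      rw [Nat.card_eq_fintype_card, Fintype.card_perm, Fintype.card_fin]; rfl
    rw [← hker, Subgroup.index_ker]
    obtain ⟨t, ht⟩ := h12
    have htd : t ∣ 2 := Nat.dvd_of_mul_dvd_mul_left (by norm_num : 0 < 12) (ht ▸ h24 : 12 * t ∣ 12 * 2)
    rcases (Nat.dvd_prime Nat.prime_two).1 htd with rfl | rfl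
    · exact Or.inl (by rw [ht])
    · refine Or.inr ⟨by rw [ht], (Equiv.Perm.sign.comp θ).ker, MonoidHom.normal_ker _, ?_⟩
      have htop : θ.range = ⊤ := Subgroup.eq_top_of_card_eq _ (by
        rw [ht, Nat.card_eq_fintype_card, Fintype.card_perm, Fintype.card_fin]; rfl)
      have hsurj : Function.Surjective (Equiv.Perm.sign.comp θ) := fun u => by
        obtain ⟨σ, rfl⟩ := Equiv.Perm.sign_surjective (Fin 4) u
        obtain ⟨g, rfl⟩ := MonoidHom.range_eq_top.1 htop σ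
        exact ⟨g, rfl⟩
      rw [Subgroup.index_ker, MonoidHom.range_eq_top.2 hsurj, Subgroup.card_top,
        Nat.card_eq_fintype_card, Fintype.card_units_int]
  · intro N hN
    refine or_iff_not_imp_left.2 fun hnot n hn => ?_
    have hcap : ∀ x ∈ R, x ∈ N → x * x = 1 := fun x hx hxN => by
      by_contra h
      exact hnot (q8_le_of_normal eR hN (fun y hy => hRn.conj_mem y hy g₁) hmoveR hx hxN h)
    have hkey : ∀ s : R, eR (MulAut.conjNormal (H := R) n s) * (eR s)⁻¹ *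
        (eR (MulAut.conjNormal (H := R) n s) * (eR s)⁻¹) = 1 := by
      intro s
      rw [← map_inv, ← map_mul, ← map_mul, EmbeddingLike.map_eq_one_iff]
      apply Subtype.ext
      simp only [Subgroup.coe_mul, Subgroup.coe_inv, MulAut.conjNormal_apply, OneMemClass.coe_one]
      refine hcap _ (R.mul_mem (hRn.conj_mem _ s.2 n) (R.inv_mem s.2)) ?_
      rw [mul_assoc n, mul_assoc n]
      exact N.mul_mem hn (hN.conj_mem _ (N.inv_mem hn) (s : G))
    have k1 := hkey (eR.symm (QuaternionGroup.a 1))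
    have k2 := hkey (eR.symm (QuaternionGroup.xa 0))
    rw [eR.apply_symm_apply] at k1 k2
    obtain ⟨r, hr1, hr2⟩ := q8_inner _ _ k1 k2
    obtain ⟨r₀, hr₀⟩ : ∃ r₀ : R, r₀ = eR.symm r := ⟨_, rfl⟩
    have hcC : (r₀ : G)⁻¹ * n ∈ Subgroup.centralizer (R : Set G) := by
      have hgen : ∀ s : R, (eR (MulAut.conjNormal (H := R) n s) = r * eR s * r⁻¹) →
          (s : G) * ((r₀ : G)⁻¹ * n) = (r₀ : G)⁻¹ * n * s := by
        intro s hs
        have h : MulAut.conjNormal (H := R) n s = r₀ * s * r₀⁻¹ := by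
          apply eR.injective
          rw [hs, map_mul, map_mul, map_inv, hr₀, eR.apply_symm_apply]
        have h' := congrArg Subtype.val h
        rw [MulAut.conjNormal_apply, Subgroup.coe_mul, Subgroup.coe_mul, Subgroup.coe_inv] at h'
        have e := mul_inv_eq_iff_eq_mul.1 h'
        rw [mul_assoc (r₀ : G)⁻¹ n, e]
        simp [mul_assoc]
      rw [Subgroup.mem_centralizer_iff]
      intro y hy
      obtain ⟨s, rfl⟩ : ∃ s : R, (s : G) = y := ⟨⟨y, hy⟩, rfl⟩
      apply hgen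
      have hψ : ∀ w : Q8, eR (MulAut.conjNormal (H := R) n (eR.symm w)) = r * w * r⁻¹ := by
        intro w
        obtain ⟨i, rfl | rfl⟩ := q8_generated w
        · rw [map_pow, map_pow, map_pow, ← hr1, conj_pow]
        · rw [map_mul, map_mul, map_mul, map_pow, map_pow, map_pow, ← hr1, ← hr2, conj_pow]
          simp only [mul_assoc, inv_mul_cancel_left]
      have := hψ (eR s)
      rwa [eR.symm_apply_apply] at this
    obtain ⟨r1, hr1', o, ho, hsq1, he⟩ := hcent _ hcC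
    have hn' : n = (r₀ : G) * r1 * o := by rw [mul_assoc, ← he, mul_inv_cancel_left]
    obtain ⟨r', hr'⟩ : ∃ r', r' = (r₀ : G) * r1 := ⟨_, rfl⟩
    rw [← hr'] at hn'
    have hr'R : r' ∈ R := hr' ▸ R.mul_mem r₀.2 hr1'
    obtain ⟨m, hm⟩ : ∃ m, m = Nat.card (Cfsg.pPrimeCore 2 G) := ⟨_, rfl⟩
    have hom : o ^ m = 1 := orderOf_dvd_iff_pow_eq_one.1 (hm ▸ Subgroup.orderOf_dvd_natCard _ ho)
    have hrm : r' ^ m ∈ N := by
      have h := N.pow_mem hn m
      rwa [hn', (show Commute r' o from (hcom o ho r' hr'R).symm).mul_pow, hom, mul_one] at h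
    have h2m : r' ^ (m * 2) = 1 := by
      rw [pow_mul, pow_two]; exact hcap _ (R.pow_mem hr'R m) hrm
    have hsq' : r' * r' = 1 := by
      rw [← pow_two]
      have hg : Nat.gcd (m * 2) (2 ^ 3) = 2 := by
        rw [show (2 : ℕ) ^ 3 = 4 * 2 by norm_num, Nat.gcd_mul_right,
          show Nat.gcd m 4 = 1 from (hm ▸ CfsgLib.Solvable.pPrimeCore_coprime (G := G) 2).pow_right 2,
          one_mul]
      rw [← hg]
      exact pow_gcd_eq_one.2 ⟨h2m, hR8 r' hr'R⟩
    rw [hn']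
    exact hmemC r' hr'R hsq' o ho

end CfsgLib.Perm.Ico
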