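import Cfsg.Agent.Lib.Perm.IcoPair

/-!
The quaternion algebra spanned by two elements of order three, and a third one.
-/

set_option autoImplicit false

namespace CfsgLib.Perm.Ico

variable {G : Type*} [Group G] {V : Type*} [AddCommGroup V] [Module ℂ V]
  {f : G →* Module.End ℂ V}

/-- The commutator of two trace-zero parts. -/
noncomputable def comm (f : G →* Module.End ℂ V) (a u : G) : Module.End ℂ V :=
  ctr f a * ctr f u - ctr f u * ctr f a

section Algebra

variable {R : Type*} [Ring R] [Algebra ℂ R] {A U X : R} {p q r α β : ℂ}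

theorem mul_comm_sub (hA : A * A = (-3 / 4 : ℂ) • 1) (U : R) :
    A * (A * U - U * A) + (A * U - U * A) * A = 0 := by
  simp only [mul_sub, sub_mul]
  rw [← mul_assoc A A U, hA, mul_assoc U A A, hA, ← mul_assoc A U A]
  simp only [smul_mul_assoc, mul_smul_comm, one_mul, mul_one]
  abel

theorem swap_eq (hp : A * U + U * A = p • 1) : U * A = p • 1 - A * U := by
  rw [← hp]; abel

theorem comm_sq (hA : A * A = (-3 / 4 : ℂ) • 1) (hU : U * U = (-3 / 4 : ℂ) • 1)
    (hp : A * U + U * A = p • 1) :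
    (A * U - U * A) * (A * U - U * A) = (p * p - 9 / 4) • 1 := by
  have e1 : A * U * (U * A) = (9 / 16 : ℂ) • 1 := by
    rw [mul_assoc, ← mul_assoc U U A, hU]
    simp only [smul_mul_assoc, one_mul, mul_smul_comm, hA, smul_smul]
    norm_num
  have e2 : U * A * (A * U) = (9 / 16 : ℂ) • 1 := by
    rw [mul_assoc, ← mul_assoc A A U, hA]
    simp only [smul_mul_assoc, one_mul, mul_smul_comm, hU, smul_smul]
    norm_num
  have e3 : (A * U + U * A) * (A * U + U * A) = (p * p) • 1 := by
    rw [hp, smul_mul_smul_comm, one_mul]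
  simp only [mul_add, add_mul, e1, e2] at e3
  simp only [mul_sub, sub_mul, e1, e2]
  rw [sub_smul, ← e3]
  module

theorem comm_anti_right (hU : U * U = (-3 / 4 : ℂ) • 1) (A : R) :
    U * (A * U - U * A) + (A * U - U * A) * U = 0 := by
  have h := mul_comm_sub hU A
  rw [← neg_sub, mul_neg, neg_mul, ← neg_add] at h
  exact neg_eq_zero.1 h

theorem residual_props (hA : A * A = (-3 / 4 : ℂ) • 1) (hp : A * U + U * A = p • 1)
    (hq : A * X + X * A = q • 1) (h1 : -3 / 2 * α + p * β = q) :
    A * (X - α • A - β • U) + (X - α • A - β • U) * A = 0 := by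
  simp only [mul_sub, sub_mul, smul_mul_assoc, mul_smul_comm, hA]
  have : A * X + X * A - (2 * α * (-3 / 4)) • (1 : R) - β • (A * U + U * A) = 0 := by
    rw [hq, hp, smul_smul, ← sub_smul, ← sub_smul, show q - 2 * α * (-3 / 4) - β * p = 0 by
      linear_combination -h1, zero_smul]
  rw [← this]
  module

end Algebra

/-- Third element as a combination of two given ones. -/
theorem exists_coeff [FiniteDimensional ℂ V] [Nontrivial V] (hf : Fpf f) (hirr : Irr f)
    {S : Set G} (hgen : Subgroup.closure S = ⊤) {a u x : G} (ha : orderOf a = 3) (hu : orderOf u = 3)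
    (hx : orderOf x = 3) {p q r α β : ℂ} (hp : anti f a u = p • 1) (hq : anti f a x = q • 1)
    (hr : anti f u x = r • 1) (hp0 : p * p ≠ 9 / 4) (h1 : -3 / 2 * α + p * β = q)
    (h2 : p * α - 3 / 2 * β = r)
    (hS : ∀ T : Module.End ℂ V, Commute T (f a) → Commute T (f u) → Commute T (f x) →
      ∀ g ∈ S, Commute T (f g)) :
    ∃ γ : ℂ, ctr f x = α • ctr f a + β • ctr f u + γ • comm f a u ∧
      γ * γ * (p * p - 9 / 4) = -3 / 4 + 3 / 4 * (α * α + β * β) - α * β * p := by
  obtain ⟨A, hAd⟩ : ∃ A, A = ctr f a := ⟨_, rfl⟩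
  obtain ⟨U, hUd⟩ : ∃ U, U = ctr f u := ⟨_, rfl⟩
  obtain ⟨X, hXd⟩ : ∃ X, X = ctr f x := ⟨_, rfl⟩
  have hA := ctr_sq hf ha
  have hU := ctr_sq hf hu
  have hX := ctr_sq hf hx
  rw [comm, ← hXd, ← hAd, ← hUd]
  rw [← hAd] at hA
  rw [← hUd] at hU
  rw [← hXd] at hX
  simp only [anti, ← hAd, ← hUd, ← hXd] at hp hq hr
  obtain ⟨D, hD⟩ : ∃ D, D = A * U - U * A := ⟨_, rfl⟩
  obtain ⟨R, hR⟩ : ∃ R, R = X - α • A - β • U := ⟨_, rfl⟩
  rw [← hD]
  have eAD : A * D + D * A = 0 := hD ▸ mul_comm_sub hA U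
  have eUD : U * D + D * U = 0 := hD ▸ comm_anti_right hU A
  have eAR : A * R + R * A = 0 := hR ▸ residual_props hA hp hq h1
  have eUR : U * R + R * U = 0 := by
    have := residual_props (A := U) (U := A) (X := X) (α := β) (β := α) hU
      (by rw [add_comm]; exact hp) hr (by linear_combination h2)
    rwa [show X - β • U - α • A = R by rw [hR]; abel] at this
  have cRD : Commute R D := by
    have cA : R * A = -(A * R) := eq_neg_of_add_eq_zero_right eAR
    have cU : R * U = -(U * R) := eq_neg_of_add_eq_zero_right eUR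
    show R * D = D * R
    rw [hD, mul_sub, sub_mul, ← mul_assoc, ← mul_assoc, cA, cU]
    simp only [neg_mul, mul_assoc, cA, cU, mul_neg, neg_neg]
  have cP : ∀ Y, Y * D + D * Y = 0 → Y * R + R * Y = 0 → Commute (R * D) Y := by
    intro Y h h'
    show R * D * Y = Y * (R * D)
    rw [mul_assoc, eq_neg_of_add_eq_zero_right h, mul_neg, ← mul_assoc,
      eq_neg_of_add_eq_zero_right h', neg_mul, neg_neg, mul_assoc]
  have cPA := cP A eAD eAR
  have cPU := cP U eUD eUR
  have cPR : Commute (R * D) R := (Commute.refl R).mul_left cRD.symm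
  have cPX : Commute (R * D) X := by
    rw [show X = R + α • A + β • U by rw [hR]; abel]
    exact (cPR.add_right (cPA.smul_right α)).add_right (cPU.smul_right β)
  have toMap : ∀ (g : G) (Y : Module.End ℂ V), Y = ctr f g → Commute (R * D) Y →
      Commute (R * D) (f g) := by
    intro g Y hY h
    rw [map_eq_ctr_sub (f := f) g, ← hY]
    exact h.sub_right ((Commute.one_right _).smul_right _)
  obtain ⟨c, hc⟩ := scalar_of_commute hirr (commute_of_closure hgen
    (hS _ (toMap a A hAd cPA) (toMap u U hUd cPU) (toMap x X hXd cPX)))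
  have hDD : D * D = (p * p - 9 / 4) • 1 := hD ▸ comm_sq hA hU hp
  have hδ : p * p - 9 / 4 ≠ 0 := sub_ne_zero.2 hp0
  have hRe : R = (c / (p * p - 9 / 4)) • D := by
    have h := congrArg (fun T => T * D) hc
    simp only [mul_assoc, hDD, mul_smul_comm, mul_one, smul_mul_assoc, one_mul] at h
    rw [div_eq_mul_inv, mul_comm, ← smul_smul, ← h, smul_smul, inv_mul_cancel₀ hδ, one_smul]
  refine ⟨c / (p * p - 9 / 4), ?_, ?_⟩
  · rw [← hRe, hR]; abel
  · obtain ⟨γ, hγ⟩ : ∃ γ, γ = c / (p * p - 9 / 4) := ⟨_, rfl⟩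
    rw [← hγ] at hRe ⊢
    rw [show X = α • A + β • U + γ • D by rw [← hRe, hR]; abel] at hX
    simp only [mul_add, add_mul, smul_mul_smul_comm, hA, hU, hDD] at hX
    have hs : (α * α * (-3 / 4) + α * β * p + β * β * (-3 / 4) + γ * γ * (p * p - 9 / 4)) •
        (1 : Module.End ℂ V) = (-3 / 4 : ℂ) • 1 := by
      rw [← hX]
      have t1 : (α * β) • (A * U) + (β * α) • (U * A) = (α * β * p) • 1 := by
        rw [mul_comm β α, ← smul_add, hp, smul_smul]
      have t2 : (α * γ) • (A * D) + (γ * α) • (D * A) = 0 := by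
        rw [mul_comm γ α, ← smul_add, eAD, smul_zero]
      have t3 : (β * γ) • (U * D) + (γ * β) • (D * U) = 0 := by
        rw [mul_comm γ β, ← smul_add, eUD, smul_zero]
      calc _ = (α * α * (-3 / 4)) • (1 : Module.End ℂ V) + (α * β * p) • 1 +
            (β * β * (-3 / 4)) • 1 + (γ * γ * (p * p - 9 / 4)) • 1 +
            ((α * γ) • (A * D) + (γ * α) • (D * A)) + ((β * γ) • (U * D) + (γ * β) • (D * U)) := by
              rw [t2, t3]; module
        _ = _ := by rw [← t1]; module
    linear_combination smul_one_inj hs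

/-- Rotation of coefficients by conjugation. -/
theorem coeff_conj (hf : Fpf f) {a u x : G} (ha : orderOf a = 3)
    (hp : anti f a u = (-1 / 2 : ℂ) • 1) {α β γ : ℂ}
    (hx : ctr f x = α • ctr f a + β • ctr f u + γ • comm f a u) :
    ctr f (a * x * a⁻¹) = (α + β / 2 - γ / 2) • ctr f a + (-β / 2 + 3 * γ / 2) • ctr f u
      + (-β / 2 - γ / 2) • comm f a u := by
  rw [ctr_conj, map_inv_three hf ha, map_eq_ctr_sub (f := f) a, hx, comm]
  have hA := ctr_sq hf ha
  rw [anti] at hp
  have hUA := swap_eq hp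
  generalize ctr f a = A at hA hUA ⊢
  generalize ctr f u = U at hUA ⊢
  rw [hUA]
  have hA' : ∀ Y : Module.End ℂ V, A * (A * Y) = (-3 / 4 : ℂ) • Y := fun Y => by
    rw [← mul_assoc, hA, smul_mul_assoc, one_mul]
  have hAUA : A * (U * A) = (-1 / 2 : ℂ) • A + (3 / 4 : ℂ) • U := by
    rw [hUA, mul_sub, mul_smul_comm, mul_one, hA']
    module
  simp only [mul_add, add_mul, mul_sub, sub_mul, smul_mul_assoc, mul_smul_comm, mul_neg, neg_mul,
    one_mul, mul_one, mul_assoc, hA, hA', hUA, hAUA]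
  module

theorem anti_of_coeff (hf : Fpf f) {a u x : G} (hu : orderOf u = 3) {p α β γ : ℂ}
    (hp : anti f a u = p • 1)
    (hx : ctr f x = α • ctr f a + β • ctr f u + γ • comm f a u) :
    anti f u x = (p * α - 3 / 2 * β) • 1 := by
  have hU := ctr_sq hf hu
  have h3 := comm_anti_right hU (ctr f a)
  rw [anti, hx, comm]
  rw [anti] at hp
  calc _ = α • (ctr f a * ctr f u + ctr f u * ctr f a) + (2 * β) • (ctr f u * ctr f u)
        + γ • (ctr f u * (ctr f a * ctr f u - ctr f u * ctr f a) +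
          (ctr f a * ctr f u - ctr f u * ctr f a) * ctr f u) := by
        simp only [mul_add, add_mul, smul_mul_assoc, mul_smul_comm]
        module
    _ = _ := by rw [hp, hU, h3]; module

end CfsgLib.Perm.Ico
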