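import Cfsg.Agent.Lib.Perm.IcoNonsolvable
import Cfsg.Agent.Lib.Solvable.PCore
import Cfsg.Agent.Lib.Solvable.HallHigman
import Cfsg.Agent.Lib.Transfer.Frobenius
import Cfsg.Agent.Lib.Classical.ExcIsoPermOdd
import Cfsg.Agent.S2119

/-!
Quotients of fixed-point-free linear groups by their largest normal `Z`-subgroups.
-/

set_option autoImplicit false
set_option linter.unusedSectionVars false

namespace CfsgLib.Perm.Ico

open CfsgLib.Recog

section General

variable {L : Type*} [Group L] [Finite L]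

theorem invol_eq_of_zgroup [IsZGroup L] {x y : L} (hx : orderOf x = 2) (hy : orderOf y = 2)
    (hc : Commute x y) : x = y := by
  obtain ⟨A, hA⟩ : ∃ A : Subgroup L, A = Subgroup.closure ({x, y} : Set L) := ⟨_, rfl⟩
  have : IsMulCommutative A := by
    rw [hA]
    refine Subgroup.isMulCommutative_closure fun a ha b hb => ?_
    rcases ha with rfl | rfl <;> rcases hb with rfl | rfl
    exacts [rfl, hc.eq, hc.eq.symm, rfl]
  letI : CommGroup A := { (inferInstance : Group A) with mul_comm := this.is_comm.comm }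
  have : IsCyclic A := inferInstance
  have hxA : x ∈ A := hA ▸ Subgroup.subset_closure (by simp)
  have hyA : y ∈ A := hA ▸ Subgroup.subset_closure (by simp)
  have e := cyclic_zpowers_eq (A := A) (x := ⟨x, hxA⟩) (c := ⟨y, hyA⟩)
    (by rw [Subgroup.orderOf_mk, Subgroup.orderOf_mk, hx, hy])
  have hm : (⟨x, hxA⟩ : A) ∈ Subgroup.zpowers (⟨y, hyA⟩ : A) := e ▸ Subgroup.mem_zpowers _
  obtain ⟨k, hk⟩ := hm
  have hk' : y ^ k = x := congrArg Subtype.val hk
  rw [← zpow_mod_orderOf, hy] at hk'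
  rcases (show k % ((2 : ℕ) : ℤ) = 0 ∨ k % ((2 : ℕ) : ℤ) = 1 by omega) with h | h <;> rw [h] at hk'
  · rw [zpow_zero] at hk'
    rw [← hk', orderOf_one] at hx
    omega
  · rw [zpow_one] at hk'
    exact hk'.symm

/-- No nontrivial normal subgroup is a `Z`-group. -/
def NoZNormal (L : Type*) [Group L] : Prop := ∀ M : Subgroup L, M.Normal → IsZGroup M → M = ⊥

theorem noZNormal_of_pairs (h : ∀ σ : L, σ ≠ 1 → ∃ τ ρ : L,
    let x := σ * τ * σ⁻¹ * τ⁻¹
    let y := ρ * x * ρ⁻¹
    x * x = 1 ∧ x ≠ 1 ∧ x * y = y * x ∧ x ≠ y) : NoZNormal L := by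
  intro M hM hZ
  rw [Subgroup.eq_bot_iff_forall]
  intro σ hσ
  by_contra h1
  obtain ⟨τ, ρ, hx2, hx1, hc, hne⟩ := h σ h1
  have hx : σ * τ * σ⁻¹ * τ⁻¹ ∈ M := by
    rw [mul_assoc σ, mul_assoc σ]
    exact M.mul_mem hσ (hM.conj_mem _ (M.inv_mem hσ) τ)
  have hy := hM.conj_mem _ hx ρ
  have : Fact (Nat.Prime 2) := ⟨Nat.prime_two⟩
  have hox : orderOf (⟨_, hx⟩ : M) = 2 := by
    rw [Subgroup.orderOf_mk]; exact orderOf_eq_prime (by rw [pow_two]; exact hx2) hx1
  have hoy : orderOf (⟨_, hy⟩ : M) = 2 := by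
    rw [Subgroup.orderOf_mk]
    exact (MulEquiv.orderOf_eq (MulAut.conj ρ) _).trans (orderOf_eq_prime (by rw [pow_two]; exact hx2) hx1)
  exact hne (congrArg Subtype.val (invol_eq_of_zgroup (L := M) hox hoy (Subtype.ext hc)))

theorem not_zgroup_of_noZNormal [Nontrivial L] (h : NoZNormal L) : ¬ IsZGroup L := by
  intro hZ
  have := h ⊤ inferInstance inferInstance
  exact top_ne_bot this

end General

theorem noZNormal_altFour : NoZNormal (alternatingGroup (Fin 4)) :=
  noZNormal_of_pairs (by decide +kernel)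

theorem noZNormal_permFour : NoZNormal (Equiv.Perm (Fin 4)) :=
  noZNormal_of_pairs (by decide +kernel)

theorem noZNormal_altFive : NoZNormal (alternatingGroup (Fin 5)) := by
  intro M hM hZ
  haveI := alternatingGroup.isSimpleGroup (α := Fin 5) (by simp)
  rcases hM.eq_bot_or_eq_top with h | h
  · exact h
  · exfalso
    subst h
    have : IsZGroup (alternatingGroup (Fin 5)) := IsZGroup.of_surjective
      (f := (Subgroup.topEquiv : (⊤ : Subgroup (alternatingGroup (Fin 5))) ≃* _).toMonoidHom)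
      Subgroup.topEquiv.surjective
    have hx : ∃ x y : alternatingGroup (Fin 5), x * x = 1 ∧ x ≠ 1 ∧ y * y = 1 ∧ y ≠ 1 ∧ x * y = y * x ∧
        x ≠ y := ⟨⟨Equiv.swap 0 1 * Equiv.swap 2 3, Equiv.Perm.mem_alternatingGroup.mpr (by decide)⟩,
      ⟨Equiv.swap 0 2 * Equiv.swap 1 3, Equiv.Perm.mem_alternatingGroup.mpr (by decide)⟩,
      by decide +kernel⟩
    obtain ⟨x, y, h1, h2, h3, h4, h5, h6⟩ := hx
    have : Fact (Nat.Prime 2) := ⟨Nat.prime_two⟩
    exact h6 (invol_eq_of_zgroup (orderOf_eq_prime (by rw [pow_two]; exact h1) h2)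
      (orderOf_eq_prime (by rw [pow_two]; exact h3) h4) h5)

theorem noZNormal_permFive : NoZNormal (Equiv.Perm (Fin 5)) := by
  intro M hM hZ
  have hn : (M.subgroupOf (alternatingGroup (Fin 5))).Normal := inferInstance
  have hz : IsZGroup (M.subgroupOf (alternatingGroup (Fin 5))) := by
    let g : M.subgroupOf (alternatingGroup (Fin 5)) →* M :=
      { toFun := fun x => ⟨((x : alternatingGroup (Fin 5)) : Equiv.Perm (Fin 5)), x.2⟩
        map_one' := rfl
        map_mul' := fun _ _ => rfl }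
    refine IsZGroup.of_injective (f := g) fun a b e => ?_
    have e' : ((a : alternatingGroup (Fin 5)) : Equiv.Perm (Fin 5)) = (b : alternatingGroup (Fin 5)) :=
      congrArg (fun x : M => (x : Equiv.Perm (Fin 5))) e
    exact Subtype.ext (Subtype.ext e')
  have h0 := noZNormal_altFive _ hn hz
  rw [Subgroup.eq_bot_iff_forall]
  intro σ hσ
  have key : ∀ τ ∈ alternatingGroup (Fin 5), σ * τ = τ * σ := by
    intro τ hτ
    have hm : σ * τ * σ⁻¹ * τ⁻¹ ∈ M := by
      rw [mul_assoc σ, mul_assoc σ]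
      exact M.mul_mem hσ (hM.conj_mem _ (M.inv_mem hσ) τ)
    have ha : σ * τ * σ⁻¹ * τ⁻¹ ∈ alternatingGroup (Fin 5) :=
      Subgroup.mul_mem _ ((Subgroup.Normal.conj_mem inferInstance τ hτ σ)) (Subgroup.inv_mem _ hτ)
    have : (⟨_, ha⟩ : alternatingGroup (Fin 5)) ∈ M.subgroupOf (alternatingGroup (Fin 5)) := hm
    rw [h0, Subgroup.mem_bot] at this
    exact mul_inv_eq_iff_eq_mul.1 (mul_inv_eq_one.1 (congrArg Subtype.val this))
  have hbound : ∀ σ : Equiv.Perm (Fin 5),
      σ * (Equiv.swap 0 1 * Equiv.swap 1 2) = (Equiv.swap 0 1 * Equiv.swap 1 2) * σ →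
      σ * (Equiv.swap 2 3 * Equiv.swap 3 4) = (Equiv.swap 2 3 * Equiv.swap 3 4) * σ → σ = 1 := by
    decide +kernel
  exact hbound σ (key _ (Equiv.Perm.mem_alternatingGroup.mpr (by decide)))
    (key _ (Equiv.Perm.mem_alternatingGroup.mpr (by decide)))

section Group

variable {G : Type*} [Group G] [Finite G]

theorem le_ker_of_noZNormal {L : Type*} [Group L] [Finite L] (f : G →* L)
    (hf : Function.Surjective f) (hL : NoZNormal L) {M : Subgroup G} (hMn : M.Normal)
    (hM : IsZGroup M) : M ≤ f.ker := by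
  have hz : IsZGroup (M.map f) := IsZGroup.of_surjective (f := f.subgroupMap M)
    (f.subgroupMap_surjective M)
  exact (Subgroup.map_eq_bot_iff _).1 (hL _ (hMn.map f hf) hz)

/-- The largest normal `Z`-subgroup is unique for these quotients. -/
theorem kernel_unique {L L' : Type*} [Group L] [Finite L] [Group L'] [Finite L']
    {N N' : Subgroup G} (hN : IsZGroup N) (hN' : IsZGroup N') (f : G →* L) (f' : G →* L')
    (hf : Function.Surjective f) (hf' : Function.Surjective f') (hk : f.ker = N) (hk' : f'.ker = N')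
    (hL : NoZNormal L) (hL' : NoZNormal L') : N = N' := by
  refine le_antisymm ?_ ?_
  · have := le_ker_of_noZNormal f' hf' hL' (hk ▸ f.normal_ker : N.Normal) hN
    rwa [hk'] at this
  · have := le_ker_of_noZNormal f hf hL (hk' ▸ f'.normal_ker : N'.Normal) hN'
    rwa [hk] at this

variable (G) in
/-- The quotient by the odd core is a `2`-group. -/
def TwoNilp : Prop := ∃ k, (Cfsg.pPrimeCore 2 G).index = 2 ^ k

theorem twoNilp_of_big {L : Type*} [Group L] [Finite L] (f : G →* L) (hf : Function.Surjective f)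
    (hL : NoZNormal L) (h3 : 3 ∣ Nat.card L) (hodd : IsZGroup (Cfsg.pPrimeCore 2 G)) :
    ¬ TwoNilp G := by
  rintro ⟨k, hk⟩
  have := CfsgLib.Solvable.pPrimeCore_normal 2 G
  have hz : IsZGroup ((Cfsg.pPrimeCore 2 G).map f) := IsZGroup.of_surjective
    (f := f.subgroupMap (Cfsg.pPrimeCore 2 G)) (f.subgroupMap_surjective _)
  have hle := (Subgroup.map_eq_bot_iff _).1 (hL _ (Subgroup.Normal.map inferInstance f hf) hz)
  have hd := Subgroup.index_dvd_of_le hle
  rw [Subgroup.index_ker, MonoidHom.range_eq_top.2 hf, Subgroup.card_top, hk] at hd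
  have h := (Nat.prime_dvd_prime_iff_eq Nat.prime_three Nat.prime_two).1
    (Nat.prime_three.dvd_of_dvd_pow (h3.trans hd))
  omega

theorem twoNilp_of_zgroup_index {N : Subgroup G} [N.Normal] [IsZGroup N] {j : ℕ}
    (hN : N.index = 2 ^ j) : TwoNilp G := by
  have : Fact (Nat.Prime 2) := ⟨Nat.prime_two⟩
  obtain ⟨P⟩ : Nonempty (Sylow 2 N) := inferInstance
  have hP : IsCyclic P := IsZGroup.isZGroup 2 Nat.prime_two P
  obtain ⟨K, hKn, hKc⟩ : ∃ K : Subgroup N, K.Normal ∧ K.IsComplement' (P : Subgroup N) := by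
    by_cases h2 : 2 ∣ Nat.card N
    · have hle : Subgroup.normalizer ((P : Subgroup N) : Set N) ≤
          Subgroup.centralizer ((P : Subgroup N) : Set N) := IsCyclic.normalizer_le_centralizer ((Nat.minFac_eq_two_iff _).2 h2) hP
      exact ⟨_, MonoidHom.normal_ker _, MonoidHom.ker_transferSylow_isComplement' P hle⟩
    · refine ⟨⊤, inferInstance, Subgroup.isComplement'_top_left.2 ?_⟩
      obtain ⟨i, hi⟩ := P.2.exists_card_eq
      rcases Nat.eq_zero_or_pos i with rfl | hi0
      · exact Subgroup.card_eq_one.1 (by rw [hi, pow_zero])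
      · exact absurd ((dvd_pow_self 2 hi0.ne').trans (hi ▸ Subgroup.card_subgroup_dvd_card _)) h2
  have hKcop : (Nat.card K).Coprime 2 := by
    rw [← hKc.index_eq_card, Nat.coprime_two_right]
    exact Nat.not_even_iff_odd.1 (fun h => P.not_dvd_index (even_iff_two_dvd.1 h))
  have hKO : K.map N.subtype ≤ Cfsg.pPrimeCore 2 G :=
    (Subgroup.map_mono (CfsgLib.Solvable.le_pPrimeCore hKn hKcop)).trans
      (CfsgLib.Solvable.map_pPrimeCore_le 2 N)
  have hd := Subgroup.index_dvd_of_le hKO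
  obtain ⟨i, hi⟩ := P.2.exists_card_eq
  have hidx : (K.map N.subtype).index = 2 ^ (i + j) := by
    rw [Subgroup.index_map_subtype, hKc.symm.index_eq_card, hi, hN, pow_add]
  rw [hidx] at hd
  obtain ⟨k, -, hk⟩ := (Nat.dvd_prime_pow Nat.prime_two).1 hd
  exact ⟨k, hk⟩

end Group

section Fpf

variable {G : Type*} [Group G] [Finite G] {V : Type*} [AddCommGroup V] [Module ℂ V]
  [FiniteDimensional ℂ V] [Nontrivial V] {f : G →* Module.End ℂ V}

theorem isZGroup_of_odd (hf : Fpf f) {H : Subgroup G} (h : (Nat.card H).Coprime 2) : IsZGroup H := by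
  refine ⟨fun p hp P => ?_⟩
  have := Fact.mk hp
  have hfH : Fpf (f.comp H.subtype) := fun g hg v hv => hf g (fun h => hg (Subtype.ext h)) v hv
  rcases sylow_cases hfH P with hc | ⟨rfl, n, ⟨e⟩⟩
  · exact hc
  · exfalso
    have h2 : 2 ∣ Nat.card H := by
      refine dvd_trans ?_ (Subgroup.card_subgroup_dvd_card (P : Subgroup H))
      rw [Nat.card_congr e.toEquiv, Nat.card_eq_fintype_card, QuaternionGroup.card]
      exact dvd_mul_of_dvd_left (by norm_num) _
    rw [Nat.coprime_two_right] at h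
    exact (Nat.not_even_iff_odd.2 h) (even_iff_two_dvd.2 h2)

theorem exists_quaternion (hf : Fpf f) (hZ : ¬ IsZGroup G) :
    ∃ (T : Sylow 2 G) (n : ℕ), 1 ≤ n ∧ Nonempty (T ≃* QuaternionGroup (2 ^ n)) := by
  by_contra hnot
  refine hZ ⟨fun p hp P => ?_⟩
  have := Fact.mk hp
  rcases sylow_cases hf P with hc | ⟨rfl, n, ⟨e⟩⟩
  · exact hc
  · rcases Nat.eq_zero_or_pos n with rfl | hn
    · have : IsCyclic (QuaternionGroup (2 ^ 0)) := QuaternionGroup.quaternionGroup_one_isCyclic
      exact e.isCyclic.2 this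
    · exact absurd ⟨P, n, hn, ⟨e⟩⟩ hnot

/-- The structure map of a non-solvable group onto `A₅` or `S₅`. -/
theorem exists_quotient_nonsolvable (hf : Fpf f) (hns : ¬ Group.IsSolvable G) :
    ∃ N : Subgroup G, N.Normal ∧ IsZGroup N ∧
      ((∃ φ : G →* alternatingGroup (Fin 5), Function.Surjective φ ∧ φ.ker = N) ∨
        (∃ φ : G →* Equiv.Perm (Fin 5), Function.Surjective φ ∧ φ.ker = N)) := by
  classical
  have : Fact (Nat.Prime 2) := ⟨Nat.prime_two⟩
  obtain ⟨ψ, hinj, hXn⟩ := exists_sl25_normal hf hns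
  obtain ⟨-, -, -, -, hA3, hA4, hU3, hU4, -, -, -, -⟩ := stdPair_spec
  obtain ⟨N, hNdef⟩ : ∃ N : Subgroup G, N = Subgroup.centralizer (ψ.range : Set G) := ⟨_, rfl⟩
  have hNn : N.Normal := by rw [hNdef]; infer_instance
  have hz : orderOf (ψ (binIcoGen 2)) = 2 := by
    rw [orderOf_injective ψ hinj, orderOf_eq_prime z_sq.1 z_sq.2.1]
  have hNX : ∀ c ∈ N, ∀ p, ψ p * c = c * ψ p := fun c hc p => by
    rw [hNdef, Subgroup.mem_centralizer_iff] at hc; exact hc _ ⟨p, rfl⟩
  have hcentre : ∀ p, ψ p ∈ N → p ∈ Subgroup.center SL25 := fun p hp =>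
    Subgroup.mem_center_iff.2 fun q => hinj (by rw [map_mul, map_mul, hNX _ hp q])
  have hzc := invol_center hf hz
  have hzN : ψ (binIcoGen 2) ∈ N := by
    rw [hNdef, Subgroup.mem_centralizer_iff]
    exact fun y _ => Subgroup.mem_center_iff.1 hzc y
  have hcen2 : ∀ p ∈ Subgroup.center SL25, p = 1 ∨ p = binIcoGen 2 := by
    intro p hp
    rw [Matrix.SpecialLinearGroup.mem_center_iff] at hp
    obtain ⟨b, hb, hbp⟩ := hp
    rw [Fintype.card_fin] at hb
    rcases zmodFive_sq_eq_one b hb with rfl | rfl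
    · exact Or.inl (Subtype.ext (by rw [← hbp]; simp))
    · exact Or.inr (Subtype.ext (hbp.symm.trans scalar_neg_one_five))
  have hNz : IsZGroup N := by
    refine ⟨fun p hp P => ?_⟩
    have := Fact.mk hp
    have hfN : Fpf (f.comp N.subtype) := fun g hg v hv => hf g (fun h => hg (Subtype.ext h)) v hv
    rcases sylow_cases hfN P with h | ⟨rfl, n, ⟨e⟩⟩
    · exact h
    exfalso
    obtain ⟨b, hb⟩ : ∃ b : P, orderOf b = 4 :=
      ⟨e.symm (QuaternionGroup.xa 0), by rw [MulEquiv.orderOf_eq, QuaternionGroup.orderOf_xa]⟩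
    have hb4 : orderOf (((b : N) : G)) = 4 := by
      rw [Subgroup.orderOf_coe, Subgroup.orderOf_coe, hb]
    obtain ⟨b', hb'⟩ : ∃ b' : G, b' = ((b : N) : G) := ⟨_, rfl⟩
    rw [← hb'] at hb4
    have hbN : b' ∈ N := hb' ▸ (b : N).2
    have hbb : b' * b' = ψ (binIcoGen 2) := invol_unique hf hz (by
      rw [← pow_two, orderOf_pow, hb4]; rfl)
    obtain ⟨q, hq⟩ : ∃ q, q = ψ (binIcoGen 0 * binIcoGen 1) := ⟨_, rfl⟩
    have hqq : q * q = ψ (binIcoGen 2) := by rw [hq, ← pow_two, ← map_pow, z_sq.2.2]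
    have hcq : q * b' = b' * q := hq ▸ hNX b' hbN _
    have hb1 : (b' * q) * (b' * q) = 1 := by
      rw [mul_assoc b' q, ← mul_assoc q b', hcq, mul_assoc b' q, hqq, ← mul_assoc, hbb, ← map_mul,
        ← pow_two, z_sq.1, map_one]
    have : ∃ p, b' = ψ p := by
      by_cases h1 : b' * q = 1
      · exact ⟨(binIcoGen 0 * binIcoGen 1)⁻¹, by rw [map_inv, ← hq]; exact eq_inv_of_mul_eq_one_left h1⟩
      · refine ⟨binIcoGen 2 * (binIcoGen 0 * binIcoGen 1)⁻¹, ?_⟩
        rw [map_mul ψ (binIcoGen 2), map_inv, ← hq]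
        exact eq_mul_inv_of_mul_eq (invol_unique hf hz (orderOf_eq_prime (by rw [pow_two]; exact hb1) h1))
    obtain ⟨p, rfl⟩ := this
    rw [orderOf_injective ψ hinj] at hb4
    rcases hcen2 p (hcentre p hbN) with rfl | rfl
    · rw [orderOf_one] at hb4; omega
    · rw [orderOf_eq_prime z_sq.1 z_sq.2.1] at hb4; omega
  -- the simple normal subgroup of the quotient
  obtain ⟨π, hπ⟩ : ∃ π : G →* G ⧸ N, π = QuotientGroup.mk' N := ⟨_, rfl⟩
  obtain ⟨A, hA⟩ : ∃ A : Subgroup (G ⧸ N), A = (π.comp ψ).range := ⟨_, rfl⟩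
  have hker : (π.comp ψ).ker = Subgroup.center SL25 := by
    ext p
    rw [MonoidHom.mem_ker, MonoidHom.comp_apply, hπ, QuotientGroup.mk'_apply,
      QuotientGroup.eq_one_iff]
    refine ⟨hcentre p, fun hp => ?_⟩
    rcases hcen2 p hp with rfl | rfl
    · rw [map_one]; exact N.one_mem
    · exact hzN
  obtain ⟨e5⟩ : Nonempty (A ≃* alternatingGroup (Fin 5)) := by
    subst hA
    exact ⟨((QuotientGroup.quotientKerEquivRange (π.comp ψ)).symm.trans
      (QuotientGroup.quotientMulEquivOfEq hker)).trans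
      CfsgLib.Classical.psl_two_five_equiv.some⟩
  have hAn : A.Normal := by
    rw [hA, MonoidHom.range_comp]
    exact hXn.map π (hπ ▸ QuotientGroup.mk'_surjective N)
  have hcent : ∀ g : G ⧸ N, (∀ a ∈ A, g * a = a * g) → g = 1 := by
    intro gb hgb
    obtain ⟨g, rfl⟩ := QuotientGroup.mk'_surjective N gb
    rw [QuotientGroup.mk'_apply, QuotientGroup.eq_one_iff, hNdef, Subgroup.mem_centralizer_iff]
    have key : ∀ s : SL25, s ^ 3 = 1 → g * ψ s = ψ s * g := by
      intro s hs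
      have hc : g * ψ s * g⁻¹ * (ψ s)⁻¹ ∈ N := by
        rw [← QuotientGroup.eq_one_iff]
        have := hgb (π (ψ s)) (hA ▸ ⟨s, rfl⟩)
        rw [hπ, QuotientGroup.mk'_apply, QuotientGroup.mk'_apply] at this
        rw [QuotientGroup.mk_mul, QuotientGroup.mk_mul, QuotientGroup.mk_mul, this,
          QuotientGroup.mk_inv, QuotientGroup.mk_inv, mul_inv_cancel_right, mul_inv_cancel]
      obtain ⟨t, ht⟩ : ∃ t, g * ψ s * g⁻¹ * (ψ s)⁻¹ = ψ t :=
        ⟨_, (Classical.choose_spec (show ∃ t, ψ t = g * ψ s * g⁻¹ * (ψ s)⁻¹ from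
          ψ.range.mul_mem (hXn.conj_mem _ ⟨s, rfl⟩ g) (ψ.range.inv_mem ⟨s, rfl⟩))).symm⟩
      have htc := hcentre t (ht ▸ hc)
      have he : g * ψ s * g⁻¹ = ψ (t * s) := by rw [map_mul, ← ht, inv_mul_cancel_right]
      have h3 : (t * s) ^ 3 = 1 := hinj (by
        rw [map_pow, ← he, conj_pow, ← map_pow, hs, map_one, mul_one, mul_inv_cancel])
      rw [(show Commute t s from (Subgroup.mem_center_iff.1 htc s).symm).mul_pow, hs, mul_one] at h3
      rcases hcen2 t htc with rfl | rfl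
      · rw [one_mul] at he
        exact mul_inv_eq_iff_eq_mul.1 he
      · exfalso
        rw [pow_succ, z_sq.1, one_mul] at h3
        exact z_sq.2.1 h3
    intro y hy
    obtain ⟨p, rfl⟩ := hy
    have hle : Subgroup.closure ({binIcoGen 0, stdU} : Set SL25) ≤
        (Subgroup.centralizer ({g} : Set G)).comap ψ := by
      rw [Subgroup.closure_le]
      rintro b (rfl | rfl) <;>
        rw [SetLike.mem_coe, Subgroup.mem_comap, Subgroup.mem_centralizer_singleton_iff]
      · exact (key _ hA3).symm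
      · exact (key _ hU3).symm
    exact Subgroup.mem_centralizer_singleton_iff.1 (hle (stdPair_closure ▸ Subgroup.mem_top p))
  -- the embedding into `S₅`
  obtain ⟨θ, hθ⟩ : ∃ θ : G →* Equiv.Perm (Fin 5), θ = ((MulEquiv.ofBijective _
      (Cfsg.Agent.S2119.result 5 (by norm_num) (by norm_num))).symm.toMonoidHom.comp
      ((MulAut.congr e5).toMonoidHom.comp ((MulAut.conjNormal (H := A)).comp π))) := ⟨_, rfl⟩
  have hθker : θ.ker = N := by
    ext g
    rw [MonoidHom.mem_ker, hθ]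
    simp only [MonoidHom.comp_apply, MulEquiv.coe_toMonoidHom, EmbeddingLike.map_eq_one_iff]
    rw [← QuotientGroup.eq_one_iff, ← QuotientGroup.mk'_apply, ← hπ]
    refine ⟨fun h => hcent _ fun a ha => ?_, fun h => by rw [h, map_one]⟩
    have := congrArg (fun φ : MulAut A => ((φ ⟨a, ha⟩ : A) : G ⧸ N)) h
    simp only [MulAut.conjNormal_apply, MulAut.one_apply] at this
    exact mul_inv_eq_iff_eq_mul.1 this
  have h60 : 60 ∣ Nat.card θ.range := by
    rw [← Subgroup.index_ker, hθker, Subgroup.index_eq_card]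
    have h := Subgroup.card_subgroup_dvd_card A
    rwa [Nat.card_congr e5.toEquiv, nat_card_alternatingGroup, Nat.card_fin,
      show (Nat.factorial 5) / 2 = 60 by rfl] at h
  have hidx := θ.range.index_mul_card
  rw [Nat.card_eq_fintype_card (α := Equiv.Perm (Fin 5)), Fintype.card_perm, Fintype.card_fin,
    show Nat.factorial 5 = 120 by rfl] at hidx
  obtain ⟨c, hc⟩ := h60
  rw [hc] at hidx
  have hic : θ.range.index * c = 2 := by linarith
  have hcases : θ.range.index = 1 ∨ θ.range.index = 2 :=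
    (Nat.dvd_prime Nat.prime_two).1 ⟨c, hic.symm⟩
  refine ⟨N, hNn, hNz, ?_⟩
  rcases hcases with h | h
  · exact Or.inr ⟨θ, MonoidHom.range_eq_top.1 (Subgroup.index_eq_one.1 h), hθker⟩
  · have he : θ.range = alternatingGroup (Fin 5) := Equiv.Perm.eq_alternatingGroup_of_index_eq_two h
    refine Or.inl ⟨θ.codRestrict _ (fun g => by rw [← he]; exact ⟨g, rfl⟩), fun y => ?_, ?_⟩
    · obtain ⟨g, hg⟩ : (y : Equiv.Perm (Fin 5)) ∈ θ.range := by rw [he]; exact y.2
      exact ⟨g, Subtype.ext hg⟩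
    · rw [← hθker]
      ext g
      simp [MonoidHom.mem_ker, Subtype.ext_iff]

end Fpf

end CfsgLib.Perm.Ico
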