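import Cfsg.Agent.Lib.Perm.InducedDouble
import Cfsg.Agent.S0708

/-!
`k`-transitive groups, `k ≥ 4`, in which only the identity fixes more than `k` points: some
`(k+1)`-set has all even permutations induced.
-/

set_option autoImplicit false
set_option linter.unusedSectionVars false

namespace CfsgLib.Perm.Induced

open Equiv Finset

universe u

variable {α : Type u} [Fintype α] [DecidableEq α] {G : Subgroup (Perm α)}

/-- The bound on sharply `k`-transitive groups, from the sharply `4`-transitive case. -/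
theorem sharp_bound {k : ℕ} (hk : 4 ≤ k) (hG : MulAction.IsMultiplyPretransitive G α k)
    (hkn : k ≤ Fintype.card α) (htriv : Triv G k) :
    Fintype.card α + 4 ≤ k + 11 ∧
      (Even (Fintype.card α - (k - 4)) → Fintype.card α + 4 ≤ k + 6) := by
  classical
  obtain ⟨J, -, hJ⟩ := exists_subset_card_eq (n := k - 4) (s := (univ : Finset α))
    (by rw [card_univ]; omega)
  obtain ⟨s, hs⟩ : ∃ s : Set α, s = (J : Set α) := ⟨_, rfl⟩
  have hsc : s.ncard = k - 4 := by rw [hs, Set.ncard_coe_finset, hJ]
  have h4 : MulAction.IsMultiplyPretransitive (fixingSubgroup G s)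
      (SubMulAction.ofFixingSubgroup G s) 4 :=
    SubMulAction.ofFixingSubgroup.isMultiplyPretransitive (↥G) (n := k) s (by omega)
  have hcard : Nat.card (SubMulAction.ofFixingSubgroup G s) = Fintype.card α - (k - 4) := by
    have : Nat.card (sᶜ : Set α) = Fintype.card α - (k - 4) := by
      rw [Nat.card_coe_set_eq, Set.ncard_compl, hsc, Nat.card_eq_fintype_card]
    rw [← this]
    exact Nat.card_congr (Equiv.setCongr (by ext; simp [SubMulAction.mem_ofFixingSubgroup_iff]))
  have hsharp : ∀ x : Fin 4 ↪ SubMulAction.ofFixingSubgroup G s,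
      MulAction.stabilizer (fixingSubgroup G s) x = ⊥ := by
    intro x
    rw [eq_bot_iff]
    rintro ⟨⟨g, hg⟩, hgs⟩ hgx
    rw [MulAction.mem_stabilizer_iff] at hgx
    rw [Subgroup.mem_bot]
    refine Subtype.ext (Subtype.ext (htriv g hg (le_of_eq_of_le ?_ (card_le_fixCard
      (s := J ∪ univ.image fun i => (x i : α)) ?_))))
    · rw [card_union_of_disjoint, hJ, card_image_of_injective (f := fun i => (x i : α)) _
        (fun _ _ h => x.injective (Subtype.ext h)), card_univ, Fintype.card_fin]
      · omega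
      rw [disjoint_left]
      intro i hi hi'
      obtain ⟨j, -, rfl⟩ := mem_image.1 hi'
      have hh : (x j : α) ∈ (↑J : Set α) := hi
      rw [← hs] at hh
      exact (x j).2 hh
    · intro i hi
      rcases mem_union.1 hi with h | h
      · exact (mem_fixingSubgroup_iff G).1 hgs i (by rw [hs]; exact h)
      · obtain ⟨j, -, rfl⟩ := mem_image.1 h
        exact congrArg Subtype.val (DFunLike.congr_fun hgx j)
  have : Finite (SubMulAction.ofFixingSubgroup G s) := Subtype.finite
  obtain ⟨e⟩ := Function.Embedding.nonempty_of_card_le (α := Fin 4)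
    (β := SubMulAction.ofFixingSubgroup G s) (by
      rw [Fintype.card_fin, ← Nat.card_eq_fintype_card, hcard]; omega)
  obtain ⟨-, h11, h6⟩ := Cfsg.Agent.S0708.result h4 hsharp ⟨e⟩
  rw [hcard] at h11 h6
  exact ⟨by omega, fun h => by have := h6 h; omega⟩

/-- For `k = 4`, all transpositions share their fixed points. -/
theorem commonFix_four (hG : MulAction.IsMultiplyPretransitive G α 4)
    (hn : 7 ≤ Fintype.card α) (hodd : Fintype.card α % 2 = 1) (hno : NoInv G 4)
    (htriv : Triv G 5) : CommonFix G 4 := by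
  have hkn : 4 ≤ Fintype.card α := by omega
  intro S hS
  -- two lifts of disjoint transpositions and the lift of their product
  have key : ∀ a b c e z : α, Four S a b c e → LiftFix G S a b z →
      ∃ w, IsDouble G S a b c e w ∧ (∀ w', IsDouble G S a b c e w' → w' = w) ∧
        (outFix w S).card = 3 ∧ z ∈ outFix w S ∧
        (∀ f ∈ G, (∀ i ∈ S, f i = i) → w * f = f * w) := by
    rintro a b c e z hF ⟨hz, u, hu, huz⟩
    obtain ⟨ha, hb, hc, he, h1, h2, h3, h4, h5, h6⟩ := id hF
    obtain ⟨v, hv, huv⟩ := exists_commuting_lift hG hkn hno hS ha hb hc he h2.symm h4.symm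
      h3.symm h5.symm hu
    have hvz : v z = z := isLift_fix_unique (le_of_lt (by omega : 2 < 4)) hno hS ha hb h1 hu
      (fun hm => hz (by
        have := isLift_apply_mem hv hc he hm
        rwa [apply_apply_of_sq hv.2.1] at this)) hz
      (by rw [← Perm.mul_apply, huv, Perm.mul_apply, huz]) huz
    have hinv : ∀ (p q : α) (t : Perm α), p ∈ S → q ∈ S → p ≠ q → IsLift G S p q t →
        ∀ f ∈ G, (∀ i ∈ S, f i = i) → t * f * t = f⁻¹ := by
      intro p q t hp hq hpq ht f hf hfS
      refine inverts_of_centralizer ht.1 ht.2.1 (fun i hi => isLift_apply_mem ht hp hq hi)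
        (fun g hg hgS hgt => ?_) hf hfS
      obtain ⟨r, hr, htr⟩ := isLift_exists_fix (by omega) hS hp hq hpq ht (by omega)
      have hgr : g r = r := isLift_fix_unique (le_of_lt (by omega : 2 < 4)) hno hS hp hq hpq ht
        (fun hm => hr (by have := hgS _ hm; rwa [g.injective this] at hm)) hr
        (by rw [← Perm.mul_apply, hgt, Perm.mul_apply, htr]) htr
      refine htriv g hg (le_of_eq_of_le ?_ (card_le_fixCard (s := insert r S) ?_))
      · rw [card_insert_of_notMem hr, hS]
      · intro i hi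
        rcases mem_insert.1 hi with rfl | hi
        exacts [hgr, hgS i hi]
    have hwd : IsDouble G S a b c e (u * v) := by
      refine ⟨G.mul_mem hu.1 hv.1, ?_, fun i hi => ?_⟩
      · calc u * v * (u * v) = u * (v * u) * v := by group
          _ = u * u * (v * v) := by rw [← huv]; group
          _ = 1 := by rw [hu.2.1, hv.2.1, one_mul]
      · rw [Perm.mul_apply, isLift_apply hu (isLift_apply_mem hv hc he hi), isLift_apply hv hi]
    have hcent : ∀ f ∈ G, (∀ i ∈ S, f i = i) → u * v * f = f * (u * v) := by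
      intro f hf hfS
      have e1 := hinv c e v hc he h6 hv f hf hfS
      have e2 := hinv a b u ha hb h1 hu f⁻¹ (G.inv_mem hf)
        (fun i hi => Perm.inv_eq_iff_eq.2 (hfS i hi).symm)
      rw [inv_inv] at e2
      calc u * v * f = u * (v * f * v) * v := by
            calc u * v * f = u * v * f * (v * v) := by rw [hv.2.1, mul_one]
              _ = _ := by group
        _ = u * f⁻¹ * v := by rw [e1]
        _ = u * f⁻¹ * (u * u) * v := by rw [hu.2.1, mul_one]
        _ = u * f⁻¹ * u * (u * v) := by group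
        _ = f * (u * v) := by rw [e2]
    refine ⟨u * v, hwd, fun w' hw' => ?_, ?_, mem_outFix.2 ⟨?_, hz⟩, hcent⟩
    · obtain ⟨f, hf, hfS, hfc⟩ := exists_conj_fix hno hwd.1 hw'.1 hwd.2.1 hw'.2.1 hS.ge
        (fun i hi => by rw [hwd.2.2 i hi, hw'.2.2 i hi])
      rw [← hfc, ← hcent f hf hfS, mul_inv_cancel_right]
    · have hfu : fixCard u = 3 := by
        have h' : (insert z ((S.erase a).erase b)).card ≤ fixCard u := card_le_fixCard fun i hi => by
          rcases mem_insert.1 hi with rfl | hi
          exacts [huz, hu.2.2.1 i hi]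
        rw [card_insert_of_notMem (fun h => hz (mem_of_mem_erase (mem_of_mem_erase h))),
          card_erase_erase hS ha hb h1] at h'
        have : ¬ 4 ≤ fixCard u := fun h => isLift_ne h1 hu (hno u hu.1 hu.2.1 h)
        omega
      have := fixCard_double hG hkn hno hS hF hwd hu.1 hu.2.1 (by omega) (by omega)
      rw [fixCard_eq_outFix hS hF hwd, hfu] at this
      omega
    · rw [Perm.mul_apply, hvz, huz]
  -- transpositions with a common point
  have step : ∀ a ∈ S, ∀ b ∈ S, ∀ c ∈ S, a ≠ b → a ≠ c → ∀ z,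
      LiftFix G S a b z → LiftFix G S a c z := by
    intro a ha b hb c hc hab hac z hz
    rcases eq_or_ne b c with rfl | hbc
    · exact hz
    obtain ⟨e, he⟩ : (((S.erase a).erase b).erase c).Nonempty := card_pos.1 (by
      rw [card_erase_of_mem (mem_erase.2 ⟨hbc.symm, mem_erase.2 ⟨hac.symm, hc⟩⟩),
        card_erase_erase hS ha hb hab]
      omega)
    simp only [mem_erase] at he
    obtain ⟨hec, heb, hea, he⟩ := he
    obtain ⟨z', hz'⟩ : ∃ z', LiftFix G S a c z' := by
      obtain ⟨u, hu⟩ := exists_isLift hG hkn hno hS ha hc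
      obtain ⟨r, hr, hur⟩ := isLift_exists_fix (by omega) hS ha hc hac hu (by omega)
      exact ⟨r, hr, u, hu, hur⟩
    have F1 : Four S a b c e := ⟨ha, hb, hc, he, hab, hac, hea.symm, hbc, heb.symm, hec.symm⟩
    have F2 : Four S a c b e := ⟨ha, hc, hb, he, hac, hab, hea.symm, hbc.symm, hec.symm, heb.symm⟩
    have F3 : Four S a e b c := ⟨ha, he, hb, hc, hea.symm, hab, hac, heb, hec, hbc⟩
    obtain ⟨w₁, hw₁, huq₁, hT₁, hzT, hc₁⟩ := key a b c e z F1 hz
    obtain ⟨w₂, hw₂, huq₂, hT₂, hzT', hc₂⟩ := key a c b e z' F2 hz'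
    obtain ⟨r₃, hr₃⟩ : ∃ r, LiftFix G S a e r := by
      obtain ⟨u, hu⟩ := exists_isLift hG hkn hno hS ha he
      obtain ⟨r, hr, hur⟩ := isLift_exists_fix (by omega) hS ha he hea.symm hu (by omega)
      exact ⟨r, hr, u, hu, hur⟩
    obtain ⟨w₃, hw₃, huq₃, -, -, -⟩ := key a e b c r₃ F3 hr₃
    -- a conjugate of one lift by another is the same lift
    have hcomm : w₁ * w₂ = w₂ * w₁ := by
      have hd : IsDouble G S a b c e (w₂ * w₁ * w₂) := by
        refine ⟨G.mul_mem (G.mul_mem hw₂.1 hw₁.1) hw₂.1, ?_, fun i hi => ?_⟩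
        · calc w₂ * w₁ * w₂ * (w₂ * w₁ * w₂) = w₂ * w₁ * (w₂ * w₂) * w₁ * w₂ := by group
            _ = w₂ * (w₁ * w₁) * w₂ := by rw [hw₂.2.1]; group
            _ = 1 := by rw [hw₁.2.1, mul_one, hw₂.2.1]
        · rw [Perm.mul_apply, Perm.mul_apply, hw₂.2.2 i hi, hw₁.2.2 _ (double_apply_mem F2 hi),
            hw₂.2.2 _ (double_apply_mem F1 (double_apply_mem F2 hi))]
          rcases eq_or_ne i a with rfl | ia
          · simp [Equiv.swap_apply_of_ne_of_ne, hab, hab.symm, hac, hac.symm, hea, hea.symm, hbc, hbc.symm, heb, heb.symm, hec, hec.symm]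
          rcases eq_or_ne i b with rfl | ib
          · simp [Equiv.swap_apply_of_ne_of_ne, hab, hab.symm, hac, hac.symm, hea, hea.symm, hbc, hbc.symm, heb, heb.symm, hec, hec.symm]
          rcases eq_or_ne i c with rfl | ic
          · simp [Equiv.swap_apply_of_ne_of_ne, hab, hab.symm, hac, hac.symm, hea, hea.symm, hbc, hbc.symm, heb, heb.symm, hec, hec.symm]
          rcases eq_or_ne i e with rfl | ie
          · simp [Equiv.swap_apply_of_ne_of_ne, hab, hab.symm, hac, hac.symm, hea, hea.symm, hbc, hbc.symm, heb, heb.symm, hec, hec.symm]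
          simp [Equiv.swap_apply_of_ne_of_ne, ia, ib, ic, ie]
      calc w₁ * w₂ = w₂ * w₁ * w₂ * w₂ := by rw [huq₁ _ hd]
        _ = w₂ * w₁ * (w₂ * w₂) := mul_assoc _ _ _
        _ = _ := by rw [hw₂.2.1, mul_one]
    have hprod : w₁ * w₂ = w₃ := huq₃ _ ⟨G.mul_mem hw₁.1 hw₂.1, by
        calc w₁ * w₂ * (w₁ * w₂) = w₁ * (w₂ * w₁) * w₂ := by group
          _ = w₁ * w₁ * (w₂ * w₂) := by rw [← hcomm]; group
          _ = 1 := by rw [hw₁.2.1, hw₂.2.1, one_mul], fun i hi => by
      rw [Perm.mul_apply, hw₂.2.2 i hi, hw₁.2.2 _ (double_apply_mem F2 hi)]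
      rcases eq_or_ne i a with rfl | ia
      · simp [Equiv.swap_apply_of_ne_of_ne, hab, hab.symm, hac, hac.symm, hea, hea.symm, hbc, hbc.symm, heb, heb.symm, hec, hec.symm]
      rcases eq_or_ne i b with rfl | ib
      · simp [Equiv.swap_apply_of_ne_of_ne, hab, hab.symm, hac, hac.symm, hea, hea.symm, hbc, hbc.symm, heb, heb.symm, hec, hec.symm]
      rcases eq_or_ne i c with rfl | ic
      · simp [Equiv.swap_apply_of_ne_of_ne, hab, hab.symm, hac, hac.symm, hea, hea.symm, hbc, hbc.symm, heb, heb.symm, hec, hec.symm]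
      rcases eq_or_ne i e with rfl | ie
      · simp [Equiv.swap_apply_of_ne_of_ne, hab, hab.symm, hac, hac.symm, hea, hea.symm, hbc, hbc.symm, heb, heb.symm, hec, hec.symm]
      simp [Equiv.swap_apply_of_ne_of_ne, ia, ib, ic, ie]⟩
    have hw₂T : ∀ i ∈ outFix w₁ S, w₂ i ∈ outFix w₁ S := by
      intro i hi
      obtain ⟨h, h'⟩ := mem_outFix.1 hi
      refine mem_outFix.2 ⟨by rw [← Perm.mul_apply, hcomm, Perm.mul_apply, h], fun hm => h' ?_⟩
      have := isDouble_apply_mem F2 hw₂ hm
      rwa [apply_apply_of_sq hw₂.2.1] at this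
    -- a common fixed point of both
    obtain ⟨q, hq₁, hq₂⟩ : ∃ q, q ∈ outFix w₁ S ∧ w₂ q = q := by
      obtain ⟨p, q, r, hpq, hpr, hqr, hset⟩ := card_eq_three.1 hT₁
      by_contra hcon
      push Not at hcon
      have m1 := hw₂T p (by rw [hset]; simp)
      have m2 := hw₂T q (by rw [hset]; simp)
      have m3 := hw₂T r (by rw [hset]; simp)
      have n1 := hcon p (by rw [hset]; simp)
      have n2 := hcon q (by rw [hset]; simp)
      have n3 := hcon r (by rw [hset]; simp)
      have k1 := apply_apply_of_sq hw₂.2.1 p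
      have k2 := apply_apply_of_sq hw₂.2.1 q
      have k3 := apply_apply_of_sq hw₂.2.1 r
      simp only [hset, mem_insert, mem_singleton] at m1 m2 m3
      rcases m1 with h | h | h
      · exact n1 h
      · rw [h] at k1
        rcases m3 with h' | h' | h'
        · rw [h', h] at k3; exact hqr k3
        · rw [h', k1] at k3; exact hpr k3
        · exact n3 h'
      · rw [h] at k1
        rcases m2 with h' | h' | h'
        · rw [h', h] at k2; exact hqr k2.symm
        · exact n2 h'
        · rw [h', k1] at k2; exact hpq k2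
    have hqT₂ : q ∈ outFix w₂ S := mem_outFix.2 ⟨hq₂, (mem_outFix.1 hq₁).2⟩
    by_cases hF : ∀ f ∈ G, (∀ i ∈ S, f i = i) → f = 1
    swap
    · -- the fixed triples are orbits of the stabilizer
      push Not at hF
      obtain ⟨f, hf, hfS, hf1⟩ := hF
      have horb : ∀ (w : Perm α) (p r : α), (outFix w S).card = 3 →
          (∀ g ∈ G, (∀ i ∈ S, g i = i) → w * g = g * w) → p ∈ outFix w S → r ∈ outFix w S →
          ∃ g ∈ G, (∀ i ∈ S, g i = i) ∧ g p = r := by
        intro w p r hcard hcw hp hr
        have hmem : ∀ g ∈ G, (∀ i ∈ S, g i = i) → g p ∈ outFix w S := by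
          intro g hg hgS
          obtain ⟨h, h'⟩ := mem_outFix.1 hp
          refine mem_outFix.2 ⟨by rw [← Perm.mul_apply, hcw g hg hgS, Perm.mul_apply, h],
            fun hm => h' ?_⟩
          have := hgS _ hm
          rwa [g.injective this] at hm
        have hmove : ∀ g ∈ G, (∀ i ∈ S, g i = i) → g p = p → g = 1 := fun g hg hgS hgp =>
          htriv g hg (le_of_eq_of_le (by rw [card_insert_of_notMem (mem_outFix.1 hp).2, hS])
            (card_le_fixCard (s := insert p S) (by
              intro i hi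
              rcases mem_insert.1 hi with rfl | hi
              exacts [hgp, hgS i hi])))
        have hf2S : ∀ i ∈ S, (f * f) i = i := fun i hi => by rw [Perm.mul_apply, hfS i hi, hfS i hi]
        have hne1 : f p ≠ p := fun h => hf1 (hmove f hf hfS h)
        have hne2 : (f * f) p ≠ p := fun h => by
          have h2 : f ^ 2 = 1 := by rw [sq]; exact hmove _ (G.mul_mem hf hf) hf2S h
          have h3 := Nat.le_of_dvd (by norm_num) (orderOf_dvd_of_pow_eq_one h2)
          obtain ⟨j, hj⟩ := odd_orderOf hno hf hS.ge hfS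
          exact hf1 (orderOf_eq_one_iff.1 (by omega))
        have hsub : ({p, f p, (f * f) p} : Finset α) = outFix w S := by
          refine eq_of_subset_of_card_le ?_ ?_
          · simp only [insert_subset_iff, singleton_subset_iff]
            exact ⟨hp, hmem f hf hfS, hmem _ (G.mul_mem hf hf) hf2S⟩
          · rw [hcard, card_insert_of_notMem, card_pair]
            · exact fun h => hne1 (f.injective h.symm)
            · simp only [mem_insert, mem_singleton, not_or]
              exact ⟨hne1.symm, hne2.symm⟩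
        rw [← hsub] at hr
        simp only [mem_insert, mem_singleton] at hr
        rcases hr with rfl | rfl | rfl
        exacts [⟨1, G.one_mem, fun _ _ => rfl, rfl⟩, ⟨f, hf, hfS, rfl⟩,
          ⟨_, G.mul_mem hf hf, hf2S, rfl⟩]
      obtain ⟨g₂, hg₂, hg₂S, hg₂q⟩ := horb w₂ z' q hT₂ hc₂ hzT' hqT₂
      obtain ⟨g₁, hg₁, hg₁S, hg₁q⟩ := horb w₁ q z hT₁ hc₁ hq₁ hzT
      have := liftFix_smul ha hc (liftFix_smul ha hc hz' hg₂ hg₂S) hg₁ hg₁S
      rwa [hg₂q, hg₁q] at this
    -- from now on the stabilizer is trivial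
    have heq : ∀ g ∈ G, ∀ h ∈ G, (∀ i ∈ S, g i = h i) → g = h := fun g hg h hh e => by
      have := hF (h⁻¹ * g) (G.mul_mem (G.inv_mem hh) hg) (fun i hi => by
        rw [Perm.mul_apply, e i hi, Perm.coe_inv, Equiv.symm_apply_apply])
      rwa [inv_mul_eq_one, eq_comm] at this
    have huniq : ∀ p q : α, ∀ s t, IsLift G S p q s → IsLift G S p q t → s = t :=
      fun p q s t hs ht => heq s hs.1 t ht.1 fun i hi => by
        rw [isLift_apply hs hi, isLift_apply ht hi]
    obtain ⟨hzS, u, hu, huz⟩ := id hz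
    have huw₁ : u * w₁ = w₁ * u := heq _ (G.mul_mem hu.1 hw₁.1) _ (G.mul_mem hw₁.1 hu.1) fun i hi => by
      rw [Perm.mul_apply, Perm.mul_apply, isLift_apply hu (isDouble_apply_mem F1 hw₁ hi),
        hw₁.2.2 _ (isLift_apply_mem hu ha hb hi), hw₁.2.2 i hi, isLift_apply hu hi]
      rcases eq_or_ne i a with rfl | ia
      · simp [Equiv.swap_apply_of_ne_of_ne, hab, hab.symm, hac, hac.symm, hea, hea.symm, hbc, hbc.symm, heb, heb.symm, hec, hec.symm]
      rcases eq_or_ne i b with rfl | ib
      · simp [Equiv.swap_apply_of_ne_of_ne, hab, hab.symm, hac, hac.symm, hea, hea.symm, hbc, hbc.symm, heb, heb.symm, hec, hec.symm]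
      rcases eq_or_ne i c with rfl | ic
      · simp [Equiv.swap_apply_of_ne_of_ne, hab, hab.symm, hac, hac.symm, hea, hea.symm, hbc, hbc.symm, heb, heb.symm, hec, hec.symm]
      rcases eq_or_ne i e with rfl | ie
      · simp [Equiv.swap_apply_of_ne_of_ne, hab, hab.symm, hac, hac.symm, hea, hea.symm, hbc, hbc.symm, heb, heb.symm, hec, hec.symm]
      simp [Equiv.swap_apply_of_ne_of_ne, ia, ib, ic, ie]
    have huw₂ : u * w₂ = w₁ * w₂ * u := heq _ (G.mul_mem hu.1 hw₂.1) _
        (G.mul_mem (G.mul_mem hw₁.1 hw₂.1) hu.1) fun i hi => by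
      rw [Perm.mul_apply, Perm.mul_apply, Perm.mul_apply,
        isLift_apply hu (isDouble_apply_mem F2 hw₂ hi),
        hw₁.2.2 _ (isDouble_apply_mem F2 hw₂ (isLift_apply_mem hu ha hb hi)),
        hw₂.2.2 _ (isLift_apply_mem hu ha hb hi), hw₂.2.2 i hi, isLift_apply hu hi]
      rcases eq_or_ne i a with rfl | ia
      · simp [Equiv.swap_apply_of_ne_of_ne, hab, hab.symm, hac, hac.symm, hea, hea.symm, hbc, hbc.symm, heb, heb.symm, hec, hec.symm]
      rcases eq_or_ne i b with rfl | ib
      · simp [Equiv.swap_apply_of_ne_of_ne, hab, hab.symm, hac, hac.symm, hea, hea.symm, hbc, hbc.symm, heb, heb.symm, hec, hec.symm]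
      rcases eq_or_ne i c with rfl | ic
      · simp [Equiv.swap_apply_of_ne_of_ne, hab, hab.symm, hac, hac.symm, hea, hea.symm, hbc, hbc.symm, heb, heb.symm, hec, hec.symm]
      rcases eq_or_ne i e with rfl | ie
      · simp [Equiv.swap_apply_of_ne_of_ne, hab, hab.symm, hac, hac.symm, hea, hea.symm, hbc, hbc.symm, heb, heb.symm, hec, hec.symm]
      simp [Equiv.swap_apply_of_ne_of_ne, ia, ib, ic, ie]
    have huS : ∀ i, i ∉ S → u i ∉ S := fun i hi hm => hi (by
      have := isLift_apply_mem hu ha hb hm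
      rwa [apply_apply_of_sq hu.2.1] at this)
    by_cases hone : ∀ p ∈ outFix w₁ S, w₂ p = p → p = q
    · -- a single common fixed point
      have hfix : ∀ p ∈ outFix w₁ S, w₂ p = p → u p ∈ outFix w₁ S ∧ w₂ (u p) = u p := by
        intro p hp hp2
        obtain ⟨h, h'⟩ := mem_outFix.1 hp
        refine ⟨mem_outFix.2 ⟨by rw [← Perm.mul_apply, ← huw₁, Perm.mul_apply, h], huS p h'⟩, ?_⟩
        have e1 := congrArg (fun g : Perm α => g p) huw₂
        have h1 : w₁ (u p) = u p := by rw [← Perm.mul_apply, ← huw₁, Perm.mul_apply, h]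
        simp only [Perm.mul_apply, hp2] at e1
        apply w₁.injective
        rw [← e1, h1]
      have huq : u q = q := hone _ (hfix q hq₁ hq₂).1 (hfix q hq₁ hq₂).2
      have hzq : z = q := isLift_fix_unique (le_of_lt (by omega : 2 < 4)) hno hS ha hb hab hu hzS
        (mem_outFix.1 hq₁).2 huz huq
      obtain ⟨hz'S, v, hv, hvz⟩ := id hz'
      have hvw₂ : v * w₂ = w₂ * v := heq _ (G.mul_mem hv.1 hw₂.1) _ (G.mul_mem hw₂.1 hv.1) fun i hi => by
        rw [Perm.mul_apply, Perm.mul_apply, isLift_apply hv (isDouble_apply_mem F2 hw₂ hi),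
          hw₂.2.2 _ (isLift_apply_mem hv ha hc hi), hw₂.2.2 i hi, isLift_apply hv hi]
        rcases eq_or_ne i a with rfl | ia
        · simp [Equiv.swap_apply_of_ne_of_ne, hab, hab.symm, hac, hac.symm, hea, hea.symm, hbc, hbc.symm, heb, heb.symm, hec, hec.symm]
        rcases eq_or_ne i b with rfl | ib
        · simp [Equiv.swap_apply_of_ne_of_ne, hab, hab.symm, hac, hac.symm, hea, hea.symm, hbc, hbc.symm, heb, heb.symm, hec, hec.symm]
        rcases eq_or_ne i c with rfl | ic
        · simp [Equiv.swap_apply_of_ne_of_ne, hab, hab.symm, hac, hac.symm, hea, hea.symm, hbc, hbc.symm, heb, heb.symm, hec, hec.symm]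
        rcases eq_or_ne i e with rfl | ie
        · simp [Equiv.swap_apply_of_ne_of_ne, hab, hab.symm, hac, hac.symm, hea, hea.symm, hbc, hbc.symm, heb, heb.symm, hec, hec.symm]
        simp [Equiv.swap_apply_of_ne_of_ne, ia, ib, ic, ie]
      have hvw₁ : v * w₁ = w₁ * w₂ * v := heq _ (G.mul_mem hv.1 hw₁.1) _
          (G.mul_mem (G.mul_mem hw₁.1 hw₂.1) hv.1) fun i hi => by
        rw [Perm.mul_apply, Perm.mul_apply, Perm.mul_apply,
          isLift_apply hv (isDouble_apply_mem F1 hw₁ hi),
          hw₁.2.2 _ (isDouble_apply_mem F2 hw₂ (isLift_apply_mem hv ha hc hi)),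
          hw₂.2.2 _ (isLift_apply_mem hv ha hc hi), hw₁.2.2 i hi, isLift_apply hv hi]
        rcases eq_or_ne i a with rfl | ia
        · simp [Equiv.swap_apply_of_ne_of_ne, hab, hab.symm, hac, hac.symm, hea, hea.symm, hbc, hbc.symm, heb, heb.symm, hec, hec.symm]
        rcases eq_or_ne i b with rfl | ib
        · simp [Equiv.swap_apply_of_ne_of_ne, hab, hab.symm, hac, hac.symm, hea, hea.symm, hbc, hbc.symm, heb, heb.symm, hec, hec.symm]
        rcases eq_or_ne i c with rfl | ic
        · simp [Equiv.swap_apply_of_ne_of_ne, hab, hab.symm, hac, hac.symm, hea, hea.symm, hbc, hbc.symm, heb, heb.symm, hec, hec.symm]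
        rcases eq_or_ne i e with rfl | ie
        · simp [Equiv.swap_apply_of_ne_of_ne, hab, hab.symm, hac, hac.symm, hea, hea.symm, hbc, hbc.symm, heb, heb.symm, hec, hec.symm]
        simp [Equiv.swap_apply_of_ne_of_ne, ia, ib, ic, ie]
      have h2 : w₂ (v q) = v q := by rw [← Perm.mul_apply, ← hvw₂, Perm.mul_apply, hq₂]
      have h1 : w₁ (v q) = v q := by
        have e1 := congrArg (fun g : Perm α => g q) hvw₁
        simp only [Perm.mul_apply, (mem_outFix.1 hq₁).1, h2] at e1
        exact e1.symm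
      have hvq : v q = q := hone _ (mem_outFix.2 ⟨h1, fun hm => (mem_outFix.1 hq₁).2 (by
        have := isLift_apply_mem hv ha hc hm
        rwa [apply_apply_of_sq hv.2.1] at this)⟩) h2
      have hz'q : z' = q := isLift_fix_unique (le_of_lt (by omega : 2 < 4)) hno hS ha hc hac hv hz'S
        (mem_outFix.1 hq₁).2 hvz hvq
      rw [hzq, ← hz'q]
      exact hz'
    -- otherwise all three fix the same triple, which is impossible
    exfalso
    push Not at hone
    obtain ⟨p, hp, hp2, hpq⟩ := hone
    have hall : ∀ i ∈ outFix w₁ S, w₂ i = i := by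
      intro i hi
      by_contra hni
      have hm := hw₂T i hi
      have hsub : ({p, q, i, w₂ i} : Finset α) ⊆ outFix w₁ S := by
        simp [insert_subset_iff, hp, hq₁, hi, hm]
      have hne : ∀ r, w₂ r = r → r ≠ i ∧ r ≠ w₂ i := fun r hr => ⟨fun e => hni (e ▸ hr), fun e => hni (by
        rw [e, apply_apply_of_sq hw₂.2.1] at hr; exact hr.symm)⟩
      have := card_le_card hsub
      rw [hT₁, card_insert_of_notMem (by simp [hpq, hne p hp2]),
        card_insert_of_notMem (by simp [hne q hq₂]), card_pair (Ne.symm hni)] at this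
      omega
    have hTT : outFix w₁ S = outFix w₂ S := eq_of_subset_of_card_le
      (fun i hi => mem_outFix.2 ⟨hall i hi, (mem_outFix.1 hi).2⟩) (by rw [hT₁, hT₂])
    have htriv4 : Triv G 4 := by
      intro g hg hfix
      obtain ⟨S', hS'sub, hS'⟩ := exists_subset_card_eq (s := univ.filter fun i => g i = i)
        (n := 4) hfix
      let φ := Finset.equivOfCardEq (hS.trans hS'.symm)
      obtain ⟨h, hh, hhS⟩ := exists_agree_fun hG hkn hS.le
        (fun i => if hi : i ∈ S then (φ ⟨i, hi⟩ : α) else i) (fun x hx y hy e => by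
          simp only [dif_pos (mem_coe.1 hx), dif_pos (mem_coe.1 hy)] at e
          exact congrArg Subtype.val (φ.injective (Subtype.ext e)))
      have := hF (h⁻¹ * g * h) (G.mul_mem (G.mul_mem (G.inv_mem hh) hg) hh) fun i hi => by
        have h1 : h i = (φ ⟨i, hi⟩ : α) := by rw [hhS i hi, dif_pos hi]
        rw [Perm.mul_apply, Perm.mul_apply, h1, (mem_filter.1 (hS'sub (φ ⟨i, hi⟩).2)).2, ← h1,
          Perm.coe_inv, Equiv.symm_apply_apply]
      calc g = h * (h⁻¹ * g * h) * h⁻¹ := by group
        _ = 1 := by rw [this]; group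
    have h11 := (sharp_bound (le_refl 4) hG hkn htriv4).1
    obtain ⟨C, hC⟩ : ∃ C, C = univ \ (S ∪ outFix w₁ S) := ⟨_, rfl⟩
    have hCc : C.card = Fintype.card α - 7 := by
      rw [hC, card_sdiff_of_subset (subset_univ _), card_univ, card_union_of_disjoint (by
        rw [disjoint_right]; intro i hi; exact (mem_outFix.1 hi).2), hS, hT₁]
    have hmemC : ∀ i, i ∈ C ↔ i ∉ S ∧ i ∉ outFix w₁ S := fun i => by simp [hC]
    have hmoves : ∀ r ∈ C, w₁ r ≠ r ∧ w₂ r ≠ r ∧ w₁ (w₂ r) ≠ r := by
      intro r hr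
      obtain ⟨hrS, hrT⟩ := (hmemC r).1 hr
      refine ⟨fun h => hrT (mem_outFix.2 ⟨h, hrS⟩), fun h => hrT (hTT ▸ mem_outFix.2 ⟨h, hrS⟩),
        fun h => ?_⟩
      -- the third lift has only three fixed points, those of the triple
      obtain ⟨w, hw, hwu, hwc, -, -⟩ := key a e b c r₃ F3 hr₃
      rw [← hprod] at hw₃
      rw [← Perm.mul_apply] at h
      have hsub : insert r (outFix w₁ S) ⊆ outFix (w₁ * w₂) S := by
        intro i hi
        rcases mem_insert.1 hi with rfl | hi
        · exact mem_outFix.2 ⟨h, hrS⟩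
        · exact mem_outFix.2 ⟨by rw [Perm.mul_apply, hall i hi, (mem_outFix.1 hi).1],
            (mem_outFix.1 hi).2⟩
      have := card_le_card hsub
      rw [card_insert_of_notMem hrT, hT₁, hwu _ hw₃, hwc] at this
      omega
    rcases Nat.lt_or_ge (Fintype.card α) 8 with hn7 | hn8
    · -- degree seven
      have hn : Fintype.card α = 7 := by omega
      obtain ⟨p₁, p₂, p₃, h12, h13, h23, hTset⟩ := card_eq_three.1 hT₁
      have hpm : ∀ i ∈ ({p₁, p₂, p₃} : Finset α), w₁ i = i ∧ i ∉ S := fun i hi =>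
        mem_outFix.1 (hTset ▸ hi)
      obtain ⟨S', hS'⟩ : ∃ S', S' = insert p₁ (S.erase e) := ⟨_, rfl⟩
      have hp₁ : p₁ ∉ S := (hpm p₁ (by simp)).2
      have hS'c : S'.card = 4 := by
        rw [hS', card_insert_of_notMem (fun h => hp₁ (mem_of_mem_erase h)), card_erase_of_mem he, hS]
      have F' : Four S' a b c p₁ := by
        refine ⟨?_, ?_, ?_, ?_, hab, hac, ?_, hbc, ?_, ?_⟩
        · rw [hS']; exact mem_insert_of_mem (mem_erase.2 ⟨hea.symm, ha⟩)
        · rw [hS']; exact mem_insert_of_mem (mem_erase.2 ⟨heb.symm, hb⟩)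
        · rw [hS']; exact mem_insert_of_mem (mem_erase.2 ⟨hec.symm, hc⟩)
        · rw [hS']; exact mem_insert_self _ _
        all_goals (intro h; exact hp₁ (h ▸ ‹_ ∈ S›))
      obtain ⟨g, hg⟩ := exists_isDouble hG hkn hno hS'c F'
      have hgall : ∀ i, i ∉ S' → g i = i := by
        obtain ⟨u', hu'⟩ := exists_isLift hG hkn hno hS'c F'.1 F'.2.1
        obtain ⟨r, hr, hur⟩ := isLift_exists_fix (by omega) hS'c F'.1 F'.2.1 hab hu' (by omega)
        have hfu : fixCard u' = 3 := by
          have h' : (insert r ((S'.erase a).erase b)).card ≤ fixCard u' := card_le_fixCard fun i hi => by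
            rcases mem_insert.1 hi with rfl | hi
            exacts [hur, hu'.2.2.1 i hi]
          rw [card_insert_of_notMem (fun h => hr (mem_of_mem_erase (mem_of_mem_erase h))),
            card_erase_erase hS'c F'.1 F'.2.1 hab] at h'
          have : ¬ 4 ≤ fixCard u' := fun h => isLift_ne hab hu' (hno u' hu'.1 hu'.2.1 h)
          omega
        have h3 := fixCard_double hG hkn hno hS'c F' hg hu'.1 hu'.2.1 (by omega) (by omega)
        rw [fixCard_eq_outFix hS'c F' hg, hfu] at h3
        have hsub : outFix g S' = univ \ S' := eq_of_subset_of_card_le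
          (fun i hi => mem_sdiff.2 ⟨mem_univ _, (mem_outFix.1 hi).2⟩)
          (by rw [card_sdiff_of_subset (subset_univ _), card_univ, hS'c]; omega)
        intro i hi
        have : i ∈ outFix g S' := by rw [hsub]; simp [hi]
        exact (mem_outFix.1 this).1
      have hga : g a = b := by
        rw [hg.2.2 a F'.1, Equiv.swap_apply_of_ne_of_ne hac F'.2.2.2.2.2.2.1, Equiv.swap_apply_left]
      have hgb : g b = a := by
        rw [hg.2.2 b F'.2.1, Equiv.swap_apply_of_ne_of_ne hbc F'.2.2.2.2.2.2.2.2.1,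
          Equiv.swap_apply_right]
      have hwa : w₁ a = b := by
        rw [hw₁.2.2 a ha, Equiv.swap_apply_of_ne_of_ne hac hea.symm, Equiv.swap_apply_left]
      have hwb : w₁ b = a := by
        rw [hw₁.2.2 b hb, Equiv.swap_apply_of_ne_of_ne hbc heb.symm, Equiv.swap_apply_right]
      have hp2S : p₂ ∉ S' := by
        rw [hS', mem_insert, mem_erase, not_or, not_and]
        exact ⟨h12.symm, fun _ => (hpm p₂ (by simp)).2⟩
      have hp3S : p₃ ∉ S' := by
        rw [hS', mem_insert, mem_erase, not_or, not_and]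
        exact ⟨h13.symm, fun _ => (hpm p₃ (by simp)).2⟩
      have heS' : e ∉ S' := by
        rw [hS', mem_insert, mem_erase, not_or, not_and]
        exact ⟨fun h => hp₁ (h ▸ he), fun h => absurd rfl h⟩
      have := htriv4 (w₁ * g) (G.mul_mem hw₁.1 hg.1) (le_of_eq_of_le ?_ (card_le_fixCard
        (s := {a, b, p₂, p₃}) ?_))
      · have he' := congrArg (fun k : Perm α => k e) this
        simp only [Perm.mul_apply, hgall e heS', Perm.one_apply] at he'
        rw [hw₁.2.2 e he, Equiv.swap_apply_right,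
          Equiv.swap_apply_of_ne_of_ne hac.symm hbc.symm] at he'
        exact hec he'.symm
      · rw [card_insert_of_notMem, card_insert_of_notMem, card_pair h23]
        · simp only [mem_insert, mem_singleton, not_or]
          exact ⟨fun h => (hpm p₂ (by simp)).2 (h ▸ hb), fun h => (hpm p₃ (by simp)).2 (h ▸ hb)⟩
        · simp only [mem_insert, mem_singleton, not_or]
          exact ⟨hab, fun h => (hpm p₂ (by simp)).2 (h ▸ ha), fun h => (hpm p₃ (by simp)).2 (h ▸ ha)⟩
      · intro i hi
        simp only [mem_insert, mem_singleton] at hi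
        rw [Perm.mul_apply]
        rcases hi with rfl | rfl | rfl | rfl
        · rw [hga, hwb]
        · rw [hgb, hwa]
        · rw [hgall _ hp2S, (hpm _ (by simp)).1]
        · rw [hgall _ hp3S, (hpm _ (by simp)).1]
    · -- a regular orbit of the four-group with only four points
      obtain ⟨r, hr⟩ : C.Nonempty := card_pos.1 (by omega)
      obtain ⟨hrS, hrT⟩ := (hmemC r).1 hr
      have hw₁C : ∀ i ∈ C, w₁ i ∈ C := fun i hi => by
        obtain ⟨h, h'⟩ := (hmemC i).1 hi
        refine (hmemC _).2 ⟨fun hm => h ?_, fun hm => h' ?_⟩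
        · have := isDouble_apply_mem F1 hw₁ hm
          rwa [apply_apply_of_sq hw₁.2.1] at this
        · have h3 := (mem_outFix.1 hm).1
          rw [apply_apply_of_sq hw₁.2.1] at h3
          exact absurd h3.symm (hmoves i hi).1
      have hw₂C : ∀ i ∈ C, w₂ i ∈ C := fun i hi => by
        obtain ⟨h, h'⟩ := (hmemC i).1 hi
        refine (hmemC _).2 ⟨fun hm => h ?_, fun hm => h' ?_⟩
        · have := isDouble_apply_mem F2 hw₂ hm
          rwa [apply_apply_of_sq hw₂.2.1] at this
        · have h3 := hall _ hm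
          rw [apply_apply_of_sq hw₂.2.1] at h3
          exact absurd h3.symm (hmoves i hi).2.1
      obtain ⟨n1, n2, n3⟩ := hmoves r hr
      have n12 : w₁ r ≠ w₂ r := fun h => n3 (by rw [← h, apply_apply_of_sq hw₁.2.1])
      have hCeq : ({r, w₁ r, w₂ r, w₁ (w₂ r)} : Finset α) = C := eq_of_subset_of_card_le
        (by simp only [insert_subset_iff, singleton_subset_iff]
            exact ⟨hr, hw₁C r hr, hw₂C r hr, hw₁C _ (hw₂C r hr)⟩)
        (by
          rw [card_insert_of_notMem (by simp only [mem_insert, mem_singleton, not_or]; exact ⟨n1.symm, n2.symm, n3.symm⟩),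
            card_insert_of_notMem (by simp only [mem_insert, mem_singleton, not_or]; exact ⟨n12, fun h => n2 (w₁.injective h).symm⟩),
            card_pair (hmoves _ (hw₂C r hr)).1.symm]
          omega)
      have hnofix : ∀ i ∈ C, u i ≠ i := fun i hi h => by
        obtain ⟨hiS, hiT⟩ := (hmemC i).1 hi
        exact hiT (isLift_fix_unique (le_of_lt (by omega : 2 < 4)) hno hS ha hb hab hu hiS hzS h
          huz ▸ hzT)
      have hurC : u r ∈ C := (hmemC _).2 ⟨huS r hrS, fun hm => hrT (mem_outFix.2 ⟨by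
        have h3 := (mem_outFix.1 hm).1
        rw [← Perm.mul_apply, ← huw₁, Perm.mul_apply] at h3
        exact u.injective h3, hrS⟩)⟩
      have hu2 := apply_apply_of_sq hu.2.1
      have g1 : ∀ i, u (w₁ i) = w₁ (u i) := fun i => by
        rw [← Perm.mul_apply, huw₁, Perm.mul_apply]
      have g2 : ∀ i, u (w₂ i) = w₁ (w₂ (u i)) := fun i => by
        rw [← Perm.mul_apply, huw₂, Perm.mul_apply, Perm.mul_apply]
      have hcm : ∀ i, w₂ (w₁ i) = w₁ (w₂ i) := fun i => by
        rw [← Perm.mul_apply, ← hcomm, Perm.mul_apply]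
      rw [← hCeq] at hurC
      simp only [mem_insert, mem_singleton] at hurC
      rcases hurC with h | h | h | h
      · exact hnofix r hr h
      · refine hnofix _ (hw₂C r hr) ?_
        rw [g2, h, hcm, apply_apply_of_sq hw₁.2.1]
      · have h' := hu2 r
        rw [h, g2, h, apply_apply_of_sq hw₂.2.1] at h'
        exact n1 h'
      · have h' := hu2 r
        rw [h, g1, g2, h, hcm, apply_apply_of_sq hw₁.2.1,
          apply_apply_of_sq hw₂.2.1] at h'
        exact n1 h'
  -- any two transpositions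
  intro x hx y hy x' hx' y' hy' hxy hxy' z hz
  rcases eq_or_ne x' x with rfl | hx'x
  · exact step _ hx _ hy _ hy' hxy hxy' z hz
  · exact step _ hx' _ hx _ hy' hx'x hxy' z (liftFix_symm (step _ hx _ hy _ hx' hxy hx'x.symm z hz))

/-- The base case. -/
theorem exists_alt_of_triv {k : ℕ} (hk : 4 ≤ k) (hG : MulAction.IsMultiplyPretransitive G α k)
    (hkn : k < Fintype.card α) (htriv : Triv G (k + 1)) :
    ∃ Δ : Finset α, Δ.card = k + 1 ∧ alternatingGroup ↥Δ ≤ induced G Δ := by
  rcases Nat.lt_or_ge (Fintype.card α) (k + 3) with hsmall | hn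
  · obtain ⟨Δ, -, hΔ⟩ := exists_subset_card_eq (n := k + 1) (s := (univ : Finset α))
      (by rw [card_univ]; omega)
    refine ⟨Δ, hΔ, alternating_le_induced_of_le (IsMultiplyPretransitive.alternatingGroup_le α G ?_) Δ⟩
    exact MulAction.isMultiplyPretransitive_of_le (n := k)
      (by rw [Nat.card_eq_fintype_card]; omega) (by rw [Nat.card_eq_fintype_card]; omega)
  by_cases hno : NoInv G k
  swap
  · -- involutions fixing `k` points
    simp only [NoInv, not_forall] at hno
    obtain ⟨j, hj, hj2, hjk, hj1⟩ := hno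
    obtain ⟨S₀, hS₀sub, hS₀⟩ := exists_subset_card_eq (s := univ.filter fun i => j i = i)
      (n := k) hjk
    have hinv : ∀ s : Finset α, s.card = k → ∃ g ∈ G, g * g = 1 ∧ g ≠ 1 ∧ ∀ i ∈ s, g i = i := by
      intro s hs
      let φ := Finset.equivOfCardEq (hs.trans hS₀.symm)
      obtain ⟨g, hg, hgs⟩ := exists_agree_fun hG hkn.le hs.le
        (fun i => if hi : i ∈ s then (φ ⟨i, hi⟩ : α) else i) (fun x hx y hy e => by
          simp only [dif_pos (mem_coe.1 hx), dif_pos (mem_coe.1 hy)] at e
          exact congrArg Subtype.val (φ.injective (Subtype.ext e)))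
      refine ⟨g⁻¹ * j * g, G.mul_mem (G.mul_mem (G.inv_mem hg) hj) hg, ?_, fun e => hj1 ?_,
        fun i hi => ?_⟩
      · calc g⁻¹ * j * g * (g⁻¹ * j * g) = g⁻¹ * (j * j) * g := by group
          _ = 1 := by rw [hj2]; group
      · calc j = g * (g⁻¹ * j * g) * g⁻¹ := by group
          _ = 1 := by rw [e]; group
      · have h1 : g i = (φ ⟨i, hi⟩ : α) := by rw [hgs i hi, dif_pos hi]
        rw [Perm.mul_apply, Perm.mul_apply, h1, (mem_filter.1 (hS₀sub (φ ⟨i, hi⟩).2)).2, ← h1,
          Perm.coe_inv, Equiv.symm_apply_apply]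
    obtain ⟨Δ, -, hΔ⟩ := exists_subset_card_eq (n := k + 1) (s := (univ : Finset α))
      (by rw [card_univ]; omega)
    refine ⟨Δ, hΔ, le_of_le_of_eq le_top (induced_eq_top_of_swaps fun x hx y hy hxy => ?_).symm⟩
    refine swaps_of_invol (by omega) htriv hinv ?_ ?_ (fun h => (mem_erase.1 h).1 rfl) hxy
    · rw [card_erase_erase hΔ hx hy hxy]; omega
    · exact fun h => (mem_erase.1 (mem_of_mem_erase h)).1 rfl
  by_cases heven : k % 2 = Fintype.card α % 2
  · exfalso
    have h := sharp_bound hk hG hkn.le (triv_of_even hk hG hn heven hno htriv)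
    have := h.2 (by rw [Nat.even_iff]; omega)
    omega
  obtain ⟨Δ, hΔ, htop⟩ := exists_top_of_common (by omega) hG hkn.le hno heven (by
    rcases eq_or_lt_of_le hk with rfl | h5
    · exact commonFix_four hG hn (by omega) hno htriv
    · exact commonFix_of_five_le h5 hG hkn.le hno)
  exact ⟨Δ, hΔ, htop ▸ le_top⟩

end CfsgLib.Perm.Induced
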