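import Mathlib.GroupTheory.GroupAction.MultipleTransitivity
import Mathlib.GroupTheory.SpecificGroups.Alternating
import Mathlib.GroupTheory.Perm.Cycle.Type
import Mathlib.GroupTheory.OrderOfElement

/-!
Permutations induced by a group on a finite subset, lifts of involutions to elements of a group
without involutions fixing many points.
-/

set_option autoImplicit false

set_option linter.unusedSectionVars false

namespace CfsgLib.Perm.Induced

open Equiv Finset

variable {α : Type*} [Fintype α] [DecidableEq α]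

/-- The permutations of `Δ` realized by elements of `G`. -/
def induced (G : Subgroup (Perm α)) (Δ : Finset α) : Subgroup (Perm ↥Δ) where
  carrier := {σ | ∃ g ∈ G, ∀ x : ↥Δ, g (x : α) = (σ x : α)}
  one_mem' := ⟨1, G.one_mem, fun _ => rfl⟩
  mul_mem' := by
    rintro σ τ ⟨g, hg, hgσ⟩ ⟨h, hh, hhτ⟩
    refine ⟨g * h, G.mul_mem hg hh, fun x => ?_⟩
    rw [Perm.mul_apply, Perm.mul_apply, hhτ, hgσ]
  inv_mem' := by
    rintro σ ⟨g, hg, hgσ⟩
    refine ⟨g⁻¹, G.inv_mem hg, fun x => ?_⟩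
    have := hgσ (σ⁻¹ x)
    rw [Perm.coe_inv] at this ⊢
    rw [Equiv.symm_apply_eq]
    rw [Equiv.apply_symm_apply] at this
    exact this.symm

theorem mem_induced {G : Subgroup (Perm α)} {Δ : Finset α} {σ : Perm ↥Δ} :
    σ ∈ induced G Δ ↔ ∃ g ∈ G, ∀ x : ↥Δ, g (x : α) = (σ x : α) := Iff.rfl

/-- Some element of `G` fixes `s` pointwise and interchanges `x` and `y`. -/
def Swaps (G : Subgroup (Perm α)) (s : Finset α) (x y : α) : Prop :=
  ∃ g ∈ G, (∀ i ∈ s, g i = i) ∧ g x = y ∧ g y = x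

/-- Number of fixed points. -/
def fixCard (g : Perm α) : ℕ := (univ.filter fun i => g i = i).card

/-- No involution of `G` fixes `k` or more points. -/
def NoInv (G : Subgroup (Perm α)) (k : ℕ) : Prop :=
  ∀ g ∈ G, g * g = 1 → k ≤ fixCard g → g = 1

/-- Only the identity of `G` fixes `m` or more points. -/
def Triv (G : Subgroup (Perm α)) (m : ℕ) : Prop := ∀ g ∈ G, m ≤ fixCard g → g = 1

theorem card_le_fixCard {g : Perm α} {s : Finset α} (h : ∀ i ∈ s, g i = i) :
    s.card ≤ fixCard g :=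
  card_le_card fun i hi => mem_filter.2 ⟨mem_univ _, h i hi⟩

theorem fixCard_conj (g h : Perm α) : fixCard (g * h * g⁻¹) = fixCard h := by
  refine (card_equiv g ?_).symm
  intro i
  rw [mem_filter, mem_filter]
  simp only [mem_univ, true_and, Perm.mul_apply]
  rw [Perm.coe_inv, Equiv.symm_apply_apply]
  exact g.injective.eq_iff.symm

theorem fixCard_mod_two {g : Perm α} (hg : g * g = 1) : fixCard g % 2 = Fintype.card α % 2 := by
  have h := Perm.two_dvd_card_support (σ := g) (by rw [sq, hg])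
  have h' : fixCard g + g.support.card = Fintype.card α := by
    rw [fixCard, ← card_univ, Perm.support]
    exact card_filter_add_card_filter_not _
  omega

theorem apply_apply_of_sq {g : Perm α} (h : g * g = 1) (x : α) : g (g x) = x := by
  rw [← Perm.mul_apply, h, Perm.one_apply]

theorem swapsPerm_induced {G : Subgroup (Perm α)} {Δ : Finset α} {x y : ↥Δ} (hxy : x ≠ y)
    (h : Swaps G ((Δ.erase x).erase y) x y) : Equiv.swap x y ∈ induced G Δ := by
  obtain ⟨g, hg, hfix, hgx, hgy⟩ := h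
  refine ⟨g, hg, fun z => ?_⟩
  rcases eq_or_ne z x with rfl | hzx
  · rw [Equiv.swap_apply_left, hgx]
  rcases eq_or_ne z y with rfl | hzy
  · rw [Equiv.swap_apply_right, hgy]
  rw [Equiv.swap_apply_of_ne_of_ne hzx hzy]
  exact hfix z (mem_erase.2 ⟨fun e => hzy (Subtype.ext e), mem_erase.2
    ⟨fun e => hzx (Subtype.ext e), z.2⟩⟩)

theorem induced_eq_top_of_swap {G : Subgroup (Perm α)} {Δ : Finset α}
    (h : ∀ x y : ↥Δ, x ≠ y → Equiv.swap x y ∈ induced G Δ) : induced G Δ = ⊤ := by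
  rw [eq_top_iff]
  intro σ hσ
  clear hσ
  induction σ using Perm.swap_induction_on with
  | one => exact one_mem _
  | swap_mul f x y hxy hf => exact mul_mem (h x y hxy) hf

theorem induced_eq_top_of_swaps {G : Subgroup (Perm α)} {Δ : Finset α}
    (h : ∀ x ∈ Δ, ∀ y ∈ Δ, x ≠ y → Swaps G ((Δ.erase x).erase y) x y) : induced G Δ = ⊤ :=
  induced_eq_top_of_swap fun x y hxy =>
    swapsPerm_induced hxy (h x x.2 y y.2 fun e => hxy (Subtype.ext e))

theorem alternating_le_induced_of_le {G : Subgroup (Perm α)} (hA : alternatingGroup α ≤ G)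
    (Δ : Finset α) : alternatingGroup ↥Δ ≤ induced G Δ := by
  intro σ hσ
  refine ⟨Perm.ofSubtype σ, hA ?_, fun x => Perm.ofSubtype_apply_coe σ x⟩
  rw [Perm.mem_alternatingGroup] at hσ ⊢
  rwa [Perm.sign_ofSubtype]

/-- Multiply transitive groups map any small set by any permutation. -/
theorem exists_agree {G : Subgroup (Perm α)} {k : ℕ}
    (hG : MulAction.IsMultiplyPretransitive G α k) (hkn : k ≤ Fintype.card α) (σ : Perm α)
    {s : Finset α} (hs : s.card ≤ k) : ∃ g ∈ G, ∀ x ∈ s, g x = σ x := by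
  have : MulAction.IsMultiplyPretransitive G α s.card :=
    MulAction.isMultiplyPretransitive_of_le (n := k) hs (by rwa [Nat.card_eq_fintype_card])
  rw [MulAction.isMultiplyPretransitive_iff] at this
  let e : Fin s.card ↪ α := s.equivFin.symm.toEmbedding.trans (Function.Embedding.subtype _)
  obtain ⟨g, hg⟩ := this e (e.trans σ.toEmbedding)
  refine ⟨g, g.2, fun x hx => ?_⟩
  have h := congrArg (fun f : Fin s.card ↪ α => f (s.equivFin ⟨x, hx⟩)) hg
  simpa [e, Function.Embedding.smul_apply, Subgroup.smul_def] using h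

/-! ### Groups without involutions fixing `k` points -/

theorem odd_orderOf {G : Subgroup (Perm α)} {k : ℕ} (hno : NoInv G k) {g : Perm α} (hg : g ∈ G)
    {s : Finset α} (hs : k ≤ s.card) (hfix : ∀ i ∈ s, g i = i) : Odd (orderOf g) := by
  rw [← Nat.not_even_iff_odd]
  rintro ⟨m, hm⟩
  have hpos : 0 < orderOf g := orderOf_pos g
  have h1 : g ^ m * g ^ m = 1 := by rw [← pow_add, ← hm, pow_orderOf_eq_one]
  have h2 := hno _ (G.pow_mem hg m) h1 (hs.trans (card_le_fixCard fun i hi =>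
    Perm.pow_apply_eq_self_of_apply_eq_self (hfix i hi) m))
  exact pow_ne_one_of_lt_orderOf (by omega) (by omega) h2

/-- An odd power which is an involution and agrees with `g` where `g` acts as one. -/
theorem exists_sq_eq_one {G : Subgroup (Perm α)} {k : ℕ} (hno : NoInv G k) {g : Perm α}
    (hg : g ∈ G) {s : Finset α} (hs : k ≤ s.card) (hfix : ∀ i ∈ s, g (g i) = i) :
    ∃ m : ℕ, g ^ m * g ^ m = 1 ∧ ∀ x : α, g (g x) = x → (g ^ m) x = g x := by
  obtain ⟨j, hj⟩ := odd_orderOf hno (G.mul_mem hg hg) hs (fun i hi => hfix i hi)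
  refine ⟨orderOf (g * g), ?_, fun x hx => ?_⟩
  · have h : g ^ orderOf (g * g) * g ^ orderOf (g * g) = (g * g) ^ orderOf (g * g) :=
      ((Commute.refl g).mul_pow _).symm
    rw [h, pow_orderOf_eq_one]
  · rw [hj, pow_succ', Perm.mul_apply, pow_mul, sq,
      Perm.pow_apply_eq_self_of_apply_eq_self (by rwa [Perm.mul_apply]) j]

/-- Two involutions which agree on a set with at least `k` points are conjugate by an element fixing this set. -/
theorem exists_conj_fix {G : Subgroup (Perm α)} {k : ℕ} (hno : NoInv G k) {a b : Perm α}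
    (ha : a ∈ G) (hb : b ∈ G) (ha2 : a * a = 1) (hb2 : b * b = 1) {s : Finset α}
    (hs : k ≤ s.card) (hab : ∀ i ∈ s, a i = b i) :
    ∃ f ∈ G, (∀ i ∈ s, f i = i) ∧ f * a * f⁻¹ = b := by
  obtain ⟨d, hd⟩ : ∃ d, d = a * b := ⟨_, rfl⟩
  have hdG : d ∈ G := hd ▸ G.mul_mem ha hb
  have hdfix : ∀ i ∈ s, d i = i := fun i hi => by
    rw [hd, Perm.mul_apply, ← hab i hi, apply_apply_of_sq ha2]
  obtain ⟨j, hj⟩ := odd_orderOf hno hdG hs hdfix
  refine ⟨(d ^ (j + 1))⁻¹, G.inv_mem (G.pow_mem hdG _), fun i hi => ?_, ?_⟩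
  · rw [Perm.inv_eq_iff_eq, Perm.pow_apply_eq_self_of_apply_eq_self (hdfix i hi)]
  have hainv : a⁻¹ = a := inv_eq_of_mul_eq_one_right ha2
  have hbinv : b⁻¹ = b := inv_eq_of_mul_eq_one_right hb2
  have hconj : a * d * a⁻¹ = d⁻¹ := by
    rw [hd, mul_inv_rev, hainv, hbinv, ← mul_assoc, ha2, one_mul]
  have hpow : a * d ^ (j + 1) * a⁻¹ = (d ^ (j + 1))⁻¹ := by
    rw [← conj_pow, hconj, inv_pow]
  have h1 : d ^ (j + 1) * d ^ (j + 1) = d := by
    rw [← pow_add, show j + 1 + (j + 1) = orderOf d + 1 by omega, pow_succ, pow_orderOf_eq_one,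
      one_mul]
  calc (d ^ (j + 1))⁻¹ * a * ((d ^ (j + 1))⁻¹)⁻¹
      = a * d ^ (j + 1) * a⁻¹ * a * d ^ (j + 1) := by rw [hpow, inv_inv]
    _ = a * (d ^ (j + 1) * d ^ (j + 1)) := by group
    _ = b := by rw [h1, hd, ← mul_assoc, ha2, one_mul]

end CfsgLib.Perm.Induced
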