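import Cfsg.Agent.Lib.Perm.InducedBase
import Cfsg.Agent.Lib.Coprime.Generation
import Cfsg.Agent.S0743
import Mathlib.GroupTheory.Sylow
import Mathlib.GroupTheory.Nilpotent
import Mathlib.GroupTheory.GroupAction.SubMulAction.Combination

/-!
Some set of size `k + 1` in a `k`-transitive group, `k ≥ 4`, has all its even permutations
induced; multiply transitive groups which are homogeneous of one higher degree.
-/

set_option autoImplicit false
set_option linter.unusedSectionVars false

namespace CfsgLib.Perm.Induced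

open Equiv Finset

universe u

variable {α : Type u} [Fintype α] [DecidableEq α] {G : Subgroup (Perm α)}

/-- The pointwise stabilizer of `s` in `G`. -/
def fixIn (G : Subgroup (Perm α)) (s : Finset α) : Subgroup (Perm α) where
  carrier := {g | g ∈ G ∧ ∀ i ∈ s, g i = i}
  one_mem' := ⟨G.one_mem, fun _ _ => rfl⟩
  mul_mem' := by
    rintro a b ⟨ha, ha'⟩ ⟨hb, hb'⟩
    exact ⟨G.mul_mem ha hb, fun i hi => by rw [Perm.mul_apply, hb' i hi, ha' i hi]⟩
  inv_mem' := by
    rintro a ⟨ha, ha'⟩
    exact ⟨G.inv_mem ha, fun i hi => Perm.inv_eq_iff_eq.2 (ha' i hi).symm⟩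

theorem mem_fixIn {s : Finset α} {g : Perm α} :
    g ∈ fixIn G s ↔ g ∈ G ∧ ∀ i ∈ s, g i = i := Iff.rfl

/-- The points fixed by a subgroup. -/
noncomputable def fixSet (Q : Subgroup (Perm α)) : Finset α := by
  classical exact univ.filter fun i => ∀ g ∈ Q, g i = i

theorem mem_fixSet {Q : Subgroup (Perm α)} {i : α} : i ∈ fixSet Q ↔ ∀ g ∈ Q, g i = i := by
  classical simp [fixSet]

theorem apply_mem_fixSet {Q : Subgroup (Perm α)} {g : Perm α}
    (hg : g ∈ Subgroup.normalizer (Q : Set (Perm α))) {i : α} (hi : i ∈ fixSet Q) :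
    g i ∈ fixSet Q := by
  rw [mem_fixSet] at hi ⊢
  intro q hq
  have hq' : g⁻¹ * q * g ∈ Q := by
    have := (Subgroup.mem_normalizer_iff.1 (inv_mem hg) q).1 hq
    rwa [inv_inv] at this
  have := hi _ hq'
  rw [Perm.mul_apply, Perm.mul_apply, Perm.inv_eq_iff_eq] at this
  exact this

/-- Some `(k+1)`-set has all its even permutations induced. -/
theorem exists_alt {k : ℕ} (hk : 4 ≤ k) : ∀ (n : ℕ) {α : Type u} [Fintype α] [DecidableEq α]
    (G : Subgroup (Perm α)), Fintype.card α = n → k < n →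
    MulAction.IsMultiplyPretransitive G α k →
    ∃ Δ : Finset α, Δ.card = k + 1 ∧ alternatingGroup ↥Δ ≤ induced G Δ := by
  intro n
  induction n using Nat.strong_induction_on with
  | _ n ih =>
  intro α _ _ G hcard hkn hG
  subst hcard
  by_cases htriv : Triv G (k + 1)
  · exact exists_alt_of_triv hk hG hkn htriv
  classical
  simp only [Triv, not_forall] at htriv
  obtain ⟨g₀, hg₀, hg₀fix, hg₀1⟩ := htriv
  obtain ⟨p, hp, hpdvd⟩ := Nat.exists_prime_and_dvd (n := orderOf g₀)
    (fun h => hg₀1 (orderOf_eq_one_iff.1 h))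
  have : Fact p.Prime := ⟨hp⟩
  obtain ⟨x, hx⟩ : ∃ x, x = g₀ ^ (orderOf g₀ / p) := ⟨_, rfl⟩
  have hxo : orderOf x = p := by
    rw [hx]
    exact orderOf_pow_orderOf_div (orderOf_pos g₀).ne' hpdvd
  let 𝒮 : Finset (Subgroup (Perm α)) :=
    univ.filter fun Q => Q ≤ G ∧ IsPGroup p Q ∧ k + 1 ≤ (fixSet Q).card
  have hx𝒮 : Subgroup.zpowers x ∈ 𝒮 := by
    refine mem_filter.2 ⟨mem_univ _, ?_, IsPGroup.of_card (n := 1) (by rw [Nat.card_zpowers, hxo, pow_one]), ?_⟩
    · rw [Subgroup.zpowers_le, hx]; exact G.pow_mem hg₀ _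
    · refine hg₀fix.trans (card_le_card fun i hi => ?_)
      rw [mem_filter] at hi
      rw [mem_fixSet]
      intro g hg
      obtain ⟨m, rfl⟩ := Subgroup.mem_zpowers_iff.1 hg
      refine Perm.zpow_apply_eq_self_of_apply_eq_self ?_ m
      rw [hx]
      exact Perm.pow_apply_eq_self_of_apply_eq_self hi.2 _
  obtain ⟨Q, hQ𝒮, hQmax⟩ := exists_max_image 𝒮 (fun Q => Nat.card Q) ⟨_, hx𝒮⟩
  obtain ⟨-, hQG, hQp, hΦ⟩ := mem_filter.1 hQ𝒮
  have hQ1 : Q ≠ ⊥ := by
    intro h
    have := hQmax _ hx𝒮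
    rw [h, Subgroup.card_bot, Nat.card_zpowers, hxo] at this
    exact absurd hp.two_le (by omega)
  obtain ⟨Φ, hΦdef⟩ : ∃ Φ, Φ = fixSet Q := ⟨_, rfl⟩
  rw [← hΦdef] at hΦ
  have hΦlt : Φ.card < Fintype.card α := by
    rcases eq_or_ne Φ univ with h | h
    · exfalso
      apply hQ1
      rw [eq_bot_iff]
      intro q hq
      rw [Subgroup.mem_bot]
      ext i
      have : i ∈ fixSet Q := by rw [← hΦdef, h]; exact mem_univ _
      exact mem_fixSet.1 this q hq
    · exact card_lt_univ_of_notMem (x := (not_forall.1 (fun hall => h (eq_univ_iff_forall.2 hall))).choose)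
        (not_forall.1 (fun hall => h (eq_univ_iff_forall.2 hall))).choose_spec
  let N : Subgroup (Perm α) := G ⊓ Subgroup.normalizer (Q : Set (Perm α))
  have hNΦ : ∀ g ∈ N, ∀ i ∈ Φ, g i ∈ Φ := fun g hg i hi => by
    rw [hΦdef] at hi ⊢
    exact apply_mem_fixSet (Subgroup.mem_inf.1 hg).2 hi
  -- elements of `N` induce permutations of `Φ`
  have hres : ∀ g ∈ N, ∃ σ ∈ induced N Φ, ∀ i : ↥Φ, g (i : α) = (σ i : α) := by
    intro g hg
    let σ : Perm ↥Φ :=
      { toFun := fun i => ⟨g i, hNΦ g hg i i.2⟩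
        invFun := fun i => ⟨g⁻¹ i, hNΦ _ (inv_mem hg) i i.2⟩
        left_inv := fun i => Subtype.ext (by simp)
        right_inv := fun i => Subtype.ext (by simp) }
    exact ⟨σ, ⟨g, hg, fun i => rfl⟩, fun i => rfl⟩
  have hR : MulAction.IsMultiplyPretransitive (induced N Φ) ↥Φ k := by
    by_cases hA : ∃ s : Finset α, s ⊆ Φ ∧ s.card = k ∧
        ∀ S : Subgroup (Perm α), S ≤ fixIn G s → IsPGroup p S → Nat.card S ≤ Nat.card Q
    · -- `Q` is a Sylow subgroup of the stabilizer of every `k`-set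
      obtain ⟨s₀, hs₀Φ, hs₀, hsyl⟩ := hA
      rw [MulAction.isMultiplyPretransitive_iff]
      intro a b
      let sa : Finset α := univ.image fun i => (a i : α)
      let sb : Finset α := univ.image fun i => (b i : α)
      have hsb : sb.card = k := by
        rw [card_image_of_injective (f := fun i => (b i : α)) _ (fun _ _ h => b.injective (Subtype.ext h)),
          card_univ, Fintype.card_fin]
      -- a map of `a` to `b`
      have hG' := hG
      rw [MulAction.isMultiplyPretransitive_iff] at hG'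
      obtain ⟨g, hg⟩ := hG' (a.trans (Function.Embedding.subtype _)) (b.trans (Function.Embedding.subtype _))
      have hgab : ∀ i, (g : Perm α) (a i) = b i := fun i => DFunLike.congr_fun hg i
      let φ := Finset.equivOfCardEq (hs₀.trans hsb.symm)
      obtain ⟨h, hh, hhs⟩ := exists_agree_fun hG hkn.le hs₀.le
        (fun i => if hi : i ∈ s₀ then (φ ⟨i, hi⟩ : α) else i) (fun x hx y hy e => by
          simp only [dif_pos (mem_coe.1 hx), dif_pos (mem_coe.1 hy)] at e
          exact congrArg Subtype.val (φ.injective (Subtype.ext e)))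
      have hsylb : ∀ S : Subgroup (Perm α), S ≤ fixIn G sb → IsPGroup p S →
          Nat.card S ≤ Nat.card Q := by
        intro S hS hSp
        have hc := hsyl (S.map (MulAut.conj h⁻¹).toMonoidHom) (by
          rintro - ⟨z, hz, rfl⟩
          obtain ⟨hzG, hzfix⟩ := hS hz
          rw [MulEquiv.coe_toMonoidHom, MulAut.conj_apply, inv_inv]
          refine ⟨G.mul_mem (G.mul_mem (G.inv_mem hh) hzG) hh, fun i hi => ?_⟩
          have h1 : h i = (φ ⟨i, hi⟩ : α) := by rw [hhs i hi, dif_pos hi]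
          rw [Perm.mul_apply, Perm.mul_apply, h1, hzfix _ (φ ⟨i, hi⟩).2, ← h1, Perm.coe_inv,
            Equiv.symm_apply_apply])
          (hSp.map _)
        rwa [Subgroup.card_map_of_injective (MulAut.conj h⁻¹).injective] at hc
      obtain ⟨Q', hQ'⟩ : ∃ Q', Q' = Q.map (MulAut.conj (g : Perm α)).toMonoidHom := ⟨_, rfl⟩
      have hQ'le : Q' ≤ fixIn G sb := by
        rw [hQ']
        rintro - ⟨q, hq, rfl⟩
        rw [MulEquiv.coe_toMonoidHom, MulAut.conj_apply]
        refine ⟨G.mul_mem (G.mul_mem g.2 (hQG hq)) (G.inv_mem g.2), fun i hi => ?_⟩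
        obtain ⟨j, -, rfl⟩ := mem_image.1 hi
        rw [Perm.mul_apply, Perm.mul_apply, show (g : Perm α)⁻¹ (b j) = a j from
          Perm.inv_eq_iff_eq.2 (hgab j).symm, mem_fixSet.1 (hΦdef ▸ (a j).2) q hq, hgab]
      have hQle : Q ≤ fixIn G sb := fun q hq => ⟨hQG hq, fun i hi => by
        obtain ⟨j, -, rfl⟩ := mem_image.1 hi
        exact mem_fixSet.1 (hΦdef ▸ (b j).2) q hq⟩
      have hQ'p : IsPGroup p Q' := hQ' ▸ hQp.map _
      have hcQ' : Nat.card Q' = Nat.card Q := by
        rw [hQ', Subgroup.card_map_of_injective (MulAut.conj (g : Perm α)).injective]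
      have hmk : ∀ R : Subgroup (Perm α), R ≤ fixIn G sb → IsPGroup p R → Nat.card R = Nat.card Q →
          ∃ P : Sylow p (fixIn G sb), (P : Subgroup (fixIn G sb)) = R.subgroupOf (fixIn G sb) := by
        intro R hR hRp hRc
        obtain ⟨P, hP⟩ := (hRp.of_equiv (Subgroup.subgroupOfEquivOfLe hR).symm).exists_le_sylow
        refine ⟨P, (Subgroup.eq_of_le_of_card_ge hP ?_).symm⟩
        rw [Nat.card_congr (Subgroup.subgroupOfEquivOfLe hR).toEquiv, hRc,
          ← Subgroup.card_map_of_injective (fixIn G sb).subtype_injective]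
        exact hsylb _ (Subgroup.map_subtype_le _) (P.isPGroup'.map _)
      obtain ⟨P, hP⟩ := hmk Q hQle hQp rfl
      obtain ⟨P', hP'⟩ := hmk Q' hQ'le hQ'p hcQ'
      obtain ⟨f, hf⟩ := MulAction.exists_smul_eq (fixIn G sb) P' P
      have hfg : (f : Perm α) * g ∈ N := by
        refine Subgroup.mem_inf.2 ⟨G.mul_mem f.2.1 g.2, ?_⟩
        rw [Subgroup.mem_normalizer_iff]
        have hfwd : ∀ q ∈ Q, (f : Perm α) * g * q * ((f : Perm α) * g)⁻¹ ∈ Q := by
          intro q hq
          have hgq : (g : Perm α) * q * (g : Perm α)⁻¹ ∈ Q' := by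
            rw [hQ']; exact ⟨q, hq, rfl⟩
          have h1 : (⟨_, hQ'le hgq⟩ : fixIn G sb) ∈ (P' : Subgroup (fixIn G sb)) := by
            rw [hP']; exact hgq
          have h2 : f * ⟨_, hQ'le hgq⟩ * f⁻¹ ∈ (P : Subgroup (fixIn G sb)) := by
            rw [← hf]
            exact ⟨_, h1, rfl⟩
          rw [hP, Subgroup.mem_subgroupOf] at h2
          simpa [mul_assoc] using h2
        intro q
        refine ⟨hfwd q, fun hq => ?_⟩
        have hmap : Q.map (MulAut.conj ((f : Perm α) * g)).toMonoidHom = Q :=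
          Subgroup.eq_of_le_of_card_ge (by rintro - ⟨z, hz, rfl⟩; exact hfwd z hz)
            (by rw [Subgroup.card_map_of_injective (MulAut.conj ((f : Perm α) * g)).injective])
        rw [← hmap] at hq
        obtain ⟨z, hz, e⟩ := hq
        rw [MulEquiv.coe_toMonoidHom, MulAut.conj_apply, mul_left_inj, mul_right_inj] at e
        exact e ▸ hz
      obtain ⟨σ, hσ, hσapp⟩ := hres _ hfg
      refine ⟨⟨σ, hσ⟩, Function.Embedding.ext fun i => Subtype.ext ?_⟩
      show (σ (a i) : α) = b i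
      rw [← hσapp, Perm.mul_apply, hgab]
      exact f.2.2 _ (mem_image.2 ⟨i, mem_univ _, rfl⟩)
    · -- Gleason's lemma
      push Not at hA
      refine Cfsg.Agent.S0743.result (induced N Φ) hp (k := k) (by omega)
        (by rw [Fintype.card_coe]; omega) fun s hs => ?_
      let s' : Finset α := s.map (Function.Embedding.subtype _)
      have hs'Φ : s' ⊆ Φ := fun i hi => by
        obtain ⟨j, -, rfl⟩ := mem_map.1 hi
        exact j.2
      obtain ⟨S, hSle, hSp, hSlt⟩ := hA s' hs'Φ (by rw [card_map, hs])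
      have hQs : Q ≤ fixIn G s' := fun q hq => ⟨hQG hq, fun i hi =>
        mem_fixSet.1 (hΦdef ▸ hs'Φ hi) q hq⟩
      obtain ⟨T, hT⟩ := (hQp.of_equiv (Subgroup.subgroupOfEquivOfLe hQs).symm).exists_le_sylow
      obtain ⟨T', hT'def⟩ : ∃ T', T' = (T : Subgroup (fixIn G s')).map (fixIn G s').subtype := ⟨_, rfl⟩
      have hQT : Q ≤ T' := fun q hq => by
        rw [hT'def]; exact ⟨⟨q, hQs hq⟩, hT hq, rfl⟩
      have hT'p : IsPGroup p T' := hT'def ▸ T.isPGroup'.map _
      have hlt : Nat.card Q < Nat.card T' := by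
        refine lt_of_lt_of_le hSlt ?_
        obtain ⟨T₂, hT₂⟩ := (hSp.of_equiv (Subgroup.subgroupOfEquivOfLe hSle).symm).exists_le_sylow
        rw [hT'def, Subgroup.card_map_of_injective (fixIn G s').subtype_injective,
          ← Nat.card_congr (Subgroup.subgroupOfEquivOfLe hSle).toEquiv, T.card_eq_multiplicity,
          ← T₂.card_eq_multiplicity]
        exact Subgroup.card_le_of_le hT₂
      have : Group.IsNilpotent T' := hT'p.isNilpotent
      have hlt2 : Q.subgroupOf T' < Subgroup.normalizer (Q.subgroupOf T' : Set T') := by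
        refine normalizerCondition_of_isNilpotent _ (lt_top_iff_ne_top.2 fun h => ?_)
        rw [Subgroup.subgroupOf_eq_top] at h
        exact (Subgroup.card_le_of_le h).not_gt hlt
      obtain ⟨U, hU⟩ : ∃ U, U = T' ⊓ Subgroup.normalizer (Q : Set (Perm α)) := ⟨_, rfl⟩
      have hQU : Q < U := by
        refine lt_of_le_of_ne (hU ▸ le_inf hQT Subgroup.le_normalizer) fun e => ?_
        obtain ⟨z, hzN, hzQ⟩ := SetLike.exists_of_lt hlt2
        apply hzQ
        rw [Subgroup.mem_subgroupOf, e, hU, Subgroup.mem_inf]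
        refine ⟨z.2, Subgroup.mem_normalizer_iff.2 fun q => ⟨fun hq => ?_, fun hq => ?_⟩⟩
        · exact (Subgroup.mem_normalizer_iff.1 hzN ⟨q, hQT hq⟩).1 hq
        · have hqT : q ∈ T' := by
            have := T'.mul_mem (T'.mul_mem (T'.inv_mem z.2) (hQT hq)) z.2
            simpa [mul_assoc] using this
          exact (Subgroup.mem_normalizer_iff.1 hzN ⟨q, hqT⟩).2 hq
      have hUT : U ≤ T' := hU ▸ inf_le_left
      have hT'G : T' ≤ fixIn G s' := hT'def ▸ Subgroup.map_subtype_le _
      have hUN : U ≤ N := le_inf (fun z hz => (hT'G (hUT hz)).1) (hU ▸ inf_le_right)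
      have hUp : IsPGroup p U := hT'p.to_le hUT
      have hUfix : (fixSet U).card ≤ k := by
        by_contra hcon
        have h1 := hQmax U (mem_filter.2 ⟨mem_univ _, fun z hz => (hT'G (hUT hz)).1, hUp, by omega⟩)
        exact hQU.ne (Subgroup.eq_of_le_of_card_ge hQU.le h1)
      have hfixU : fixSet U = s' := (eq_of_subset_of_card_le (fun i hi => mem_fixSet.2
        fun z hz => (hT'G (hUT hz)).2 i hi) (by rw [card_map, hs]; exact hUfix)).symm
      refine ⟨(induced U Φ).subgroupOf (induced N Φ), ?_, ?_⟩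
      · rintro ⟨⟨σ, -⟩, hσ⟩
        obtain ⟨z, hz, hzσ⟩ := hσ
        obtain ⟨e, he⟩ := hUp ⟨z, hz⟩
        refine ⟨e, Subtype.ext (Subtype.ext (Equiv.ext fun i => Subtype.ext ?_))⟩
        have hpow : ∀ (m : ℕ) (i : ↥Φ), (z ^ m) (i : α) = ((σ ^ m) i : α) := by
          intro m
          induction m with
          | zero => intro i; rfl
          | succ m ihm =>
            intro i
            rw [pow_succ', pow_succ', Perm.mul_apply, Perm.mul_apply, ihm]
            exact hzσ _
        simp only [SubmonoidClass.coe_pow, OneMemClass.coe_one, Perm.one_apply]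
        have he' : z ^ p ^ e = 1 := by simpa using congrArg Subtype.val he
        rw [← hpow, he', Perm.one_apply]
      · ext i
        rw [MulAction.mem_fixedPoints, mem_coe]
        constructor
        · intro hi
          have hmem : (i : α) ∈ fixSet U := mem_fixSet.2 fun z hz => by
            obtain ⟨σ, hσ, hσapp⟩ := hres z (hUN hz)
            have := hi ⟨⟨σ, hσ⟩, ⟨z, hz, hσapp⟩⟩
            rw [hσapp]
            exact congrArg Subtype.val this
          rw [hfixU] at hmem
          obtain ⟨j, hj, hji⟩ := mem_map.1 hmem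
          rwa [← Subtype.ext (show (j : α) = i from hji)]
        · intro hi z
          obtain ⟨w, hw, hwz⟩ := z.2
          refine Subtype.ext ?_
          show ((z : induced N Φ) : Perm ↥Φ) i = (i : α)
          exact (hwz i).symm.trans ((hT'G (hUT hw)).2 _ (mem_map_of_mem _ hi))
  obtain ⟨Δ, hΔ, hΔA⟩ := ih Φ.card hΦlt (induced N Φ) (Fintype.card_coe Φ) (by omega) hR
  let Δ' : Finset α := Δ.map (Function.Embedding.subtype _)
  let e : ↥Δ ≃ ↥Δ' := Equiv.ofBijective (fun i => ⟨(i : ↥Φ), mem_map_of_mem _ i.2⟩)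
    ⟨fun i j h => Subtype.ext (Subtype.ext (congrArg Subtype.val h :)), fun j => by
      obtain ⟨i, hi, hij⟩ := mem_map.1 j.2
      exact ⟨⟨i, hi⟩, Subtype.ext hij⟩⟩
  refine ⟨Δ', by rw [card_map, hΔ], fun σ hσ => ?_⟩
  obtain ⟨ρ, hρ, hρσ⟩ := hΔA (x := (e.trans σ).trans e.symm) (by
    rw [Perm.mem_alternatingGroup] at hσ ⊢
    rw [Perm.sign_trans_trans_symm, hσ])
  obtain ⟨g, hg, hgρ⟩ := hρ
  refine ⟨g, (Subgroup.mem_inf.1 hg).1, fun i => ?_⟩
  obtain ⟨j, rfl⟩ := e.surjective i
  show g ((j : ↥Φ) : α) = _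
  rw [hgρ, hρσ]
  show ((e (e.symm (σ (e j)))) : α) = _
  rw [Equiv.apply_symm_apply]

end CfsgLib.Perm.Induced
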