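import Cfsg.Agent.Lib.Perm.InducedSmall

/-!
Groups `(k-1)`- and `k`-homogeneous but only `(k-2)`-transitive.
-/

set_option autoImplicit false
set_option linter.unusedSectionVars false

namespace CfsgLib.Perm.Induced

open Equiv Finset
open scoped Pointwise

universe u

variable {α : Type u} [Fintype α] [DecidableEq α] {G : Subgroup (Perm α)}

/-- The arithmetic of such groups. -/
theorem homogeneous_arith {k : ℕ} (hk : 3 ≤ k) (hkn : k < Fintype.card α)
    (hG2 : MulAction.IsMultiplyPretransitive G α (k - 2))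
    (hcon : ¬ MulAction.IsMultiplyPretransitive G α (k - 1))
    (hh1 : MulAction.IsPretransitive G (Set.powersetCard α (k - 1)))
    (hh : MulAction.IsPretransitive G (Set.powersetCard α k)) :
    NoInv G (k - 2) ∧ Triv G (k - 1) ∧ ∃ h f t : ℕ, h ∣ (k - 1).factorial ∧ h ≠ (k - 1).factorial ∧
      f % 2 = 1 ∧ Nat.card G = (Fintype.card α).choose (k - 1) * h ∧
      (Fintype.card α - (k - 1)) * t = k * h ∧
      (Fintype.card α - (k - 2)) * h = (k - 1) * (k - 2).factorial * f := by
  obtain ⟨s₀, -, hs₀⟩ := exists_subset_card_eq (n := k - 1) (s := (univ : Finset α))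
    (by rw [card_univ]; omega)
  obtain ⟨t₀, -, ht₀⟩ := exists_subset_card_eq (n := k) (s := (univ : Finset α))
    (by rw [card_univ]; omega)
  by_cases hl : 1 < Nat.card (fixingSubgroup G (s₀ : Set α))
  · exact absurd (Cfsg.Agent.S0744.result G (k := k) (by omega) (by omega) _
      (Nat.card (fixingSubgroup G (t₀ : Set α))) hl
      (fun s hs => natCard_fixing_eq hh1 hs hs₀) (fun s hs => natCard_fixing_eq hh hs ht₀)) hcon
  have htriv : Triv G (k - 1) := by
    intro g hg hfix
    obtain ⟨s, hsub, hs⟩ := exists_subset_card_eq (s := univ.filter fun i => g i = i) (n := k - 1) hfix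
    have hone : Nat.card (fixingSubgroup G (s : Set α)) ≤ 1 := by
      rw [natCard_fixing_eq hh1 hs hs₀]; omega
    have hmem : (⟨g, hg⟩ : G) ∈ fixingSubgroup G (s : Set α) :=
      (mem_fixingSubgroup_iff G).2 fun i hi => (mem_filter.1 (hsub hi)).2
    rw [Finite.card_le_one_iff_subsingleton] at hone
    exact congrArg (fun x : fixingSubgroup G (s : Set α) => ((x : G) : Perm α))
      (hone.elim ⟨⟨g, hg⟩, hmem⟩ 1)
  have htop : induced G s₀ ≠ ⊤ := fun h => hcon (trans_of_induced hh1 hs₀ h)
  -- involutions fixing `k - 2` points would give all permutations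
  have hno : NoInv G (k - 2) := by
    intro j hj hj2 hjk
    by_contra hj1
    obtain ⟨S₀, hS₀sub, hS₀⟩ := exists_subset_card_eq (s := univ.filter fun i => j i = i)
      (n := k - 2) hjk
    have hinv : ∀ s : Finset α, s.card = k - 2 → ∃ g ∈ G, g * g = 1 ∧ g ≠ 1 ∧ ∀ i ∈ s, g i = i := by
      intro s hs
      let φ := Finset.equivOfCardEq (hs.trans hS₀.symm)
      obtain ⟨g, hg, hgs⟩ := exists_agree_fun hG2 (by omega) hs.le
        (fun i => if hi : i ∈ s then (φ ⟨i, hi⟩ : α) else i) (fun x hx y hy e => by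
          simp only [dif_pos (mem_coe.1 hx), dif_pos (mem_coe.1 hy)] at e
          exact congrArg Subtype.val (φ.injective (Subtype.ext e)))
      refine ⟨g⁻¹ * j * g, G.mul_mem (G.mul_mem (G.inv_mem hg) hj) hg, ?_, fun e => hj1 ?_,
        fun i hi => ?_⟩
      · calc g⁻¹ * j * g * (g⁻¹ * j * g) = g⁻¹ * (j * j) * g := by group
          _ = 1 := by rw [hj2]; group
      · calc j = g * (g⁻¹ * j * g) * g⁻¹ := by group
          _ = 1 := by rw [e]; group
      · have h1 : g i = (φ ⟨i, hi⟩ : α) := by rw [hgs i hi, dif_pos hi]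
        rw [Perm.mul_apply, Perm.mul_apply, h1, (mem_filter.1 (hS₀sub (φ ⟨i, hi⟩).2)).2, ← h1,
          Perm.coe_inv, Equiv.symm_apply_apply]
    refine htop (induced_eq_top_of_swaps fun x hx y hy hxy => swaps_of_invol (k := k - 2) (by omega)
      (by rwa [show k - 2 + 1 = k - 1 by omega]) hinv ?_ ?_ (fun h => (mem_erase.1 h).1 rfl) hxy)
    · rw [card_erase_erase hs₀ hx hy hxy]; omega
    · exact fun h => (mem_erase.1 (mem_of_mem_erase h)).1 rfl
  -- the order of the group
  obtain ⟨h, hhdef⟩ : ∃ h, h = Nat.card (induced G s₀) := ⟨_, rfl⟩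
  have hcard := card_eq_choose_mul hh1 htriv hs₀
  rw [← hhdef] at hcard
  have hfac : h ∣ (k - 1).factorial := by
    have := (induced G s₀).card_subgroup_dvd_card
    rwa [← hhdef, Nat.card_eq_fintype_card, Fintype.card_perm, Fintype.card_coe, hs₀] at this
  have hne : h ≠ (k - 1).factorial := fun e => htop (Subgroup.eq_top_of_card_eq _ (by
    rw [← hhdef, e, Nat.card_eq_fintype_card, Fintype.card_perm, Fintype.card_coe, hs₀]))
  have hpos : 0 < h := hhdef ▸ Nat.card_pos
  obtain ⟨u₀, -, hu₀⟩ := exists_subset_card_eq (n := k - 2) (s := (univ : Finset α))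
    (by rw [card_univ]; omega)
  obtain ⟨f, hf⟩ : ∃ f, f = Nat.card (fixingSubgroup G (u₀ : Set α)) := ⟨_, rfl⟩
  have hcard2 : Nat.card G = (Fintype.card α).choose (k - 2) * (k - 2).factorial * f := by
    have := MulAction.IsMultiplyPretransitive.index_of_fixingSubgroup_eq (G := G) (u₀ : Set α)
      (by rw [Set.ncard_coe_finset, hu₀]; exact hG2)
    rw [Set.ncard_coe_finset, hu₀, Nat.card_eq_fintype_card] at this
    rw [← this, hf, Subgroup.index_mul_card]
  have hfodd : f % 2 = 1 := by
    by_contra h2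
    obtain ⟨g, hg⟩ := exists_prime_orderOf_dvd_card' (G := fixingSubgroup G (u₀ : Set α)) 2
      (by rw [← hf]; omega)
    have hgfix : ∀ i ∈ u₀, (((g : G) : Perm α)) i = i := fun i hi =>
      (mem_fixingSubgroup_iff G).1 g.2 i hi
    have := odd_orderOf hno (g : G).2 hu₀.ge hgfix
    rw [Subgroup.orderOf_coe, Subgroup.orderOf_coe, hg] at this
    exact absurd this (by decide)
  have hdvd : (Fintype.card α).choose k ∣ Nat.card G := by
    have := MulAction.index_stabilizer_of_transitive G (⟨t₀, ht₀⟩ : Set.powersetCard α k)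
    rw [Set.powersetCard.card, Nat.card_eq_fintype_card] at this
    rw [← this]
    exact Subgroup.index_dvd_card _
  obtain ⟨n, hn⟩ : ∃ n, n = Fintype.card α := ⟨_, rfl⟩
  rw [← hn] at hcard hcard2 hdvd hkn
  obtain ⟨t, ht⟩ := hdvd
  -- the two consequences
  have e1 : (n - (k - 1)) * t = k * h := by
    have h0 := Nat.choose_succ_right_eq n (k - 1)
    rw [show k - 1 + 1 = k by omega] at h0
    refine Nat.eq_of_mul_eq_mul_left (Nat.choose_pos (by omega : k - 1 ≤ n)) ?_
    calc n.choose (k - 1) * ((n - (k - 1)) * t) = n.choose k * k * t := by rw [h0]; ring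
      _ = k * (n.choose k * t) := by ring
      _ = k * (n.choose (k - 1) * h) := by rw [← ht, hcard]
      _ = _ := by ring
  have e2 : (n - (k - 2)) * h = (k - 1) * (k - 2).factorial * f := by
    have h0 := Nat.choose_succ_right_eq n (k - 2)
    rw [show k - 2 + 1 = k - 1 by omega] at h0
    refine Nat.eq_of_mul_eq_mul_left (Nat.choose_pos (by omega : k - 2 ≤ n)) ?_
    calc n.choose (k - 2) * ((n - (k - 2)) * h) = n.choose (k - 1) * (k - 1) * h := by rw [h0]; ring
      _ = (k - 1) * (n.choose (k - 1) * h) := by ring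
      _ = (k - 1) * (n.choose (k - 2) * (k - 2).factorial * f) := by rw [← hcard, hcard2]
      _ = _ := by ring
  have hle : n - (k - 1) ≤ k * h := Nat.le_of_dvd (Nat.mul_pos (by omega) hpos) ⟨t, e1.symm⟩
  rw [← hn]
  exact ⟨hno, htriv, h, f, t, hfac, hne, hfodd, hcard, e1, e2⟩

/-- The theorem of Livingstone and Wagner on exceptions, degree three. -/
theorem homogeneous_three (hn : 3 < Fintype.card α) (hn' : Fintype.card α < 6)
    (hh : MulAction.IsPretransitive G (Set.powersetCard α 2)) :
    MulAction.IsMultiplyPretransitive G α 2 := by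
  obtain ⟨s, -, hs⟩ := exists_subset_card_eq (n := 2) (s := (univ : Finset α))
    (by rw [card_univ]; omega)
  have hdvd : (Fintype.card α).choose 2 ∣ Nat.card G := by
    have := MulAction.index_stabilizer_of_transitive G (⟨s, hs⟩ : Set.powersetCard α 2)
    rw [Set.powersetCard.card, Nat.card_eq_fintype_card] at this
    rw [← this]
    exact Subgroup.index_dvd_card _
  have heven : 2 ∣ Nat.card G := dvd_trans (by interval_cases (Fintype.card α) <;> decide) hdvd
  obtain ⟨g, hg⟩ := exists_prime_orderOf_dvd_card' 2 heven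
  rw [← Subgroup.orderOf_coe] at hg
  obtain ⟨x, hx⟩ : ∃ x, (g : Perm α) x ≠ x := by
    by_contra hall
    push Not at hall
    have h1 : (g : Perm α) = 1 := Equiv.ext hall
    rw [h1, orderOf_one] at hg
    omega
  have hg2 : (g : Perm α) * g = 1 := by rw [← sq, ← hg]; exact pow_orderOf_eq_one _
  have hp : ({x, (g : Perm α) x} : Finset α).card = 2 := card_pair (Ne.symm hx)
  refine trans_of_induced hh hp (induced_eq_top_of_swaps fun a ha b hb hab => ?_)
  simp only [mem_insert, mem_singleton] at ha hb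
  refine ⟨g, g.2, fun i hi => ?_, ?_⟩
  · simp only [mem_erase, mem_insert, mem_singleton] at hi
    obtain ⟨hib, hia, hi⟩ := hi
    rcases ha with rfl | rfl <;> rcases hb with rfl | rfl <;> rcases hi with rfl | rfl <;>
      first
        | exact absurd rfl hab
        | exact absurd rfl hia
        | exact absurd rfl hib
  · rcases ha with rfl | rfl <;> rcases hb with rfl | rfl
    · exact absurd rfl hab
    · exact ⟨rfl, apply_apply_of_sq hg2 _⟩
    · exact ⟨apply_apply_of_sq hg2 _, rfl⟩
    · exact absurd rfl hab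

theorem fixCard_mod_prime {p : ℕ} (hp : p.Prime) {g : Perm α} (hg : orderOf g = p) :
    fixCard g % p = Fintype.card α % p ∧ fixCard g < Fintype.card α := by
  obtain ⟨m, hm⟩ := Perm.cycleType_prime_order (by rw [hg]; exact hp)
  have h := g.sum_cycleType
  rw [hm, Multiset.sum_replicate, hg, smul_eq_mul] at h
  have h' : fixCard g + g.support.card = Fintype.card α := by
    rw [fixCard, ← card_univ, Perm.support]
    exact card_filter_add_card_filter_not _
  refine ⟨?_, ?_⟩
  · rw [← h', ← h, Nat.add_mul_mod_self_right]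
  · have : 0 < g.support.card := by rw [← h]; exact Nat.mul_pos m.succ_pos hp.pos
    omega

/-- No group of degree seven is sharply triply transitive. -/
theorem no_degree_seven (hn : Fintype.card α = 7)
    (hG : MulAction.IsMultiplyPretransitive G α 3) (hno : NoInv G 3) (htriv : Triv G 4)
    (hcard : Nat.card G = 210) : False := by
  obtain ⟨S, -, hS⟩ := exists_subset_card_eq (n := 3) (s := (univ : Finset α))
    (by rw [card_univ]; omega)
  obtain ⟨a, b, x, hab, hax, hbx, hset⟩ := card_eq_three.1 hS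
  obtain ⟨u, hu⟩ := exists_isLift hG (by omega) hno hS (x := a) (y := b) (by simp [hset]) (by simp [hset])
  have hux : u x = x := hu.2.2.1 x (by simp [hset, hax.symm, hbx.symm])
  -- the involution is odd
  have hfu : fixCard u = 1 := by
    have h1 : ({x} : Finset α).card ≤ fixCard u := card_le_fixCard fun i hi => by
      rw [mem_singleton] at hi; rwa [hi]
    rw [card_singleton] at h1
    have h2 : ¬ 3 ≤ fixCard u := fun h => isLift_ne hab hu (hno u hu.1 hu.2.1 h)
    have := fixCard_mod_two hu.2.1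
    omega
  have huo : orderOf u = 2 := orderOf_eq_prime (by rw [sq, hu.2.1]) (isLift_ne hab hu)
  have husign : Perm.sign u = -1 := by
    obtain ⟨m, hm⟩ := Perm.cycleType_prime_order (σ := u) (by rw [huo]; norm_num)
    have h := u.sum_cycleType
    rw [hm, Multiset.sum_replicate, huo, smul_eq_mul] at h
    have h' : fixCard u + u.support.card = Fintype.card α := by
      rw [fixCard, ← card_univ, Perm.support]
      exact card_filter_add_card_filter_not _
    rw [Perm.sign_of_cycleType, hm, Multiset.sum_replicate, Multiset.card_replicate, huo,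
      show m = 2 by omega]
    rfl
  obtain ⟨H, hH⟩ : ∃ H, H = fixIn G ({x} : Finset α) := ⟨_, rfl⟩
  have hHc : Nat.card H = 30 := by
    have hG1 : MulAction.IsPretransitive G α := by
      rw [← MulAction.is_one_pretransitive_iff]
      exact MulAction.isMultiplyPretransitive_of_le (n := 3) (by omega)
        (by rw [Nat.card_eq_fintype_card]; omega)
    have h1 := (MulAction.stabilizer G x).index_mul_card
    rw [MulAction.index_stabilizer_of_transitive G x, Nat.card_eq_fintype_card (α := α), hn, hcard] at h1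
    have h2 : Nat.card H = Nat.card (MulAction.stabilizer G x) := by
      rw [hH]
      refine Nat.card_eq_of_bijective (fun g => ⟨⟨g.1, g.2.1⟩, MulAction.mem_stabilizer_iff.2 (g.2.2 x (by simp))⟩) ⟨fun c d e => ?_, fun g => ?_⟩
      · exact Subtype.ext (congrArg (fun z : MulAction.stabilizer G x => ((z : G) : Perm α)) e)
      · exact ⟨⟨((g : G) : Perm α), (g : G).2, fun i hi => by
          rw [mem_singleton] at hi; subst hi; exact MulAction.mem_stabilizer_iff.1 g.2⟩,
          Subtype.ext (Subtype.ext rfl)⟩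
    omega
  have huH : u ∈ H := hH ▸ ⟨hu.1, fun i hi => by rw [mem_singleton] at hi; rwa [hi]⟩
  obtain ⟨φ, hφ⟩ : ∃ φ : H →* ℤˣ, φ = Perm.sign.comp H.subtype := ⟨_, rfl⟩
  have hsurj : Function.Surjective φ := fun e => by
    rcases Int.units_eq_one_or e with rfl | rfl
    · exact ⟨1, map_one φ⟩
    · exact ⟨⟨u, huH⟩, by rw [hφ]; exact husign⟩
  have hker : Nat.card φ.ker = 15 := by
    have h1 := φ.ker.index_mul_card
    rw [Subgroup.index_ker, MonoidHom.range_eq_top.2 hsurj, Subgroup.card_top, hHc] at h1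
    have h2 : Nat.card ℤˣ = 2 := by simp
    rw [h2] at h1
    omega
  have : Fact (Nat.Prime 5) := ⟨by norm_num⟩
  have : Fact (Nat.Prime 3) := ⟨by norm_num⟩
  obtain ⟨P⟩ : Nonempty (Sylow 5 φ.ker) := inferInstance
  have hPc : Nat.card P = 5 := by
    rw [P.card_eq_multiplicity, hker]
    have h1 : (15 : ℕ).factorization 5 = 1 := by
      refine le_antisymm ?_ ((Nat.Prime.dvd_iff_one_le_factorization (by norm_num) (by norm_num)).1 (by norm_num))
      by_contra hh'
      exact absurd ((Nat.Prime.pow_dvd_iff_le_factorization (p := 5) (n := 15) (k := 2) (by norm_num) (by norm_num)).2 (by omega)) (by norm_num)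
    rw [h1, pow_one]
  have hn1 : Nat.card (Sylow 5 φ.ker) = 1 := by
    have h1 : Nat.card (Sylow 5 φ.ker) ∣ 3 := by
      have hidx : (P : Subgroup φ.ker).index = 3 := by
        have h2 := (P : Subgroup φ.ker).index_mul_card
        rw [show Nat.card (P : Subgroup φ.ker) = 5 from hPc, hker] at h2
        omega
      rw [← hidx]; exact P.card_dvd_index
    have h2 := card_sylow_modEq_one 5 φ.ker
    rw [Nat.ModEq] at h2
    rcases (Nat.dvd_prime (by norm_num)).1 h1 with h3 | h3
    · exact h3
    · omega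
  have : Subsingleton (Sylow 5 φ.ker) := (Nat.card_eq_one_iff_unique.1 hn1).1
  have hPn : (P : Subgroup φ.ker).Normal := P.normal_of_subsingleton
  obtain ⟨c, hc⟩ := exists_prime_orderOf_dvd_card' (G := P) 5 (by rw [hPc])
  obtain ⟨d, hd⟩ := exists_prime_orderOf_dvd_card' (G := φ.ker) 3 (by rw [hker]; norm_num)
  obtain ⟨C, hC⟩ : ∃ C : Perm α, C = (((c : φ.ker) : H) : Perm α) := ⟨_, rfl⟩
  obtain ⟨D, hD⟩ : ∃ D : Perm α, D = ((d : H) : Perm α) := ⟨_, rfl⟩
  have hCo : orderOf C = 5 := by
    rw [hC, Subgroup.orderOf_coe, Subgroup.orderOf_coe, Subgroup.orderOf_coe, hc]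
  have hDo : orderOf D = 3 := by rw [hD, Subgroup.orderOf_coe, Subgroup.orderOf_coe, hd]
  have hmem : ∀ g : H, (g : Perm α) ∈ G ∧ (g : Perm α) x = x := fun g => by
    have h1 : (g : Perm α) ∈ fixIn G {x} := hH ▸ g.2
    exact ⟨h1.1, h1.2 x (by simp)⟩
  have hCne : C ≠ 1 := fun e => by rw [e, orderOf_one] at hCo; omega
  have hDne : D ≠ 1 := fun e => by rw [e, orderOf_one] at hDo; omega
  have hCG : C ∈ G := hC ▸ (hmem _).1
  have hDG : D ∈ G := hD ▸ (hmem _).1
  have hCf : fixCard C = 2 := by
    have h1 := (fixCard_mod_prime (by norm_num : Nat.Prime 5) hCo).1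
    have h2 : ¬ 4 ≤ fixCard C := fun h => hCne (htriv C hCG h)
    omega
  have hDC : ∀ i, C i = i → C (D i) = D i := by
    intro i hi
    have hz : Subgroup.zpowers (c : φ.ker) = (P : Subgroup φ.ker) :=
      Subgroup.eq_of_le_of_card_ge (Subgroup.zpowers_le.2 c.2)
        (by rw [Nat.card_zpowers, Subgroup.orderOf_coe, hc, hPc])
    obtain ⟨m, hm⟩ := Subgroup.mem_zpowers_iff.1 (hz.ge (hPn.conj_mem' _ c.2 d))
    have hm' : C ^ m = D⁻¹ * C * D := by
      have := congrArg (fun g : φ.ker => ((g : H) : Perm α)) hm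
      simpa [hC, hD] using this
    have h2 : (D⁻¹ * C * D) i = i := by
      rw [← hm']; exact Perm.zpow_apply_eq_self_of_apply_eq_self hi m
    rw [Perm.mul_apply, Perm.mul_apply, Perm.inv_eq_iff_eq] at h2
    exact h2
  obtain ⟨z, hz⟩ : ∃ z, C z = z ∧ z ≠ x := by
    have hcard' : 0 < ((univ.filter fun i => C i = i).erase x).card := by
      have h3 := pred_card_le_card_erase (s := univ.filter fun i => C i = i) (a := x)
      unfold fixCard at hCf
      omega
    obtain ⟨z, hz⟩ := card_pos.1 hcard'
    obtain ⟨hzx, hz⟩ := mem_erase.1 hz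
    exact ⟨z, (mem_filter.1 hz).2, hzx⟩
  have hDx : D x = x := hD ▸ (hmem _).2
  have hCx : C x = x := hC ▸ (hmem _).2
  have hfix2 : univ.filter (fun i => C i = i) = {x, z} := by
    refine (eq_of_subset_of_card_le ?_ ?_).symm
    · simp [insert_subset_iff, hCx, hz.1]
    · rw [card_pair hz.2.symm]; exact hCf.le
  have hDz : D z = z := by
    have h1 : D z ∈ univ.filter fun i => C i = i := mem_filter.2 ⟨mem_univ _, hDC z hz.1⟩
    rw [hfix2, mem_insert, mem_singleton] at h1
    rcases h1 with h1 | h1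
    · exact absurd (D.injective (h1.trans hDx.symm)) hz.2
    · exact h1
  have h1 := (fixCard_mod_prime (by norm_num : Nat.Prime 3) hDo).1
  have h2 : ({x, z} : Finset α).card ≤ fixCard D := card_le_fixCard fun i hi => by
    rcases mem_insert.1 hi with rfl | hi
    · exact hDx
    · rw [mem_singleton] at hi; rwa [hi]
  rw [card_pair hz.2.symm] at h2
  exact hDne (htriv D hDG (by omega))

/-- The exceptions of Livingstone and Wagner. -/
theorem homogeneous_exceptions {k : ℕ} (hk : 3 ≤ k) (hkn : k ≤ Fintype.card α)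
    (ht : MulAction.IsMultiplyPretransitive G α (k - 2))
    (hnt : ¬ MulAction.IsMultiplyPretransitive G α (k - 1))
    (hh1 : MulAction.IsPretransitive G (Set.powersetCard α (k - 1)))
    (hh : MulAction.IsPretransitive G (Set.powersetCard α k)) :
    (k = Fintype.card α ∧ G = alternatingGroup α) ∨
      (Fintype.card α = 5 ∧ k = 4 ∧ Nat.card G = 20) ∨
      (Fintype.card α = 6 ∧ k = 5 ∧ Nat.card G = 120) ∨
      (Fintype.card α = 9 ∧ k = 5 ∧ (Nat.card G = 504 ∨ Nat.card G = 1512)) := by
  rcases eq_or_lt_of_le hkn with hkeq | hlt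
  · refine Or.inl ⟨hkeq, le_antisymm ?_ (IsMultiplyPretransitive.alternatingGroup_le α G
      (by rwa [Nat.card_eq_fintype_card, ← hkeq]))⟩
    intro g hg
    rw [Perm.mem_alternatingGroup]
    by_contra hodd
    apply hnt
    have hA := IsMultiplyPretransitive.alternatingGroup_le α G
      (by rwa [Nat.card_eq_fintype_card, ← hkeq])
    have htop : G = ⊤ := by
      rw [eq_top_iff]
      intro σ hσ
      clear hσ
      rcases Int.units_eq_one_or (Perm.sign σ) with h | h
      · exact hA (Perm.mem_alternatingGroup.2 h)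
      · have h2 : g * σ ∈ G := hA (Perm.mem_alternatingGroup.2 (by
          rw [map_mul, (Int.units_eq_one_or (Perm.sign g)).resolve_left hodd, h]; rfl))
        have := G.mul_mem (G.inv_mem hg) h2
        rwa [inv_mul_cancel_left] at this
    subst htop
    rw [MulAction.isMultiplyPretransitive_iff]
    intro p q
    obtain ⟨σ, hσ⟩ := MulAction.isMultiplyPretransitive_iff.1
      (Equiv.Perm.isMultiplyPretransitive α (k - 1)) p q
    exact ⟨⟨σ, Subgroup.mem_top σ⟩, hσ⟩
  rcases Nat.lt_or_ge k 6 with hk6 | hk6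
  swap
  · have := isMultiplyPretransitive_succ_of_homogeneous (k := k - 2) (by omega) (by omega) ht
      (by rwa [show k - 2 + 1 = k - 1 by omega])
    rw [show k - 2 + 1 = k - 1 by omega] at this
    exact absurd this hnt
  rcases Nat.lt_or_ge (Fintype.card α) (2 * k) with hn2 | hn2
  swap
  · exact absurd (trans_pred_of_homogeneous k (by omega) G hn2 hh) hnt
  obtain ⟨hno, htriv, h, f, t, hfac, hne, hfodd, hcard, e1, e2⟩ :=
    homogeneous_arith hk hlt ht hnt hh1 hh
  obtain ⟨n, hn⟩ : ∃ n, n = Fintype.card α := ⟨_, rfl⟩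
  have hpos : 0 < h := Nat.pos_of_dvd_of_pos hfac (Nat.factorial_pos _)
  rw [← hn] at hcard e1 e2 hlt hn2
  have hle := Nat.le_of_dvd (Nat.factorial_pos _) hfac
  interval_cases k
  · exact absurd (homogeneous_three (hn ▸ hlt) (hn ▸ hn2) hh1) hnt
  · norm_num [Nat.factorial] at hfac hne e1 e2 hle
    have hnh : n = 5 ∧ h = 2 := by
      interval_cases n <;> interval_cases h <;> omega
    obtain ⟨rfl, rfl⟩ := hnh
    exact Or.inr (Or.inl ⟨hn.symm, rfl, by rw [hcard]; decide⟩)
  · norm_num [Nat.factorial] at hfac hne e1 e2 hle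
    have hnh : (n = 6 ∧ h = 8) ∨ (n = 7 ∧ h = 6) ∨ (n = 9 ∧ (h = 4 ∨ h = 12)) := by
      interval_cases n <;> interval_cases h <;> omega
    rcases hnh with ⟨rfl, rfl⟩ | ⟨rfl, rfl⟩ | ⟨rfl, hh4⟩
    · exact Or.inr (Or.inr (Or.inl ⟨hn.symm, rfl, by rw [hcard]; decide⟩))
    · exact absurd (no_degree_seven hn.symm ht hno htriv (by rw [hcard]; decide)) not_false
    · refine Or.inr (Or.inr (Or.inr ⟨hn.symm, rfl, ?_⟩))
      rcases hh4 with rfl | rfl
      · left; rw [hcard]; decide
      · right; rw [hcard]; decide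

end CfsgLib.Perm.Induced
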