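import Cfsg.Agent.Lib.Perm.InducedDescent

/-!
A `k`-transitive group, `k ≥ 4`, which is `(k+1)`-homogeneous of degree at least `k + 3`, is
`(k+1)`-transitive.
-/

set_option autoImplicit false
set_option linter.unusedSectionVars false

namespace CfsgLib.Perm.Induced

open Equiv Finset
open scoped Pointwise

universe u

variable {α : Type u} [Fintype α] [DecidableEq α] {G : Subgroup (Perm α)}

theorem exists_map_finset {k : ℕ} (hh : MulAction.IsPretransitive G (Set.powersetCard α k))
    {s t : Finset α} (hs : s.card = k) (ht : t.card = k) :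
    ∃ g ∈ G, ∀ x, x ∈ t ↔ g⁻¹ x ∈ s := by
  obtain ⟨g, hg⟩ := hh.exists_smul_eq ⟨s, hs⟩ ⟨t, ht⟩
  refine ⟨g, g.2, fun x => ?_⟩
  have h : g • s = t := congrArg Subtype.val hg
  rw [← h, ← Finset.inv_smul_mem_iff]
  rfl

theorem induced_map {s t : Finset α} {g : Perm α} (hg : g ∈ G) (hst : ∀ x, x ∈ t ↔ g⁻¹ x ∈ s)
    (h : induced G s = ⊤) : induced G t = ⊤ := by
  rw [eq_top_iff]
  intro σ hσ
  clear hσ
  have hgs : ∀ i ∈ s, g i ∈ t := fun i hi => by
    rw [hst, Perm.coe_inv, Equiv.symm_apply_apply]; exact hi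
  let e : ↥s ≃ ↥t :=
    { toFun := fun i => ⟨g i, hgs i i.2⟩
      invFun := fun i => ⟨g⁻¹ i, (hst i).1 i.2⟩
      left_inv := fun i => Subtype.ext (by simp)
      right_inv := fun i => Subtype.ext (by simp) }
  obtain ⟨x, hx, hxσ⟩ : (e.trans σ).trans e.symm ∈ induced G s := h ▸ Subgroup.mem_top _
  refine ⟨g * x * g⁻¹, G.mul_mem (G.mul_mem hg hx) (G.inv_mem hg), fun i => ?_⟩
  obtain ⟨j, rfl⟩ := e.surjective i
  rw [Perm.mul_apply, Perm.mul_apply, show ((e j : ↥t) : α) = g j from rfl, Perm.coe_inv,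
    Equiv.symm_apply_apply, hxσ]
  show g (g⁻¹ (σ (e j) : α)) = _
  simp

theorem induced_alt_map {s t : Finset α} {g : Perm α} (hg : g ∈ G) (hst : ∀ x, x ∈ t ↔ g⁻¹ x ∈ s)
    (h : alternatingGroup ↥s ≤ induced G s) : alternatingGroup ↥t ≤ induced G t := by
  intro σ hσ
  have hgs : ∀ i ∈ s, g i ∈ t := fun i hi => by
    rw [hst, Perm.coe_inv, Equiv.symm_apply_apply]; exact hi
  let e : ↥s ≃ ↥t :=
    { toFun := fun i => ⟨g i, hgs i i.2⟩
      invFun := fun i => ⟨g⁻¹ i, (hst i).1 i.2⟩
      left_inv := fun i => Subtype.ext (by simp)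
      right_inv := fun i => Subtype.ext (by simp) }
  obtain ⟨x, hx, hxσ⟩ := h (x := (e.trans σ).trans e.symm) (by
    rw [Perm.mem_alternatingGroup] at hσ ⊢
    rw [Perm.sign_trans_trans_symm, hσ])
  refine ⟨g * x * g⁻¹, G.mul_mem (G.mul_mem hg hx) (G.inv_mem hg), fun i => ?_⟩
  obtain ⟨j, rfl⟩ := e.surjective i
  rw [Perm.mul_apply, Perm.mul_apply, show ((e j : ↥t) : α) = g j from rfl, Perm.coe_inv,
    Equiv.symm_apply_apply, hxσ]
  show g (g⁻¹ (σ (e j) : α)) = _
  simp

/-- A homogeneous group with all permutations induced on one set is multiply transitive. -/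
theorem trans_of_induced {k : ℕ} (hh : MulAction.IsPretransitive G (Set.powersetCard α k))
    {Δ : Finset α} (hΔ : Δ.card = k) (hfull : induced G Δ = ⊤) :
    MulAction.IsMultiplyPretransitive G α k := by
  rw [MulAction.isMultiplyPretransitive_iff]
  intro x y
  let s : Finset α := univ.map x
  let t : Finset α := univ.map y
  obtain ⟨g, hg, hgst⟩ := exists_map_finset hh (s := s) (t := t)
    (by simp [s]) (by simp [t])
  have ht : induced G t = ⊤ := by
    obtain ⟨h, hh', hhst⟩ := exists_map_finset hh hΔ (t := t) (by simp [t])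
    exact induced_map hh' hhst hfull
  have hgx : ∀ i, g (x i) ∈ t := fun i => by
    rw [hgst, Perm.coe_inv, Equiv.symm_apply_apply]
    exact mem_map_of_mem _ (mem_univ i)
  let a : Fin k → ↥t := fun i => ⟨g (x i), hgx i⟩
  let b : Fin k → ↥t := fun i => ⟨y i, mem_map_of_mem _ (mem_univ i)⟩
  have ha : Function.Bijective a := by
    rw [Fintype.bijective_iff_injective_and_card]
    exact ⟨fun i j h => x.injective (g.injective (congrArg Subtype.val h)), by rw [Fintype.card_fin, Fintype.card_coe]; simp [t]⟩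
  have hb : Function.Bijective b := by
    rw [Fintype.bijective_iff_injective_and_card]
    exact ⟨fun i j h => y.injective (congrArg Subtype.val h), by rw [Fintype.card_fin, Fintype.card_coe]; simp [t]⟩
  obtain ⟨f, hf, hfσ⟩ : (Equiv.ofBijective a ha).symm.trans (Equiv.ofBijective b hb) ∈ induced G t :=
    ht ▸ Subgroup.mem_top _
  refine ⟨⟨f * g, G.mul_mem hf hg⟩, Function.Embedding.ext fun i => ?_⟩
  show f (g (x i)) = y i
  rw [show g (x i) = ((Equiv.ofBijective a ha i : ↥t) : α) from rfl, hfσ, Equiv.trans_apply,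
    Equiv.symm_apply_apply]
  rfl

/-- The main step: when all `(k+1)`-sets induce all even permutations, some `k - 1` points are
fixed by an element interchanging two others. -/
theorem exists_swap_of_alt {k : ℕ} (hk : 4 ≤ k) (hG : MulAction.IsMultiplyPretransitive G α k)
    (hn : k + 3 ≤ Fintype.card α)
    (halt : ∀ Δ : Finset α, Δ.card = k + 1 → alternatingGroup ↥Δ ≤ induced G Δ) :
    ∃ I : Finset α, ∃ x y : α, I.card = k - 1 ∧ x ∉ I ∧ y ∉ I ∧ x ≠ y ∧ Swaps G I x y := by
  by_contra hcon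
  push Not at hcon
  have hkn : k ≤ Fintype.card α := by omega
  -- an element with a transposition cycle fixes at most `k - 2` points
  have hNS : ∀ g ∈ G, g * g = 1 → k - 1 ≤ fixCard g → g = 1 := by
    intro g hg hg2 hfix
    by_contra hne
    obtain ⟨c, hc⟩ : ∃ c, g c ≠ c := by
      by_contra h
      push Not at h
      exact hne (Equiv.ext h)
    obtain ⟨I, hI, hIc⟩ := exists_subset_card_eq (s := univ.filter fun i => g i = i) (n := k - 1) hfix
    refine hcon I c (g c) hIc (fun h => hc (mem_filter.1 (hI h)).2)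
      (fun h => hc ?_) (Ne.symm hc) ⟨g, hg, fun i hi => (mem_filter.1 (hI hi)).2, rfl,
        apply_apply_of_sq hg2 c⟩
    exact g.injective (mem_filter.1 (hI h)).2
  have hno : NoInv G k := fun g hg hg2 hfix => hNS g hg hg2 (by omega)
  have hS : ∀ {S : Finset α}, S.card = k → ∀ x ∈ S, ∀ y ∈ S, x ≠ y → ∀ u, IsLift G S x y u →
      fixCard u = k - 2 := by
    intro S hS x hx y hy hxy u hu
    have h1 := card_le_fixCard hu.2.2.1
    rw [card_erase_erase hS hx hy hxy] at h1
    have h2 : ¬ k - 1 ≤ fixCard u := fun h => isLift_ne hxy hu (hNS u hu.1 hu.2.1 h)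
    omega
  obtain ⟨S, -, hSc⟩ := exists_subset_card_eq (n := k) (s := (univ : Finset α))
    (by rw [card_univ]; omega)
  obtain ⟨a, ha⟩ : S.Nonempty := card_pos.1 (by omega)
  obtain ⟨b, hb⟩ : (S.erase a).Nonempty := card_pos.1 (by rw [card_erase_of_mem ha]; omega)
  obtain ⟨c, hc⟩ : ((S.erase a).erase b).Nonempty :=
    card_pos.1 (by rw [card_erase_of_mem hb, card_erase_of_mem ha]; omega)
  obtain ⟨e, he⟩ : (((S.erase a).erase b).erase c).Nonempty :=
    card_pos.1 (by rw [card_erase_of_mem hc, card_erase_of_mem hb, card_erase_of_mem ha]; omega)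
  simp only [mem_erase] at hb hc he
  obtain ⟨hab, hb⟩ := hb
  obtain ⟨hbc, hac, hc⟩ := hc
  obtain ⟨hce, hbe, hae, he⟩ := he
  have F1 : Four S a b c e := ⟨ha, hb, hc, he, hab.symm, hac.symm, hae.symm, hbc.symm, hbe.symm, hce.symm⟩
  have F2 : Four S a c b e :=
    ⟨ha, hc, hb, he, hac.symm, hab.symm, hae.symm, hbc, hce.symm, hbe.symm⟩
  obtain ⟨u, hu⟩ := exists_isLift hG hkn hno hSc ha hb
  have hfu := hS hSc a ha b hb hab.symm u hu
  have hparity : k % 2 = Fintype.card α % 2 := by
    have := fixCard_mod_two hu.2.1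
    omega
  have hout : ∀ a b c e : α, Four S a b c e → ∀ w, IsDouble G S a b c e w →
      (outFix w S).card = 2 := by
    intro a b c e hF w hw
    have := fixCard_double hG hkn hno hSc hF hw hu.1 hu.2.1 (by omega) (by omega)
    rw [fixCard_eq_outFix hSc hF hw, hfu] at this
    omega
  -- lifts fixing a further point
  have hliftz : ∀ a b c e : α, Four S a b c e → ∀ z, z ∉ S →
      ∃ w, IsDouble G S a b c e w ∧ w z = z := by
    intro a b c e hF z hz
    obtain ⟨ha, hb, hc, he, h1, h2, h3, h4, h5, h6⟩ := id hF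
    let Δ := insert z S
    let P : ↥Δ → ↥Δ → Perm ↥Δ := fun p q => Equiv.swap p q
    let a' : ↥Δ := ⟨a, mem_insert_of_mem ha⟩
    let b' : ↥Δ := ⟨b, mem_insert_of_mem hb⟩
    let c' : ↥Δ := ⟨c, mem_insert_of_mem hc⟩
    let e' : ↥Δ := ⟨e, mem_insert_of_mem he⟩
    have heven : P a' b' * P c' e' ∈ alternatingGroup ↥Δ := by
      rw [Perm.mem_alternatingGroup, map_mul, Perm.sign_swap, Perm.sign_swap]
      · exact Int.units_mul_self _
      · exact fun h => h6 (congrArg Subtype.val h)
      · exact fun h => h1 (congrArg Subtype.val h)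
    obtain ⟨g, hg, hgσ⟩ := halt Δ (by rw [card_insert_of_notMem hz, hSc]) heven
    have hval : ∀ i : ↥Δ, g i = Equiv.swap a b (Equiv.swap c e i) := by
      intro i
      rw [hgσ i, Perm.mul_apply]
      show ((Equiv.swap a' b' (Equiv.swap c' e' i) : ↥Δ) : α) = _
      rw [Subtype.val_injective.map_swap, Subtype.val_injective.map_swap]
    have hgS : ∀ i ∈ S, g i = Equiv.swap a b (Equiv.swap c e i) := fun i hi =>
      hval ⟨i, mem_insert_of_mem hi⟩
    have hgz : g z = z := by
      rw [show g z = g ((⟨z, mem_insert_self z S⟩ : ↥Δ) : α) from rfl, hval]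
      show Equiv.swap a b (Equiv.swap c e z) = z
      rw [Equiv.swap_apply_of_ne_of_ne (ne_of_mem_of_not_mem hc hz).symm
          (ne_of_mem_of_not_mem he hz).symm,
        Equiv.swap_apply_of_ne_of_ne (ne_of_mem_of_not_mem ha hz).symm
          (ne_of_mem_of_not_mem hb hz).symm]
    have hgg : ∀ i ∈ S, g (g i) = i := fun i hi => by
      rw [hgS i hi, hgS _ (double_apply_mem hF hi), double_apply_twice hF]
    obtain ⟨m, hm, hmS⟩ := exists_sq_eq_one hno hg hSc.ge hgg
    exact ⟨g ^ m, ⟨G.pow_mem hg m, hm, fun i hi => by rw [hmS i (hgg i hi), hgS i hi]⟩,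
      Perm.pow_apply_eq_self_of_apply_eq_self hgz m⟩
  -- centralizers of lifts fix the points fixed by them
  have hcfix : ∀ a b c e : α, Four S a b c e → ∀ w, IsDouble G S a b c e w → ∀ z, z ∉ S → w z = z →
      ∀ f ∈ G, (∀ i ∈ S, f i = i) → w * f = f * w → f z = z := by
    intro a b c e hF w hw z hz hwz f hf hfS hfw
    obtain ⟨z₁, z₂, -, hset⟩ := card_eq_two.1 (hout a b c e hF w hw)
    have hfout : ∀ i, i ∈ outFix w S → f i ∈ outFix w S := fun i hi => by
      obtain ⟨h, h'⟩ := mem_outFix.1 hi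
      refine mem_outFix.2 ⟨by rw [← Perm.mul_apply, hfw, Perm.mul_apply, h], fun hm => h' ?_⟩
      have := hfS _ hm
      rwa [f.injective this] at hm
    have hzm : z ∈ ({z₁, z₂} : Finset α) := hset ▸ mem_outFix.2 ⟨hwz, hz⟩
    have h1 := hfout z₁ (by rw [hset]; simp)
    have h2 := hfout z₂ (by rw [hset]; simp)
    rw [hset, mem_insert, mem_singleton] at h1 h2
    rcases mem_insert.1 hzm with rfl | h
    · exact apply_eq_of_odd (odd_orderOf hno hf hSc.ge hfS) h1 h2
    · rw [mem_singleton] at h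
      subst h
      exact apply_eq_of_odd (odd_orderOf hno hf hSc.ge hfS) h2.symm h1.symm
  -- the stabilizer of `S` fixes every point
  have hF1 : ∀ x ∈ fixIn G S, x = 1 := by
    intro x hx
    ext z
    rw [Perm.one_apply]
    by_cases hz : z ∈ S
    · exact (mem_fixIn.1 hx).2 z hz
    obtain ⟨w₁, hw₁, hw₁z⟩ := hliftz a b c e F1 z hz
    obtain ⟨w₂, hw₂, hw₂z⟩ := hliftz a c b e F2 z hz
    obtain ⟨ha', hb', hc', he', k1, k2, k3, k4, k5, k6⟩ := id F1
    -- a second lift commuting with the first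
    obtain ⟨f, hf, hfzS, hfc⟩ := exists_conj_fix (k := k) hno
      (G.mul_mem (G.mul_mem hw₂.1 hw₁.1) hw₂.1) hw₁.1
      (by
        calc w₂ * w₁ * w₂ * (w₂ * w₁ * w₂) = w₂ * w₁ * (w₂ * w₂) * w₁ * w₂ := by group
          _ = w₂ * (w₁ * w₁) * w₂ := by rw [hw₂.2.1]; group
          _ = 1 := by rw [hw₁.2.1, mul_one, hw₂.2.1])
      hw₁.2.1 (s := insert z S) (by rw [card_insert_of_notMem hz, hSc]; omega) (fun i hi => by
        rcases mem_insert.1 hi with rfl | hi
        · rw [Perm.mul_apply, Perm.mul_apply, hw₂z, hw₁z, hw₂z]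
        rw [Perm.mul_apply, Perm.mul_apply, hw₂.2.2 i hi, hw₁.2.2 _ (double_apply_mem F2 hi),
          hw₂.2.2 _ (double_apply_mem F1 (double_apply_mem F2 hi)), hw₁.2.2 i hi]
        rcases eq_or_ne i a with rfl | ia
        · simp [Equiv.swap_apply_of_ne_of_ne, k1, k1.symm, k2, k2.symm, k3, k3.symm, k4, k4.symm, k5, k5.symm, k6, k6.symm]
        rcases eq_or_ne i b with rfl | ib
        · simp [Equiv.swap_apply_of_ne_of_ne, k1, k1.symm, k2, k2.symm, k3, k3.symm, k4, k4.symm, k5, k5.symm, k6, k6.symm]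
        rcases eq_or_ne i c with rfl | ic
        · simp [Equiv.swap_apply_of_ne_of_ne, k1, k1.symm, k2, k2.symm, k3, k3.symm, k4, k4.symm, k5, k5.symm, k6, k6.symm]
        rcases eq_or_ne i e with rfl | ie
        · simp [Equiv.swap_apply_of_ne_of_ne, k1, k1.symm, k2, k2.symm, k3, k3.symm, k4, k4.symm, k5, k5.symm, k6, k6.symm]
        simp [Equiv.swap_apply_of_ne_of_ne, ia, ib, ic, ie])
    obtain ⟨g, hg⟩ : ∃ g, g = f * w₂ := ⟨_, rfl⟩
    have hgw : Commute g w₁ := by
      show g * w₁ = w₁ * g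
      calc g * w₁ = f * (w₂ * w₁ * w₂) * f⁻¹ * (f * w₂) := by
            rw [hg]
            calc f * w₂ * w₁ = f * w₂ * w₁ * (w₂ * w₂) := by rw [hw₂.2.1, mul_one]
              _ = _ := by group
        _ = w₁ * g := by rw [hfc, hg]
    have hgG : g ∈ G := hg ▸ G.mul_mem hf hw₂.1
    have hgS : ∀ i ∈ S, g i = Equiv.swap a c (Equiv.swap b e i) := fun i hi => by
      rw [hg, Perm.mul_apply, hfzS _ (mem_insert_of_mem (isDouble_apply_mem F2 hw₂ hi)),
        hw₂.2.2 i hi]
    have hgz : g z = z := by rw [hg, Perm.mul_apply, hw₂z, hfzS z (mem_insert_self z S)]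
    have hgg : ∀ i ∈ S, g (g i) = i := fun i hi => by
      rw [hgS i hi, hgS _ (double_apply_mem F2 hi), double_apply_twice F2]
    obtain ⟨m, hm, hmS⟩ := exists_sq_eq_one hno hgG hSc.ge hgg
    obtain ⟨v, hv⟩ : ∃ v, v = g ^ m := ⟨_, rfl⟩
    rw [← hv] at hm
    have hvd : IsDouble G S a c b e v :=
      ⟨hv ▸ G.pow_mem hgG m, hm, fun i hi => by rw [hv, hmS i (hgg i hi), hgS i hi]⟩
    have hvz : v z = z := hv ▸ Perm.pow_apply_eq_self_of_apply_eq_self hgz m
    have hvw : v * w₁ = w₁ * v := hv ▸ (hgw.pow_left m).eq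
    have hprod : IsDouble G S a e b c (w₁ * v) := by
      refine ⟨G.mul_mem hw₁.1 hvd.1, ?_, fun i hi => ?_⟩
      · calc w₁ * v * (w₁ * v) = w₁ * (v * w₁) * v := by group
          _ = w₁ * w₁ * (v * v) := by rw [hvw]; group
          _ = 1 := by rw [hw₁.2.1, hm, one_mul]
      · rw [Perm.mul_apply, hvd.2.2 i hi, hw₁.2.2 _ (double_apply_mem F2 hi)]
        rcases eq_or_ne i a with rfl | ia
        · simp [Equiv.swap_apply_of_ne_of_ne, k1, k1.symm, k2, k2.symm, k3, k3.symm, k4, k4.symm, k5, k5.symm, k6, k6.symm]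
        rcases eq_or_ne i b with rfl | ib
        · simp [Equiv.swap_apply_of_ne_of_ne, k1, k1.symm, k2, k2.symm, k3, k3.symm, k4, k4.symm, k5, k5.symm, k6, k6.symm]
        rcases eq_or_ne i c with rfl | ic
        · simp [Equiv.swap_apply_of_ne_of_ne, k1, k1.symm, k2, k2.symm, k3, k3.symm, k4, k4.symm, k5, k5.symm, k6, k6.symm]
        rcases eq_or_ne i e with rfl | ie
        · simp [Equiv.swap_apply_of_ne_of_ne, k1, k1.symm, k2, k2.symm, k3, k3.symm, k4, k4.symm, k5, k5.symm, k6, k6.symm]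
        simp [Equiv.swap_apply_of_ne_of_ne, ia, ib, ic, ie]
    -- generation of the stabilizer by centralizers
    let A : Subgroup (Perm α) := Subgroup.closure {w₁, v}
    have hAab : IsMulCommutative A := by
      refine Subgroup.isMulCommutative_closure ?_
      simp only [Set.mem_insert_iff, Set.mem_singleton_iff]
      rintro p (rfl | rfl) q (rfl | rfl)
      exacts [rfl, hvw.symm, hvw, rfl]
    have hAfix : ∀ p ∈ A, p * p = 1 ∧ p ∈ G ∧ p z = z := by
      intro p hp
      induction hp using Subgroup.closure_induction with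
      | mem x hx =>
        simp only [Set.mem_insert_iff, Set.mem_singleton_iff] at hx
        rcases hx with rfl | rfl
        exacts [⟨hw₁.2.1, hw₁.1, hw₁z⟩, ⟨hm, hvd.1, hvz⟩]
      | one => exact ⟨one_mul 1, G.one_mem, rfl⟩
      | mul p q hp hq hp' hq' =>
        refine ⟨?_, G.mul_mem hp'.2.1 hq'.2.1, by rw [Perm.mul_apply, hq'.2.2, hp'.2.2]⟩
        have hc : p * q = q * p :=
          congrArg Subtype.val (hAab.is_comm.comm (⟨p, hp⟩ : A) ⟨q, hq⟩)
        calc p * q * (p * q) = p * (q * p) * q := by group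
          _ = p * p * (q * q) := by rw [← hc]; group
          _ = 1 := by rw [hp'.1, hq'.1, one_mul]
      | inv p hp hp' =>
        rw [inv_eq_of_mul_eq_one_right hp'.1]
        exact hp'
    have hAnorm : A ≤ Subgroup.normalizer (fixIn G S : Set (Perm α)) := by
      rw [Subgroup.closure_le]
      intro p hp
      have hpS : p ∈ G ∧ p * p = 1 ∧ ∀ i ∈ S, p i ∈ S := by
        simp only [Set.mem_insert_iff, Set.mem_singleton_iff] at hp
        rcases hp with rfl | rfl
        exacts [⟨hw₁.1, hw₁.2.1, fun i hi => isDouble_apply_mem F1 hw₁ hi⟩,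
          ⟨hvd.1, hm, fun i hi => isDouble_apply_mem F2 hvd hi⟩]
      rw [SetLike.mem_coe, Subgroup.mem_normalizer_iff]
      intro q
      have hpi : p⁻¹ = p := inv_eq_of_mul_eq_one_right hpS.2.1
      have hfwd : ∀ r ∈ fixIn G S, p * r * p⁻¹ ∈ fixIn G S := fun r hr =>
        ⟨G.mul_mem (G.mul_mem hpS.1 hr.1) (G.inv_mem hpS.1), fun i hi => by
          rw [hpi, Perm.mul_apply, Perm.mul_apply, hr.2 _ (hpS.2.2 i hi),
            apply_apply_of_sq hpS.2.1]⟩
      refine ⟨hfwd q, fun hq => ?_⟩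
      have := hfwd _ hq
      rw [hpi] at this
      have hq2 : p * (p * q * p) * p = q := by
        calc p * (p * q * p) * p = (p * p) * q * (p * p) := by group
          _ = q := by rw [hpS.2.1, one_mul, mul_one]
      rwa [hq2] at this
    have hcop : (Nat.card A).Coprime (Nat.card (fixIn G S)) := by
      have hAp : IsPGroup 2 A := fun p => ⟨1, Subtype.ext (by
        rw [pow_one, SubmonoidClass.coe_pow, sq]; exact (hAfix p p.2).1)⟩
      obtain ⟨n, hn⟩ := IsPGroup.iff_card.1 hAp
      rw [hn]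
      refine Nat.Coprime.pow_left _ ((Nat.prime_two.coprime_iff_not_dvd).2 fun hdvd => ?_)
      obtain ⟨t, ht⟩ := exists_prime_orderOf_dvd_card' 2 hdvd
      have := odd_orderOf hno t.2.1 hSc.ge t.2.2
      rw [Subgroup.orderOf_coe, ht] at this
      exact absurd this (by decide)
    have hgen := CfsgLib.Coprime.cocyclicJoin_eq hAab hAnorm hcop
    have hle : fixIn G S ≤ MulAction.stabilizer (Perm α) z := by
      rw [← hgen]
      refine iSup₂_le ?_
      rintro B ⟨hBA, p₀, hp₀, hB⟩ f ⟨hf, hfB⟩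
      rw [MulAction.mem_stabilizer_iff]
      have hBne : B ≠ ⊥ := by
        intro hbot
        rw [hbot, bot_sup_eq] at hB
        have hmem : ∀ q ∈ A, q = 1 ∨ q = p₀ := by
          intro q hq
          rw [← hB] at hq
          obtain ⟨n, rfl⟩ := Subgroup.mem_zpowers_iff.1 hq
          have hpp : p₀ ^ (2 : ℤ) = 1 := by rw [zpow_two]; exact (hAfix p₀ hp₀).1
          rcases Int.even_or_odd' n with ⟨j, rfl | rfl⟩
          · left; rw [zpow_mul, hpp, one_zpow]
          · right; rw [zpow_add, zpow_mul, hpp, one_zpow, one_mul, zpow_one]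
        have hw₁a : w₁ a = b := by
          rw [hw₁.2.2 a ha, Equiv.swap_apply_of_ne_of_ne k2 k3, Equiv.swap_apply_left]
        have hva : v a = c := by
          rw [hvd.2.2 a ha, Equiv.swap_apply_of_ne_of_ne k1 k3, Equiv.swap_apply_left]
        rcases hmem w₁ (Subgroup.subset_closure (by simp)) with h | h
        · rw [h, Perm.one_apply] at hw₁a; exact k1 hw₁a
        rcases hmem v (Subgroup.subset_closure (by simp)) with h' | h'
        · rw [h', Perm.one_apply] at hva; exact k2 hva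
        · rw [h, ← h', hva] at hw₁a; exact k4 hw₁a.symm
      obtain ⟨q, hqB, hq1⟩ := B.bot_or_exists_ne_one.resolve_left hBne
      have hqf : q * f = f * q := Subgroup.mem_centralizer_iff.1 hfB q hqB
      -- every element of `A` other than one is one of the three lifts
      have hA3 : ∀ r ∈ A, r = 1 ∨ r = w₁ ∨ r = v ∨ r = w₁ * v := by
        intro r hr
        induction hr using Subgroup.closure_induction with
        | mem x hx =>
          simp only [Set.mem_insert_iff, Set.mem_singleton_iff] at hx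
          tauto
        | one => exact Or.inl rfl
        | mul p q _ _ hp hq =>
          have e1 : w₁ * (w₁ * v) = v := by rw [← mul_assoc, hw₁.2.1, one_mul]
          have e2 : v * (w₁ * v) = w₁ := by rw [← mul_assoc, hvw, mul_assoc, hm, mul_one]
          have e3 : w₁ * v * w₁ = v := by rw [mul_assoc, hvw, e1]
          have e4 : w₁ * v * v = w₁ := by rw [mul_assoc, hm, mul_one]
          have e5 : w₁ * v * (w₁ * v) = 1 := hprod.2.1
          rcases hp with rfl | rfl | rfl | rfl <;> rcases hq with rfl | rfl | rfl | rfl <;>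
            simp only [one_mul, mul_one, hw₁.2.1, hm, hvw, e1, e2, e3, e4, e5, true_or, or_true]
        | inv p hp hp' =>
          rw [inv_eq_of_mul_eq_one_right (hAfix p hp).1]
          exact hp'
      obtain ⟨hfG, hfS⟩ := hf
      rcases hA3 q (hBA hqB) with rfl | rfl | rfl | rfl
      · exact absurd rfl hq1
      · exact hcfix a b c e F1 _ hw₁ z hz hw₁z f hfG hfS hqf
      · exact hcfix a c b e F2 _ hvd z hz hvz f hfG hfS hqf
      · exact hcfix a e b c ⟨ha, he, hb, hc, k3, k1, k2, k5.symm, k6.symm, k4⟩ _ hprod z hz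
          (by rw [Perm.mul_apply, hvz, hw₁z]) f hfG hfS hqf
    exact hle hx
  -- one lift fixes everything outside
  obtain ⟨w, hw⟩ := exists_isDouble hG hkn hno hSc F1
  have hall : univ \ S ⊆ outFix w S := by
    intro z hz
    have hzS : z ∉ S := (mem_sdiff.1 hz).2
    obtain ⟨w', hw', hw'z⟩ := hliftz a b c e F1 z hzS
    obtain ⟨f, hf, hfS, hfc⟩ := exists_conj_fix hno hw.1 hw'.1 hw.2.1 hw'.2.1 hSc.ge
      (fun i hi => by rw [hw.2.2 i hi, hw'.2.2 i hi])
    rw [hF1 f ⟨hf, hfS⟩, one_mul, inv_one, mul_one] at hfc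
    exact mem_outFix.2 ⟨hfc ▸ hw'z, hzS⟩
  have := card_le_card hall
  rw [card_sdiff_of_subset (subset_univ _), card_univ, hSc, hout a b c e F1 w hw] at this
  omega

/-- A `k`-transitive and `(k+1)`-homogeneous group of degree at least `k + 3` is
`(k+1)`-transitive, for `k ≥ 4`. -/
theorem isMultiplyPretransitive_succ_of_homogeneous {k : ℕ} (hk : 4 ≤ k)
    (hn : k + 3 ≤ Fintype.card α) (hG : MulAction.IsMultiplyPretransitive G α k)
    (hh : MulAction.IsPretransitive G (Set.powersetCard α (k + 1))) :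
    MulAction.IsMultiplyPretransitive G α (k + 1) := by
  obtain ⟨Δ₀, hΔ₀, hA⟩ := exists_alt hk (Fintype.card α) G rfl (by omega) hG
  have halt : ∀ Δ : Finset α, Δ.card = k + 1 → alternatingGroup ↥Δ ≤ induced G Δ := by
    intro Δ hΔ
    obtain ⟨g, hg, hgst⟩ := exists_map_finset hh hΔ₀ hΔ
    exact induced_alt_map hg hgst hA
  obtain ⟨I, x, y, hI, hx, hy, hxy, hsw⟩ := exists_swap_of_alt hk hG hn halt
  obtain ⟨Δ, hΔdef⟩ : ∃ Δ, Δ = insert x (insert y I) := ⟨_, rfl⟩
  have hΔ : Δ.card = k + 1 := by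
    rw [hΔdef, card_insert_of_notMem (by simp only [mem_insert, not_or]; exact ⟨hxy, hx⟩),
      card_insert_of_notMem hy, hI]
    omega
  refine trans_of_induced hh hΔ ?_
  have hxΔ : x ∈ Δ := by rw [hΔdef]; exact mem_insert_self _ _
  have hyΔ : y ∈ Δ := by rw [hΔdef]; exact mem_insert_of_mem (mem_insert_self _ _)
  have hIe : (Δ.erase x).erase y = I := by
    rw [hΔdef, erase_insert (by simp only [mem_insert, not_or]; exact ⟨hxy, hx⟩), erase_insert hy]
  have hswap := swapsPerm_induced (G := G) (x := (⟨x, hxΔ⟩ : ↥Δ)) (y := ⟨y, hyΔ⟩)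
    (fun h => hxy (congrArg Subtype.val h)) (by rw [hIe]; exact hsw)
  rw [eq_top_iff]
  intro σ hσ
  clear hσ
  rcases Int.units_eq_one_or (Perm.sign σ) with h | h
  · exact halt Δ hΔ (Perm.mem_alternatingGroup.2 h)
  · have h2 : Equiv.swap (⟨x, hxΔ⟩ : ↥Δ) ⟨y, hyΔ⟩ * σ ∈ induced G Δ := by
      refine halt Δ hΔ (Perm.mem_alternatingGroup.2 ?_)
      rw [map_mul, Perm.sign_swap (fun e => hxy (congrArg Subtype.val e)), h]
      rfl
    have := mul_mem hswap h2
    rwa [← mul_assoc, Equiv.swap_mul_self, one_mul] at this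

end CfsgLib.Perm.Induced
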