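import Cfsg.Agent.Lib.Perm.InducedBasic

/-!
Multiply transitive groups in which few points can be fixed: involutions lifting transpositions.
-/

set_option autoImplicit false
set_option linter.unusedSectionVars false

namespace CfsgLib.Perm.Induced

open Equiv Finset

variable {α : Type*} [Fintype α] [DecidableEq α] {G : Subgroup (Perm α)}

/-- When every `k`-set is fixed by an involution and only `1` fixes more than `k` points, any two
points are interchanged fixing any `k - 1` others. -/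
theorem swaps_of_invol {k : ℕ} (hk : 1 ≤ k) (htriv : Triv G (k + 1))
    (hinv : ∀ s : Finset α, s.card = k → ∃ j ∈ G, j * j = 1 ∧ j ≠ 1 ∧ ∀ i ∈ s, j i = i)
    {I : Finset α} (hI : I.card = k - 1) {x y : α} (hx : x ∉ I) (hy : y ∉ I) (hxy : x ≠ y) :
    Swaps G I x y := by
  have hcard : ∀ z, z ∉ I → (insert z I).card = k := fun z hz => by
    rw [card_insert_of_notMem hz]; omega
  choose j hjG hj2 hj1 hjfix using fun z (hz : z ∉ I) => hinv _ (hcard z hz)
  have honly : ∀ z (hz : z ∉ I) i, j z hz i = i → i ∈ insert z I := by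
    intro z hz i hi
    by_contra hni
    refine hj1 z hz (htriv _ (hjG z hz) (le_of_eq_of_le ?_ (card_le_fixCard
      (s := insert i (insert z I)) ?_)))
    · rw [card_insert_of_notMem hni, hcard z hz]
    · intro w hw
      rcases mem_insert.1 hw with rfl | hw
      exacts [hi, hjfix z hz w hw]
  let T : Finset α := Iᶜ
  have hT : ∀ {z}, z ∈ T → z ∉ I := fun h => by simpa [T] using h
  let F : (p : α × α) → p ∈ T.offDiag → α × α := fun p hp =>
    (p.2, j p.1 (hT (mem_offDiag.1 hp).1) p.2)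
  have hF : ∀ p hp, F p hp ∈ T.offDiag := by
    intro p hp
    obtain ⟨h1, h2, h3⟩ := mem_offDiag.1 hp
    refine mem_offDiag.2 ⟨h2, ?_, fun e => ?_⟩
    · simp only [T, mem_compl, F]
      intro hmem
      have := hjfix _ (hT h1) _ (mem_insert_of_mem hmem)
      rw [apply_apply_of_sq (hj2 _ (hT h1))] at this
      rw [← this] at hmem
      exact hT h2 hmem
    · rcases mem_insert.1 (honly _ (hT h1) _ e.symm) with e | e
      · exact h3 e.symm
      · exact hT h2 e
  have hinj : ∀ p hp q hq, F p hp = F q hq → p = q := by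
    rintro ⟨z, a⟩ hp ⟨z', b⟩ hq e
    simp only [F, Prod.mk.injEq] at e
    obtain ⟨rfl, e⟩ := e
    obtain ⟨h1, h2, -⟩ := mem_offDiag.1 hp
    obtain ⟨h1', -, -⟩ := mem_offDiag.1 hq
    obtain ⟨c, hc⟩ : ∃ c, c = j z (hT h1) a := ⟨_, rfl⟩
    rw [← hc] at e
    have hca : c ∉ insert a I := by
      rw [mem_insert, not_or]
      refine ⟨fun e' => ?_, fun hmem => ?_⟩
      · rw [e'] at hc
        rcases mem_insert.1 (honly z (hT h1) a hc.symm) with h | h
        · exact (mem_offDiag.1 hp).2.2 h.symm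
        · exact hT h2 h
      · have := hjfix _ (hT h1) _ (mem_insert_of_mem hmem)
        rw [hc, apply_apply_of_sq (hj2 _ (hT h1))] at this
        rw [hc, ← this] at hmem
        exact hT h2 hmem
    have hprod : j z (hT h1) * j z' (hT h1') = 1 := by
      refine htriv _ (G.mul_mem (hjG _ _) (hjG _ _)) (le_of_eq_of_le ?_ (card_le_fixCard
        (s := insert c (insert a I)) ?_))
      · rw [card_insert_of_notMem hca, hcard a (hT h2)]
      · intro w hw
        rw [Perm.mul_apply]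
        rcases mem_insert.1 hw with rfl | hw
        · rw [e, apply_apply_of_sq (hj2 _ _), ← e, hc]
        rcases mem_insert.1 hw with rfl | hw
        · rw [← e, hc, apply_apply_of_sq (hj2 _ _)]
        · rw [hjfix _ _ _ (mem_insert_of_mem hw), hjfix _ _ _ (mem_insert_of_mem hw)]
    have hjz : j z (hT h1) = j z' (hT h1') := by
      have h : (j z (hT h1))⁻¹ = j z (hT h1) := inv_eq_of_mul_eq_one_right (hj2 _ _)
      rw [← h, inv_eq_of_mul_eq_one_right hprod]
    have hz : j z' (hT h1') z = z := hjz ▸ hjfix _ (hT h1) z (mem_insert_self _ _)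
    rcases mem_insert.1 (honly _ (hT h1') _ hz) with rfl | h
    · rfl
    · exact absurd h (hT h1)
  obtain ⟨⟨z, a⟩, hp, e⟩ := Finset.surj_on_of_inj_on_of_card_le F hF
    (fun p q hp hq e => hinj p hp q hq e) le_rfl (x, y)
    (mem_offDiag.2 ⟨by simp [T, hx], by simp [T, hy], hxy⟩)
  simp only [F, Prod.mk.injEq] at e
  obtain ⟨rfl, rfl⟩ := e
  refine ⟨j z (hT (mem_offDiag.1 hp).1), hjG _ _, fun i hi => hjfix _ _ _ (mem_insert_of_mem hi),
    rfl, apply_apply_of_sq (hj2 _ _) _⟩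

/-- An involution of `G` inducing the transposition `(x y)` on `S`. -/
def IsLift (G : Subgroup (Perm α)) (S : Finset α) (x y : α) (u : Perm α) : Prop :=
  u ∈ G ∧ u * u = 1 ∧ (∀ i ∈ (S.erase x).erase y, u i = i) ∧ u x = y ∧ u y = x

theorem isLift_symm {S : Finset α} {x y : α} {u : Perm α} (h : IsLift G S x y u) :
    IsLift G S y x u :=
  ⟨h.1, h.2.1, fun i hi => h.2.2.1 i (by rwa [erase_right_comm]), h.2.2.2.2, h.2.2.2.1⟩

theorem isLift_apply {S : Finset α} {x y : α} {u : Perm α} (h : IsLift G S x y u) {i : α}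
    (hi : i ∈ S) : u i = Equiv.swap x y i := by
  rcases eq_or_ne i x with rfl | hix
  · rw [Equiv.swap_apply_left, h.2.2.2.1]
  rcases eq_or_ne i y with rfl | hiy
  · rw [Equiv.swap_apply_right, h.2.2.2.2]
  rw [Equiv.swap_apply_of_ne_of_ne hix hiy]
  exact h.2.2.1 i (mem_erase.2 ⟨hiy, mem_erase.2 ⟨hix, hi⟩⟩)

theorem isLift_apply_mem {S : Finset α} {x y : α} {u : Perm α} (h : IsLift G S x y u)
    (hx : x ∈ S) (hy : y ∈ S) {i : α} (hi : i ∈ S) : u i ∈ S := by
  rw [isLift_apply h hi]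
  rcases eq_or_ne i x with rfl | hix
  · rwa [Equiv.swap_apply_left]
  rcases eq_or_ne i y with rfl | hiy
  · rwa [Equiv.swap_apply_right]
  rwa [Equiv.swap_apply_of_ne_of_ne hix hiy]

theorem isLift_ne {S : Finset α} {x y : α} {u : Perm α} (hxy : x ≠ y) (h : IsLift G S x y u) :
    u ≠ 1 := fun e => hxy (by rw [← h.2.2.2.1, e, Perm.one_apply])

theorem swap_swap_self (x y i : α) : Equiv.swap x y (Equiv.swap x y i) = i :=
  Equiv.swap_apply_self x y i

theorem exists_isLift {k : ℕ} (hG : MulAction.IsMultiplyPretransitive G α k)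
    (hkn : k ≤ Fintype.card α) (hno : NoInv G k) {S : Finset α} (hS : S.card = k) {x y : α}
    (hx : x ∈ S) (hy : y ∈ S) : ∃ u, IsLift G S x y u := by
  obtain ⟨g, hg, hgS⟩ := exists_agree hG hkn (Equiv.swap x y) hS.le
  have hinv : ∀ i ∈ S, g (g i) = i := by
    intro i hi
    rw [hgS i hi]
    rcases eq_or_ne i x with rfl | hix
    · rw [Equiv.swap_apply_left, hgS y hy, Equiv.swap_apply_right]
    rcases eq_or_ne i y with rfl | hiy
    · rw [Equiv.swap_apply_right, hgS x hx, Equiv.swap_apply_left]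
    rw [Equiv.swap_apply_of_ne_of_ne hix hiy, hgS i hi, Equiv.swap_apply_of_ne_of_ne hix hiy]
  obtain ⟨m, hm, hmS⟩ := exists_sq_eq_one hno hg hS.ge hinv
  refine ⟨g ^ m, G.pow_mem hg m, hm, fun i hi => ?_, ?_, ?_⟩
  · obtain ⟨hiy, hi'⟩ := mem_erase.1 hi
    obtain ⟨hix, hiS⟩ := mem_erase.1 hi'
    rw [hmS i (hinv i hiS), hgS i hiS, Equiv.swap_apply_of_ne_of_ne hix hiy]
  · rw [hmS x (hinv x hx), hgS x hx, Equiv.swap_apply_left]
  · rw [hmS y (hinv y hy), hgS y hy, Equiv.swap_apply_right]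

theorem card_erase_erase {k : ℕ} {S : Finset α} (hS : S.card = k) {x y : α} (hx : x ∈ S)
    (hy : y ∈ S) (hxy : x ≠ y) : ((S.erase x).erase y).card = k - 2 := by
  rw [card_erase_of_mem (mem_erase.2 ⟨hxy.symm, hy⟩), card_erase_of_mem hx, hS]
  omega

/-- With no involution fixing `k` points, a lift of a transposition fixes at most one point
outside of the set. -/
theorem isLift_fix_unique {k : ℕ} (hk : 2 ≤ k) (hno : NoInv G k) {S : Finset α} (hS : S.card = k)
    {x y : α} (hx : x ∈ S) (hy : y ∈ S) (hxy : x ≠ y) {u : Perm α} (h : IsLift G S x y u)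
    {z z' : α} (hz : z ∉ S) (hz' : z' ∉ S) (huz : u z = z) (huz' : u z' = z') : z = z' := by
  by_contra hne
  have hnm : ∀ w, w ∉ S → w ∉ (S.erase x).erase y := fun w hw hw' =>
    hw (mem_of_mem_erase (mem_of_mem_erase hw'))
  refine isLift_ne hxy h (hno u h.1 h.2.1 (le_of_eq_of_le ?_ (card_le_fixCard
    (s := insert z (insert z' ((S.erase x).erase y))) ?_)))
  · rw [card_insert_of_notMem (by simp only [mem_insert, not_or]; exact ⟨hne, hnm z hz⟩),
      card_insert_of_notMem (hnm z' hz'), card_erase_erase hS hx hy hxy]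
    omega
  · intro i hi
    rcases mem_insert.1 hi with rfl | hi
    · exact huz
    rcases mem_insert.1 hi with rfl | hi
    · exact huz'
    · exact h.2.2.1 i hi

/-- A lift of a transposition fixes a point outside of the set, when `n - k` is odd. -/
theorem isLift_exists_fix {k : ℕ} (hk : 2 ≤ k) {S : Finset α} (hS : S.card = k)
    {x y : α} (hx : x ∈ S) (hy : y ∈ S) (hxy : x ≠ y) {u : Perm α} (h : IsLift G S x y u)
    (hodd : k % 2 ≠ Fintype.card α % 2) : ∃ z, z ∉ S ∧ u z = z := by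
  by_contra hcon
  push Not at hcon
  have hfix : fixCard u = k - 2 := by
    rw [← card_erase_erase hS hx hy hxy, fixCard]
    congr 1
    ext i
    simp only [mem_filter, mem_univ, true_and]
    refine ⟨fun hi => ?_, h.2.2.1 i⟩
    refine mem_erase.2 ⟨?_, mem_erase.2 ⟨?_, ?_⟩⟩
    · rintro rfl
      exact hxy (hi ▸ h.2.2.2.2).symm
    · rintro rfl
      exact hxy (hi.symm.trans h.2.2.2.1)
    · by_contra hiS
      exact hcon i hiS hi
  have := fixCard_mod_two h.2.1
  omega

/-- `z` is fixed by a lift of the transposition `(x y)` of `S`. -/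
def LiftFix (G : Subgroup (Perm α)) (S : Finset α) (x y z : α) : Prop :=
  z ∉ S ∧ ∃ u, IsLift G S x y u ∧ u z = z

theorem liftFix_symm {S : Finset α} {x y z : α} (h : LiftFix G S x y z) : LiftFix G S y x z :=
  ⟨h.1, h.2.choose, isLift_symm h.2.choose_spec.1, h.2.choose_spec.2⟩

/-- Any two points fixed by lifts of the same transposition lie in one orbit of the pointwise
stabilizer of the set. -/
theorem liftFix_orbit {k : ℕ} (hk : 2 ≤ k) (hno : NoInv G k) {S : Finset α} (hS : S.card = k)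
    {x y : α} (hx : x ∈ S) (hy : y ∈ S) (hxy : x ≠ y) {z z' : α} (h : LiftFix G S x y z)
    (h' : LiftFix G S x y z') : ∃ f ∈ G, (∀ i ∈ S, f i = i) ∧ f z = z' := by
  obtain ⟨hz, u, hu, huz⟩ := h
  obtain ⟨hz', v, hv, hvz⟩ := h'
  obtain ⟨f, hf, hfS, hfc⟩ := exists_conj_fix hno hu.1 hv.1 hu.2.1 hv.2.1 hS.ge
    (fun i hi => by rw [isLift_apply hu hi, isLift_apply hv hi])
  refine ⟨f, hf, hfS, isLift_fix_unique hk hno hS hx hy hxy hv (fun hmem => hz ?_) hz' ?_ hvz⟩
  · have := hfS _ hmem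
    rwa [f.injective this] at hmem
  · rw [← hfc, Perm.mul_apply, Perm.mul_apply, Perm.coe_inv, Equiv.symm_apply_apply, huz]

/-- The set of points fixed by lifts is invariant under the pointwise stabilizer. -/
theorem liftFix_smul {S : Finset α} {x y z : α} (hx : x ∈ S) (hy : y ∈ S)
    (h : LiftFix G S x y z) {f : Perm α}
    (hf : f ∈ G) (hfS : ∀ i ∈ S, f i = i) : LiftFix G S x y (f z) := by
  obtain ⟨hz, u, hu, huz⟩ := h
  refine ⟨fun hmem => hz ?_, f * u * f⁻¹, ⟨G.mul_mem (G.mul_mem hf hu.1) (G.inv_mem hf), ?_,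
    fun i hi => ?_, ?_, ?_⟩, ?_⟩
  · have := hfS _ hmem
    rwa [f.injective this] at hmem
  · calc f * u * f⁻¹ * (f * u * f⁻¹) = f * (u * u) * f⁻¹ := by group
      _ = 1 := by rw [hu.2.1]; group
  · have hiS : i ∈ S := mem_of_mem_erase (mem_of_mem_erase hi)
    rw [Perm.mul_apply, Perm.mul_apply, show f⁻¹ i = i from Perm.inv_eq_iff_eq.2 (hfS i hiS).symm,
      hu.2.2.1 i hi, hfS i hiS]
  · rw [Perm.mul_apply, Perm.mul_apply, show f⁻¹ x = x from Perm.inv_eq_iff_eq.2 (hfS x hx).symm,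
      hu.2.2.2.1, hfS y hy]
  · rw [Perm.mul_apply, Perm.mul_apply, show f⁻¹ y = y from Perm.inv_eq_iff_eq.2 (hfS y hy).symm,
      hu.2.2.2.2, hfS x hx]
  · rw [Perm.mul_apply, Perm.mul_apply, Perm.coe_inv, Equiv.symm_apply_apply, huz]

/-- Given a lift of a transposition, some lift of a disjoint one commutes with it. -/
theorem exists_commuting_lift {k : ℕ} (hG : MulAction.IsMultiplyPretransitive G α k)
    (hkn : k ≤ Fintype.card α) (hno : NoInv G k) {S : Finset α} (hS : S.card = k)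
    {x y c e : α} (hx : x ∈ S) (hy : y ∈ S) (hc : c ∈ S) (he : e ∈ S) (hcx : c ≠ x) (hcy : c ≠ y)
    (hex : e ≠ x) (hey : e ≠ y) {u : Perm α} (hu : IsLift G S x y u) :
    ∃ v, IsLift G S c e v ∧ u * v = v * u := by
  obtain ⟨v₀, hv₀⟩ := exists_isLift hG hkn hno hS hc he
  have hv₀i : v₀⁻¹ = v₀ := inv_eq_of_mul_eq_one_right hv₀.2.1
  have hcomm : ∀ i ∈ S, Equiv.swap c e (Equiv.swap x y i) = Equiv.swap x y (Equiv.swap c e i) := by
    intro i _
    have := (Equiv.Perm.disjoint_swap_swap (x := x) (y := y) (z := c) (t := e))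
    by_cases hix : i = x
    · subst hix; simp [Equiv.swap_apply_of_ne_of_ne, hcx.symm, hex.symm, hcy.symm, hey.symm]
    by_cases hiy : i = y
    · subst hiy; simp [Equiv.swap_apply_of_ne_of_ne, hcx.symm, hex.symm, hcy.symm, hey.symm]
    by_cases hic : i = c
    · subst hic; simp [Equiv.swap_apply_of_ne_of_ne, hcx, hex, hcy, hey]
    by_cases hie : i = e
    · subst hie; simp [Equiv.swap_apply_of_ne_of_ne, hcx, hex, hcy, hey]
    simp [Equiv.swap_apply_of_ne_of_ne, hix, hiy, hic, hie]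
  obtain ⟨f, hf, hfS, hfc⟩ := exists_conj_fix hno
    (G.mul_mem (G.mul_mem hv₀.1 hu.1) hv₀.1) hu.1
    (by
      calc v₀ * u * v₀ * (v₀ * u * v₀) = v₀ * (u * (v₀ * v₀) * u) * v₀ := by group
        _ = 1 := by rw [hv₀.2.1, mul_one, hu.2.1, mul_one, hv₀.2.1])
    hu.2.1 hS.ge (fun i hi => by
      rw [Perm.mul_apply, Perm.mul_apply, isLift_apply hv₀ hi,
        isLift_apply hu (by rw [← isLift_apply hv₀ hi]; exact isLift_apply_mem hv₀ hc he hi),
        isLift_apply hv₀ (by
          rw [← isLift_apply hu (by rw [← isLift_apply hv₀ hi]; exact isLift_apply_mem hv₀ hc he hi),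
            ← isLift_apply hv₀ hi]
          exact isLift_apply_mem hu hx hy (isLift_apply_mem hv₀ hc he hi)),
        hcomm _ (by rw [← isLift_apply hv₀ hi]; exact isLift_apply_mem hv₀ hc he hi),
        swap_swap_self, isLift_apply hu hi])
  obtain ⟨g, hg⟩ : ∃ g, g = f * v₀ := ⟨_, rfl⟩
  have hgu : Commute g u := by
    show g * u = u * g
    have h1 : f * (v₀ * u * v₀) * f⁻¹ = u := hfc
    calc g * u = f * (v₀ * u * v₀) * f⁻¹ * (f * v₀) := by
          rw [hg]
          have e : v₀ * (v₀ * 1) = 1 := by rw [mul_one, hv₀.2.1]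
          calc f * v₀ * u = f * v₀ * u * (v₀ * v₀) := by rw [hv₀.2.1, mul_one]
            _ = _ := by group
      _ = u * g := by rw [h1, hg]
  have hgS : ∀ i ∈ S, g i = Equiv.swap c e i := fun i hi => by
    rw [hg, Perm.mul_apply, hfS _ (isLift_apply_mem hv₀ hc he hi), isLift_apply hv₀ hi]
  have hgg : ∀ i ∈ S, g (g i) = i := fun i hi => by
    rw [hgS i hi, hgS _ (by rw [← isLift_apply hv₀ hi]; exact isLift_apply_mem hv₀ hc he hi),
      swap_swap_self]
  obtain ⟨m, hm, hmS⟩ := exists_sq_eq_one hno (hg ▸ G.mul_mem hf hv₀.1) hS.ge hgg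
  refine ⟨g ^ m, ⟨G.pow_mem (hg ▸ G.mul_mem hf hv₀.1) m, hm, fun i hi => ?_, ?_, ?_⟩,
    (hgu.pow_left m).eq.symm⟩
  · obtain ⟨hie, hi'⟩ := mem_erase.1 hi
    obtain ⟨hic, hiS⟩ := mem_erase.1 hi'
    rw [hmS i (hgg i hiS), hgS i hiS, Equiv.swap_apply_of_ne_of_ne hic hie]
  · rw [hmS c (hgg c hc), hgS c hc, Equiv.swap_apply_left]
  · rw [hmS e (hgg e he), hgS e he, Equiv.swap_apply_right]

/-- Disjoint transpositions share their fixed points. -/
theorem liftFix_disjoint {k : ℕ} (hk : 2 ≤ k) (hG : MulAction.IsMultiplyPretransitive G α k)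
    (hkn : k ≤ Fintype.card α) (hno : NoInv G k) {S : Finset α} (hS : S.card = k)
    {x y c e : α} (hx : x ∈ S) (hy : y ∈ S) (hxy : x ≠ y) (hc : c ∈ S) (he : e ∈ S)
    (hcx : c ≠ x) (hcy : c ≠ y) (hex : e ≠ x) (hey : e ≠ y) {z : α} (h : LiftFix G S x y z) :
    LiftFix G S c e z := by
  obtain ⟨hz, u, hu, huz⟩ := h
  obtain ⟨v, hv, hvu⟩ := exists_commuting_lift hG hkn hno hS hx hy hc he hcx hcy hex hey hu
  refine ⟨hz, v, hv, isLift_fix_unique hk hno hS hx hy hxy hu (fun hmem => hz ?_) hz ?_ huz⟩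
  · have := isLift_apply_mem hv hc he hmem
    rwa [apply_apply_of_sq hv.2.1] at this
  · rw [← Perm.mul_apply, hvu, Perm.mul_apply, huz]

/-- All transpositions of every `k`-set share their fixed points. -/
def CommonFix (G : Subgroup (Perm α)) (k : ℕ) : Prop :=
  ∀ S : Finset α, S.card = k → ∀ x ∈ S, ∀ y ∈ S, ∀ x' ∈ S, ∀ y' ∈ S, x ≠ y → x' ≠ y' →
    ∀ z, LiftFix G S x y z → LiftFix G S x' y' z

theorem commonFix_of_five_le {k : ℕ} (hk : 5 ≤ k) (hG : MulAction.IsMultiplyPretransitive G α k)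
    (hkn : k ≤ Fintype.card α) (hno : NoInv G k) : CommonFix G k := by
  intro S hS x hx y hy x' hx' y' hy' hxy hxy' z hz
  -- move one point at a time, through a pair disjoint from both
  have step : ∀ a ∈ S, ∀ b ∈ S, ∀ b' ∈ S, a ≠ b → a ≠ b' →
      LiftFix G S a b z → LiftFix G S a b' z := by
    intro a ha b hb b' hb' hab hab' h
    have h2 : 2 ≤ (((S.erase a).erase b).erase b').card := by
      have h1 := pred_card_le_card_erase (s := (S.erase a).erase b) (a := b')
      rw [card_erase_erase hS ha hb hab] at h1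
      omega
    obtain ⟨c, hc, e, he, hce⟩ := one_lt_card.1 h2
    simp only [mem_erase] at hc he
    exact liftFix_disjoint (by omega) hG hkn hno hS hc.2.2.2 he.2.2.2 hce ha hb'
      hc.2.2.1.symm he.2.2.1.symm hc.1.symm he.1.symm
      (liftFix_disjoint (by omega) hG hkn hno hS ha hb hab hc.2.2.2 he.2.2.2
        hc.2.2.1 hc.2.1 he.2.2.1 he.2.1 h)
  rcases eq_or_ne x' x with rfl | hx'x
  · exact step _ hx _ hy _ hy' hxy hxy' hz
  · exact step _ hx' _ hx _ hy' hx'x hxy' (liftFix_symm (step _ hx _ hy _ hx' hxy hx'x.symm hz))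

/-- Common fixed points give a set of size `k + 1` with all permutations. -/
theorem exists_top_of_common {k : ℕ} (hk : 3 ≤ k) (hG : MulAction.IsMultiplyPretransitive G α k)
    (hkn : k ≤ Fintype.card α) (hno : NoInv G k) (hodd : k % 2 ≠ Fintype.card α % 2)
    (hcom : CommonFix G k) : ∃ Δ : Finset α, Δ.card = k + 1 ∧ induced G Δ = ⊤ := by
  obtain ⟨S, -, hS⟩ := exists_subset_card_eq (n := k) (s := (univ : Finset α)) (by rwa [card_univ])
  obtain ⟨x, hx, y, hy, hxy⟩ := one_lt_card.1 (by omega : 1 < S.card)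
  obtain ⟨u, hu⟩ := exists_isLift hG hkn hno hS hx hy
  obtain ⟨z, hz, huz⟩ := isLift_exists_fix (by omega) hS hx hy hxy hu hodd
  refine ⟨insert z S, by rw [card_insert_of_notMem hz, hS], induced_eq_top_of_swap ?_⟩
  have hall : ∀ a ∈ S, ∀ b ∈ S, a ≠ b → LiftFix G S a b z := fun a ha b hb hab =>
    hcom S hS x hx y hy a ha b hb hxy hab z ⟨hz, u, hu, huz⟩
  -- transpositions moving `z`
  have hzc : ∀ c (hc : c ∈ S), Equiv.swap (⟨c, mem_insert_of_mem hc⟩ : ↥(insert z S))
      ⟨z, mem_insert_self z S⟩ ∈ induced G (insert z S) := by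
    intro c hc
    have h2 : 1 < (S.erase c).card := by rw [card_erase_of_mem hc]; omega
    obtain ⟨a, ha, b, hb, hab⟩ := one_lt_card.1 h2
    obtain ⟨hac, haS⟩ := mem_erase.1 ha
    obtain ⟨hbc, hbS⟩ := mem_erase.1 hb
    obtain ⟨-, w, hw, hwz⟩ := hall a haS b hbS hab
    obtain ⟨g, hg, hgS⟩ := exists_agree hG hkn (Equiv.swap c z) hS.le
    obtain ⟨S', hS'⟩ : ∃ S', S' = insert z (S.erase c) := ⟨_, rfl⟩
    have hzc' : z ≠ c := fun e => hz (e ▸ hc)
    have hza : z ≠ a := fun e => hz (e ▸ haS)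
    have hzb : z ≠ b := fun e => hz (e ▸ hbS)
    have hS'c : S'.card = k := by
      rw [hS', card_insert_of_notMem (fun h => hz (mem_of_mem_erase h)), card_erase_of_mem hc]
      omega
    have hgS' : ∀ i ∈ S, g i ∈ S' := by
      intro i hi
      rw [hgS i hi, hS']
      rcases eq_or_ne i c with rfl | hic
      · rw [Equiv.swap_apply_left]; exact mem_insert_self _ _
      · rw [Equiv.swap_apply_of_ne_of_ne hic (ne_of_mem_of_not_mem hi hz)]
        exact mem_insert_of_mem (mem_erase.2 ⟨hic, hi⟩)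
    have hga : g a = a := by
      rw [hgS a haS, Equiv.swap_apply_of_ne_of_ne hac hza.symm]
    have hgb : g b = b := by
      rw [hgS b hbS, Equiv.swap_apply_of_ne_of_ne hbc hzb.symm]
    have himg : ∀ i ∈ S', g⁻¹ i ∈ S ∧ g (g⁻¹ i) = i := by
      intro i hi
      refine ⟨?_, by simp⟩
      rw [hS'] at hi
      rcases mem_insert.1 hi with rfl | hi
      · have : g⁻¹ i = c := Perm.inv_eq_iff_eq.2 (by rw [hgS c hc, Equiv.swap_apply_left])
        rwa [this]
      · obtain ⟨hic, hiS⟩ := mem_erase.1 hi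
        have : g⁻¹ i = i := Perm.inv_eq_iff_eq.2
          (by rw [hgS i hiS, Equiv.swap_apply_of_ne_of_ne hic (ne_of_mem_of_not_mem hiS hz)])
        rwa [this]
    have h1 : LiftFix G S' a b (g z) := by
      refine ⟨fun hmem => ?_, g * w * g⁻¹, ⟨G.mul_mem (G.mul_mem hg hw.1) (G.inv_mem hg), ?_,
        fun i hi => ?_, ?_, ?_⟩, ?_⟩
      · obtain ⟨h, -⟩ := himg _ hmem
        rw [Perm.coe_inv, Equiv.symm_apply_apply] at h
        exact hz h
      · calc g * w * g⁻¹ * (g * w * g⁻¹) = g * (w * w) * g⁻¹ := by group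
          _ = 1 := by rw [hw.2.1]; group
      · obtain ⟨hib, hi'⟩ := mem_erase.1 hi
        obtain ⟨hia, hiS'⟩ := mem_erase.1 hi'
        obtain ⟨h, hgi⟩ := himg i hiS'
        rw [Perm.mul_apply, Perm.mul_apply, hw.2.2.1 _ (mem_erase.2 ⟨?_, mem_erase.2 ⟨?_, h⟩⟩), hgi]
        · intro e; rw [e, hgb] at hgi; exact hib hgi.symm
        · intro e; rw [e, hga] at hgi; exact hia hgi.symm
      · rw [Perm.mul_apply, Perm.mul_apply, show g⁻¹ a = a from Perm.inv_eq_iff_eq.2 hga.symm,
          hw.2.2.2.1, hgb]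
      · rw [Perm.mul_apply, Perm.mul_apply, show g⁻¹ b = b from Perm.inv_eq_iff_eq.2 hgb.symm,
          hw.2.2.2.2, hga]
      · rw [Perm.mul_apply, Perm.mul_apply, Perm.coe_inv, Equiv.symm_apply_apply, hwz]
    have h2 : LiftFix G S' a b c := by
      refine ⟨fun hmem => ?_, w, ⟨hw.1, hw.2.1, fun i hi => ?_, hw.2.2.2.1, hw.2.2.2.2⟩,
        hw.2.2.1 c (mem_erase.2 ⟨hbc.symm, mem_erase.2 ⟨hac.symm, hc⟩⟩)⟩
      · rw [hS', mem_insert, mem_erase] at hmem
        rcases hmem with h | h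
        exacts [hzc' h.symm, h.1 rfl]
      · obtain ⟨hib, hi'⟩ := mem_erase.1 hi
        obtain ⟨hia, hiS'⟩ := mem_erase.1 hi'
        rw [hS'] at hiS'
        rcases mem_insert.1 hiS' with rfl | h
        · exact hwz
        · exact hw.2.2.1 i (mem_erase.2 ⟨hib, mem_erase.2 ⟨hia, mem_of_mem_erase h⟩⟩)
    have haS' : a ∈ S' := hga ▸ hgS' a haS
    have hbS' : b ∈ S' := hgb ▸ hgS' b hbS
    obtain ⟨f, hf, hfS', hfz⟩ := liftFix_orbit (by omega) hno hS'c haS' hbS' hab h1 h2
    refine ⟨f * g, G.mul_mem hf hg, fun i => ?_⟩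
    rw [Perm.mul_apply]
    rcases mem_insert.1 i.2 with h | h
    · have : i = ⟨z, mem_insert_self z S⟩ := Subtype.ext h
      subst this
      rw [Equiv.swap_apply_right]
      exact hfz
    · rw [hfS' _ (hgS' _ h), hgS _ h]
      rcases eq_or_ne (i : α) c with e | e
      · have : i = ⟨c, mem_insert_of_mem hc⟩ := Subtype.ext e
        subst this
        simp only [Equiv.swap_apply_left]
      · rw [Equiv.swap_apply_of_ne_of_ne e (ne_of_mem_of_not_mem h hz),
          Equiv.swap_apply_of_ne_of_ne (x := i) (fun e' => e (congrArg Subtype.val e'))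
            (fun e' => ne_of_mem_of_not_mem h hz (congrArg Subtype.val e'))]
  intro p q hpq
  rcases mem_insert.1 p.2 with hp | hp <;> rcases mem_insert.1 q.2 with hq | hq
  · exact absurd (Subtype.ext (hp.trans hq.symm)) hpq
  · have : p = ⟨z, mem_insert_self z S⟩ := Subtype.ext hp
    subst this
    rw [Equiv.swap_comm]
    exact hzc q hq
  · have : q = ⟨z, mem_insert_self z S⟩ := Subtype.ext hq
    subst this
    exact hzc p hp
  · obtain ⟨-, w, hw, hwz⟩ := hall p hp q hq (fun e => hpq (Subtype.ext e))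
    refine swapsPerm_induced hpq ⟨w, hw.1, fun i hi => ?_, hw.2.2.2.1, hw.2.2.2.2⟩
    obtain ⟨hiq, hi'⟩ := mem_erase.1 hi
    obtain ⟨hip, hi''⟩ := mem_erase.1 hi'
    rcases mem_insert.1 hi'' with rfl | h
    · exact hwz
    · exact hw.2.2.1 i (mem_erase.2 ⟨hiq, mem_erase.2 ⟨hip, h⟩⟩)

end CfsgLib.Perm.Induced
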