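import Cfsg.Agent.Lib.Perm.InducedHomog
import Cfsg.Agent.S0736
import Cfsg.Agent.S0744

/-!
`k`-homogeneous groups of degree at least `2k` are `(k-1)`-transitive.
-/

set_option autoImplicit false
set_option linter.unusedSectionVars false

namespace CfsgLib.Perm.Induced

open Equiv Finset
open scoped Pointwise

universe u

variable {α : Type u} [Fintype α] [DecidableEq α] {G : Subgroup (Perm α)}

theorem perm_subsingleton_induced {Δ : Finset α} (h : Δ.card ≤ 1) : induced G Δ = ⊤ :=
  induced_eq_top_of_swap fun x y hxy =>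
    absurd (Subtype.ext (card_le_one.1 h x x.2 y y.2)) hxy

/-- A group normalizing a group of prime order fixing few points is small. -/
theorem card_le_of_normal_prime {p : ℕ} (hp : p.Prime) {H : Subgroup (Perm α)} {c : Perm α}
    (hcH : c ∈ H) (hco : orderOf c = p) (hnorm : ∀ h ∈ H, h * c * h⁻¹ ∈ Subgroup.zpowers c)
    {x : α} (hn : Fintype.card α ≤ p + 1) (hHx : ∀ h ∈ H, h x = x) :
    Nat.card H ≤ p * (p - 1) := by
  classical
  obtain ⟨y, hy⟩ : ∃ y, c y ≠ y := by
    by_contra hcon
    push Not at hcon
    have : c = 1 := Equiv.ext hcon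
    rw [this, orderOf_one] at hco
    exact hp.one_lt.ne hco
  have hper : ∀ i j : ℕ, i < p → j < p → (c ^ i) y = (c ^ j) y → i = j := by
    intro i j hi hj hij
    by_contra hne
    wlog hlt : i < j generalizing i j with H'
    · exact H' j i hj hi hij.symm (Ne.symm hne) (by omega)
    have h1 : (c ^ (j - i)) y = y := by
      apply (c ^ i).injective
      rw [← Perm.mul_apply, ← pow_add, show i + (j - i) = j by omega]
      exact hij.symm
    have hcop : (j - i).Coprime (orderOf c) := by
      rw [hco]
      exact (hp.coprime_iff_not_dvd.2 fun hd => by have := Nat.le_of_dvd (by omega) hd; omega).symm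
    obtain ⟨m, hm⟩ := exists_pow_eq_self_of_coprime hcop
    exact hy (by rw [← hm]; exact Perm.pow_apply_eq_self_of_apply_eq_self h1 m)
  have hsupp : ∀ z, z ≠ x → ∃ i : ℕ, (c ^ i) y = z := by
    intro z hz
    by_contra hcon
    push Not at hcon
    have hcx : ∀ i : ℕ, (c ^ i) y ≠ x := fun i h => by
      have h2 : (c ^ i) x = x := Perm.pow_apply_eq_self_of_apply_eq_self (hHx c hcH) i
      have := (c ^ i).injective (h.trans h2.symm)
      exact hy (this ▸ hHx c hcH)
    have hsub : (Finset.range p).image (fun i => (c ^ i) y) ⊆ (univ.erase x).erase z := by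
      intro w hw
      obtain ⟨i, -, rfl⟩ := mem_image.1 hw
      exact mem_erase.2 ⟨hcon i, mem_erase.2 ⟨hcx i, mem_univ _⟩⟩
    have := card_le_card hsub
    rw [card_image_of_injOn (fun i hi j hj => hper i j (mem_range.1 hi) (mem_range.1 hj)), card_range,
      card_erase_of_mem (mem_erase.2 ⟨hz, mem_univ _⟩), card_erase_of_mem (mem_univ _), card_univ] at this
    have := hp.pos
    omega
  let f : H → α × Perm α := fun h => ((h : Perm α) y, (h : Perm α) * c * (h : Perm α)⁻¹)
  have hinj : Function.Injective f := by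
    intro g h e
    simp only [f, Prod.mk.injEq] at e
    apply Subtype.ext
    ext z
    rcases eq_or_ne z x with rfl | hz
    · rw [hHx _ g.2, hHx _ h.2]
    obtain ⟨i, rfl⟩ := hsupp z hz
    have e' : ∀ w : Perm α, w ((c ^ i) y) = ((w * c * w⁻¹) ^ i) (w y) := fun w => by
      rw [conj_pow, Perm.mul_apply, Perm.mul_apply, Perm.coe_inv, Equiv.symm_apply_apply]
    rw [e', e', e.1, e.2]
  have himg : ∀ h : H, f h ∈ (univ.erase x) ×ˢ ((Finset.range p).image (fun i => c ^ i)).erase 1 := by
    intro h
    refine mem_product.2 ⟨mem_erase.2 ⟨fun e => ?_, mem_univ _⟩, mem_erase.2 ⟨fun e => ?_, ?_⟩⟩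
    · have : y = x := (h : Perm α).injective (e.trans (hHx _ h.2).symm)
      exact hy (this ▸ hHx c hcH)
    · have : c = 1 := by
        have e2 := congrArg (fun w : Perm α => (h : Perm α)⁻¹ * w * (h : Perm α)) e
        simpa [f, mul_assoc] using e2
      exact hy (by rw [this, Perm.one_apply])
    · obtain ⟨m, hm⟩ := Subgroup.mem_zpowers_iff.1 (hnorm h h.2)
      have hf2 : (f h).2 = c ^ (m % (orderOf c : ℤ)) := by rw [zpow_mod_orderOf, hm]
      refine mem_image.2 ⟨(m % (p : ℤ)).toNat, mem_range.2 ?_, ?_⟩
      · have := Int.emod_lt_of_pos m (by exact_mod_cast hp.pos : (0 : ℤ) < p)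
        have := Int.emod_nonneg m (by exact_mod_cast hp.ne_zero : (p : ℤ) ≠ 0)
        omega
      · rw [hf2, hco, ← zpow_natCast,
          Int.toNat_of_nonneg (Int.emod_nonneg m (by exact_mod_cast hp.ne_zero : (p : ℤ) ≠ 0))]
  rw [Nat.card_eq_fintype_card, ← card_univ, ← card_image_of_injective univ hinj]
  refine (card_le_card (t := (univ.erase x) ×ˢ
    ((Finset.range p).image (fun i => c ^ i)).erase 1) (fun w hw => ?_)).trans ?_
  · obtain ⟨h, -, rfl⟩ := mem_image.1 hw
    exact himg h
  rw [card_product]
  refine Nat.mul_le_mul ?_ ?_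
  · rw [card_erase_of_mem (mem_univ _), card_univ]; omega
  · rw [card_erase_of_mem (mem_image.2 ⟨0, mem_range.2 hp.pos, pow_zero c⟩)]
    exact Nat.sub_le_sub_right (card_image_le.trans (card_range p).le) 1

/-- Orders of groups fixing a point that have a Sylow subgroup of prime order `p` and degree at
most `p + 1`. -/
theorem card_le_of_sylow {p : ℕ} (hp : p.Prime) {H : Subgroup (Perm α)} {x : α}
    (hn : Fintype.card α ≤ p + 1) (hHx : ∀ h ∈ H, h x = x) (hdvd : p ∣ Nat.card H)
    (hsq : ¬ p ^ 2 ∣ Nat.card H) (hone : ∀ d, d ∣ Nat.card H / p → d % p = 1 → d = 1) :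
    Nat.card H ≤ p * (p - 1) := by
  have : Fact p.Prime := ⟨hp⟩
  obtain ⟨P⟩ : Nonempty (Sylow p H) := inferInstance
  have hPc : Nat.card P = p := by
    rw [P.card_eq_multiplicity]
    have h1 : (Nat.card H).factorization p = 1 := by
      refine le_antisymm ?_ ((hp.dvd_iff_one_le_factorization Nat.card_pos.ne').1 hdvd)
      by_contra h
      exact hsq ((hp.pow_dvd_iff_le_factorization Nat.card_pos.ne').2 (by omega))
    rw [h1, pow_one]
  have hn1 : Nat.card (Sylow p H) = 1 := by
    refine hone _ ?_ ?_
    · have hidx : (P : Subgroup H).index = Nat.card H / p := by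
        have h2 := (P : Subgroup H).index_mul_card
        rw [show Nat.card (P : Subgroup H) = p from hPc] at h2
        exact (Nat.div_eq_of_eq_mul_left hp.pos h2.symm).symm
      rw [← hidx]
      exact P.card_dvd_index
    · have h := card_sylow_modEq_one p H
      rw [Nat.ModEq, Nat.mod_eq_of_lt hp.one_lt] at h
      exact h
  have : Subsingleton (Sylow p H) := (Nat.card_eq_one_iff_unique.1 hn1).1
  have hPn : (P : Subgroup H).Normal := P.normal_of_subsingleton
  obtain ⟨c, hc⟩ := exists_prime_orderOf_dvd_card' (G := P) p (by rw [hPc])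
  have hcP : Subgroup.zpowers (c : H) = (P : Subgroup H) :=
    Subgroup.eq_of_le_of_card_ge (Subgroup.zpowers_le.2 c.2)
      (by rw [Nat.card_zpowers, Subgroup.orderOf_coe, hc, hPc])
  refine card_le_of_normal_prime hp (c := ((c : H) : Perm α)) (c : H).2
    (by rw [Subgroup.orderOf_coe, Subgroup.orderOf_coe, hc]) (fun h hh => ?_) hn hHx
  have := hPn.conj_mem (c : H) c.2 ⟨h, hh⟩
  obtain ⟨m, hm⟩ := Subgroup.mem_zpowers_iff.1 (hcP.ge this)
  exact ⟨m, by simpa using congrArg Subtype.val hm⟩

/-- Order of a homogeneous group in which only the identity fixes a set pointwise. -/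
theorem card_eq_choose_mul {j : ℕ} (hh : MulAction.IsPretransitive G (Set.powersetCard α j))
    (htriv : Triv G j) {s : Finset α} (hs : s.card = j) :
    Nat.card G = (Fintype.card α).choose j * Nat.card (induced G s) := by
  have hidx := MulAction.index_stabilizer_of_transitive G (⟨s, hs⟩ : Set.powersetCard α j)
  rw [Set.powersetCard.card, Nat.card_eq_fintype_card] at hidx
  rw [← (MulAction.stabilizer G (⟨s, hs⟩ : Set.powersetCard α j)).index_mul_card, hidx]
  congr 1
  have hmem : ∀ g : MulAction.stabilizer G (⟨s, hs⟩ : Set.powersetCard α j), ∀ i : α,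
      i ∈ s ↔ ((g : G) : Perm α) i ∈ s := by
    intro g i
    have h : (g : G) • s = s := congrArg Subtype.val (MulAction.mem_stabilizer_iff.1 g.2)
    constructor
    · intro hi
      exact (Finset.ext_iff.1 h _).1 (mem_image_of_mem _ hi)
    · intro hi
      obtain ⟨i', hi', e⟩ := mem_image.1 ((Finset.ext_iff.1 h _).2 hi)
      rwa [← ((g : G) : Perm α).injective e]
  let φ : MulAction.stabilizer G (⟨s, hs⟩ : Set.powersetCard α j) → induced G s := fun g =>
    ⟨((g : G) : Perm α).subtypePerm (fun i => (hmem g i).symm), ⟨((g : G) : Perm α), (g : G).2, fun i => rfl⟩⟩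
  refine Nat.card_eq_of_bijective φ ⟨fun g g' e => ?_, fun σ => ?_⟩
  · refine Subtype.ext (Subtype.ext ?_)
    rw [← inv_mul_eq_one]
    refine htriv _ (G.mul_mem (G.inv_mem (g : G).2) (g' : G).2) (hs.ge.trans (card_le_fixCard
      fun i hi => ?_))
    have := congrArg (fun σ : induced G s => ((σ : Perm ↥s) ⟨i, hi⟩ : α)) e
    have this' : ((g : G) : Perm α) i = ((g' : G) : Perm α) i := this
    rw [Perm.mul_apply, ← this', Perm.coe_inv, Equiv.symm_apply_apply]
  · obtain ⟨x, hx, hxσ⟩ := σ.2
    have hst : (⟨x, hx⟩ : G) • (⟨s, hs⟩ : Set.powersetCard α j) = ⟨s, hs⟩ := by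
      refine Subtype.ext ?_
      show (⟨x, hx⟩ : G) • s = s
      refine eq_of_subset_of_card_le (fun i hi => ?_) (by rw [card_smul_finset])
      obtain ⟨i', hi', rfl⟩ := mem_image.1 hi
      show x i' ∈ s
      rw [hxσ ⟨i', hi'⟩]
      exact ((σ : Perm ↥s) ⟨i', hi'⟩).2
    exact ⟨⟨⟨x, hx⟩, MulAction.mem_stabilizer_iff.2 hst⟩,
      Subtype.ext (Equiv.ext fun i => Subtype.ext (hxσ i))⟩

theorem natCard_fixing_eq {j : ℕ} (hh : MulAction.IsPretransitive G (Set.powersetCard α j))
    {s t : Finset α} (hs : s.card = j) (ht : t.card = j) :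
    Nat.card (fixingSubgroup G (s : Set α)) = Nat.card (fixingSubgroup G (t : Set α)) := by
  obtain ⟨g, hg, hgst⟩ := exists_map_finset hh hs ht
  let e : G ≃* G := MulAut.conj ⟨g, hg⟩
  have hiff : ∀ x : G, x ∈ fixingSubgroup G (s : Set α) ↔ e x ∈ fixingSubgroup G (t : Set α) := by
    intro x
    simp only [mem_fixingSubgroup_iff, mem_coe]
    constructor
    · intro h i hi
      show (g * (x : Perm α) * g⁻¹) i = i
      have := h _ ((hgst i).1 hi)
      rw [Perm.mul_apply, Perm.mul_apply]
      rw [show (x : Perm α) (g⁻¹ i) = g⁻¹ i from this]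
      simp
    · intro h i hi
      have h1 := h (g i) ((hgst (g i)).2 (by simpa using hi))
      have h2 : (g * (x : Perm α) * g⁻¹) (g i) = g i := h1
      simp at h2
      exact h2
  exact Nat.card_congr (e.toEquiv.subtypeEquiv hiff)

theorem k_five_arith : ∀ h ∈ List.range 24, ∀ n ∈ List.range 130, 10 ≤ n → h ∣ 24 → (n - 4) ∣ 5 * h →
    24 ∣ (n - 3) * h → ((n - 3) * h / 24) % 2 = 1 → (n = 12 ∨ n = 24) ∧ h = 8 := by
  decide +kernel

/-- Livingstone-Wagner: a `k`-homogeneous group of degree at least `2k` is `(k-1)`-transitive. -/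
theorem trans_pred_of_homogeneous : ∀ k, 2 ≤ k → ∀ {α : Type u} [Fintype α] [DecidableEq α]
    (G : Subgroup (Perm α)), 2 * k ≤ Fintype.card α →
    MulAction.IsPretransitive G (Set.powersetCard α k) →
    MulAction.IsMultiplyPretransitive G α (k - 1) := by
  intro k
  induction k using Nat.strong_induction_on with
  | _ k ih =>
  intro hk α _ _ G hkn hh
  have hh1 : MulAction.IsPretransitive G (Set.powersetCard α (k - 1)) :=
    Cfsg.Agent.S0736.result G hk hh fun q _ hqk => by
      have := Nat.le_of_dvd (by omega) hqk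
      omega
  obtain ⟨s₀, -, hs₀⟩ := exists_subset_card_eq (n := k - 1) (s := (univ : Finset α))
    (by rw [card_univ]; omega)
  obtain ⟨t₀, -, ht₀⟩ := exists_subset_card_eq (n := k) (s := (univ : Finset α))
    (by rw [card_univ]; omega)
  rcases eq_or_lt_of_le hk with rfl | hk3
  · exact trans_of_induced hh1 hs₀ (perm_subsingleton_induced hs₀.le)
  have hG2 : MulAction.IsMultiplyPretransitive G α (k - 2) := by
    have := ih (k - 1) (by omega) (by omega) G (by omega) hh1
    rwa [show k - 1 - 1 = k - 2 by omega] at this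
  rcases Nat.lt_or_ge k 6 with hk6 | hk6
  swap
  · have := isMultiplyPretransitive_succ_of_homogeneous (k := k - 2) (by omega) (by omega) hG2
      (by rwa [show k - 2 + 1 = k - 1 by omega])
    rwa [show k - 2 + 1 = k - 1 by omega] at this
  by_cases hl : 1 < Nat.card (fixingSubgroup G (s₀ : Set α))
  · exact Cfsg.Agent.S0744.result G (k := k) (by omega) (by omega) _
      (Nat.card (fixingSubgroup G (t₀ : Set α))) hl
      (fun s hs => natCard_fixing_eq hh1 hs hs₀) (fun s hs => natCard_fixing_eq hh hs ht₀)
  have htriv : Triv G (k - 1) := by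
    intro g hg hfix
    obtain ⟨s, hsub, hs⟩ := exists_subset_card_eq (s := univ.filter fun i => g i = i) (n := k - 1) hfix
    have hone : Nat.card (fixingSubgroup G (s : Set α)) ≤ 1 := by
      rw [natCard_fixing_eq hh1 hs hs₀]; omega
    have hmem : (⟨g, hg⟩ : G) ∈ fixingSubgroup G (s : Set α) :=
      (mem_fixingSubgroup_iff G).2 fun i hi => (mem_filter.1 (hsub hi)).2
    rw [Finite.card_le_one_iff_subsingleton] at hone
    exact congrArg (fun x : fixingSubgroup G (s : Set α) => ((x : G) : Perm α))
      (hone.elim ⟨⟨g, hg⟩, hmem⟩ 1)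
  by_contra hcon
  have htop : induced G s₀ ≠ ⊤ := fun h => hcon (trans_of_induced hh1 hs₀ h)
  -- involutions fixing `k - 2` points would give all permutations
  have hno : NoInv G (k - 2) := by
    intro j hj hj2 hjk
    by_contra hj1
    obtain ⟨S₀, hS₀sub, hS₀⟩ := exists_subset_card_eq (s := univ.filter fun i => j i = i)
      (n := k - 2) hjk
    have hinv : ∀ s : Finset α, s.card = k - 2 → ∃ g ∈ G, g * g = 1 ∧ g ≠ 1 ∧ ∀ i ∈ s, g i = i := by
      intro s hs
      let φ := Finset.equivOfCardEq (hs.trans hS₀.symm)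
      obtain ⟨g, hg, hgs⟩ := exists_agree_fun hG2 (by omega) hs.le
        (fun i => if hi : i ∈ s then (φ ⟨i, hi⟩ : α) else i) (fun x hx y hy e => by
          simp only [dif_pos (mem_coe.1 hx), dif_pos (mem_coe.1 hy)] at e
          exact congrArg Subtype.val (φ.injective (Subtype.ext e)))
      refine ⟨g⁻¹ * j * g, G.mul_mem (G.mul_mem (G.inv_mem hg) hj) hg, ?_, fun e => hj1 ?_,
        fun i hi => ?_⟩
      · calc g⁻¹ * j * g * (g⁻¹ * j * g) = g⁻¹ * (j * j) * g := by group
          _ = 1 := by rw [hj2]; group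
      · calc j = g * (g⁻¹ * j * g) * g⁻¹ := by group
          _ = 1 := by rw [e]; group
      · have h1 : g i = (φ ⟨i, hi⟩ : α) := by rw [hgs i hi, dif_pos hi]
        rw [Perm.mul_apply, Perm.mul_apply, h1, (mem_filter.1 (hS₀sub (φ ⟨i, hi⟩).2)).2, ← h1,
          Perm.coe_inv, Equiv.symm_apply_apply]
    refine htop (induced_eq_top_of_swaps fun x hx y hy hxy => swaps_of_invol (k := k - 2) (by omega)
      (by rwa [show k - 2 + 1 = k - 1 by omega]) hinv ?_ ?_ (fun h => (mem_erase.1 h).1 rfl) hxy)
    · rw [card_erase_erase hs₀ hx hy hxy]; omega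
    · exact fun h => (mem_erase.1 (mem_of_mem_erase h)).1 rfl
  -- the order of the group
  obtain ⟨h, hhdef⟩ : ∃ h, h = Nat.card (induced G s₀) := ⟨_, rfl⟩
  have hcard := card_eq_choose_mul hh1 htriv hs₀
  rw [← hhdef] at hcard
  have hfac : h ∣ (k - 1).factorial := by
    have := (induced G s₀).card_subgroup_dvd_card
    rwa [← hhdef, Nat.card_eq_fintype_card, Fintype.card_perm, Fintype.card_coe, hs₀] at this
  have hne : h ≠ (k - 1).factorial := fun e => htop (Subgroup.eq_top_of_card_eq _ (by
    rw [← hhdef, e, Nat.card_eq_fintype_card, Fintype.card_perm, Fintype.card_coe, hs₀]))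
  have hpos : 0 < h := hhdef ▸ Nat.card_pos
  obtain ⟨u₀, -, hu₀⟩ := exists_subset_card_eq (n := k - 2) (s := (univ : Finset α))
    (by rw [card_univ]; omega)
  obtain ⟨f, hf⟩ : ∃ f, f = Nat.card (fixingSubgroup G (u₀ : Set α)) := ⟨_, rfl⟩
  have hcard2 : Nat.card G = (Fintype.card α).choose (k - 2) * (k - 2).factorial * f := by
    have := MulAction.IsMultiplyPretransitive.index_of_fixingSubgroup_eq (G := G) (u₀ : Set α)
      (by rw [Set.ncard_coe_finset, hu₀]; exact hG2)
    rw [Set.ncard_coe_finset, hu₀, Nat.card_eq_fintype_card] at this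
    rw [← this, hf, Subgroup.index_mul_card]
  have hfodd : f % 2 = 1 := by
    by_contra h2
    obtain ⟨g, hg⟩ := exists_prime_orderOf_dvd_card' (G := fixingSubgroup G (u₀ : Set α)) 2
      (by rw [← hf]; omega)
    have hgfix : ∀ i ∈ u₀, (((g : G) : Perm α)) i = i := fun i hi =>
      (mem_fixingSubgroup_iff G).1 g.2 i hi
    have := odd_orderOf hno (g : G).2 hu₀.ge hgfix
    rw [Subgroup.orderOf_coe, Subgroup.orderOf_coe, hg] at this
    exact absurd this (by decide)
  have hdvd : (Fintype.card α).choose k ∣ Nat.card G := by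
    have := MulAction.index_stabilizer_of_transitive G (⟨t₀, ht₀⟩ : Set.powersetCard α k)
    rw [Set.powersetCard.card, Nat.card_eq_fintype_card] at this
    rw [← this]
    exact Subgroup.index_dvd_card _
  obtain ⟨n, hn⟩ : ∃ n, n = Fintype.card α := ⟨_, rfl⟩
  rw [← hn] at hcard hcard2 hdvd hkn
  obtain ⟨t, ht⟩ := hdvd
  -- the two consequences
  have e1 : (n - (k - 1)) * t = k * h := by
    have h0 := Nat.choose_succ_right_eq n (k - 1)
    rw [show k - 1 + 1 = k by omega] at h0
    refine Nat.eq_of_mul_eq_mul_left (Nat.choose_pos (by omega : k - 1 ≤ n)) ?_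
    calc n.choose (k - 1) * ((n - (k - 1)) * t) = n.choose k * k * t := by rw [h0]; ring
      _ = k * (n.choose k * t) := by ring
      _ = k * (n.choose (k - 1) * h) := by rw [← ht, hcard]
      _ = _ := by ring
  have e2 : (n - (k - 2)) * h = (k - 1) * (k - 2).factorial * f := by
    have h0 := Nat.choose_succ_right_eq n (k - 2)
    rw [show k - 2 + 1 = k - 1 by omega] at h0
    refine Nat.eq_of_mul_eq_mul_left (Nat.choose_pos (by omega : k - 2 ≤ n)) ?_
    calc n.choose (k - 2) * ((n - (k - 2)) * h) = n.choose (k - 1) * (k - 1) * h := by rw [h0]; ring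
      _ = (k - 1) * (n.choose (k - 1) * h) := by ring
      _ = (k - 1) * (n.choose (k - 2) * (k - 2).factorial * f) := by rw [← hcard, hcard2]
      _ = _ := by ring
  have hle : n - (k - 1) ≤ k * h := Nat.le_of_dvd (Nat.mul_pos (by omega) hpos) ⟨t, e1.symm⟩
  -- orders of point stabilizers
  obtain ⟨x₀⟩ : Nonempty α := Fintype.card_pos_iff.1 (by omega)
  have hG1 : MulAction.IsPretransitive G α := by
    rw [← MulAction.is_one_pretransitive_iff]
    exact MulAction.isMultiplyPretransitive_of_le (n := k - 2) (by omega)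
      (by rw [Nat.card_eq_fintype_card]; omega)
  obtain ⟨H, hH⟩ : ∃ H, H = fixIn G ({x₀} : Finset α) := ⟨_, rfl⟩
  have hHx : ∀ g ∈ H, g x₀ = x₀ := fun g hg => (hH ▸ hg : g ∈ fixIn G {x₀}).2 x₀ (by simp)
  have hHc : n * Nat.card H = Nat.card G := by
    rw [← (MulAction.stabilizer G x₀).index_mul_card,
      MulAction.index_stabilizer_of_transitive G x₀, Nat.card_eq_fintype_card (α := α), ← hn, hH]
    congr 1
    refine Nat.card_eq_of_bijective (fun g => ⟨⟨g.1, g.2.1⟩, MulAction.mem_stabilizer_iff.2 (g.2.2 x₀ (by simp))⟩) ⟨fun a b e => ?_, fun g => ?_⟩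
    · exact Subtype.ext (congrArg (fun z : MulAction.stabilizer G x₀ => ((z : G) : Perm α)) e)
    · exact ⟨⟨((g : G) : Perm α), (g : G).2, fun i hi => by
        rw [mem_singleton] at hi; subst hi; exact MulAction.mem_stabilizer_iff.1 g.2⟩,
        Subtype.ext (Subtype.ext rfl)⟩
  interval_cases k
  · -- `k = 3`
    norm_num [Nat.factorial] at hfac hne e1 e2
    have : h = 1 := by have := Nat.le_of_dvd (by omega) hfac; omega
    subst this
    omega
  · -- `k = 4`
    norm_num [Nat.factorial] at hfac hne e1 e2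
    have h6 := Nat.le_of_dvd (by omega) hfac
    have hd : n - 3 ∣ 4 * h := ⟨t, e1.symm⟩
    have : n = 11 ∧ h = 2 := by
      have : n ≤ 24 := by omega
      interval_cases h <;> interval_cases n <;> omega
    obtain ⟨rfl, rfl⟩ := this
    -- transitive of degree eleven and order 330
    rw [hcard, show (11 : ℕ).choose 3 = 165 by decide] at hHc
    have h30 : Nat.card H = 30 := by omega
    have : Fact (Nat.Prime 11) := ⟨by norm_num⟩
    obtain ⟨P⟩ : Nonempty (Sylow 11 G) := inferInstance
    have hGc : Nat.card G = 330 := by rw [hcard, show (11 : ℕ).choose 3 = 165 by decide]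
    have hPc : Nat.card P = 11 := by
      rw [P.card_eq_multiplicity, hGc]
      have h1 : (330 : ℕ).factorization 11 = 1 := by
        refine le_antisymm ?_ ((Nat.Prime.dvd_iff_one_le_factorization (by norm_num) (by norm_num)).1 (by norm_num))
        by_contra hh'
        exact absurd ((Nat.Prime.pow_dvd_iff_le_factorization (p := 11) (n := 330) (k := 2) (by norm_num) (by norm_num)).2 (by omega)) (by norm_num)
      rw [h1, pow_one]
    have hn1 : Nat.card (Sylow 11 G) = 1 := by
      have h1 : Nat.card (Sylow 11 G) ∣ 30 := by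
        have hidx : (P : Subgroup G).index = 30 := by
          have := (P : Subgroup G).index_mul_card
          rw [show Nat.card (P : Subgroup G) = 11 from hPc, hGc] at this
          omega
        rw [← hidx]; exact P.card_dvd_index
      have h2 := card_sylow_modEq_one 11 G
      rw [Nat.ModEq] at h2
      have := Nat.le_of_dvd (by norm_num) h1
      interval_cases (Nat.card (Sylow 11 G)) <;> omega
    have : Subsingleton (Sylow 11 G) := (Nat.card_eq_one_iff_unique.1 hn1).1
    have hPn : (P : Subgroup G).Normal := P.normal_of_subsingleton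
    obtain ⟨c, hc⟩ := exists_prime_orderOf_dvd_card' (G := P) 11 (by rw [hPc])
    -- the centralizer of a regular cycle is the cycle
    let φ : H → MulAut P := fun g => MulAut.conjNormal (⟨g.1, (hH ▸ g.2 : (g : Perm α) ∈ fixIn G {x₀}).1⟩ : G)
    have hcfree : ∀ y : α, ((c : G) : Perm α) y ≠ y := by
      intro y hy
      have : MulAction.IsPretransitive G α := hG1
      have hfixall : ∀ z : α, ((c : G) : Perm α) z = z := by
        intro z
        obtain ⟨g, hg⟩ := MulAction.exists_smul_eq G y z
        have hgc : g⁻¹ * (c : G) * g ∈ Subgroup.zpowers (c : G) := by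
          have hz : Subgroup.zpowers (c : G) = (P : Subgroup G) :=
            Subgroup.eq_of_le_of_card_ge (Subgroup.zpowers_le.2 c.2)
              (by rw [Nat.card_zpowers, Subgroup.orderOf_coe, hc, hPc])
          rw [hz]
          exact hPn.conj_mem' _ c.2 g
        obtain ⟨m, hm⟩ := Subgroup.mem_zpowers_iff.1 hgc
        have h2 : ((g⁻¹ * (c : G) * g : G) : Perm α) y = y := by
          rw [← hm, SubgroupClass.coe_zpow]
          exact Perm.zpow_apply_eq_self_of_apply_eq_self hy m
        simp only [Subgroup.coe_mul, Subgroup.coe_inv, Perm.mul_apply] at h2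
        rw [Perm.inv_eq_iff_eq] at h2
        have h3 : (g : Perm α) y = z := hg
        rw [h3] at h2
        exact h2
      have h1 : ((c : G) : Perm α) = 1 := Equiv.ext hfixall
      have : orderOf c = 1 := orderOf_eq_one_iff.2 (Subtype.ext (Subtype.ext h1))
      omega
    have hper : ∀ i : ℕ, i < 11 → 0 < i → ((c : G) : Perm α) ^ i ≠ 1 ∧ (((c : G) : Perm α) ^ i) x₀ ≠ x₀ := by
      intro i hi hi0
      have ho : orderOf ((c : G) : Perm α) = 11 := by rw [Subgroup.orderOf_coe, Subgroup.orderOf_coe, hc]
      refine ⟨pow_ne_one_of_lt_orderOf (by omega) (by omega), fun h => hcfree x₀ ?_⟩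
      obtain ⟨m, hm⟩ := exists_pow_eq_self_of_coprime (x := ((c : G) : Perm α)) (n := i) (by
        rw [ho]
        exact ((Nat.Prime.coprime_iff_not_dvd (by norm_num)).2 fun hd => by
          have := Nat.le_of_dvd hi0 hd; omega).symm)
      rw [← hm]
      exact Perm.pow_apply_eq_self_of_apply_eq_self h m
    have hφ : Function.Injective φ := by
      intro g g' e
      apply Subtype.ext
      ext z
      obtain ⟨i, hiz⟩ : ∃ i : ℕ, (((c : G) : Perm α) ^ i) x₀ = z := by
        have hinj : Set.InjOn (fun i => (((c : G) : Perm α) ^ i) x₀) (Finset.range 11 : Finset ℕ) := by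
          intro i hi j hj hij
          simp only [coe_range, Set.mem_Iio] at hi hj
          beta_reduce at hij
          by_contra hne'
          have key : ∀ i j : ℕ, i < j → j < 11 →
              (((c : G) : Perm α) ^ i) x₀ = (((c : G) : Perm α) ^ j) x₀ → False := by
            intro i j hlt hj hij
            refine (hper (j - i) (by omega) (by omega)).2 ((((c : G) : Perm α) ^ i).injective ?_)
            rw [← Perm.mul_apply, ← pow_add, show i + (j - i) = j by omega]
            exact hij.symm
          rcases Nat.lt_or_gt_of_ne hne' with hlt | hlt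
          exacts [key i j hlt hj hij, key j i hlt hi hij.symm]
        have : (Finset.range 11).image (fun i => (((c : G) : Perm α) ^ i) x₀) = univ :=
          eq_univ_of_card _ (by rw [card_image_of_injOn hinj, card_range, hn])
        have hz := this ▸ mem_univ z
        obtain ⟨i, -, hi⟩ := mem_image.1 hz
        exact ⟨i, hi⟩
      have e' := congrArg (fun a : MulAut P => (((a c : P) : G) : Perm α)) e
      have e'' : (g : Perm α) * ((c : G) : Perm α) * (g : Perm α)⁻¹ =
          (g' : Perm α) * ((c : G) : Perm α) * (g' : Perm α)⁻¹ := by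
        simpa [φ] using e'
      have key : ∀ w : Perm α, w x₀ = x₀ → w z = ((w * ((c : G) : Perm α) * w⁻¹) ^ i) x₀ := by
        intro w hw
        rw [conj_pow, Perm.mul_apply, Perm.mul_apply,
          show w⁻¹ x₀ = x₀ from Perm.inv_eq_iff_eq.2 hw.symm, hiz]
      rw [key _ (hHx _ g.2), key _ (hHx _ g'.2), e'']
    have h10 : Nat.card (MulAut P) ≤ 10 := by
      have : IsCyclic P := isCyclic_of_prime_card hPc
      rw [IsCyclic.card_mulAut, hPc, Nat.totient_prime (by norm_num)]
    have := Nat.card_le_card_of_injective φ hφ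
    omega
  · -- `k = 5`
    norm_num [Nat.factorial] at hfac hne e1 e2
    have h24 := Nat.le_of_dvd (by omega) hfac
    have hd : n - 4 ∣ 5 * h := ⟨t, e1.symm⟩
    have hd2 : 24 ∣ (n - 3) * h := ⟨f, e2⟩
    have hq : (n - 3) * h / 24 % 2 = 1 := by
      rw [e2, Nat.mul_div_cancel_left _ (by norm_num)]; exact hfodd
    obtain ⟨hn', rfl⟩ := k_five_arith h (List.mem_range.2 (by omega)) n (List.mem_range.2 (by omega)) (by omega) hfac hd hd2 hq
    rcases hn' with rfl | rfl
    · rw [hcard, show (12 : ℕ).choose 4 = 495 by decide] at hHc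
      have hc : Nat.card H = 330 := by omega
      have := card_le_of_sylow (p := 11) (by norm_num) (by omega) hHx (by rw [hc]; norm_num)
        (by rw [hc]; norm_num) (fun d hd hd1 => by
          rw [hc] at hd
          have := Nat.le_of_dvd (by norm_num) hd
          interval_cases d <;> omega)
      omega
    · rw [hcard, show (24 : ℕ).choose 4 = 10626 by decide] at hHc
      have hc : Nat.card H = 3542 := by omega
      have := card_le_of_sylow (p := 23) (by norm_num) (by omega) hHx (by rw [hc]; norm_num)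
        (by rw [hc]; norm_num) (fun d hd hd1 => by
          rw [hc] at hd
          have := Nat.le_of_dvd (by norm_num) hd
          interval_cases d <;> omega)
      omega

end CfsgLib.Perm.Induced
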