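import Cfsg.Agent.Lib.Perm.OddPeriodGlue
set_option autoImplicit false
set_option linter.unusedSimpArgs false

/-!
Local pieces of an involution `z` with `xz` and `yz` of odd order, for two involutions `x`, `y`.
-/

namespace CfsgLib.Perm.OddGraph

open Equiv Equiv.Perm

variable {α : Type*} [DecidableEq α] [Fintype α]

/-- `z` is an involution supported in `S` whose products with `x` and `y` have odd periods on `S`. -/
structure Sol (x y : Perm α) (S : Finset α) (z : Perm α) : Prop where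
  fixed : ∀ a, a ∉ S → z a = a
  invol : z * z = 1
  oddx : ∀ a ∈ S, OddPer (x * z) a
  oddy : ∀ a ∈ S, OddPer (y * z) a

/-- A four-point orbit on which `x` and `y` commute. -/
def IsSquare (x y : Perm α) (a : α) : Prop :=
  x a ≠ a ∧ y a ≠ a ∧ x a ≠ y a ∧ x (y a) = y (x a)

omit [Fintype α] in
theorem Sol.mapsTo {x y : Perm α} {S : Finset α} {z : Perm α} (h : Sol x y S z) {a : α}
    (ha : a ∈ S) : z a ∈ S := by
  by_contra hn
  have h1 := h.fixed _ hn
  rw [invol_apply h.invol] at h1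
  exact hn (h1 ▸ ha)

omit [DecidableEq α] [Fintype α] in
theorem oddPer_three {g : Perm α} {a b c : α} (h1 : g a = b) (h2 : g b = c) (h3 : g c = a) :
    OddPer g a ∧ OddPer g b ∧ OddPer g c :=
  ⟨⟨3, by decide, by simp [pow_succ, h1, h2, h3]⟩, ⟨3, by decide, by simp [pow_succ, h1, h2, h3]⟩,
    ⟨3, by decide, by simp [pow_succ, h1, h2, h3]⟩⟩

omit [DecidableEq α] [Fintype α] in
theorem oddPer_five {g : Perm α} {a b c d e : α} (h1 : g a = b) (h2 : g b = c) (h3 : g c = d)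
    (h4 : g d = e) (h5 : g e = a) :
    OddPer g a ∧ OddPer g b ∧ OddPer g c ∧ OddPer g d ∧ OddPer g e := by
  refine ⟨⟨5, by decide, ?_⟩, ⟨5, by decide, ?_⟩, ⟨5, by decide, ?_⟩, ⟨5, by decide, ?_⟩,
    ⟨5, by decide, ?_⟩⟩ <;> simp [pow_succ, h1, h2, h3, h4, h5]

/-- The data of a square. -/
structure Square (x y : Perm α) (u₁ u₂ u₃ u₄ : α) : Prop where
  x12 : x u₁ = u₂
  x34 : x u₃ = u₄
  y14 : y u₁ = u₄
  y23 : y u₂ = u₃
  n12 : u₁ ≠ u₂
  n13 : u₁ ≠ u₃
  n14 : u₁ ≠ u₄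
  n23 : u₂ ≠ u₃
  n24 : u₂ ≠ u₄
  n34 : u₃ ≠ u₄

omit [Fintype α] in
theorem IsSquare.square {x y : Perm α} (hx : x * x = 1) (hy : y * y = 1) {a : α}
    (h : IsSquare x y a) : Square x y a (x a) (y (x a)) (y a) := by
  obtain ⟨h1, h2, h3, h4⟩ := h
  refine ⟨rfl, ?_, rfl, rfl, h1.symm, ?_, h2.symm, ?_, h3, fun e => h1 (y.injective e)⟩
  · rw [← h4, invol_apply hx]
  · intro e
    refine h3 ?_
    have := congrArg y e
    rw [invol_apply hy] at this
    exact this.symm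
  · intro e
    refine h2 (x.injective ?_)
    rw [h4, ← e]

omit [Fintype α] in
theorem Square.xy {x y : Perm α} {u₁ u₂ u₃ u₄ : α} (h : Square x y u₁ u₂ u₃ u₄) (hx : x * x = 1)
    (hy : y * y = 1) : x u₂ = u₁ ∧ x u₄ = u₃ ∧ y u₄ = u₁ ∧ y u₃ = u₂ :=
  ⟨by rw [← h.x12, invol_apply hx], by rw [← h.x34, invol_apply hx],
    by rw [← h.y14, invol_apply hy], by rw [← h.y23, invol_apply hy]⟩

omit [Fintype α] in
/-- Two squares. -/
theorem sol_two_squares {x y : Perm α} (hx : x * x = 1) (hy : y * y = 1) {u₁ u₂ u₃ u₄ v₁ v₂ v₃ v₄ : α}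
    (hu : Square x y u₁ u₂ u₃ u₄) (hv : Square x y v₁ v₂ v₃ v₄)
    (hd : ∀ a ∈ ({u₁, u₂, u₃, u₄} : Finset α), ∀ b ∈ ({v₁, v₂, v₃, v₄} : Finset α), a ≠ b) :
    ∃ z, Sol x y ({u₁, u₂, u₃, u₄, v₁, v₂, v₃, v₄} : Finset α) z := by
  obtain ⟨xu2, xu4, yu4, yu3⟩ := hu.xy hx hy
  obtain ⟨xv2, xv4, yv4, yv3⟩ := hv.xy hx hy
  obtain ⟨xu1, xu3, yu1, yu2, a12, a13, a14, a23, a24, a34⟩ := hu
  obtain ⟨xv1, xv3, yv1, yv2, b12, b13, b14, b23, b24, b34⟩ := hv
  simp only [Finset.mem_insert, Finset.mem_singleton, forall_eq_or_imp, forall_eq] at hd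
  obtain ⟨⟨c11, c12, c13, c14⟩, ⟨c21, c22, c23, c24⟩, ⟨c31, c32, c33, c34⟩,
    ⟨c41, c42, c43, c44⟩⟩ := hd
  let z : Perm α := ((1 * swap u₁ u₄) * swap v₃ v₄) * swap u₂ v₁ * swap u₃ v₂
  have hzi : z * z = 1 := by
    refine swap_invol (swap_invol (swap_invol (swap_invol (one_mul 1) rfl rfl) ?_ ?_) ?_ ?_) ?_ ?_ <;>
      simp [swap_apply_def, Ne.symm, a12, a13, a14, a23, a24, a34, b12, b13, b14, b23, b24, b34,
        c11, c12, c13, c14, c21, c22, c23, c24, c31, c32, c33, c34, c41, c42, c43, c44]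
  refine ⟨z, fun a ha => ?_, hzi, ?_, ?_⟩
  · simp only [Finset.mem_insert, Finset.mem_singleton, not_or] at ha
    simp [z, swap_apply_def, ha]
  all_goals
    have hz : z u₁ = u₄ ∧ z u₄ = u₁ ∧ z v₃ = v₄ ∧ z v₄ = v₃ ∧ z u₂ = v₁ ∧ z v₁ = u₂ ∧
        z u₃ = v₂ ∧ z v₂ = u₃ := by
      simp [z, swap_apply_def, Ne.symm, a12, a13, a14, a23, a24, a34, b12, b13, b14, b23, b24, b34,
        c11, c12, c13, c14, c21, c22, c23, c24, c31, c32, c33, c34, c41, c42, c43, c44]
    obtain ⟨z1, z2, z3, z4, z5, z6, z7, z8⟩ := hz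
  · have t1 := oddPer_three (g := x * z) (a := u₁) (b := u₃) (c := v₁)
      (by simp [z1, xu4]) (by simp [z7, xv2]) (by simp [z6, xu2])
    have t2 := oddPer_three (g := x * z) (a := u₂) (b := v₂) (c := u₄)
      (by simp [z5, xv1]) (by simp [z8, xu3]) (by simp [z2, xu1])
    have f1 : OddPer (x * z) v₃ := OddPer.of_fixed (by simp [z3, xv4])
    have f2 : OddPer (x * z) v₄ := OddPer.of_fixed (by simp [z4, xv3])
    simp only [Finset.mem_insert, Finset.mem_singleton, forall_eq_or_imp, forall_eq]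
    exact ⟨t1.1, t2.1, t1.2.1, t2.2.2, t1.2.2, t2.2.1, f1, f2⟩
  · have t1 := oddPer_three (g := y * z) (a := v₁) (b := u₃) (c := v₃)
      (by simp [z6, yu2]) (by simp [z7, yv2]) (by simp [z3, yv4])
    have t2 := oddPer_three (g := y * z) (a := v₂) (b := u₂) (c := v₄)
      (by simp [z8, yu3]) (by simp [z5, yv1]) (by simp [z4, yv3])
    have f1 : OddPer (y * z) u₁ := OddPer.of_fixed (by simp [z1, yu4])
    have f2 : OddPer (y * z) u₄ := OddPer.of_fixed (by simp [z2, yu1])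
    simp only [Finset.mem_insert, Finset.mem_singleton, forall_eq_or_imp, forall_eq]
    exact ⟨f1, t2.2.1, t1.2.1, f2, t1.1, t2.1, t1.2.2, t2.2.2⟩

omit [Fintype α] in
/-- A square can be attached to any nonempty solved set. -/
theorem sol_attach_square {x y : Perm α} (hx : x * x = 1) (hy : y * y = 1) {R : Finset α}
    (hxR : ∀ a ∈ R, x a ∈ R) (hyR : ∀ a ∈ R, y a ∈ R) (hne : R.Nonempty) {z₀ : Perm α}
    (h : Sol x y R z₀) {u₁ u₂ u₃ u₄ : α} (hu : Square x y u₁ u₂ u₃ u₄)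
    (h1 : u₁ ∉ R) (h2 : u₂ ∉ R) (h3 : u₃ ∉ R) (h4 : u₄ ∉ R) :
    ∃ z, Sol x y ({u₁, u₂, u₃, u₄} ∪ R) z := by
  obtain ⟨xu2, xu4, yu4, yu3⟩ := hu.xy hx hy
  obtain ⟨xu1, xu3, yu1, yu2, a12, a13, a14, a23, a24, a34⟩ := hu
  have e1 := h.fixed _ h1
  have e2 := h.fixed _ h2
  have e3 := h.fixed _ h3
  have e4 := h.fixed _ h4
  by_cases hmove : ∃ p ∈ R, z₀ p ≠ p
  · obtain ⟨p, hp, hpq⟩ := hmove
    set q := z₀ p with hq
    have hqR : q ∈ R := h.mapsTo hp
    have hqp : z₀ q = p := invol_apply h.invol p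
    have p1 : p ≠ u₁ := ne_of_mem_of_not_mem hp h1
    have p2 : p ≠ u₂ := ne_of_mem_of_not_mem hp h2
    have p3 : p ≠ u₃ := ne_of_mem_of_not_mem hp h3
    have p4 : p ≠ u₄ := ne_of_mem_of_not_mem hp h4
    have q1 : q ≠ u₁ := ne_of_mem_of_not_mem hqR h1
    have q2 : q ≠ u₂ := ne_of_mem_of_not_mem hqR h2
    have q3 : q ≠ u₃ := ne_of_mem_of_not_mem hqR h3
    have q4 : q ≠ u₄ := ne_of_mem_of_not_mem hqR h4
    let z : Perm α := z₀ * swap p q * swap u₁ u₃ * swap u₂ p * swap u₄ q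
    have hzi : z * z = 1 := by
      refine swap_invol (swap_invol (swap_invol (swap_invol' h.invol) ?_ ?_) ?_ ?_) ?_ ?_ <;>
        simp [swap_apply_def, ← hq, hqp, e1, e2, e3, e4, Ne.symm, a12, a13, a14, a23, a24, a34, p1,
          p2, p3, p4, q1, q2, q3, q4, hpq]
    have hz : z p = u₂ ∧ z u₂ = p ∧ z q = u₄ ∧ z u₄ = q ∧ z u₁ = u₃ ∧ z u₃ = u₁ := by
      simp [z, swap_apply_def, ← hq, hqp, e1, e2, e3, e4, Ne.symm, a12, a13, a14, a23, a24, a34,
        p1, p2, p3, p4, q1, q2, q3, q4, hpq]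
    obtain ⟨z1, z2, z3, z4, z5, z6⟩ := hz
    let E : Finset α := {u₁, u₂, u₃, u₄, p, q}
    have hoff : ∀ b, b ∉ E → z b = z₀ b := fun b hb => by
      simp only [E, Finset.mem_insert, Finset.mem_singleton, not_or] at hb
      simp [z, swap_apply_def, hb]
    -- the same computation for `x` and for `y`
    have key : ∀ (t : Perm α) (c₁ c₂ c₃ c₄ : α), (∀ a ∈ R, t a ∈ R) →
        (∀ a ∈ R, OddPer (t * z₀) a) →
        t u₂ = c₁ → (t * z) c₁ = c₂ → (t * z) c₂ = (t * z₀) p →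
        t u₄ = c₃ → (t * z) c₃ = c₄ → (t * z) c₄ = (t * z₀) q →
        (∀ e ∈ ({u₁, u₂, u₃, u₄} : Finset α), e = c₁ ∨ e = c₂ ∨ e = c₃ ∨ e = c₄) →
        ∀ a ∈ ({u₁, u₂, u₃, u₄} : Finset α) ∪ R, OddPer (t * z) a := by
      intro t c₁ c₂ c₃ c₄ htR hodd k1 k2 k3 k4 k5 k6 hc
      have hgd : ∀ b, b ∉ E → (t * z) b = (t * z₀) b := fun b hb => by
        show t (z b) = t (z₀ b)
        rw [hoff b hb]
      have horb : ∀ a ∈ R, ∀ i : ℕ, ((t * z₀) ^ i) a ∈ R := fun a ha i =>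
        (pow_congr_set (g := t * z₀) (g' := t * z₀) (fun b hb => htR _ (h.mapsTo hb)) (fun _ _ => rfl) ha i).2
      have hsub : ∀ r ∈ R, ∀ e ∈ E, e = p ∨ e = q ∨ ∀ i : ℕ, ((t * z₀) ^ i) r ≠ e := by
        intro r hr e he
        simp only [E, Finset.mem_insert, Finset.mem_singleton] at he
        rcases he with rfl | rfl | rfl | rfl | rfl | rfl
        · exact Or.inr (Or.inr fun i => ne_of_mem_of_not_mem (horb r hr i) h1)
        · exact Or.inr (Or.inr fun i => ne_of_mem_of_not_mem (horb r hr i) h2)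
        · exact Or.inr (Or.inr fun i => ne_of_mem_of_not_mem (horb r hr i) h3)
        · exact Or.inr (Or.inr fun i => ne_of_mem_of_not_mem (horb r hr i) h4)
        · exact Or.inl rfl
        · exact Or.inr (Or.inl rfl)
      have hp1 : (t * z) p = c₁ := by show t (z p) = c₁; rw [z1, k1]
      have hq1 : (t * z) q = c₃ := by show t (z q) = c₃; rw [z3, k4]
      have r1 := oddPer_chain hgd (hsub p hp) hp1 k2 k3 hq1 k5 k6 (oddPer_iff.mp (hodd p hp))
      have r2 := oddPer_chain hgd (p := q) (q := p)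
        (fun e he => by rcases hsub q hqR e he with h | h | h <;> simp [h] )
        hq1 k5 k6 hp1 k2 k3 (oddPer_iff.mp (hodd q hqR))
      have hE : ∀ e ∈ E, OddPer (t * z) e := by
        intro e he
        simp only [E, Finset.mem_insert, Finset.mem_singleton] at he
        have hce : e ∈ ({u₁, u₂, u₃, u₄} : Finset α) → OddPer (t * z) e := fun he' => by
          rcases hc e he' with rfl | rfl | rfl | rfl
          exacts [r1.2.1, r1.2.2, r2.2.1, r2.2.2]
        rcases he with rfl | rfl | rfl | rfl | rfl | rfl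
        iterate 4 exact hce (by simp)
        · exact r1.1
        · exact r2.1
      intro a ha
      refine oddPer_of_agree hgd hE ?_
      rcases Finset.mem_union.mp ha with ha | ha
      · exact Or.inr ⟨0, by simp only [pow_zero, Perm.one_apply, E, Finset.mem_insert,
          Finset.mem_singleton] at ha ⊢; tauto⟩
      · exact Or.inl (hodd a ha)
    refine ⟨z, fun a ha => ?_, hzi, ?_, ?_⟩
    · simp only [Finset.mem_union, not_or, Finset.mem_insert, Finset.mem_singleton] at ha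
      rw [hoff a, h.fixed a ha.2]
      simp only [E, Finset.mem_insert, Finset.mem_singleton, not_or]
      exact ⟨ha.1.1, ha.1.2.1, ha.1.2.2.1, ha.1.2.2.2, (ne_of_mem_of_not_mem hp ha.2).symm,
        (ne_of_mem_of_not_mem hqR ha.2).symm⟩
    · refine key x u₁ u₄ u₃ u₂ hxR h.oddx xu2 (by simp [z5, xu3]) (by simp [z4, ← hq]) xu4
        (by simp [z6, xu1]) (by simp [z2, hqp]) ?_
      simp
    · refine key y u₃ u₄ u₁ u₂ hyR h.oddy yu2 (by simp [z6, yu1]) (by simp [z4, ← hq]) yu4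
        (by simp [z5, yu3]) (by simp [z2, hqp]) ?_
      simp
  · simp only [not_exists, not_and, not_not] at hmove
    have hfix : ∀ a, z₀ a = a := fun a => if ha : a ∈ R then hmove a ha else h.fixed a ha
    have hR : ∀ (t : Perm α), t * t = 1 → (∀ a ∈ R, OddPer (t * z₀) a) → ∀ a ∈ R, t a = a := by
      intro t ht hodd a ha
      obtain ⟨k, ⟨j, rfl⟩, hk⟩ := hodd a ha
      have hz1 : z₀ = 1 := Equiv.ext hfix
      rw [hz1, mul_one, pow_succ, pow_mul, pow_two, ht, one_pow, one_mul] at hk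
      exact hk
    obtain ⟨w, hw⟩ := hne
    have xw := hR x hx h.oddx w hw
    have yw := hR y hy h.oddy w hw
    have w1 : w ≠ u₁ := ne_of_mem_of_not_mem hw h1
    have w2 : w ≠ u₂ := ne_of_mem_of_not_mem hw h2
    have w3 : w ≠ u₃ := ne_of_mem_of_not_mem hw h3
    have w4 : w ≠ u₄ := ne_of_mem_of_not_mem hw h4
    let z : Perm α := 1 * swap u₁ u₄ * swap u₂ w
    have hzi : z * z = 1 := by
      refine swap_invol (swap_invol (one_mul 1) rfl rfl) ?_ ?_ <;>
        simp [swap_apply_def, Ne.symm, a12, a13, a14, a23, a24, a34, w1, w2, w3, w4]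
    have hz : z u₁ = u₄ ∧ z u₄ = u₁ ∧ z u₂ = w ∧ z w = u₂ ∧ z u₃ = u₃ := by
      simp [z, swap_apply_def, Ne.symm, a12, a13, a14, a23, a24, a34, w1, w2, w3, w4]
    obtain ⟨z1, z2, z3, z4, z5⟩ := hz
    have hoff : ∀ a, a ∈ R → a ≠ w → z a = a := fun a ha haw => by
      simp [z, swap_apply_def, haw, ne_of_mem_of_not_mem ha h1, ne_of_mem_of_not_mem ha h2,
        ne_of_mem_of_not_mem ha h4]
    refine ⟨z, fun a ha => ?_, hzi, ?_, ?_⟩
    · simp only [Finset.mem_union, not_or, Finset.mem_insert, Finset.mem_singleton] at ha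
      simp [z, swap_apply_def, ha.1, (ne_of_mem_of_not_mem hw ha.2).symm]
    · obtain ⟨o1, o3, o4, o2, ow⟩ := oddPer_five (g := x * z) (a := u₁) (b := u₃) (c := u₄)
        (d := u₂) (e := w) (by simp [z1, xu4]) (by simp [z5, xu3]) (by simp [z2, xu1])
        (by simp [z3, xw]) (by simp [z4, xu2])
      intro a ha
      simp only [Finset.mem_union, Finset.mem_insert, Finset.mem_singleton] at ha
      rcases ha with (rfl | rfl | rfl | rfl) | ha
      iterate 4 assumption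
      by_cases haw : a = w
      · rw [haw]; exact ow
      · exact OddPer.of_fixed (by simp [hoff a ha haw, hR x hx h.oddx a ha])
    · obtain ⟨o2, ow, o3⟩ := oddPer_three (g := y * z) (a := u₂) (b := w) (c := u₃)
        (by simp [z3, yw]) (by simp [z4, yu2]) (by simp [z5, yu3])
      have o1 : OddPer (y * z) u₁ := OddPer.of_fixed (by simp [z1, yu4])
      have o4 : OddPer (y * z) u₄ := OddPer.of_fixed (by simp [z2, yu1])
      intro a ha
      simp only [Finset.mem_union, Finset.mem_insert, Finset.mem_singleton] at ha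
      rcases ha with (rfl | rfl | rfl | rfl) | ha
      iterate 4 assumption
      by_cases haw : a = w
      · rw [haw]; exact ow
      · exact OddPer.of_fixed (by simp [hoff a ha haw, hR y hy h.oddy a ha])

end CfsgLib.Perm.OddGraph
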