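import Cfsg.Agent.Lib.Perm.InvolutionOddPaths
import Mathlib.GroupTheory.Perm.Sign
import Mathlib.Tactic.Group
import Mathlib.Combinatorics.SimpleGraph.Diam
set_option autoImplicit false
set_option linter.unusedSimpArgs false

/-!
For involutions `x`, `y` of one class of `Sym(n)`, `n ≥ 5`, some involution `z` of that class makes
`xz` and `yz` of odd order.
-/

namespace CfsgLib.Perm.OddGraph

open Equiv Equiv.Perm

variable {α : Type*} [DecidableEq α] [Fintype α]

omit [DecidableEq α] [Fintype α] in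
theorem per_zpow_apply (g : Perm α) (i : ℤ) (a : α) : per g ((g ^ i) a) = per g a := by
  have h : ∀ (a : α) (i : ℤ), per g ((g ^ i) a) ∣ per g a := fun a i => by
    refine per_dvd ?_
    rw [← Perm.mul_apply, (((Commute.refl g).zpow_right i).pow_left _).eq, Perm.mul_apply, pow_per]
  refine Nat.dvd_antisymm (h a i) ?_
  have := h ((g ^ i) a) (-i)
  rwa [← Perm.mul_apply, ← zpow_add, neg_add_cancel, zpow_zero, Perm.one_apply] at this

omit [Fintype α] in
theorem Sol.union {x y : Perm α} {S₁ S₂ : Finset α} {z₁ z₂ : Perm α}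
    (h₁ : Sol x y S₁ z₁) (h₂ : Sol x y S₂ z₂) (hd : ∀ a ∈ S₁, a ∉ S₂)
    (hx₁ : ∀ a ∈ S₁, x a ∈ S₁) (hy₁ : ∀ a ∈ S₁, y a ∈ S₁)
    (hx₂ : ∀ a ∈ S₂, x a ∈ S₂) (hy₂ : ∀ a ∈ S₂, y a ∈ S₂) :
    Sol x y (S₁ ∪ S₂) (z₁ * z₂) := by
  have e1 : ∀ a ∈ S₁, (z₁ * z₂) a = z₁ a := fun a ha => by
    rw [Perm.mul_apply, h₂.fixed a (hd a ha)]
  have e2 : ∀ a ∈ S₂, (z₁ * z₂) a = z₂ a := fun a ha => by
    rw [Perm.mul_apply, h₁.fixed _ fun h => hd _ h (h₂.mapsTo ha)]
  have e3 : ∀ a, a ∉ S₁ → a ∉ S₂ → (z₁ * z₂) a = a := fun a ha hb => by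
    rw [Perm.mul_apply, h₂.fixed a hb, h₁.fixed a ha]
  refine ⟨fun a ha => ?_, Equiv.ext fun a => ?_, fun a ha => ?_, fun a ha => ?_⟩
  · simp only [Finset.mem_union, not_or] at ha
    exact e3 a ha.1 ha.2
  · show (z₁ * z₂) ((z₁ * z₂) a) = a
    by_cases h1 : a ∈ S₁
    · rw [e1 a h1, e1 _ (h₁.mapsTo h1), invol_apply h₁.invol]
    · by_cases h2 : a ∈ S₂
      · rw [e2 a h2, e2 _ (h₂.mapsTo h2), invol_apply h₂.invol]
      · rw [e3 a h1 h2, e3 a h1 h2]
  · rcases Finset.mem_union.mp ha with ha | ha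
    · exact OddPer.congr (g := x * z₁) (fun b hb => hx₁ _ (h₁.mapsTo hb))
        (fun b hb => by show x ((z₁ * z₂) b) = x (z₁ b); rw [e1 b hb]) ha (h₁.oddx a ha)
    · exact OddPer.congr (g := x * z₂) (fun b hb => hx₂ _ (h₂.mapsTo hb))
        (fun b hb => by show x ((z₁ * z₂) b) = x (z₂ b); rw [e2 b hb]) ha (h₂.oddx a ha)
  · rcases Finset.mem_union.mp ha with ha | ha
    · exact OddPer.congr (g := y * z₁) (fun b hb => hy₁ _ (h₁.mapsTo hb))
        (fun b hb => by show y ((z₁ * z₂) b) = y (z₁ b); rw [e1 b hb]) ha (h₁.oddy a ha)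
    · exact OddPer.congr (g := y * z₂) (fun b hb => hy₂ _ (h₂.mapsTo hb))
        (fun b hb => by show y ((z₁ * z₂) b) = y (z₂ b); rw [e2 b hb]) ha (h₂.oddy a ha)

omit [Fintype α] in
/-- If `xz` has odd periods on `U`, then `x` and `z` fix equally many points of `U`. -/
theorem card_fixed_eq {x z : Perm α} (hx : x * x = 1) (hz : z * z = 1) {U : Finset α}
    (hxU : ∀ a ∈ U, x a ∈ U) (hzU : ∀ a ∈ U, z a ∈ U) (hodd : ∀ a ∈ U, OddPer (x * z) a) :
    (U.filter fun a => z a = a).card = (U.filter fun a => x a = a).card := by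
  classical
  set g := x * z with hg
  have hgU : ∀ a ∈ U, g a ∈ U := fun a ha => hxU _ (hzU a ha)
  have hpU : ∀ (n : ℕ), ∀ a ∈ U, (g ^ n) a ∈ U := fun n a ha =>
    (pow_congr_set (g' := g) hgU (fun _ _ => rfl) ha n).2
  obtain ⟨j, hj⟩ : Odd (∏ a ∈ U, per g a) :=
    Finset.prod_induction _ Odd (fun a b => Odd.mul) odd_one fun a ha => oddPer_iff.mp (hodd a ha)
  have hK : ∀ a ∈ U, (g ^ (2 * j + 1)) a = a := fun a ha => by
    obtain ⟨k, hk⟩ := Finset.dvd_prod_of_mem (per g) ha
    rw [← hj, hk, pow_mul, Equiv.Perm.coe_pow]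
    exact Function.iterate_fixed (pow_per g a) k
  have key : ∀ a ∈ U, x ((g ^ (j + 1)) a) = (g ^ (j + 1)) (z a) := fun a ha => by
    have h1 : x a = g (z a) := by rw [hg, Perm.mul_apply, invol_apply hz]
    have h2 := x_zpow_apply hx hz ((j + 1 : ℕ) : ℤ) a
    rw [← hg, zpow_natCast, h1] at h2
    have hr : (g ^ (j + 1)) ((g ^ (j + 1)) (z a)) = g (z a) := by
      rw [← Perm.mul_apply, ← pow_add, show j + 1 + (j + 1) = (2 * j + 1) + 1 by omega, pow_succ',
        Perm.mul_apply, hK _ (hzU a ha)]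
    rw [h2]
    apply (g ^ (j + 1)).injective
    rw [hr, ← zpow_natCast g (j + 1), ← Perm.mul_apply, ← zpow_add, add_neg_cancel]
    rfl
  refine Finset.card_bij (fun a _ => (g ^ (j + 1)) a) ?_ (fun a _ b _ h => (g ^ (j + 1)).injective h) ?_
  · intro a ha
    obtain ⟨haU, hza⟩ := Finset.mem_filter.mp ha
    exact Finset.mem_filter.mpr ⟨hpU _ a haU, by rw [key a haU, hza]⟩
  · intro b hb
    obtain ⟨hbU, hxb⟩ := Finset.mem_filter.mp hb
    have e : (g ^ (j + 1)) ((g ^ j) b) = b := by
      rw [← Perm.mul_apply, ← pow_add, show j + 1 + j = 2 * j + 1 by omega, hK b hbU]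
    refine ⟨(g ^ j) b, Finset.mem_filter.mpr ⟨hpU _ b hbU, ?_⟩, e⟩
    apply (g ^ (j + 1)).injective
    rw [← key _ (hpU _ b hbU), e, hxb]

omit [Fintype α] in
theorem Sol.card_fixed {x y : Perm α} (hx : x * x = 1) (hy : y * y = 1) {U : Finset α} {z : Perm α}
    (h : Sol x y U z) (hxU : ∀ a ∈ U, x a ∈ U) (hyU : ∀ a ∈ U, y a ∈ U) :
    (U.filter fun a => x a = a).card = (U.filter fun a => y a = a).card :=
  (card_fixed_eq hx h.invol hxU (fun _ => h.mapsTo) h.oddx).symm.trans
    (card_fixed_eq hy h.invol hyU (fun _ => h.mapsTo) h.oddy)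

omit [Fintype α] in
/-- If `x`-fixed points all have odd period, so do the `y`-fixed points. -/
theorem even_fixed_transfer {x y : Perm α} (hx : x * x = 1) (hy : y * y = 1) {S : Finset α}
    (hxS : ∀ a ∈ S, x a ∈ S) (hyS : ∀ a ∈ S, y a ∈ S)
    (hcard : (S.filter fun a => x a = a).card = (S.filter fun a => y a = a).card)
    (h : ∀ a ∈ S, x a = a → Odd (per (x * y) a)) :
    ∀ a ∈ S, y a = a → Odd (per (x * y) a) := by
  classical
  set d := x * y with hd
  let Fx := S.filter fun a => x a = a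
  let Fy := S.filter fun a => y a = a
  let Fo := Fy.filter fun a => Odd (per d a)
  have hdS : ∀ a ∈ S, d a ∈ S := fun a ha => hxS _ (hyS a ha)
  have hle : Fx.card ≤ Fo.card := by
    refine Finset.card_le_card_of_injOn (fun a => (d ^ (per d a / 2)) a) (fun a ha => ?_) ?_
    · rw [Finset.mem_coe, Finset.mem_filter] at ha
      obtain ⟨c, hc⟩ := h a ha.1 ha.2
      simp only [Fo, Fy, Finset.mem_coe, Finset.mem_filter]
      refine ⟨⟨(pow_congr_set (g' := d) hdS (fun _ _ => rfl) ha.1 _).2, ?_⟩, ?_⟩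
      · rw [hc, show (2 * c + 1) / 2 = c by omega, ← zpow_natCast, y_zpow_apply hx hy, ← hd, ha.2]
        apply (d ^ ((c : ℤ) + 1)).injective
        rw [← Perm.mul_apply, ← zpow_add, add_neg_cancel, ← Perm.mul_apply, ← zpow_add,
          show (c : ℤ) + 1 + c = ((2 * c + 1 : ℕ) : ℤ) by push_cast; ring, zpow_natCast, ← hc,
          pow_per]
        rfl
      · rw [← zpow_natCast, per_zpow_apply]
        exact ⟨c, hc⟩
    · intro a ha b hb hab
      rw [Finset.mem_coe, Finset.mem_filter] at ha hb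
      have hp : per d a = per d b := by
        have := congrArg (per d) hab
        simp only [← zpow_natCast, per_zpow_apply] at this
        exact this
      simp only [← hp] at hab
      exact (d ^ (per d a / 2)).injective hab
  intro a ha hya
  have : Fo = Fy := Finset.eq_of_subset_of_card_le (Finset.filter_subset _ _)
    (hcard.symm.trans_le hle)
  have ha' : a ∈ Fo := by rw [this]; exact Finset.mem_filter.mpr ⟨ha, hya⟩
  exact (Finset.mem_filter.mp ha').2

/-- The main construction. -/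
theorem exists_sol {x y : Perm α} (hx : x * x = 1) (hy : y * y = 1) (S : Finset α)
    (hxS : ∀ a ∈ S, x a ∈ S) (hyS : ∀ a ∈ S, y a ∈ S)
    (hcard : (S.filter fun a => x a = a).card = (S.filter fun a => y a = a).card)
    (hfour : S.card = 4 → ∀ a ∈ S, ¬ IsSquare x y a) :
    ∃ z, Sol x y S z := by
  classical
  induction hn : S.card using Nat.strong_induction_on generalizing S with
  | _ n ih =>
  subst hn
  set d := x * y with hd
  have hdiff : ∀ (U : Finset α) (t : Perm α), t * t = 1 → (∀ a ∈ S, t a ∈ S) →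
      (∀ a ∈ U, t a ∈ U) → ∀ a ∈ S \ U, t a ∈ S \ U := fun U t ht htS htU a ha => by
    obtain ⟨haS, haU⟩ := Finset.mem_sdiff.mp ha
    exact Finset.mem_sdiff.mpr ⟨htS a haS, fun h => haU ((inv_iff ht htU a).mp h)⟩
  by_cases hsq : ∃ a ∈ S, IsSquare x y a
  · obtain ⟨a, ha, hsqa⟩ := hsq
    have hs := hsqa.square hx hy
    obtain ⟨s1, s2, s3, s4⟩ := hs.xy hx hy
    set T : Finset α := {a, x a, y (x a), y a} with hTdef
    have hTS : T ⊆ S := by
      intro b hb
      simp only [T, Finset.mem_insert, Finset.mem_singleton] at hb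
      rcases hb with e | e | e | e <;> rw [e]
      exacts [ha, hxS a ha, hyS _ (hxS a ha), hyS a ha]
    have hTx : ∀ b ∈ T, x b ∈ T := fun b hb => by
      simp only [T, Finset.mem_insert, Finset.mem_singleton] at hb ⊢
      rcases hb with e | e | e | e <;> rw [e]
      exacts [Or.inr (Or.inl rfl), Or.inl s1, Or.inr (Or.inr (Or.inr hs.x34)),
        Or.inr (Or.inr (Or.inl s2))]
    have hTy : ∀ b ∈ T, y b ∈ T := fun b hb => by
      simp only [T, Finset.mem_insert, Finset.mem_singleton] at hb ⊢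
      rcases hb with e | e | e | e <;> rw [e]
      exacts [Or.inr (Or.inr (Or.inr rfl)), Or.inr (Or.inr (Or.inl rfl)), Or.inr (Or.inl s4),
        Or.inl s3]
    have hTcard : T.card = 4 := by
      simp [T, hs.n12, hs.n13, hs.n14, hs.n23, hs.n24, hs.n34]
    have hxR := hdiff T x hx hxS hTx
    have hyR := hdiff T y hy hyS hTy
    have hne : (S \ T).Nonempty := by
      rw [Finset.sdiff_nonempty]
      intro h
      exact hfour (by rw [Finset.Subset.antisymm h hTS, hTcard]) a ha hsqa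
    have hu : T ∪ (S \ T) = S := Finset.union_sdiff_of_subset hTS
    by_cases hR4 : (S \ T).card = 4 ∧ ∃ b ∈ S \ T, IsSquare x y b
    · obtain ⟨hR4, b, hb, hsqb⟩ := hR4
      have ht := hsqb.square hx hy
      have hR : ({b, x b, y (x b), y b} : Finset α) = S \ T := by
        refine Finset.eq_of_subset_of_card_le ?_ ?_
        · intro c hc
          simp only [Finset.mem_insert, Finset.mem_singleton] at hc
          rcases hc with e | e | e | e <;> rw [e]
          exacts [hb, hxR b hb, hyR _ (hxR b hb), hyR b hb]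
        · rw [hR4]
          simp [ht.n12, ht.n13, ht.n14, ht.n23, ht.n24, ht.n34]
      obtain ⟨z, hz⟩ := sol_two_squares hx hy hs ht (fun c hc c' hc' e => by
        rw [hR] at hc'
        exact (Finset.mem_sdiff.mp hc').2 (e ▸ hc))
      refine ⟨z, ?_⟩
      convert hz using 2
      rw [← hu, ← hR, hTdef]
      ext c
      simp only [Finset.mem_union, Finset.mem_insert, Finset.mem_singleton]
      tauto
    · simp only [not_and, not_exists] at hR4
      have h0 : ∀ c ∈ T, x c ≠ c ∧ y c ≠ c := fun c hc => by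
        simp only [T, Finset.mem_insert, Finset.mem_singleton] at hc
        rcases hc with e | e | e | e <;> rw [e]
        · exact ⟨hs.n12.symm, hs.n14.symm⟩
        · exact ⟨by rw [s1]; exact hs.n12, hs.n23.symm⟩
        · exact ⟨by rw [hs.x34]; exact hs.n34.symm, by rw [s4]; exact hs.n23⟩
        · exact ⟨by rw [s2]; exact hs.n34, by rw [s3]; exact hs.n14⟩
      have hf : ∀ t : Perm α, (∀ c ∈ T, t c ≠ c) →
          (S \ T).filter (fun c => t c = c) = S.filter fun c => t c = c := fun t ht => by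
        ext c
        simp only [Finset.mem_filter, Finset.mem_sdiff]
        exact ⟨fun h => ⟨h.1.1, h.2⟩, fun h => ⟨⟨h.1, fun hc => ht c hc h.2⟩, h.2⟩⟩
      obtain ⟨z₀, hz₀⟩ := ih _ (by
          rw [Finset.card_sdiff_of_subset hTS]; have := Finset.card_le_card hTS; omega)
        (S \ T) hxR hyR (by rw [hf x fun c hc => (h0 c hc).1, hf y fun c hc => (h0 c hc).2, hcard])
        (fun h b hb hsqb => hR4 h b hb hsqb) rfl
      have hnot : ∀ c ∈ T, c ∉ S \ T := fun c hc h => (Finset.mem_sdiff.mp h).2 hc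
      obtain ⟨z, hz⟩ := sol_attach_square hx hy hxR hyR hne hz₀ hs (hnot _ (by simp [T]))
        (hnot _ (by simp [T])) (hnot _ (by simp [T])) (hnot _ (by simp [T]))
      exact ⟨z, by rw [hu] at hz; exact hz⟩
  simp only [not_exists, not_and] at hsq
  by_cases hall : ∀ a ∈ S, OddPer d a
  · refine ⟨res x S, fun a ha => by rw [res_apply hx hxS, if_neg ha], res_invol hx hxS, ?_, ?_⟩
    · exact fun a ha => OddPer.of_fixed (by
        rw [Perm.mul_apply, res_apply hx hxS, if_pos ha, invol_apply hx])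
    · intro a ha
      refine OddPer.congr (g := d⁻¹) (P := fun b => b ∈ S) (fun b hb => ?_) (fun b hb => ?_) ha ?_
      · rw [hd, mul_inv_rev, invol_inv hx, invol_inv hy]; exact hyS _ (hxS b hb)
      · rw [hd, mul_inv_rev, invol_inv hx, invol_inv hy, Perm.mul_apply, res_apply hx hxS,
          if_pos hb]; rfl
      · rw [oddPer_iff, per_inv, ← oddPer_iff]; exact hall a ha
  obtain ⟨a₀, hall'⟩ := not_forall.mp hall
  obtain ⟨ha₀, hnodd⟩ := Classical.not_imp.mp hall'
  rw [oddPer_iff, Nat.not_odd_iff_even] at hnodd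
  have hdS : ∀ a ∈ S, d a ∈ S := fun a ha => hxS _ (hyS a ha)
  have hzS : ∀ a ∈ S, ∀ i : ℤ, (d ^ i) a ∈ S := fun a ha i => by
    obtain ⟨n, hn⟩ := exists_nat_pow_eq (g := d) (a := (d ^ i) a) (b := a)
      ⟨-i, by rw [← Perm.mul_apply, ← zpow_add, neg_add_cancel]; rfl⟩
    rw [← hn]
    exact (pow_congr_set (g' := d) hdS (fun _ _ => rfl) ha n).2
  -- reduce to the complement of a solved part
  have hfin : ∀ (U : Finset α) (zU : Perm α), U.Nonempty → U ⊆ S → (∀ a ∈ U, x a ∈ U) →
      (∀ a ∈ U, y a ∈ U) → Sol x y U zU → ∃ z, Sol x y S z := by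
    intro U zU hUne hUS hxU hyU hzU
    have hxR := hdiff U x hx hxS hxU
    have hyR := hdiff U y hy hyS hyU
    have hc : ∀ t : Perm α, (S.filter fun a => t a = a).card =
        (U.filter fun a => t a = a).card + ((S \ U).filter fun a => t a = a).card := fun t => by
      rw [← Finset.card_union_of_disjoint, ← Finset.filter_union, Finset.union_sdiff_of_subset hUS]
      exact Finset.disjoint_filter_filter Finset.disjoint_sdiff
    have hcU := hzU.card_fixed hx hy hxU hyU
    have := hUne.card_pos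
    obtain ⟨z₀, hz₀⟩ := ih _ (by
        rw [Finset.card_sdiff_of_subset hUS]; have := Finset.card_le_card hUS; omega)
      (S \ U) hxR hyR (by have h1 := hc x; have h2 := hc y; omega)
      (fun _ b hb => hsq b (Finset.mem_sdiff.mp hb).1) rfl
    refine ⟨zU * z₀, ?_⟩
    have h := hzU.union hz₀ (fun b hb h => (Finset.mem_sdiff.mp h).2 hb) hxU hyU hxR hyR
    rwa [Finset.union_sdiff_of_subset hUS] at h
  by_cases hfix : ∃ b ∈ S, (x b = b ∨ y b = b) ∧ Even (per d b)
  · obtain ⟨b, hb, hxy, hbe⟩ := hfix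
    have hwex : ∃ w ∈ S, x w = w ∧ Even (per d w) := by
      by_contra hno
      simp only [not_exists, not_and, Nat.not_even_iff_odd] at hno
      rcases hxy with h | h
      · exact Nat.not_even_iff_odd.mpr (hno b hb h) hbe
      · exact Nat.not_even_iff_odd.mpr (even_fixed_transfer hx hy hxS hyS hcard hno b hb h) hbe
    have hvex : ∃ v ∈ S, y v = v ∧ Even (per d v) := by
      by_contra hno
      simp only [not_exists, not_and, Nat.not_even_iff_odd] at hno
      have hinv : ∀ c : α, per (y * x) c = per d c := fun c => by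
        rw [← per_inv d c, hd, mul_inv_rev, invol_inv hx, invol_inv hy]
      rcases hxy with h | h
      · have := even_fixed_transfer hy hx hyS hxS hcard.symm
          (fun c hc hyc => by rw [hinv]; exact hno c hc hyc) b hb h
        rw [hinv] at this
        exact Nat.not_even_iff_odd.mpr this hbe
      · exact Nat.not_even_iff_odd.mpr (hno b hb h) hbe
    obtain ⟨w, hwS, hw, hwe⟩ := hwex
    obtain ⟨v, hvS, hv, hve⟩ := hvex
    obtain ⟨U, z, hUm, hxU, hyU, hz⟩ := sol_paths hx hy hw hv hwe hve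
    refine hfin U z ⟨v, (hUm v).2 (Or.inl ⟨0, rfl⟩)⟩ (fun c hc => ?_) hxU hyU hz
    rcases (hUm c).1 hc with ⟨i, rfl⟩ | ⟨i, rfl⟩
    · exact hzS v hvS i
    · exact hzS w hwS i
  simp only [not_exists, not_and] at hfix
  have hsep : ∀ i : ℤ, (d ^ i) a₀ ≠ x a₀ := by
    intro i h
    rcases Int.even_or_odd' i with ⟨k, rfl | rfl⟩
    · refine hfix _ (hzS a₀ ha₀ k) (Or.inl ?_) (by rw [per_zpow_apply]; exact hnodd)
      rw [x_zpow_apply hx hy, ← hd, ← h, ← Perm.mul_apply, ← zpow_add, show -k + 2 * k = k by ring]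
    · refine hfix _ (hzS a₀ ha₀ k) (Or.inr ?_) (by rw [per_zpow_apply]; exact hnodd)
      rw [y_zpow_apply hx hy, ← hd, ← h, ← Perm.mul_apply, ← zpow_add,
        show -(k + 1) + (2 * k + 1) = k by ring]
  have h4 : 4 ≤ per d a₀ := by
    have := per_pos d a₀
    obtain ⟨c, hc⟩ := hnodd
    by_contra hlt
    have h2 : per d a₀ = 2 := by omega
    have hd2 : d (d a₀) = a₀ := by
      have := pow_per d a₀
      rwa [h2, pow_two, Perm.mul_apply] at this
    refine hsq a₀ ha₀ ⟨fun e => hsep 0 (by rw [e]; rfl), fun e => hsep 1 ?_, fun e => ?_, ?_⟩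
    · rw [zpow_one, hd, Perm.mul_apply, e]
    · refine pow_ne_of_lt_per (g := d) (a := a₀) (i := 1) one_pos (by omega) ?_
      rw [pow_one, hd, Perm.mul_apply, ← e, invol_apply hx]
    · calc x (y a₀) = d⁻¹ (d (d a₀)) := by rw [← Perm.mul_apply d⁻¹, inv_mul_cancel]; rfl
        _ = d⁻¹ a₀ := by rw [hd2]
        _ = y (x a₀) := by rw [hd, mul_inv_rev, invol_inv hx, invol_inv hy]; rfl
  obtain ⟨U, z, ha₀U, hUm, hxU, hyU, hz⟩ := sol_cycle hx hy hsep hnodd h4
  refine hfin U z ⟨a₀, ha₀U⟩ (fun c hc => ?_) hxU hyU hz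
  rcases hUm c hc with ⟨i, rfl⟩ | ⟨i, rfl⟩
  · exact hzS a₀ ha₀ i
  · exact hxS _ (hzS a₀ ha₀ i)

omit [DecidableEq α] in
theorem odd_orderOf_of_oddPer {g : Perm α} (h : ∀ a, OddPer g a) : Odd (orderOf g) := by
  refine Odd.of_dvd_nat
    (Finset.prod_induction (s := Finset.univ) (fun a => per g a) Odd (fun a b => Odd.mul) odd_one
      fun a _ => oddPer_iff.mp (h a))
    (orderOf_dvd_of_pow_eq_one (Equiv.ext fun a => ?_))
  obtain ⟨k, hk⟩ := Finset.dvd_prod_of_mem (per g) (Finset.mem_univ a)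
  rw [hk, pow_mul, Equiv.Perm.coe_pow]
  exact Function.iterate_fixed (pow_per g a) k

theorem isConj_of_odd {G : Type*} [Group G] {x z : G} (hx : x * x = 1) (hz : z * z = 1)
    (hodd : Odd (orderOf (x * z))) : IsConj x z := by
  obtain ⟨k, hk⟩ := hodd
  set g := x * z with hg
  have hsemi : SemiconjBy x g g⁻¹ := by
    show x * g = g⁻¹ * x
    rw [hg, mul_inv_rev, inv_eq_of_mul_eq_one_left hz, inv_eq_of_mul_eq_one_left hx, mul_assoc,
      hx, mul_one, ← mul_assoc, hx, one_mul]
  have hpow : g ^ (k + 1) * g ^ (k + 1) = g := by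
    rw [← pow_add, show k + 1 + (k + 1) = (2 * k + 1) + 1 by omega, pow_succ, ← hk,
      pow_orderOf_eq_one, one_mul]
  have hc : x * g ^ (k + 1) = (g ^ (k + 1))⁻¹ * x := by
    rw [(hsemi.pow_right (k + 1)).eq, inv_pow]
  refine isConj_iff.mpr ⟨(g ^ (k + 1))⁻¹, ?_⟩
  rw [inv_inv, ← hc, mul_assoc, hpow, hg, ← mul_assoc, hx, one_mul]

/-- Two conjugate involutions of `Sym(α)`, `#α ≥ 5`, have a conjugate `z` with `xz`, `yz` odd. -/
theorem exists_common {x y : Perm α} (hx : x * x = 1) (hy : y * y = 1) (hc : IsConj x y)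
    (h5 : 5 ≤ Fintype.card α) :
    ∃ z : Perm α, IsConj x z ∧ Odd (orderOf (x * z)) ∧ Odd (orderOf (y * z)) := by
  obtain ⟨c, hcy⟩ := isConj_iff.mp hc
  have hcard : (Finset.univ.filter fun a => x a = a).card =
      (Finset.univ.filter fun a => y a = a).card := by
    refine Finset.card_equiv c fun a => ?_
    simp only [Finset.mem_filter, Finset.mem_univ, true_and, ← hcy, Perm.mul_apply,
      EmbeddingLike.apply_eq_iff_eq]
    rw [← Perm.mul_apply c⁻¹, inv_mul_cancel]; rfl
  obtain ⟨z, hz⟩ := exists_sol hx hy Finset.univ (fun _ _ => Finset.mem_univ _)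
    (fun _ _ => Finset.mem_univ _) hcard (fun h => by rw [Finset.card_univ] at h; omega)
  have o1 := odd_orderOf_of_oddPer fun a => hz.oddx a (Finset.mem_univ a)
  exact ⟨z, isConj_of_odd hx hz.invol o1, o1,
    odd_orderOf_of_oddPer fun a => hz.oddy a (Finset.mem_univ a)⟩

theorem exists_commuting {t : Perm α} (h2 : t * t = 1) (h1 : t ≠ 1) (h5 : 5 ≤ Fintype.card α) :
    ∃ t' : Perm α, IsConj t t' ∧ t' ≠ t ∧ Commute t t' := by
  obtain ⟨a, ha⟩ : ∃ a, t a ≠ a := by
    by_contra h
    exact h1 (Equiv.ext fun a => not_not.mp fun ha => h ⟨a, ha⟩)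
  set b := t a with hb
  have hba : t b = a := invol_apply h2 a
  by_cases hc : ∃ c, c ≠ a ∧ c ≠ b ∧ t c ≠ c
  · obtain ⟨c, hca, hcb, htc⟩ := hc
    set e := t c with he
    have hec : t e = c := invol_apply h2 c
    have hea : e ≠ a := fun h => hcb (by rw [← hec, h])
    have heb : e ≠ b := fun h => hca (by rw [← hec, h, hba])
    refine ⟨swap b c * t * swap b c, isConj_iff.mpr ⟨swap b c, by rw [swap_inv]⟩, ?_, ?_⟩
    · intro h
      have := DFunLike.congr_fun h a
      simp [swap_apply_def, ha, ha.symm, hca, hca.symm, hcb, ← hb] at this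
    · show t * (swap b c * t * swap b c) = swap b c * t * swap b c * t
      have hsw : t * swap b c * t = swap a e := by
        rw [Equiv.mul_swap_eq_swap_mul, hba, ← he, mul_assoc, h2, mul_one]
      have hcomm : swap b c * swap a e = swap a e * swap b c := by
        have h' := Equiv.mul_swap_eq_swap_mul (swap b c) a e
        rwa [swap_apply_of_ne_of_ne ha.symm hca.symm, swap_apply_of_ne_of_ne heb htc] at h'
      calc t * (swap b c * t * swap b c) = (t * swap b c * t) * swap b c := by group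
        _ = swap b c * (t * swap b c * t) := by rw [hsw, hcomm]
        _ = swap b c * t * swap b c * t := by group
  · simp only [not_exists, not_and, not_not] at hc
    obtain ⟨c, e, hce, hc', he'⟩ : ∃ c e : α, c ≠ e ∧ (c ≠ a ∧ c ≠ b) ∧ (e ≠ a ∧ e ≠ b) := by
      have : 1 < (Finset.univ \ ({a, b} : Finset α)).card := by
        rw [Finset.card_sdiff_of_subset (Finset.subset_univ _), Finset.card_univ]
        have := Finset.card_le_two (a := a) (b := b)
        omega
      obtain ⟨c, hc1, e, he1, hne⟩ := Finset.one_lt_card.mp this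
      simp only [Finset.mem_sdiff, Finset.mem_univ, true_and, Finset.mem_insert,
        Finset.mem_singleton, not_or] at hc1 he1
      exact ⟨c, e, hne, hc1, he1⟩
    have ht : t = swap a b := Equiv.ext fun u => by
      by_cases hu : u = a
      · simp [hu, hb]
      by_cases hu' : u = b
      · simp [hu', hba]
      rw [hc u hu hu', swap_apply_of_ne_of_ne hu hu']
    refine ⟨swap c e, ?_, ?_, ?_⟩
    · rw [ht]; exact Perm.isConj_swap (Ne.symm ha) hce
    · intro h
      have := DFunLike.congr_fun h c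
      rw [hc c hc'.1 hc'.2, swap_apply_left] at this
      exact hce this.symm
    · have h' := Equiv.mul_swap_eq_swap_mul t c e
      rw [hc c hc'.1 hc'.2, hc e he'.1 he'.2] at h'
      exact h'

end CfsgLib.Perm.OddGraph
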