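import Cfsg.Agent.Lib.Perm.InvolutionOddGadgets
set_option autoImplicit false
set_option linter.unusedSimpArgs false

/-!
Pieces for orbits of even period: a pair of paths, and a cycle of length at least four.
-/

namespace CfsgLib.Perm.OddGraph

open Equiv Equiv.Perm

variable {α : Type*} [DecidableEq α] [Fintype α]

/-- The restriction of `x` to the invariant set `S`, extended by the identity. -/
noncomputable def res (x : Perm α) (S : Finset α) : Perm α :=
  if h : ∀ a, x a ∈ S ↔ a ∈ S then Perm.ofSubtype (x.subtypePerm h) else 1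

omit [Fintype α] in
theorem inv_iff {x : Perm α} (hx : x * x = 1) {S : Finset α} (hS : ∀ a ∈ S, x a ∈ S) (a : α) :
    x a ∈ S ↔ a ∈ S :=
  ⟨fun h => invol_apply hx a ▸ hS _ h, hS a⟩

theorem res_apply {x : Perm α} (hx : x * x = 1) {S : Finset α} (hS : ∀ a ∈ S, x a ∈ S) (a : α) :
    res x S a = if a ∈ S then x a else a := by
  rw [res, dif_pos (inv_iff hx hS)]
  split_ifs with ha
  · rw [Perm.ofSubtype_apply_of_mem _ ha]; rfl
  · exact Perm.ofSubtype_apply_of_not_mem _ ha

theorem res_invol {x : Perm α} (hx : x * x = 1) {S : Finset α} (hS : ∀ a ∈ S, x a ∈ S) :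
    res x S * res x S = 1 := by
  refine Equiv.ext fun a => ?_
  rw [Perm.mul_apply, res_apply hx hS a]
  split_ifs with ha
  · rw [res_apply hx hS, if_pos (hS a ha), invol_apply hx]; rfl
  · rw [res_apply hx hS, if_neg ha]; rfl

omit [DecidableEq α] [Fintype α] in
theorem per_inv (g : Perm α) (a : α) : per g⁻¹ a = per g a := by
  have h : ∀ (g : Perm α) (n : ℕ), (g ^ n) a = a → (g⁻¹ ^ n) a = a := fun g n hn => by
    rw [inv_pow, Equiv.Perm.inv_eq_iff_eq, hn]
  refine Nat.dvd_antisymm (per_dvd (h g _ (pow_per g a))) (per_dvd ?_)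
  have := h g⁻¹ _ (pow_per g⁻¹ a)
  rwa [inv_inv] at this

omit [DecidableEq α] in
theorem exists_nat_pow_eq {g : Perm α} {a b : α} (h : ∃ i : ℤ, (g ^ i) a = b) :
    ∃ i : ℕ, (g ^ i) b = a := by
  obtain ⟨i, hi⟩ := h
  exact (Perm.SameCycle.symm ⟨i, hi⟩).exists_nat_pow_eq

omit [Fintype α] in
theorem zpow_ne_of_fixed {x y : Perm α} (hx : x * x = 1) (hy : y * y = 1) {v w : α} (hw : x w = w)
    (hv : y v = v) (he : Even (per (x * y) w)) (i : ℤ) : ((x * y) ^ i) w ≠ v := by
  intro h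
  have h1 := y_zpow_apply hx hy i w
  rw [h, hv, hw] at h1
  rw [← h] at h1
  have h2 : ((x * y) ^ (2 * i + 1)) w = w := by
    apply ((x * y) ^ (-(i + 1))).injective
    rw [← Perm.mul_apply, ← zpow_add, show -(i + 1) + (2 * i + 1) = i by omega, h1]
  have h3 := per_dvd_zpow h2
  obtain ⟨c, hc⟩ := he
  obtain ⟨k, hk⟩ := h3
  rw [hc] at hk
  push_cast at hk
  have : ∃ l : ℤ, 2 * i + 1 = 2 * l := ⟨(c : ℤ) * k, by rw [hk]; ring⟩
  omega

/-- An orbit with an `x`-fixed point and one with a `y`-fixed point, both of even period. -/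
theorem sol_paths {x y : Perm α} (hx : x * x = 1) (hy : y * y = 1) {v w : α} (hw : x w = w)
    (hv : y v = v) (hwe : Even (per (x * y) w)) (hve : Even (per (x * y) v)) :
    ∃ (U : Finset α) (z : Perm α), (∀ a, a ∈ U ↔ (∃ i : ℤ, ((x * y) ^ i) v = a) ∨
      ∃ i : ℤ, ((x * y) ^ i) w = a) ∧ (∀ a ∈ U, x a ∈ U) ∧ (∀ a ∈ U, y a ∈ U) ∧ Sol x y U z := by
  classical
  set d := x * y with hd
  let V : Finset α := Finset.univ.filter fun a => ∃ i : ℤ, (d ^ i) v = a
  let W : Finset α := Finset.univ.filter fun a => ∃ i : ℤ, (d ^ i) w = a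
  have mV : ∀ a, a ∈ V ↔ ∃ i : ℤ, (d ^ i) v = a := fun a => by simp [V]
  have mW : ∀ a, a ∈ W ↔ ∃ i : ℤ, (d ^ i) w = a := fun a => by simp [W]
  have hvV : v ∈ V := (mV v).2 ⟨0, rfl⟩
  have hwW : w ∈ W := (mW w).2 ⟨0, rfl⟩
  have hxv : x v = d v := by rw [hd, Perm.mul_apply, hv]
  have hdV : ∀ a ∈ V, d a ∈ V := fun a ha => by
    obtain ⟨i, rfl⟩ := (mV a).1 ha
    exact (mV _).2 ⟨1 + i, by rw [zpow_one_add, Perm.mul_apply]⟩
  have hdiW : ∀ a ∈ W, d⁻¹ a ∈ W := fun a ha => by
    obtain ⟨i, rfl⟩ := (mW a).1 ha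
    exact (mW _).2 ⟨-1 + i, by rw [zpow_add, zpow_neg_one, Perm.mul_apply]⟩
  have hxV : ∀ a ∈ V, x a ∈ V := fun a ha => by
    obtain ⟨i, rfl⟩ := (mV a).1 ha
    exact (mV _).2 ⟨-i + 1, by rw [x_zpow_apply hx hy, ← hd, hxv, zpow_add_one, Perm.mul_apply]⟩
  have hyV : ∀ a ∈ V, y a ∈ V := fun a ha => by
    obtain ⟨i, rfl⟩ := (mV a).1 ha
    exact (mV _).2 ⟨-(i + 1) + 1,
      by rw [y_zpow_apply hx hy, ← hd, hxv, zpow_add_one, Perm.mul_apply]⟩
  have hxW : ∀ a ∈ W, x a ∈ W := fun a ha => by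
    obtain ⟨i, rfl⟩ := (mW a).1 ha
    exact (mW _).2 ⟨-i, by rw [x_zpow_apply hx hy, ← hd, hw]⟩
  have hyW : ∀ a ∈ W, y a ∈ W := fun a ha => by
    obtain ⟨i, rfl⟩ := (mW a).1 ha
    exact (mW _).2 ⟨-(i + 1), by rw [y_zpow_apply hx hy, ← hd, hw]⟩
  have hdisj : ∀ a ∈ V, a ∉ W := fun a ha hb => by
    obtain ⟨i, rfl⟩ := (mV a).1 ha
    obtain ⟨j, hj⟩ := (mW _).1 hb
    refine zpow_ne_of_fixed hx hy hw hv hwe (-i + j) ?_
    rw [← hd, zpow_add, Perm.mul_apply, hj, ← Perm.mul_apply, ← zpow_add, neg_add_cancel]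
    rfl
  have hvw : v ≠ w := fun e => hdisj v hvV (e ▸ hwW)
  have hV : ∀ a, res y V a = _ := res_apply hy hyV
  have hW : ∀ a, res x W a = _ := res_apply hx hxW
  let h := res y V * res x W
  have hbase : ∀ a, h a = if a ∈ V then y a else if a ∈ W then x a else a := fun a => by
    simp only [h, Perm.mul_apply, hW]
    by_cases haW : a ∈ W
    · have haV : a ∉ V := fun hh => hdisj a hh haW
      rw [if_pos haW, if_neg haV, hV,
        if_neg fun hh => hdisj _ hh (hxW a haW)]
    · rw [if_neg haW, hV]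
  have hh : h * h = 1 := Equiv.ext fun a => by
    rw [Perm.mul_apply, hbase a]
    by_cases haV : a ∈ V
    · rw [if_pos haV, hbase, if_pos (hyV a haV), invol_apply hy]; rfl
    · rw [if_neg haV]
      by_cases haW : a ∈ W
      · rw [if_pos haW, hbase, if_neg fun hh => hdisj _ hh (hxW a haW), if_pos (hxW a haW),
          invol_apply hx]; rfl
      · rw [if_neg haW, hbase, if_neg haV, if_neg haW]; rfl
  have hwV : w ∉ V := fun hh' => hdisj w hh' hwW
  have hfv : h v = v := by rw [hbase, if_pos hvV, hv]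
  have hfw : h w = w := by rw [hbase, if_neg hwV, if_pos hwW, hw]
  let z := h * swap v w
  have hz : ∀ b, b ∉ ({v, w} : Finset α) → z b = h b := fun b hb => by
    simp only [Finset.mem_insert, Finset.mem_singleton, not_or] at hb
    simp [z, swap_apply_def, hb]
  have hzv : z v = w := by simp [z, hfw]
  have hzw : z w = v := by simp [z, hfv]
  let U := V ∪ W
  refine ⟨U, z, fun a => by simp [U, mV, mW], ?_, ?_, fun a ha => ?_, swap_invol hh hfv hfw,
    ?_, ?_⟩
  · intro a ha
    exact (Finset.mem_union.mp ha).elim (fun h => Finset.mem_union_left _ (hxV a h))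
      (fun h => Finset.mem_union_right _ (hxW a h))
  · intro a ha
    exact (Finset.mem_union.mp ha).elim (fun h => Finset.mem_union_left _ (hyV a h))
      (fun h => Finset.mem_union_right _ (hyW a h))
  · simp only [U, Finset.mem_union, not_or] at ha
    rw [hz a, hbase, if_neg ha.1, if_neg ha.2]
    simp only [Finset.mem_insert, Finset.mem_singleton, not_or]
    exact ⟨(ne_of_mem_of_not_mem hvV ha.1).symm, (ne_of_mem_of_not_mem hwW ha.2).symm⟩
  · -- products with `x`
    have hgd : ∀ b, b ∉ ({v, w} : Finset α) → (x * z) b = (x * h) b := fun b hb => by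
      show x (z b) = x (h b); rw [hz b hb]
    have e1 : ∀ b ∈ V, (x * h) b = d b := fun b hb => by
      show x (h b) = _; rw [hbase, if_pos hb]; rfl
    have e2 : ∀ b ∈ W, (x * h) b = b := fun b hb => by
      show x (h b) = _
      rw [hbase, if_neg fun hh' => hdisj b hh' hb, if_pos hb, invol_apply hx]
    have c := fun i => pow_congr_set (g := d) (g' := x * h) hdV e1 hvV i
    have g1 : (x * z) v = w := by show x (z v) = w; rw [hzv, hw]
    have g2 : (x * z) w = (x * h) v := by show x (z w) = x (h v); rw [hzw, hfv]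
    have g3 : ((x * z) ^ per d v) w = v := by
      rw [gap hgd g2 (per_pos d v) fun i h0 hi hiE => ?_, (c _).1, pow_per]
      rw [(c i).1, Finset.mem_insert, Finset.mem_singleton] at hiE
      rcases hiE with e | e
      · exact pow_ne_of_lt_per h0 hi e
      · exact hdisj _ (c i).2 (e ▸ hwW)
    have ow : OddPer (x * z) w := ⟨per d v + 1, hve.add_one, by
      rw [pow_succ', Perm.mul_apply, g3, g1]⟩
    have ov : OddPer (x * z) v := by
      have := ow.pow_self (per d v); rwa [g3] at this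
    intro a ha
    refine oddPer_of_agree hgd (fun e he => ?_) ?_
    · simp only [Finset.mem_insert, Finset.mem_singleton] at he
      rcases he with rfl | rfl <;> assumption
    · rcases Finset.mem_union.mp ha with ha | ha
      · obtain ⟨i, hi⟩ := exists_nat_pow_eq ((mV a).1 ha)
        refine Or.inr ⟨i, ?_⟩
        rw [(pow_congr_set (g := d) (g' := x * h) hdV e1 ha i).1, hi]
        simp
      · exact Or.inl (OddPer.of_fixed (e2 a ha))
  · -- products with `y`
    have hgd : ∀ b, b ∉ ({v, w} : Finset α) → (y * z) b = (y * h) b := fun b hb => by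
      show y (z b) = y (h b); rw [hz b hb]
    have e1 : ∀ b ∈ V, (y * h) b = b := fun b hb => by
      show y (h b) = _; rw [hbase, if_pos hb, invol_apply hy]
    have e2 : ∀ b ∈ W, (y * h) b = d⁻¹ b := fun b hb => by
      show y (h b) = _
      rw [hbase, if_neg fun hh' => hdisj b hh' hb, if_pos hb, hd, mul_inv_rev, invol_inv hx,
        invol_inv hy]
      rfl
    have c := fun i => pow_congr_set (g := d⁻¹) (g' := y * h) hdiW e2 hwW i
    have g1 : (y * z) w = v := by show y (z w) = v; rw [hzw, hv]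
    have g2 : (y * z) v = (y * h) w := by show y (z v) = y (h w); rw [hzv, hfw]
    have g3 : ((y * z) ^ per d w) v = w := by
      rw [gap hgd g2 (per_pos d w) fun i h0 hi hiE => ?_, (c _).1, ← per_inv d w, pow_per]
      rw [(c i).1, Finset.mem_insert, Finset.mem_singleton] at hiE
      rcases hiE with e | e
      · exact hdisj _ (e ▸ hvV) (c i).2
      · exact pow_ne_of_lt_per h0 (by rwa [per_inv]) e
    have ov : OddPer (y * z) v := ⟨per d w + 1, hwe.add_one, by
      rw [pow_succ', Perm.mul_apply, g3, g1]⟩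
    have ow : OddPer (y * z) w := by
      have := ov.pow_self (per d w); rwa [g3] at this
    intro a ha
    refine oddPer_of_agree hgd (fun e he => ?_) ?_
    · simp only [Finset.mem_insert, Finset.mem_singleton] at he
      rcases he with rfl | rfl <;> assumption
    · rcases Finset.mem_union.mp ha with ha | ha
      · exact Or.inl (OddPer.of_fixed (e1 a ha))
      · obtain ⟨i, hi⟩ := (mW a).1 ha
        obtain ⟨k, hk⟩ := exists_nat_pow_eq (g := d⁻¹) (a := w) (b := a)
          ⟨-i, by rw [inv_zpow, ← zpow_neg, neg_neg, hi]⟩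
        refine Or.inr ⟨k, ?_⟩
        rw [(pow_congr_set (g := d⁻¹) (g' := y * h) hdiW e2 ha k).1, hk]
        simp

/-- An orbit pair interchanged by `x`, of even period at least four. -/
theorem sol_cycle {x y : Perm α} (hx : x * x = 1) (hy : y * y = 1) {a₀ : α}
    (hsep : ∀ i : ℤ, ((x * y) ^ i) a₀ ≠ x a₀) (he : Even (per (x * y) a₀))
    (h4 : 4 ≤ per (x * y) a₀) :
    ∃ (U : Finset α) (z : Perm α), a₀ ∈ U ∧
      (∀ a ∈ U, (∃ i : ℤ, ((x * y) ^ i) a₀ = a) ∨ ∃ i : ℤ, x (((x * y) ^ i) a₀) = a) ∧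
      (∀ a ∈ U, x a ∈ U) ∧ (∀ a ∈ U, y a ∈ U) ∧ Sol x y U z := by
  classical
  set d := x * y with hd
  set m := per d a₀ with hm
  let A : ℤ → α := fun i => (d ^ i) a₀
  let B : ℤ → α := fun i => x (A i)
  have hA : ∀ i j, A i = A j → (m : ℤ) ∣ i - j := fun i j h => by
    refine per_dvd_zpow ((d ^ j).injective ?_)
    rw [← Perm.mul_apply, ← zpow_add, show j + (i - j) = i by omega]
    exact h
  have hA' : ∀ i j, (m : ℤ) ∣ i - j → A i = A j := fun i j ⟨k, hk⟩ => by
    show (d ^ i) a₀ = (d ^ j) a₀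
    rw [show i = j + (m : ℤ) * k by omega, zpow_add, Perm.mul_apply, zpow_mul, zpow_natCast]
    congr 1
    exact Function.IsFixedPt.perm_zpow (e := d ^ m) (pow_per d a₀) k
  have hAne : ∀ i j, i - j ≠ 0 → -(m : ℤ) < i - j → i - j < (m : ℤ) → A i ≠ A j := by
    intro i j h0 h1 h2 h
    exact h0 (Int.eq_zero_of_abs_lt_dvd (hA i j h) (abs_lt.2 ⟨h1, h2⟩))
  have hBne : ∀ i j, i - j ≠ 0 → -(m : ℤ) < i - j → i - j < (m : ℤ) → B i ≠ B j :=
    fun i j h0 h1 h2 h => hAne i j h0 h1 h2 (x.injective h)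
  have hAB : ∀ i j, A i ≠ B j := fun i j h => by
    refine hsep (j + i) ?_
    rw [zpow_add, Perm.mul_apply]
    show (d ^ j) (A i) = x a₀
    rw [h]
    show (d ^ j) (x ((d ^ j) a₀)) = x a₀
    rw [x_zpow_apply hx hy, ← hd, ← Perm.mul_apply, ← zpow_add, add_neg_cancel]
    rfl
  have xA : ∀ i, x (A i) = B i := fun i => rfl
  have xB : ∀ i, x (B i) = A i := fun i => invol_apply hx _
  have dA : ∀ i, d (A i) = A (i + 1) := fun i => by
    show (d * d ^ i) a₀ = (d ^ (i + 1)) a₀
    rw [add_comm, zpow_one_add]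
  have yA : ∀ i, y (A i) = B (i + 1) := fun i => by
    show y (A i) = x (A (i + 1))
    rw [← dA]
    exact (invol_apply hx _).symm
  have yB : ∀ i, y (B i) = A (i - 1) := fun i => by
    conv_lhs => rw [show i = i - 1 + 1 by omega, ← yA]
    exact invol_apply hy _
  have dB : ∀ i, d (B i) = B (i - 1) := fun i => by
    show x (y (B i)) = _
    rw [yB]
  let U : Finset α := Finset.univ.filter fun a => (∃ i, A i = a) ∨ ∃ i, B i = a
  have mU : ∀ a, a ∈ U ↔ (∃ i, A i = a) ∨ ∃ i, B i = a := fun a => by simp [U]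
  have hxU : ∀ a ∈ U, x a ∈ U := fun a ha => by
    rcases (mU a).1 ha with ⟨i, rfl⟩ | ⟨i, rfl⟩
    · exact (mU _).2 (Or.inr ⟨i, (xA i).symm⟩)
    · exact (mU _).2 (Or.inl ⟨i, (xB i).symm⟩)
  have hyU : ∀ a ∈ U, y a ∈ U := fun a ha => by
    rcases (mU a).1 ha with ⟨i, rfl⟩ | ⟨i, rfl⟩
    · exact (mU _).2 (Or.inr ⟨i + 1, (yA i).symm⟩)
    · exact (mU _).2 (Or.inl ⟨i - 1, (yB i).symm⟩)
  have memA : ∀ i, A i ∈ U := fun i => (mU _).2 (Or.inl ⟨i, rfl⟩)
  have memB : ∀ i, B i ∈ U := fun i => (mU _).2 (Or.inr ⟨i, rfl⟩)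
  have hr := res_apply hy hyU
  have a01 : A 0 ≠ A 1 := hAne _ _ (by omega) (by omega) (by omega)
  have a0m : A 0 ≠ A (-1) := hAne _ _ (by omega) (by omega) (by omega)
  have a1m : A 1 ≠ A (-1) := hAne _ _ (by omega) (by omega) (by omega)
  have b01 : B 0 ≠ B 1 := hBne _ _ (by omega) (by omega) (by omega)
  have b02 : B 0 ≠ B 2 := hBne _ _ (by omega) (by omega) (by omega)
  have b12 : B 1 ≠ B 2 := hBne _ _ (by omega) (by omega) (by omega)
  let h₀ := res y U
  have rA : ∀ i, h₀ (A i) = B (i + 1) := fun i => by rw [hr, if_pos (memA i), yA]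
  have rB : ∀ i, h₀ (B i) = A (i - 1) := fun i => by rw [hr, if_pos (memB i), yB]
  have r0 : h₀ (A 0) = B 1 := rA 0
  have r1 : h₀ (A 1) = B 2 := rA 1
  have rm : h₀ (A (-1)) = B 0 := rA (-1)
  have s1 : h₀ (B 1) = A 0 := rB 1
  have s2 : h₀ (B 2) = A 1 := rB 2
  have s0 : h₀ (B 0) = A (-1) := rB 0
  let h₁ := h₀ * swap (A 0) (h₀ (A 0))
  let h₂ := h₁ * swap (A 1) (h₁ (A 1))
  let h₃ := h₂ * swap (A (-1)) (h₂ (A (-1)))
  let z := h₃ * swap (A 0) (B 0) * swap (B 1) (B 2) * swap (A 1) (A (-1))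
  have e1 : h₁ (A 1) = B 2 := by
    simp [h₁, swap_apply_def, r0, r1, a01.symm, hAB]
  have em : h₁ (A (-1)) = B 0 := by
    simp [h₁, swap_apply_def, r0, rm, a0m.symm, hAB]
  have e2 : h₂ (A (-1)) = B 0 := by
    simp [h₂, swap_apply_def, e1, em, a1m.symm, hAB]
  have g1 : ∀ b, h₁ b = if b = A 0 then A 0 else if b = B 1 then B 1 else h₀ b := fun b => by
    simp only [h₁, r0, Perm.mul_apply, swap_apply_def]
    split_ifs <;> first | exact s1 | exact r0 | rfl
  have g2 : ∀ b, h₂ b = if b = A 1 then h₁ (B 2) else if b = B 2 then B 2 else h₁ b := fun b => by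
    simp only [h₂, e1, Perm.mul_apply, swap_apply_def]
    split_ifs <;> first | exact e1 | rfl
  have g3 : ∀ b, h₃ b = if b = A (-1) then h₂ (B 0) else if b = B 0 then B 0 else h₂ b := fun b => by
    simp only [h₃, e2, Perm.mul_apply, swap_apply_def]
    split_ifs <;> first | exact e2 | rfl
  have hh3 : h₃ * h₃ = 1 := swap_invol' (swap_invol' (swap_invol' (res_invol hy hyU)))
  have f3 : h₃ (A 0) = A 0 ∧ h₃ (A 1) = A 1 ∧ h₃ (A (-1)) = A (-1) ∧ h₃ (B 0) = B 0 ∧
      h₃ (B 1) = B 1 ∧ h₃ (B 2) = B 2 := by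
    simp [g3, g2, g1, r0, r1, rm, s0, s1, s2, hAB,
      fun i j => (hAB i j).symm, a01, a01.symm, a0m, a0m.symm, a1m, a1m.symm, b01, b01.symm, b02,
      b02.symm, b12, b12.symm]
  have hzi : z * z = 1 := by
    refine swap_invol (swap_invol (swap_invol hh3 ?_ ?_) ?_ ?_) ?_ ?_ <;>
      simp [swap_apply_def, f3, hAB, fun i j => (hAB i j).symm, a01, a01.symm, a0m, a0m.symm, a1m,
        a1m.symm, b01, b01.symm, b02, b02.symm, b12, b12.symm]
  have zz : z (A 0) = B 0 ∧ z (B 0) = A 0 ∧ z (B 1) = B 2 ∧ z (B 2) = B 1 ∧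
      z (A 1) = A (-1) ∧ z (A (-1)) = A 1 := by
    simp [z, swap_apply_def, f3, hAB, fun i j => (hAB i j).symm, a01, a01.symm, a0m, a0m.symm, a1m,
      a1m.symm, b01, b01.symm, b02, b02.symm, b12, b12.symm]
  obtain ⟨zA0, zB0, zB1, zB2, zA1, zAm⟩ := zz
  let E : Finset α := {A 0, A 1, A (-1), B 0, B 1, B 2}
  have hoff : ∀ b, b ∉ E → z b = h₀ b := fun b hb => by
    simp only [E, Finset.mem_insert, Finset.mem_singleton, not_or] at hb
    simp [z, g3, g2, g1, swap_apply_def, hb]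
  have hEU : ∀ e ∈ E, e ∈ U := fun e he => by
    simp only [E, Finset.mem_insert, Finset.mem_singleton] at he
    rcases he with h | h | h | h | h | h <;> rw [h] <;> first | exact memA _ | exact memB _
  refine ⟨U, z, memA 0, fun a ha => (mU a).1 ha, hxU, hyU, fun a ha => ?_, hzi, ?_, ?_⟩
  · rw [hoff a fun h => ha (hEU a h), hr, if_neg ha]
  · -- products with `x`
    have hgd : ∀ b, b ∉ E → (x * z) b = (x * h₀) b := fun b hb => by
      show x (z b) = x (h₀ b); rw [hoff b hb]
    have hdU : ∀ b ∈ U, d b ∈ U := fun b hb => hxU _ (hyU b hb)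
    have e1 : ∀ b ∈ U, (x * h₀) b = d b := fun b hb => by
      show x (h₀ b) = _; rw [hr, if_pos hb]; rfl
    have powA : ∀ (i : ℤ) (n : ℕ), ((x * h₀) ^ n) (A i) = A (i + n) := fun i n => by
      rw [(pow_congr_set hdU e1 (memA i) n).1]
      show (d ^ n) ((d ^ i) a₀) = (d ^ (i + n)) a₀
      rw [← Perm.mul_apply, ← zpow_natCast, ← zpow_add, add_comm]
    have powB : ∀ (i : ℤ) (n : ℕ), ((x * h₀) ^ n) (B i) = B (i - n) := fun i n => by
      rw [(pow_congr_set hdU e1 (memB i) n).1]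
      induction n with
      | zero => simp
      | succ n ih => rw [pow_succ', Perm.mul_apply, ih, dB]; push_cast; ring_nf
    have k1 : ((x * z) ^ (m - 2)) (B 1) = A (-1) := by
      rw [gap hgd (e' := A 1) ?_ (by omega) fun n h0 hn => ?_, powA]
      · refine hA' _ _ ?_
        rw [show (1 : ℤ) + (m - 2 : ℕ) - -1 = m by omega]
      · show x (z (B 1)) = x (h₀ (A 1))
        rw [zB1, r1]
      · rw [powA]
        simp only [E, Finset.mem_insert, Finset.mem_singleton, not_or]
        exact ⟨hAne _ _ (by omega) (by omega) (by omega), hAne _ _ (by omega) (by omega) (by omega),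
          hAne _ _ (by omega) (by omega) (by omega), hAB _ _, hAB _ _, hAB _ _⟩
    have k2 : ((x * z) ^ (m - 2)) (A 1) = B 2 := by
      rw [gap hgd (e' := B 0) ?_ (by omega) fun n h0 hn => ?_, powB]
      · refine congrArg x (hA' _ _ ?_)
        rw [show (0 : ℤ) - (m - 2 : ℕ) - 2 = -(m : ℤ) by omega]
        exact dvd_neg.mpr dvd_rfl
      · show x (z (A 1)) = x (h₀ (B 0))
        rw [zA1, s0]
      · rw [powB]
        simp only [E, Finset.mem_insert, Finset.mem_singleton, not_or]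
        exact ⟨(hAB _ _).symm, (hAB _ _).symm, (hAB _ _).symm,
          hBne _ _ (by omega) (by omega) (by omega), hBne _ _ (by omega) (by omega) (by omega),
          hBne _ _ (by omega) (by omega) (by omega)⟩
    have l1 : (x * z) (A (-1)) = B 1 := by show x (z (A (-1))) = _; rw [zAm, xA]
    have l2 : (x * z) (B 2) = A 1 := by show x (z (B 2)) = _; rw [zB2, xB]
    have hodd : Odd (m - 2 + 1) := by
      obtain ⟨c, hc⟩ := he
      exact ⟨c - 1, by omega⟩
    have oB1 : OddPer (x * z) (B 1) :=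
      ⟨m - 2 + 1, hodd, by rw [pow_succ', Perm.mul_apply, k1, l1]⟩
    have oA1 : OddPer (x * z) (A 1) :=
      ⟨m - 2 + 1, hodd, by rw [pow_succ', Perm.mul_apply, k2, l2]⟩
    have oAm : OddPer (x * z) (A (-1)) := by
      have := oB1.pow_self (m - 2); rwa [k1] at this
    have oB2 : OddPer (x * z) (B 2) := by
      have := oA1.pow_self (m - 2); rwa [k2] at this
    have oA0 : OddPer (x * z) (A 0) := OddPer.of_fixed (by show x (z (A 0)) = _; rw [zA0, xB])
    have oB0 : OddPer (x * z) (B 0) := OddPer.of_fixed (by show x (z (B 0)) = _; rw [zB0, xA])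
    intro a ha
    refine oddPer_of_agree hgd (fun e he => ?_) (Or.inr ?_)
    · simp only [E, Finset.mem_insert, Finset.mem_singleton] at he
      rcases he with rfl | rfl | rfl | rfl | rfl | rfl <;> assumption
    · rcases (mU a).1 ha with ⟨i, rfl⟩ | ⟨i, rfl⟩
      · refine ⟨((-i) % (m : ℤ)).toNat, ?_⟩
        rw [powA]
        suffices A (i + ((-i) % (m : ℤ)).toNat) = A 0 by rw [this]; simp [E]
        refine hA' _ _ ?_
        rw [Int.toNat_of_nonneg (Int.emod_nonneg _ (by omega))]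
        have := Int.emod_add_mul_ediv (-i) m
        exact ⟨-((-i) / (m : ℤ)), by rw [mul_neg]; omega⟩
      · refine ⟨(i % (m : ℤ)).toNat, ?_⟩
        rw [powB]
        suffices B (i - (i % (m : ℤ)).toNat) = B 0 by rw [this]; simp [E]
        refine congrArg x (hA' _ _ ?_)
        rw [Int.toNat_of_nonneg (Int.emod_nonneg _ (by omega))]
        have := Int.emod_add_mul_ediv i m
        exact ⟨i / (m : ℤ), by omega⟩
  · -- products with `y`
    have hgd : ∀ b, b ∉ E → (y * z) b = (y * h₀) b := fun b hb => by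
      show y (z b) = y (h₀ b); rw [hoff b hb]
    obtain ⟨oA0, oAm, oB2⟩ := oddPer_three (g := y * z) (a := A 0) (b := A (-1)) (c := B 2)
      (by show y (z (A 0)) = _; rw [zA0, yB]; rfl) (by show y (z (A (-1))) = _; rw [zAm, yA]; rfl)
      (by show y (z (B 2)) = _; rw [zB2, yB]; rfl)
    obtain ⟨oB0, oB1, oA1⟩ := oddPer_three (g := y * z) (a := B 0) (b := B 1) (c := A 1)
      (by show y (z (B 0)) = _; rw [zB0, yA]; rfl) (by show y (z (B 1)) = _; rw [zB1, yB]; rfl)
      (by show y (z (A 1)) = _; rw [zA1, yA]; rfl)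
    intro a ha
    refine oddPer_of_agree hgd (fun e he => ?_) (Or.inl (OddPer.of_fixed ?_))
    · simp only [E, Finset.mem_insert, Finset.mem_singleton] at he
      rcases he with rfl | rfl | rfl | rfl | rfl | rfl <;> assumption
    · show y (h₀ a) = a
      rw [hr, if_pos ha, invol_apply hy]

end CfsgLib.Perm.OddGraph
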