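import Mathlib.RingTheory.IntegralDomain
import Mathlib.LinearAlgebra.Dimension.Finite
import Mathlib.LinearAlgebra.Dimension.Free
import Mathlib.LinearAlgebra.Basis.VectorSpace
import Mathlib.LinearAlgebra.FiniteDimensional.Basic
import Mathlib.FieldTheory.Finiteness
import Mathlib.Algebra.Field.ZMod
import Mathlib.GroupTheory.SpecificGroups.Cyclic
import Mathlib.Algebra.Ring.Subring.Basic
import Mathlib.GroupTheory.GroupAction.Quotient

/-!
Linear groups acting without fixed points on nonzero vectors: abelian subgroups.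
-/

set_option autoImplicit false

namespace CfsgLib.Perm

variable {p : ℕ} [Fact p.Prime] {V : Type*} [AddCommGroup V] [Module (ZMod p) V] [Finite V]

/-- `W` is a minimal nonzero subspace invariant under `A`. -/
structure IsMinInvariant (H : Subgroup (V ≃ₗ[ZMod p] V)) (A : Subgroup H) (W : Submodule (ZMod p) V) : Prop where
  ne_bot : W ≠ ⊥
  invariant : ∀ a ∈ A, ∀ v ∈ W, ((a : H) : V ≃ₗ[ZMod p] V) v ∈ W
  minimal : ∀ W' : Submodule (ZMod p) V, W' ≤ W →
    (∀ a ∈ A, ∀ v ∈ W', ((a : H) : V ≃ₗ[ZMod p] V) v ∈ W') → W' = ⊥ ∨ W' = W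

theorem exists_isMinInvariant (H : Subgroup (V ≃ₗ[ZMod p] V)) (A : Subgroup H) {W₀ : Submodule (ZMod p) V}
    (h0 : W₀ ≠ ⊥) (hinv : ∀ a ∈ A, ∀ v ∈ W₀, ((a : H) : V ≃ₗ[ZMod p] V) v ∈ W₀) :
    ∃ W, W ≤ W₀ ∧ IsMinInvariant H A W := by
  haveI : Finite (Submodule (ZMod p) V) := Finite.of_injective (fun W => (W : Set V)) SetLike.coe_injective
  obtain ⟨W, hle, hW⟩ := Finite.exists_le_minimal
    (p := fun W : Submodule (ZMod p) V => W ≠ ⊥ ∧ ∀ a ∈ A, ∀ v ∈ W, ((a : H) : V ≃ₗ[ZMod p] V) v ∈ W) (a := W₀) ⟨h0, hinv⟩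
  refine ⟨W, hle, hW.prop.1, hW.prop.2, fun W' hle' hinv' => ?_⟩
  rw [or_iff_not_imp_left]
  exact fun hne => le_antisymm hle' (hW.le_of_le ⟨hne, hinv'⟩ hle')

/-- The action of `A` on an invariant subspace. -/
def restrictHom (H : Subgroup (V ≃ₗ[ZMod p] V)) (A : Subgroup H) (W : Submodule (ZMod p) V)
    (hinv : ∀ a ∈ A, ∀ v ∈ W, ((a : H) : V ≃ₗ[ZMod p] V) v ∈ W) : A →* Module.End (ZMod p) W where
  toFun a := (((a : H) : V ≃ₗ[ZMod p] V) : V →ₗ[ZMod p] V).restrict (hinv a a.2)
  map_one' := by ext v; rfl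
  map_mul' a b := by ext v; rfl

/-- An abelian fixed-point-free group is cyclic and its order divides `p ^ dim W - 1`. -/
theorem isCyclic_of_free (H : Subgroup (V ≃ₗ[ZMod p] V)) (A : Subgroup H) (hAc : IsMulCommutative A)
    (hfree : ∀ h : H, ∀ v : V, v ≠ 0 → (h : V ≃ₗ[ZMod p] V) v = v → h = 1)
    {W : Submodule (ZMod p) V} (hW : IsMinInvariant H A W) :
    IsCyclic A ∧ Nat.card A ∣ p ^ Module.finrank (ZMod p) W - 1 := by
  classical
  haveI : Finite (V ≃ₗ[ZMod p] V) := Finite.of_injective (fun e => (e : V → V)) DFunLike.coe_injective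
  haveI : Nontrivial W := Submodule.nontrivial_iff_ne_bot.mpr hW.ne_bot
  let f := restrictHom H A W hW.invariant
  have hf : Function.Injective f := by
    intro a b hab
    obtain ⟨v, hv⟩ := exists_ne (0 : W)
    have h1 := congrArg Subtype.val (LinearMap.congr_fun hab v)
    have h2 := hfree ((b : H)⁻¹ * a) v (fun e => hv (Subtype.ext e)) (by
      show (((b : H) : V ≃ₗ[ZMod p] V)).symm (((a : H) : V ≃ₗ[ZMod p] V) v) = v
      rw [LinearEquiv.symm_apply_eq]
      exact h1)
    exact Subtype.ext (inv_mul_eq_one.mp h2).symm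
  let S : Subring (Module.End (ZMod p) W) := Subring.closure (Set.range f)
  have hcomm : ∀ x ∈ Set.range f, ∀ y ∈ Set.range f, x * y = y * x := by
    rintro _ ⟨a, rfl⟩ _ ⟨b, rfl⟩
    rw [← map_mul, ← map_mul, hAc.is_comm.comm a b]
  letI : CommRing S := Subring.closureCommRingOfComm hcomm
  have hker : ∀ s ∈ S, s ≠ 0 → ∀ w : W, (s : Module.End (ZMod p) W) w = 0 → w = 0 := by
    intro s hs hs0 w hw
    have hsc : ∀ a : A, s * f a = f a * s := by
      intro a
      have h1 := congrArg (fun z : S => (z : Module.End (ZMod p) W))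
        (mul_comm (⟨s, hs⟩ : S) ⟨f a, Subring.subset_closure ⟨a, rfl⟩⟩)
      exact h1
    have hK : (LinearMap.ker s).map W.subtype = ⊥ ∨ (LinearMap.ker s).map W.subtype = W := by
      refine hW.minimal _ (Submodule.map_subtype_le W _) ?_
      rintro a ha _ ⟨u, hu, rfl⟩
      refine ⟨f ⟨a, ha⟩ u, ?_, rfl⟩
      rw [SetLike.mem_coe, LinearMap.mem_ker] at hu ⊢
      show (s * f ⟨a, ha⟩) u = 0
      rw [hsc, Module.End.mul_apply, hu, map_zero]
    rcases hK with h | h
    · have h1 : W.subtype w ∈ (LinearMap.ker s).map W.subtype := ⟨w, hw, rfl⟩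
      rw [h, Submodule.mem_bot] at h1
      exact Subtype.ext h1
    · exfalso
      apply hs0
      ext u : 1
      have h1 : (u : V) ∈ (LinearMap.ker s).map W.subtype := by rw [h]; exact u.2
      obtain ⟨u', hu', he⟩ := h1
      rw [← Subtype.ext (a1 := u') (a2 := u) he]
      exact hu'
  haveI : Nontrivial S := ⟨⟨0, 1, fun e => by
    obtain ⟨v, hv⟩ := exists_ne (0 : W)
    exact hv (LinearMap.congr_fun (congrArg Subtype.val e) v).symm⟩⟩
  haveI : NoZeroDivisors S := ⟨fun {s t} hst => by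
    rw [or_iff_not_imp_left]
    intro hs
    apply Subtype.ext
    ext u : 1
    exact hker s s.2 (fun e => hs (Subtype.ext e)) _ (LinearMap.congr_fun (congrArg Subtype.val hst) u)⟩
  haveI : IsDomain S := NoZeroDivisors.to_isDomain S
  let f' : A →* S :=
    { toFun := fun a => ⟨f a, Subring.subset_closure ⟨a, rfl⟩⟩
      map_one' := Subtype.ext f.map_one
      map_mul' := fun a b => Subtype.ext (f.map_mul a b) }
  refine ⟨isCyclic_of_injective_ringHom f' (fun a b e => hf (congrArg Subtype.val e)), ?_⟩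
  let act : MulAction A {w : W // w ≠ 0} :=
    { smul := fun a w => ⟨f a w, fun e => w.2 (by
        have := congrArg (f a⁻¹) e
        rwa [map_zero, ← Module.End.mul_apply, ← map_mul, inv_mul_cancel, map_one] at this)⟩
      one_smul := fun w => Subtype.ext (by show f 1 w = _; rw [map_one]; rfl)
      mul_smul := fun a b w => Subtype.ext (by show f (a * b) w = _; rw [map_mul]; rfl) }
  haveI : Fintype {w : W // w ≠ 0} := Fintype.ofFinite _
  have horb : ∀ w : {w : W // w ≠ 0}, MulAction.stabilizer A w = ⊥ := by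
    intro w
    rw [Subgroup.eq_bot_iff_forall]
    intro a ha
    have h1 := congrArg (fun z : {w : W // w ≠ 0} => ((z : W) : V)) ha
    exact Subtype.ext (hfree (a : H) _ (fun e => w.2 (Subtype.ext e)) h1)
  have hcard : Nat.card {w : W // w ≠ 0} = p ^ Module.finrank (ZMod p) W - 1 := by
    haveI : Fintype W := Fintype.ofFinite W
    rw [Nat.card_eq_fintype_card, Fintype.card_subtype_compl, Fintype.card_subtype_eq,
      Module.card_eq_pow_finrank (K := ZMod p), ZMod.card]
  rw [← hcard, Nat.card_congr (MulAction.selfEquivSigmaOrbits A {w : W // w ≠ 0})]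
  haveI : Fintype (MulAction.orbitRel.Quotient A {w : W // w ≠ 0}) := Fintype.ofFinite _
  rw [Nat.card_sigma]
  refine Finset.dvd_sum fun i _ => ?_
  rw [Nat.card_coe_set_eq, ← MulAction.index_stabilizer, horb, Subgroup.index_bot]

end CfsgLib.Perm
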