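import Cfsg.Agent.Lib.Golay.DodecadOrbits
import Cfsg.Agent.Lib.Perm.DegreeEleven

/-!
# The point stabiliser of `M₁₁` on the complementary dodecad
-/

set_option autoImplicit false

namespace CfsgLib.Perm.MElevenPoint

open Cfsg MulAction CfsgLib.Golay
open scoped Pointwise

theorem compl_mem_dodecads {d : Finset GolayPt} (hd : d ∈ dodecads) : dᶜ ∈ dodecads := by
  obtain ⟨m, hm, rfl⟩ := mem_dodecads_iff.1 hd
  rw [mem_dodList] at hm
  have e : mset (16777215 ^^^ m) = (mset m)ᶜ := by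
    rw [mset_xor, mset_full]; ext x; simp [Finset.mem_symmDiff]
  refine mem_dodecads_iff.2 ⟨16777215 ^^^ m, mem_dodList.2 ⟨isCode_xor isCode_full hm.1, ?_⟩, e⟩
  rw [← card_mset, e, Finset.card_compl, card_mset, hm.2]
  decide +kernel

theorem card_compl {d : Finset GolayPt} (hd : d ∈ dodecads) : dᶜ.card = 12 :=
  (compl_mem_dodecads hd).2

theorem exists_third {d : Finset GolayPt} (hd : d ∈ dodecads) (a b : GolayPt) :
    ∃ c, c ∉ d ∧ c ≠ a ∧ c ≠ b := by
  classical
  obtain ⟨c, hc⟩ : ((dᶜ.erase a).erase b).Nonempty := by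
    rw [← Finset.card_pos]
    have h1 := Finset.pred_card_le_card_erase (a := a) (s := dᶜ)
    have h2 := Finset.pred_card_le_card_erase (a := b) (s := dᶜ.erase a)
    have := card_compl hd
    omega
  simp only [Finset.mem_erase, Finset.mem_compl] at hc
  exact ⟨c, hc.2.2, hc.2.1, hc.1⟩

variable {d : Finset GolayPt} {p : GolayPt}

theorem not_mem_smul {g : M24} (hg : g • d = d) {x : GolayPt} (hx : x ∉ d) : g • x ∉ d := fun h =>
  hx (by rw [← hg] at h; exact (Finset.smul_mem_smul_finset_iff g).1 h)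

theorem trans_pair (hd : d ∈ dodecads) (hp : p ∈ d) {x y x' y' : GolayPt} (hx : x ∉ d) (hy : y ∉ d)
    (hx' : x' ∉ d) (hy' : y' ∉ d) (hxy : x ≠ y) (hxy' : x' ≠ y') :
    ∃ g ∈ stabilizer M24 d ⊓ stabilizer M24 p, g • x = x' ∧ g • y = y' := by
  obtain ⟨z, hz, hzx, hzy⟩ := exists_third hd x y
  obtain ⟨z', hz', hzx', hzy'⟩ := exists_third hd x' y'
  have key : ∀ a b c : GolayPt, a ≠ b → c ≠ a → c ≠ b → Function.Injective ![a, b, c] := by
    intro a b c h1 h2 h3 i j h
    fin_cases i <;> fin_cases j <;> simp_all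
  obtain ⟨g, hg, hgi⟩ := dodecad_compl_three hd hp ⟨![x, y, z], key x y z hxy hzx hzy⟩
    ⟨![x', y', z'], key x' y' z' hxy' hzx' hzy'⟩
    (fun i => by fin_cases i <;> assumption) (fun i => by fin_cases i <;> assumption)
  exact ⟨g, hg, hgi 0, hgi 1⟩

theorem card_stabDP (hd : d ∈ dodecads) (hp : p ∈ d) :
    Nat.card ↥(stabilizer M24 d ⊓ stabilizer M24 p) = 7920 := by
  obtain ⟨φ⟩ := stabDP_equiv hd hp
  rw [Nat.card_congr φ.toEquiv, card_fix11]

theorem card_point (hd : d ∈ dodecads) (hp : p ∈ d) {q : GolayPt} (hq : q ∉ d) :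
    Nat.card ↥(stabilizer M24 d ⊓ stabilizer M24 p ⊓ stabilizer M24 q) = 660 := by
  classical
  obtain ⟨L, hL⟩ : ∃ L, L = stabilizer M24 d ⊓ stabilizer M24 p := ⟨_, rfl⟩
  have horb : orbit L q = (↑(dᶜ) : Set GolayPt) := by
    ext x
    rw [Finset.coe_compl, Set.mem_compl_iff, Finset.mem_coe]
    constructor
    · rintro ⟨g, rfl⟩
      exact not_mem_smul (hL ▸ g.2 : (g : M24) ∈ stabilizer M24 d ⊓ stabilizer M24 p).1 hq
    · intro hx
      obtain ⟨z, hz, hzq, hzx⟩ := exists_third hd q x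
      obtain ⟨g, hg, hgq, -⟩ := trans_pair hd hp hq hz hx hz hzq.symm hzx.symm
      exact ⟨⟨g, hL ▸ hg⟩, hgq⟩
  have h1 := Subgroup.card_mul_index (stabilizer L q)
  rw [index_stabilizer, horb, Set.ncard_coe_finset, card_compl hd] at h1
  rw [← hL]
  have h2 : Nat.card (stabilizer L q) = Nat.card ↥(L ⊓ stabilizer M24 q) := by
    rw [show stabilizer L q = (stabilizer M24 q).subgroupOf L from rfl,
      ← Subgroup.card_subtype L ((stabilizer M24 q).subgroupOf L),
      Subgroup.subgroupOf_map_subtype, inf_comm]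
  have h3 : Nat.card L = 7920 := hL ▸ card_stabDP hd hp
  omega

theorem point_equiv (hd : d ∈ dodecads) (hp : p ∈ d) {q : GolayPt} (hq : q ∉ d) :
    Nonempty (↥(stabilizer M24 d ⊓ stabilizer M24 p ⊓ stabilizer M24 q) ≃*
      Matrix.ProjectiveSpecialLinearGroup (Fin 2) (ZMod 11)) := by
  classical
  obtain ⟨K, hK⟩ : ∃ K, K = stabilizer M24 d ⊓ stabilizer M24 p ⊓ stabilizer M24 q := ⟨_, rfl⟩
  rw [← hK]
  obtain ⟨S, hS⟩ : ∃ S, S = (dᶜ).erase q := ⟨_, rfl⟩
  have hmem : ∀ x, x ∈ S ↔ x ∉ d ∧ x ≠ q := fun x => by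
    rw [hS, Finset.mem_erase, Finset.mem_compl, and_comm]
  have hKf : ∀ g ∈ K, g • d = d ∧ g • q = q := fun g hg => by
    rw [hK] at hg; exact ⟨hg.1.1, hg.2⟩
  have hfw : ∀ g ∈ K, ∀ x ∈ S, g • x ∈ S := fun g hg x hx => by
    rw [hmem] at hx ⊢
    refine ⟨not_mem_smul (hKf g hg).1 hx.1, fun e => hx.2 ?_⟩
    exact smul_left_cancel g (e.trans (hKf g hg).2.symm)
  have hiff : ∀ g : K, ∀ x, ((g : M24) : Equiv.Perm GolayPt) x ∈ S ↔ x ∈ S := fun g x =>
    ⟨fun h => by
      have := hfw _ (inv_mem g.2) _ h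
      rwa [show ((g : M24) : Equiv.Perm GolayPt) x = (g : M24) • x from rfl, inv_smul_smul] at this,
    hfw _ g.2 x⟩
  let φ : K →* Equiv.Perm {x // x ∈ S} :=
    { toFun := fun g => Equiv.Perm.subtypePerm ((g : M24) : Equiv.Perm GolayPt) (hiff g)
      map_one' := by ext x; rfl
      map_mul' := fun a b => by ext x; rfl }
  have hφ : ∀ (g : K) (x : {x // x ∈ S}), ((φ g x : {x // x ∈ S}) : GolayPt) = (g : M24) • x.1 :=
    fun g x => rfl
  have hα : Fintype.card {x // x ∈ S} = 11 := by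
    rw [Fintype.card_coe, hS, Finset.card_erase_of_mem (Finset.mem_compl.2 hq), card_compl hd]
  have hinj : Function.Injective φ := by
    refine (injective_iff_map_eq_one φ).2 fun g hg => ?_
    have hfix : ∀ x ∈ dᶜ, (g : M24) • x = x := by
      intro x hx
      by_cases e : x = q
      · subst e; exact (hKf _ g.2).2
      · have hxS : x ∈ S := (hmem x).2 ⟨Finset.mem_compl.1 hx, e⟩
        rw [← hφ g ⟨x, hxS⟩, hg]; rfl
    obtain ⟨f⟩ : Nonempty (Fin 5 ↪ {x // x ∈ dᶜ}) :=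
      Function.Embedding.nonempty_of_card_le (by rw [Fintype.card_coe, card_compl hd]; simp)
    have hcd := compl_mem_dodecads hd
    obtain ⟨u, -, huniq⟩ := dodecad_sharp hcd (f.trans (Function.Embedding.subtype _))
      (f.trans (Function.Embedding.subtype _)) (fun i => (f i).2) (fun i => (f i).2)
    have hgd : (g : M24) ∈ stabilizer M24 dᶜ := by
      rw [mem_stabilizer_iff]
      ext x
      rw [Finset.mem_smul_finset]
      exact ⟨fun ⟨y, hy, e⟩ => by rw [← e, hfix y hy]; exact hy, fun hx => ⟨x, hx, hfix x hx⟩⟩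
    have h1 := huniq ⟨(g : M24), hgd⟩ fun i => hfix _ (f i).2
    have h2 := huniq 1 fun i => rfl
    have h3 := congrArg Subtype.val (h1.trans h2.symm)
    exact Subtype.ext h3
  obtain ⟨G, hG⟩ : ∃ G, G = φ.range := ⟨_, rfl⟩
  have e : K ≃* G := (MonoidHom.ofInjective hinj).trans (MulEquiv.subgroupCongr hG.symm)
  have hcG : Nat.card G = 660 := by
    rw [← Nat.card_congr e.toEquiv, hK, card_point hd hp hq]
  haveI ht : IsPretransitive G {x // x ∈ S} := by
    refine ⟨fun x y => ?_⟩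
    obtain ⟨g, hg, hgq, hgx⟩ := trans_pair hd hp hq ((hmem _).1 x.2).1 hq ((hmem _).1 y.2).1
      (Ne.symm ((hmem _).1 x.2).2) (Ne.symm ((hmem _).1 y.2).2)
    have hgK : g ∈ K := hK ▸ ⟨hg, hgq⟩
    exact ⟨⟨φ ⟨g, hgK⟩, hG ▸ ⟨_, rfl⟩⟩, Subtype.ext hgx⟩
  haveI : Fact (Nat.Prime 11) := ⟨by decide +kernel⟩
  have hns : ¬ Group.IsSolvable G := by
    intro hs
    obtain ⟨σ, l, hσo, hσ⟩ := CfsgLib.Perm.exists_equiv_zmod hα G
    have haff := CfsgLib.Perm.affine_of_isSolvable hα G σ hσo l hσ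
    choose A B hAB using fun g : G => haff g g.2
    have hi : Function.Injective fun g : G => (A g, B g) := fun a b h => by
      simp only [Prod.mk.injEq] at h
      refine Subtype.ext (Equiv.ext fun x => ?_)
      obtain ⟨j, rfl⟩ := l.surjective x
      exact l.symm.injective (by rw [hAB, hAB, h.1, h.2])
    have h := Nat.card_le_card_of_injective _ hi
    rw [Nat.card_prod, Nat.card_zmod, hcG] at h
    norm_num at h
  have hA : ¬ alternatingGroup {x // x ∈ S} ≤ G := fun h => by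
    haveI : Nontrivial {x // x ∈ S} := Fintype.one_lt_card_iff_nontrivial.1 (by rw [hα]; norm_num)
    have := Subgroup.card_le_of_le h
    rw [nat_card_alternatingGroup, Nat.card_eq_fintype_card, hα, hcG] at this
    norm_num [Nat.factorial] at this
  rcases CfsgLib.Perm.DegreeEleven.main hα G hns hA with ⟨h4, -⟩ | hf
  · exfalso
    obtain ⟨x₀⟩ : Nonempty (Fin 4 ↪ {x // x ∈ S}) :=
      Function.Embedding.nonempty_of_card_le (by simp [hα])
    have h1 := Nat.card_le_card_of_surjective (fun g : G => g • x₀) fun y => h4.exists_smul_eq x₀ y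
    rw [hcG, Nat.card_eq_fintype_card, Fintype.card_embedding_eq, Fintype.card_fin, hα] at h1
    norm_num [Nat.descFactorial] at h1
  · exact hf.map e.trans

end CfsgLib.Perm.MElevenPoint
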