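import Cfsg.Agent.Lib.Perm.MElevenPoint

/-!
# The stabiliser in `M₁₁` of a pair of points of the complementary dodecad

It fixes the unique octad through the point and the pair meeting the dodecad in six points, hence
five points of the dodecad, on which it induces the full symmetric group.
-/

set_option autoImplicit false
set_option maxRecDepth 100000

namespace CfsgLib.Perm.MElevenPair

open Cfsg MulAction CfsgLib.Golay CfsgLib.Perm.MElevenPoint
open scoped Pointwise

/-- The octad condition, on masks, in standard position. -/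
def pairTest (m : ℕ) : Bool :=
  Nat.beq (pop (m &&& sqMask)) 6 && m.testBit 0 && m.testBit 5 && m.testBit 7

theorem pairTest_unique : (octList.filter pairTest).length = 1 := by decide +kernel

theorem exists_unique_octad {d : Finset GolayPt} (hd : d ∈ dodecads) {p q q' : GolayPt} (hp : p ∈ d)
    (hq : q ∉ d) (hq' : q' ∉ d) (hne : q ≠ q') :
    ∃! o, o ∈ octads ∧ (o ∩ d).card = 6 ∧ p ∈ o ∧ q ∈ o ∧ q' ∈ o := by
  classical
  obtain ⟨c, hc, hcp⟩ := dodecad_point_std hd hp
  have h0 : pt 0 ∈ mset sqMask := by decide +kernel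
  have hout : ∀ {z}, z ∉ d → c • z ∉ mset sqMask := fun hz h => hz (by
    rw [← hc] at h; exact (Finset.smul_mem_smul_finset_iff c).1 h)
  obtain ⟨u, hu, hu5, hu7⟩ := trans_pair sqMask_mem h0 (hout hq) (hout hq')
    (show pt 5 ∉ mset sqMask by decide +kernel) (show pt 7 ∉ mset sqMask by decide +kernel)
    (fun e => hne (smul_left_cancel c e)) (by decide +kernel)
  obtain ⟨g, hg⟩ : ∃ g : M24, g = u * c := ⟨_, rfl⟩
  have gd : g • d = mset sqMask := by rw [hg, mul_smul, hc]; exact hu.1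
  have gp : g • p = pt 0 := by rw [hg, mul_smul, hcp]; exact hu.2
  have gq : g • q = pt 5 := by rw [hg, mul_smul, hu5]
  have gq' : g • q' = pt 7 := by rw [hg, mul_smul, hu7]
  obtain ⟨m₀, hm₀⟩ := List.length_eq_one_iff.1 pairTest_unique
  have hstd : ∀ o, (o ∈ octads ∧ (o ∩ d).card = 6 ∧ p ∈ o ∧ q ∈ o ∧ q' ∈ o) ↔
      g • o = mset m₀ := by
    intro o
    have hiff : (o ∈ octads ∧ (o ∩ d).card = 6 ∧ p ∈ o ∧ q ∈ o ∧ q' ∈ o) ↔
        (g • o ∈ octads ∧ (g • o ∩ mset sqMask).card = 6 ∧ pt 0 ∈ g • o ∧ pt 5 ∈ g • o ∧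
          pt 7 ∈ g • o) := by
      rw [← gd, ← gp, ← gq, ← gq', ← Finset.smul_finset_inter, Finset.card_smul_finset,
        Finset.smul_mem_smul_finset_iff, Finset.smul_mem_smul_finset_iff,
        Finset.smul_mem_smul_finset_iff]
      have ho : g • o ∈ octads ↔ o ∈ octads := ⟨fun h => by
        have h' := M24_smul_octad (g⁻¹ : M24).2 h
        rwa [show (((g⁻¹ : M24)) : Equiv.Perm GolayPt) • (g • o) = g⁻¹ • (g • o) from rfl,
          inv_smul_smul] at h', fun h => M24_smul_octad g.2 h⟩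
      rw [ho]
    have hm : ∀ m, pt 0 ∈ mset m ∧ pt 5 ∈ mset m ∧ pt 7 ∈ mset m ∧
        (mset m ∩ mset sqMask).card = 6 ↔ pairTest m = true := by
      intro m
      rw [pairTest, Bool.and_eq_true, Bool.and_eq_true, Bool.and_eq_true, Nat.beq_eq, mem_mset,
        mem_mset, mem_mset, ← mset_and, card_mset, idx_pt (by norm_num), idx_pt (by norm_num),
        idx_pt (by norm_num)]
      tauto
    rw [hiff]
    constructor
    · rintro ⟨ho, h6, h1, h2, h3⟩
      obtain ⟨m, hml, hmo⟩ := mem_octads_iff.1 ho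
      rw [← hmo] at h6 h1 h2 h3
      have : m ∈ octList.filter pairTest := List.mem_filter.2 ⟨hml, (hm m).1 ⟨h1, h2, h3, h6⟩⟩
      rw [hm₀, List.mem_singleton] at this
      rw [← hmo, this]
    · intro h
      have : m₀ ∈ octList.filter pairTest := by rw [hm₀]; simp
      rw [List.mem_filter] at this
      obtain ⟨h1, h2, h3, h6⟩ := (hm m₀).2 this.2
      rw [h]
      exact ⟨mem_octads_iff.2 ⟨m₀, this.1, rfl⟩, h6, h1, h2, h3⟩
  exact ⟨g⁻¹ • mset m₀, (hstd _).2 (smul_inv_smul g _),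
    fun o ho => eq_inv_smul_iff.2 ((hstd o).1 ho)⟩

theorem card_pair {d : Finset GolayPt} (hd : d ∈ dodecads) {p q q' : GolayPt} (hp : p ∈ d)
    (hq : q ∉ d) (hq' : q' ∉ d) (hne : q ≠ q') :
    Nat.card ↥(stabilizer M24 d ⊓ stabilizer M24 p ⊓
      stabilizer M24 ({q, q'} : Finset GolayPt)) = 120 := by
  classical
  obtain ⟨L, hL⟩ : ∃ L, L = stabilizer M24 d ⊓ stabilizer M24 p := ⟨_, rfl⟩
  have horb : orbit L ({q, q'} : Finset GolayPt) = ↑((dᶜ).powersetCard 2) := by
    ext s
    rw [Finset.mem_coe, Finset.mem_powersetCard, Finset.card_eq_two]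
    constructor
    · rintro ⟨g, rfl⟩
      have hgd : (g : M24) • d = d := (hL ▸ g.2 : (g : M24) ∈ stabilizer M24 d ⊓ stabilizer M24 p).1
      have e : g • ({q, q'} : Finset GolayPt) = {(g : M24) • q, (g : M24) • q'} := by
        show (g : M24) • ({q, q'} : Finset GolayPt) = _
        rw [Finset.smul_finset_insert, Finset.smul_finset_singleton]
      show g • ({q, q'} : Finset GolayPt) ⊆ dᶜ ∧ _
      rw [e]
      refine ⟨?_, _, _, fun h => hne (smul_left_cancel _ h), e⟩
      intro x hx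
      rw [Finset.mem_compl]
      simp only [Finset.mem_insert, Finset.mem_singleton] at hx
      rcases hx with rfl | rfl <;> exact not_mem_smul hgd (by assumption)
    · rintro ⟨hs, x, y, hxy, rfl⟩
      obtain ⟨g, hg, hgq, hgq'⟩ := trans_pair hd hp hq hq' (Finset.mem_compl.1 (hs (by simp)))
        (Finset.mem_compl.1 (hs (by simp))) hne hxy
      refine ⟨⟨g, hL ▸ hg⟩, ?_⟩
      show g • ({q, q'} : Finset GolayPt) = _
      rw [Finset.smul_finset_insert, Finset.smul_finset_singleton, hgq, hgq']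
  have h1 := Subgroup.card_mul_index (stabilizer L ({q, q'} : Finset GolayPt))
  rw [index_stabilizer, horb, Set.ncard_coe_finset, Finset.card_powersetCard,
    MElevenPoint.card_compl hd] at h1
  rw [← hL]
  have h2 : Nat.card (stabilizer L ({q, q'} : Finset GolayPt)) =
      Nat.card ↥(L ⊓ stabilizer M24 ({q, q'} : Finset GolayPt)) := by
    rw [show stabilizer L ({q, q'} : Finset GolayPt) =
        (stabilizer M24 ({q, q'} : Finset GolayPt)).subgroupOf L from rfl,
      ← Subgroup.card_subtype L ((stabilizer M24 ({q, q'} : Finset GolayPt)).subgroupOf L),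
      Subgroup.subgroupOf_map_subtype, inf_comm]
  have h3 : Nat.card L = 7920 := hL ▸ card_stabDP hd hp
  rw [show Nat.choose 12 2 = 66 by decide] at h1
  omega

theorem pair_equiv {d : Finset GolayPt} (hd : d ∈ dodecads) {p q q' : GolayPt} (hp : p ∈ d)
    (hq : q ∉ d) (hq' : q' ∉ d) (hne : q ≠ q') :
    Nonempty (↥(stabilizer M24 d ⊓ stabilizer M24 p ⊓ stabilizer M24 ({q, q'} : Finset GolayPt)) ≃*
      Equiv.Perm (Fin 5)) := by
  classical
  obtain ⟨o, ⟨ho, h6, hpo, hqo, hqo'⟩, huniq⟩ := exists_unique_octad hd hp hq hq' hne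
  obtain ⟨K, hK⟩ : ∃ K, K = stabilizer M24 d ⊓ stabilizer M24 p ⊓
      stabilizer M24 ({q, q'} : Finset GolayPt) := ⟨_, rfl⟩
  rw [← hK]
  have hKf : ∀ g ∈ K, g • d = d ∧ g • p = p ∧ g • ({q, q'} : Finset GolayPt) = {q, q'} :=
    fun g hg => by rw [hK] at hg; exact ⟨hg.1.1, hg.1.2, hg.2⟩
  have hKo : ∀ g ∈ K, g • o = o := fun g hg => by
    obtain ⟨hgd, hgp, hgq⟩ := hKf g hg
    have hsub : ({q, q'} : Finset GolayPt) ⊆ g • o := by
      rw [← hgq]; exact Finset.smul_finset_subset_smul_finset (by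
        simp [Finset.insert_subset_iff, hqo, hqo'])
    refine huniq _ ⟨M24_smul_octad g.2 ho, ?_, ?_, hsub (by simp), hsub (by simp)⟩
    · conv_lhs => rw [← hgd]
      rw [← Finset.smul_finset_inter, Finset.card_smul_finset, h6]
    · rw [← hgp]; exact Finset.smul_mem_smul_finset hpo
  obtain ⟨S, hS⟩ : ∃ S, S = (o ∩ d).erase p := ⟨_, rfl⟩
  have hfw : ∀ g ∈ K, ∀ x ∈ S, g • x ∈ S := fun g hg x hx => by
    obtain ⟨hgd, hgp, -⟩ := hKf g hg
    rw [hS, Finset.mem_erase] at hx ⊢
    refine ⟨fun e => hx.1 (smul_left_cancel g (e.trans hgp.symm)), ?_⟩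
    have e : g • (o ∩ d) = o ∩ d := by rw [Finset.smul_finset_inter, hKo g hg, hgd]
    rw [← e]
    exact Finset.smul_mem_smul_finset hx.2
  have hiff : ∀ g : K, ∀ x, ((g : M24) : Equiv.Perm GolayPt) x ∈ S ↔ x ∈ S := fun g x =>
    ⟨fun h => by
      have := hfw _ (inv_mem g.2) _ h
      rwa [show ((g : M24) : Equiv.Perm GolayPt) x = (g : M24) • x from rfl, inv_smul_smul] at this,
    hfw _ g.2 x⟩
  let φ : K →* Equiv.Perm {x // x ∈ S} :=
    { toFun := fun g => Equiv.Perm.subtypePerm ((g : M24) : Equiv.Perm GolayPt) (hiff g)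
      map_one' := by ext x; rfl
      map_mul' := fun a b => by ext x; rfl }
  have hφ : ∀ (g : K) (x : {x // x ∈ S}), ((φ g x : {x // x ∈ S}) : GolayPt) = (g : M24) • x.1 :=
    fun g x => rfl
  have hS5 : S.card = 5 := by
    rw [hS, Finset.card_erase_of_mem (Finset.mem_inter.2 ⟨hpo, hp⟩), h6]
  have hinj : Function.Injective φ := by
    refine (injective_iff_map_eq_one φ).2 fun g hg => ?_
    have hfix : ∀ x ∈ S, (g : M24) • x = x := fun x hx => by rw [← hφ g ⟨x, hx⟩, hg]; rfl
    have hsub : ∀ x ∈ S, x ∈ d := fun x hx => by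
      rw [hS, Finset.mem_erase, Finset.mem_inter] at hx; exact hx.2.2
    obtain ⟨f⟩ : Nonempty (Fin 5 ↪ {x // x ∈ S}) :=
      Function.Embedding.nonempty_of_card_le (by rw [Fintype.card_coe, hS5]; simp)
    obtain ⟨u, -, hu⟩ := dodecad_sharp hd (f.trans (Function.Embedding.subtype _))
      (f.trans (Function.Embedding.subtype _)) (fun i => hsub _ (f i).2) (fun i => hsub _ (f i).2)
    have h1 := hu ⟨(g : M24), (hKf _ g.2).1⟩ fun i => hfix _ (f i).2
    have h2 := hu 1 fun i => rfl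
    have h3 := congrArg Subtype.val (h1.trans h2.symm)
    exact Subtype.ext h3
  have hb : Function.Bijective φ := (Nat.bijective_iff_injective_and_card _).2 ⟨hinj, by
    rw [hK, card_pair hd hp hq hq' hne, Nat.card_perm, Nat.card_eq_fintype_card, Fintype.card_coe,
      hS5]; rfl⟩
  exact ⟨(MulEquiv.ofBijective φ hb).trans (Equiv.permCongrHom (S.equivFinOfCardEq hS5))⟩

end CfsgLib.Perm.MElevenPair
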