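import Cfsg.Agent.Lib.Golay.Stab
import Cfsg.Agent.Lib.Classical.SLGen
import Cfsg.Agent.Lib.Classical.SLOrder

/-!
# The stabiliser of three points in the largest Mathieu group is `PSL(3, 4)`

The remaining 21 points are labelled by the points of the projective plane over the field with four
elements; every transvection acts as an element of the stabiliser.
-/

set_option autoImplicit false
set_option maxRecDepth 100000

namespace CfsgLib.Perm.MathieuPlane

open Cfsg MulAction CfsgLib.Golay Matrix
open scoped MatrixGroups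

/-- Addition in the field with four elements, coded. -/
def qadd (a b : Fin 4) : Fin 4 :=
  ([0, 1, 2, 3, 1, 0, 3, 2, 2, 3, 0, 1, 3, 2, 1, 0] : List (Fin 4)).getD (4 * a.val + b.val) 0

/-- Multiplication in the field with four elements, coded. -/
def qmul (a b : Fin 4) : Fin 4 :=
  ([0, 0, 0, 0, 0, 1, 2, 3, 0, 2, 3, 1, 0, 3, 1, 2] : List (Fin 4)).getD (4 * a.val + b.val) 0

/-- Coordinates of the points. -/
def coords : List (List (Fin 4)) := [[0, 0, 0], [0, 0, 0], [0, 0, 1], [0, 1, 0], [1, 0, 0], [0, 1, 1], [1, 1, 2], [1, 1, 1], [1, 2, 2], [1, 3, 1], [1, 3, 2], [1, 2, 0], [1, 2, 3], [1, 0, 2], [0, 1, 3], [1, 3, 3], [1, 0, 1], [0, 1, 2], [1, 2, 1], [1, 1, 0], [1, 3, 0], [1, 1, 3], [1, 0, 3], [0, 0, 0]]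

/-- One coordinate of a point. -/
def coord (z : ℕ) (k : Fin 3) : Fin 4 := (coords.getD z []).getD k.val 0

/-- Encoded transvections. -/
def tvGens : List ℕ := [0, 0, 0, 0, 984818244535754528103549039458486304, 984522237791282842243827263779473440, 984674686509231270848998217272133664, 984370798342469428377360417207715872, 984818244535754528103549039458486304, 972689358314341295732538083389849632, 958572796407684634971422541721229344, 976908108085554797803774220334904352, 984818244535754528103549039458486304, 983548720921252936276249910206105632, 971592882964418941354553515258775584, 975346028712660580592452217730074656, 0, 0, 0, 0, 984818244535754528103549039458486304, 975366630392323105260605610366440480, 983560732202510771760283209707927584, 971594099268302134235014375640515616, 984818244535754528103549039458486304, 972512676110088067912772961567868960, 976448692869377735270425038196672544, 961365507626256404119956257276790816, 984818244535754528103549039458486304, 984202951082164080105044112956360736,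 984235865005994746954145143334668320, 984724508489452699215480746259449888, 0, 0, 0, 0]

/-- The encoded transvection. -/
def tvGen (i j : Fin 3) (c : Fin 4) : ℕ := tvGens.getD ((i.val * 3 + j.val) * 4 + c.val) 0

/-- A point other than the three fixed ones. -/
abbrev Free (z : GolayPt) : Prop := z ≠ pt 23 ∧ z ≠ pt 0 ∧ z ≠ pt 1

theorem tv_check : ∀ i j : Fin 3, i ≠ j → ∀ c : Fin 4,
    inFix X21 (tvGen i j c) = true ∧ ∀ z : GolayPt, Free z → ∃ d : Fin 4, d ≠ 0 ∧ ∀ k : Fin 3,
      qmul d (coord (img (tvGen i j c) (idx z)) k) =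
        if k = i then qadd (coord (idx z) k) (qmul c (coord (idx z) j)) else coord (idx z) k := by
  decide +kernel

theorem coord_inj : ∀ z z' : GolayPt, Free z → Free z' → ∀ d : Fin 4, d ≠ 0 →
    (∀ k : Fin 3, coord (idx z) k = qmul d (coord (idx z') k)) → z = z' := by
  decide +kernel

theorem coord_frame : (∀ m : Fin 3, ∃ z : GolayPt, Free z ∧ ∀ k : Fin 3,
      coord (idx z) k = if k = m then 1 else 0) ∧
    ∃ z : GolayPt, Free z ∧ ∀ k : Fin 3, coord (idx z) k = 1 := by
  decide +kernel

section

variable {F : Type} [Field F] [Fintype F]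

/-- Decoding. -/
def ι (w : F) : Fin 4 → F := ![0, 1, w, w + 1]

theorem exists_w (hF : Fintype.card F = 4) : ∃ w : F, w * w = w + 1 ∧ (2 : F) = 0 ∧
    Function.Bijective (ι w) := by
  classical
  have h2 : (2 : F) = 0 := by
    have h : ((Fintype.card F : ℕ) : F) = 0 := FiniteField.cast_card_eq_zero F
    rw [hF, show ((4 : ℕ) : F) = 2 * 2 by norm_num] at h
    exact mul_self_eq_zero.1 h
  obtain ⟨w, hw⟩ : ((Finset.univ : Finset F) \ {0, 1}).Nonempty := by
    rw [← Finset.card_pos, Finset.card_sdiff_of_subset (Finset.subset_univ _), Finset.card_univ, hF,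
      Finset.card_pair zero_ne_one]
    norm_num
  simp only [Finset.mem_sdiff, Finset.mem_univ, true_and, Finset.mem_insert, Finset.mem_singleton,
    not_or] at hw
  have h3 := FiniteField.pow_card_sub_one_eq_one w hw.1
  rw [hF] at h3
  have hww : w * w = w + 1 := by
    have h4 : (w - 1) * (w * w + w + 1) = 0 := by linear_combination h3
    have h5 := (mul_eq_zero.1 h4).resolve_left (sub_ne_zero.2 hw.2)
    linear_combination h5 - (w + 1) * h2
  refine ⟨w, hww, h2, (Fintype.bijective_iff_injective_and_card _).2 ⟨?_, by rw [hF, Fintype.card_fin]⟩⟩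
  have hw1 : w + 1 ≠ 0 := fun h => hw.2 (by linear_combination h - h2)
  intro a b h
  fin_cases a <;> fin_cases b <;> simp [ι, hw.1, hw.2, Ne.symm hw.1, Ne.symm hw.2, hw1, Ne.symm hw1] at h ⊢

theorem ι_add {w : F} (h2 : (2 : F) = 0) (a b : Fin 4) : ι w (qadd a b) = ι w a + ι w b := by
  fin_cases a <;> fin_cases b <;> simp [ι, qadd] <;>
    first
      | linear_combination (0 : F) * h2
      | linear_combination h2
      | linear_combination -h2
      | linear_combination w * h2
      | linear_combination -w * h2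
      | linear_combination (w + 1) * h2
      | linear_combination -(w + 1) * h2

theorem ι_mul {w : F} (hw : w * w = w + 1) (h2 : (2 : F) = 0) (a b : Fin 4) :
    ι w (qmul a b) = ι w a * ι w b := by
  fin_cases a <;> fin_cases b <;> simp [ι, qmul] <;>
    first
      | linear_combination (0 : F) * h2
      | linear_combination hw
      | linear_combination -hw
      | linear_combination hw + w * h2
      | linear_combination -hw + w * h2
      | linear_combination hw - w * h2
      | linear_combination -hw - w * h2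
      | linear_combination hw + (w + 1) * h2
      | linear_combination -hw + (w + 1) * h2
      | linear_combination hw - (w + 1) * h2
      | linear_combination -hw - (w + 1) * h2
      | linear_combination hw + h2
      | linear_combination -hw + h2
      | linear_combination hw - h2
      | linear_combination -hw - h2

/-- The vector of a point. -/
def V (w : F) (z : GolayPt) : Fin 3 → F := fun k => ι w (coord (idx z) k)

/-- `σ` is induced by `g`. -/
def Ind (w : F) (g : SL(3, F)) (σ : fixMasks X21) : Prop :=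
  ∀ z, Free z → ∃ c : F, c ≠ 0 ∧
    (g : Matrix (Fin 3) (Fin 3) F) *ᵥ V w z = c • V w ((σ : Equiv.Perm GolayPt) z)

omit [Fintype F] in
theorem fix_three (σ : fixMasks X21) : (σ : Equiv.Perm GolayPt) (pt 23) = pt 23 ∧
    (σ : Equiv.Perm GolayPt) (pt 0) = pt 0 ∧ (σ : Equiv.Perm GolayPt) (pt 1) = pt 1 := by
  have h : (σ : Equiv.Perm GolayPt) ∈
      fixMasks [Nat.shiftLeft 1 1, Nat.shiftLeft 1 0, Nat.shiftLeft 1 23] := σ.2
  rw [mem_fixMasks_cons (show (1 : ℕ) < 24 by norm_num), mem_fixMasks_cons (show (0 : ℕ) < 24 by norm_num),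
    mem_fixMasks_cons (show (23 : ℕ) < 24 by norm_num)] at h
  exact ⟨h.1.1.2, h.1.2, h.2⟩

omit [Fintype F] in
theorem free_map (σ : fixMasks X21) {z : GolayPt} (hz : Free z) :
    Free ((σ : Equiv.Perm GolayPt) z) := by
  obtain ⟨a, b, c⟩ := fix_three σ
  exact ⟨fun e => hz.1 ((σ : Equiv.Perm GolayPt).injective (e.trans a.symm)),
    fun e => hz.2.1 ((σ : Equiv.Perm GolayPt).injective (e.trans b.symm)),
    fun e => hz.2.2 ((σ : Equiv.Perm GolayPt).injective (e.trans c.symm))⟩

omit [Fintype F] in
theorem Ind.mul {w : F} {g h : SL(3, F)} {σ τ : fixMasks X21} (hg : Ind w g σ) (hh : Ind w h τ) :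
    Ind w (g * h) (σ * τ) := by
  intro z hz
  obtain ⟨c, hc, e⟩ := hh z hz
  obtain ⟨d, hd, e'⟩ := hg _ (free_map τ hz)
  refine ⟨c * d, mul_ne_zero hc hd, ?_⟩
  rw [Matrix.SpecialLinearGroup.coe_mul, ← Matrix.mulVec_mulVec, e, Matrix.mulVec_smul, e', smul_smul]
  rfl

theorem unique_pt {w : F} (hw : w * w = w + 1) (h2 : (2 : F) = 0) (hb : Function.Bijective (ι w))
    {z z' : GolayPt} (hz : Free z) (hz' : Free z') {c : F} (hc : c ≠ 0)
    (h : V w z = c • V w z') : z = z' := by
  obtain ⟨d, rfl⟩ := hb.2 c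
  refine coord_inj z z' hz hz' d (fun e => hc (by rw [e]; rfl)) fun k => hb.1 ?_
  rw [ι_mul hw h2]
  exact congrFun h k

theorem Ind.unique {w : F} (hw : w * w = w + 1) (h2 : (2 : F) = 0) (hb : Function.Bijective (ι w))
    {g : SL(3, F)} {σ τ : fixMasks X21} (hσ : Ind w g σ) (hτ : Ind w g τ) : σ = τ := by
  refine Subtype.ext (Equiv.ext fun z => ?_)
  by_cases hz : Free z
  · obtain ⟨c, hc, e⟩ := hσ z hz
    obtain ⟨d, hd, e'⟩ := hτ z hz
    refine unique_pt hw h2 hb (free_map σ hz) (free_map τ hz) (mul_ne_zero (inv_ne_zero hc) hd) ?_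
    rw [mul_smul, ← e', e, inv_smul_smul₀ hc]
  · obtain ⟨a, b, c⟩ := fix_three σ
    obtain ⟨a', b', c'⟩ := fix_three τ
    simp only [not_and_or, not_not] at hz
    rcases hz with rfl | rfl | rfl
    · rw [a, a']
    · rw [b, b']
    · rw [c, c']

theorem Ind.one (w : F) : Ind w 1 1 := fun z _ =>
  ⟨1, one_ne_zero, by rw [Matrix.SpecialLinearGroup.coe_one, Matrix.one_mulVec, one_smul]; rfl⟩

theorem transvection_ind {w : F} (hw : w * w = w + 1) (h2 : (2 : F) = 0)
    (hb : Function.Bijective (ι w)) {i j : Fin 3} (hij : i ≠ j) (c : F) :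
    ∃ σ, Ind w (Matrix.SpecialLinearGroup.transvection hij c) σ := by
  obtain ⟨c, rfl⟩ := hb.2 c
  obtain ⟨hg, hmap⟩ := tv_check i j hij c
  refine ⟨⟨_, inFix_mem hg⟩, fun z hz => ?_⟩
  obtain ⟨d, hd, hk⟩ := hmap z hz
  refine ⟨ι w d, fun e => hd (hb.1 (e.trans rfl)), funext fun k => ?_⟩
  show _ = ι w d * ι w (coord (idx (permOf (tvGen i j c) z)) k)
  rw [permOf_apply (inFix_valid hg), idx_pt (valid_lt (inFix_valid hg) (idx_lt z)), ← ι_mul hw h2, hk k]
  show (Matrix.transvection i j (ι w c) *ᵥ V w z) k = _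
  rw [Matrix.transvection, Matrix.add_mulVec, Matrix.one_mulVec, Pi.add_apply, Matrix.single_mulVec]
  by_cases hki : k = i
  · subst hki
    rw [if_pos rfl, ι_add h2, ι_mul hw h2]
    simp [V]
  · rw [if_neg hki]
    simp [V, hki]

theorem scalar_of_ind_one {w : F} (hw : w * w = w + 1) {g : SL(3, F)} (h : Ind w g 1) :
    g ∈ Subgroup.center SL(3, F) := by
  obtain ⟨hf, z₁, hz₁, hc₁⟩ := coord_frame
  obtain ⟨c, -, hc⟩ := h z₁ hz₁
  have hcol : ∀ m, ∃ d : F, ∀ k, (g : Matrix (Fin 3) (Fin 3) F) k m = if k = m then d else 0 := by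
    intro m
    obtain ⟨z, hz, hzc⟩ := hf m
    obtain ⟨d, -, hd⟩ := h z hz
    refine ⟨d, fun k => ?_⟩
    have hV : V w z = Pi.single m 1 := by
      funext k
      rw [V, hzc]
      by_cases hkm : k = m
      · subst hkm; simp [ι]
      · simp [hkm, ι]
    have := congrFun hd k
    rw [show (((1 : fixMasks X21)) : Equiv.Perm GolayPt) z = z from rfl, hV, Matrix.mulVec_single_one] at this
    simp only [Pi.smul_apply, smul_eq_mul, Matrix.col_apply, Pi.single_apply, mul_ite, mul_one, mul_zero] at this
    exact this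
  choose d hd using hcol
  have hdc : ∀ k, d k = c := fun k => by
    have := congrFun hc k
    have hV : V w z₁ = fun _ => 1 := by funext k; rw [V, hc₁]; rfl
    rw [show (((1 : fixMasks X21)) : Equiv.Perm GolayPt) z₁ = z₁ from rfl, hV] at this
    simp only [Matrix.mulVec, dotProduct, mul_one, Pi.smul_apply, smul_eq_mul] at this
    rw [Finset.sum_eq_single k (fun m _ hm => by rw [hd, if_neg (Ne.symm hm)])
      (fun hn => absurd (Finset.mem_univ k) hn), hd, if_pos rfl] at this
    exact this
  have hg : (g : Matrix (Fin 3) (Fin 3) F) = Matrix.scalar (Fin 3) c := by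
    ext k m
    rw [hd, hdc, Matrix.scalar_apply, Matrix.diagonal_apply]
  refine Matrix.SpecialLinearGroup.mem_center_iff.2 ⟨c, ?_, hg.symm⟩
  have := g.2
  rw [hg, Matrix.scalar_apply, Matrix.det_diagonal, Finset.prod_const] at this
  simpa using this

theorem plane_equiv (hF : Fintype.card F = 4) :
    Nonempty (fixMasks X21 ≃* Matrix.ProjectiveSpecialLinearGroup (Fin 3) F) := by
  classical
  obtain ⟨w, hw, h2, hb⟩ := exists_w hF
  let H : Subgroup SL(3, F) :=
    { carrier := {g | ∃ σ, Ind w g σ}
      one_mem' := ⟨1, Ind.one w⟩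
      mul_mem' := fun {a b} ha hb => by
        obtain ⟨σ, hσ⟩ := ha; obtain ⟨τ, hτ⟩ := hb; exact ⟨σ * τ, hσ.mul hτ⟩
      inv_mem' := fun {a} ha => by
        obtain ⟨σ, hσ⟩ := ha
        refine ⟨σ⁻¹, fun z hz => ?_⟩
        obtain ⟨c, hc, e⟩ := hσ _ (free_map σ⁻¹ hz)
        rw [← Equiv.Perm.mul_apply, ← Subgroup.coe_mul, mul_inv_cancel, OneMemClass.coe_one,
          Equiv.Perm.one_apply] at e
        refine ⟨c⁻¹, inv_ne_zero hc, ?_⟩
        have e' := congrArg ((a⁻¹ : SL(3, F)) : Matrix (Fin 3) (Fin 3) F).mulVec e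
        rw [Matrix.mulVec_mulVec, ← Matrix.SpecialLinearGroup.coe_mul, inv_mul_cancel,
          Matrix.SpecialLinearGroup.coe_one, Matrix.one_mulVec, Matrix.mulVec_smul] at e'
        rw [e', inv_smul_smul₀ hc] }
  have hall : ∀ g, ∃ σ, Ind w g σ := fun g => by
    have : g ∈ H := by
      rw [CfsgLib.Classical.sl_transvection_induction H fun i j hij c => transvection_ind hw h2 hb hij c]
      trivial
    exact this
  choose f hf using hall
  let θ : SL(3, F) →* fixMasks X21 :=
    MonoidHom.mk' f fun a b => Ind.unique hw h2 hb (hf (a * b)) ((hf a).mul (hf b))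
  have hker : θ.ker = Subgroup.center SL(3, F) := by
    ext g
    rw [MonoidHom.mem_ker]
    refine ⟨fun h => scalar_of_ind_one hw (h ▸ hf g), fun h => ?_⟩
    obtain ⟨r, hr, hrg⟩ := Matrix.SpecialLinearGroup.mem_center_iff.1 h
    refine Ind.unique hw h2 hb (hf g) fun z _ => ⟨r, fun e => by simp [e] at hr, ?_⟩
    rw [← hrg, Matrix.scalar_apply]
    funext k
    rw [Matrix.mulVec_diagonal]
    rfl
  let e₀ : Matrix.ProjectiveSpecialLinearGroup (Fin 3) F ≃* θ.range :=
    (QuotientGroup.quotientMulEquivOfEq hker.symm).trans (QuotientGroup.quotientKerEquivRange θ)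
  have hcard : Nat.card (Matrix.ProjectiveSpecialLinearGroup (Fin 3) F) = 20160 := by
    have h := CfsgLib.Classical.card_psl_mul (F := F) (n := 3) (by norm_num)
    rw [hF] at h
    simp only [Fin.prod_univ_three] at h
    generalize Nat.card (Matrix.ProjectiveSpecialLinearGroup (Fin 3) F) = x at h ⊢
    norm_num at h
    omega
  have htop : θ.range = ⊤ := Subgroup.eq_top_of_card_eq _ (by
    rw [← Nat.card_congr e₀.toEquiv, hcard, card_fix21])
  exact ⟨((e₀.trans (MulEquiv.subgroupCongr htop)).trans Subgroup.topEquiv).symm⟩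

theorem stab3_equiv_psl {p q r : GolayPt} (hpq : p ≠ q) (hpr : p ≠ r) (hqr : q ≠ r)
    (hF : Fintype.card F = 4) :
    Nonempty (↥(stabilizer M24 p ⊓ stabilizer M24 q ⊓ stabilizer M24 r) ≃*
      Matrix.ProjectiveSpecialLinearGroup (Fin 3) F) := by
  obtain ⟨a⟩ := stab3_equiv hpq hpr hqr
  obtain ⟨b⟩ := plane_equiv hF
  exact ⟨a.trans b⟩

end

end CfsgLib.Perm.MathieuPlane
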