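import Cfsg.Agent.Lib.Perm.MillerSylow

/-!
Miller's theorem: an `(r+1)`-transitive group of degree `kp + r` with `p` prime, `k < p` and `k < r`
contains the alternating group.
-/

set_option autoImplicit false

namespace CfsgLib.Perm.Miller

open Subgroup MulAction
open scoped commutatorElement

universe u

variable {α : Type u} [Fintype α] [DecidableEq α]

theorem comm_three_fin : ∀ σ : Equiv.Perm (Fin 3), σ ≠ 1 →
    ∃ τ : Equiv.Perm (Fin 3), τ * σ * τ⁻¹ * σ⁻¹ ≠ 1 ∧ (τ * σ * τ⁻¹ * σ⁻¹) ^ 3 = 1 := by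
  decide +kernel

theorem comm_four_fin : ∀ σ : Equiv.Perm (Fin 4), σ ≠ 1 →
    ∃ τ : Equiv.Perm (Fin 4), τ * σ * τ⁻¹ * σ⁻¹ ≠ 1 ∧ (τ * σ * τ⁻¹ * σ⁻¹) ^ 2 = 1 := by
  decide +kernel

omit [Fintype α] [DecidableEq α] in
theorem comm_transport {n q : ℕ} (hfin : ∀ σ : Equiv.Perm (Fin n), σ ≠ 1 →
      ∃ τ : Equiv.Perm (Fin n), τ * σ * τ⁻¹ * σ⁻¹ ≠ 1 ∧ (τ * σ * τ⁻¹ * σ⁻¹) ^ q = 1)
    {β : Type u} (e : β ≃ Fin n) (σ : Equiv.Perm β) (hσ : σ ≠ 1) :
    ∃ τ : Equiv.Perm β, ⁅τ, σ⁆ ≠ 1 ∧ ⁅τ, σ⁆ ^ q = 1 := by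
  obtain ⟨φ, -⟩ : ∃ φ : Equiv.Perm β ≃* Equiv.Perm (Fin n), φ = e.permCongrHom := ⟨_, rfl⟩
  obtain ⟨τ, h1, h2⟩ := hfin (φ σ) (fun h => hσ (φ.injective (h.trans (map_one φ).symm)))
  refine ⟨φ.symm τ, fun h => h1 ?_, φ.injective ?_⟩
  · have := congrArg φ h
    simpa [commutatorElement_def] using this
  · simpa [commutatorElement_def] using h2

/-- The set of orbits outside `Δ`. -/
abbrev Orbs (P : Subgroup (Equiv.Perm α)) (Δ : Finset α) : Type u :=
  {s : Set α // ∃ x, x ∉ Δ ∧ s = orb P x}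

variable {P : Subgroup (Equiv.Perm α)} {Δ : Finset α} {p : ℕ}

omit [Fintype α] [DecidableEq α] in
theorem mem_iff_fixed (h : Setting P Δ p) (d : α) : d ∈ Δ ↔ ∀ v ∈ P, v d = d :=
  ⟨fun hd v hv => h.fixd v hv d hd, fun hd => by_contra fun hn => by
    obtain ⟨v, hv, hvd⟩ := h.moved d hn
    exact hvd (hd v hv)⟩

omit [Fintype α] [DecidableEq α] in
theorem mem_of_normalizer (h : Setting P Δ p) {g : Equiv.Perm α}
    (hg : g ∈ normalizer (P : Set (Equiv.Perm α))) (x : α) : g x ∈ Δ ↔ x ∈ Δ := by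
  have key : ∀ g ∈ normalizer (P : Set (Equiv.Perm α)), ∀ x ∈ Δ, g x ∈ Δ := by
    intro g hg x hx
    refine (mem_iff_fixed h _).2 fun v hv => ?_
    have h1 := h.fixd _ ((mem_normalizer_iff''.1 hg v).1 hv) x hx
    rw [Equiv.Perm.mul_apply, Equiv.Perm.mul_apply] at h1
    have h2 := congrArg g h1
    rwa [← Equiv.Perm.mul_apply g, mul_inv_cancel, Equiv.Perm.one_apply] at h2
  refine ⟨fun hx => ?_, key g hg x⟩
  have h1 := key g⁻¹ (inv_mem hg) _ hx
  rwa [← Equiv.Perm.mul_apply, inv_mul_cancel, Equiv.Perm.one_apply] at h1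

omit [Fintype α] [DecidableEq α] in
theorem image_orb {g : Equiv.Perm α} (hg : g ∈ normalizer (P : Set (Equiv.Perm α))) (x : α) :
    g '' orb P x = orb P (g x) := by
  refine Set.Subset.antisymm ?_ ?_
  · rintro _ ⟨y, hy, rfl⟩
    exact conj_mem_orb hg hy
  · intro y hy
    have h1 := conj_mem_orb (inv_mem hg) hy
    rw [← Equiv.Perm.mul_apply g⁻¹ g, inv_mul_cancel, Equiv.Perm.one_apply] at h1
    exact ⟨g⁻¹ y, h1, by rw [← Equiv.Perm.mul_apply, mul_inv_cancel, Equiv.Perm.one_apply]⟩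

omit [Fintype α] [DecidableEq α] in
theorem image_mem_orbs (h : Setting P Δ p) {g : Equiv.Perm α}
    (hg : g ∈ normalizer (P : Set (Equiv.Perm α))) (s : Set α) :
    (∃ x, x ∉ Δ ∧ Equiv.Set.congr g s = orb P x) ↔ ∃ x, x ∉ Δ ∧ s = orb P x := by
  constructor
  · rintro ⟨x, hx, hs⟩
    refine ⟨g⁻¹ x, fun hd => hx ?_, ?_⟩
    · have := (mem_of_normalizer h hg _).2 hd
      rwa [← Equiv.Perm.mul_apply, mul_inv_cancel, Equiv.Perm.one_apply] at this
    · rw [← image_orb (inv_mem hg), ← hs]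
      exact ((Equiv.symm_image_image g s)).symm
  · rintro ⟨x, hx, rfl⟩
    exact ⟨g x, fun hd => hx ((mem_of_normalizer h hg x).1 hd), image_orb hg x⟩

omit [DecidableEq α] in
theorem card_orbs (h : Setting P Δ p) {k : ℕ} (hn : Fintype.card α = k * p + Δ.card) :
    Nat.card (Orbs P Δ) ≤ k := by
  classical
  have hinj : Function.Injective (fun z : (s : Orbs P Δ) × (s.1 : Set α) => (z.2 : α)) := by
    rintro ⟨⟨s, x, hx, rfl⟩, y, hy⟩ ⟨⟨t, x', hx', rfl⟩, y', hy'⟩ he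
    simp only at he
    subst he
    have e : orb P x = orb P x' := (orb_eq_of_mem hy).symm.trans (orb_eq_of_mem hy')
    exact Sigma.subtype_ext (Subtype.ext e) rfl
  have hsub : Set.range (fun z : (s : Orbs P Δ) × (s.1 : Set α) => (z.2 : α)) ⊆ (↑Δ : Set α)ᶜ := by
    rintro _ ⟨⟨⟨s, x, hx, rfl⟩, y, hy⟩, rfl⟩
    exact notMem_of_mem_orb h hx hy
  have h1 := Set.ncard_le_ncard hsub
  rw [← Nat.card_coe_set_eq, Nat.card_range_of_injective hinj, Set.ncard_compl, Set.ncard_coe_finset,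
    Nat.card_eq_fintype_card (α := α), Nat.card_sigma] at h1
  have h2 : ∀ s : Orbs P Δ, Nat.card (s.1 : Set α) = p := by
    rintro ⟨s, x, hx, rfl⟩
    rw [Nat.card_coe_set_eq, ncard_orb h hx]
  rw [Finset.sum_congr rfl fun s _ => h2 s, Finset.sum_const, Finset.card_univ, ← Nat.card_eq_fintype_card,
    smul_eq_mul] at h1
  exact Nat.le_of_mul_le_mul_right (h1.trans (by omega)) h.prime.pos

omit [Fintype α] [DecidableEq α] in
theorem pow_apply_orb (h : Setting P Δ p) {c : Equiv.Perm α} (hc : c ∈ transSub h) {x : α} (hx : x ∉ Δ) :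
    (c ^ p) x = x := by
  obtain ⟨t, ht, hct⟩ := hc x hx
  have key : ∀ j : ℕ, (c ^ j) x = (t ^ j) x := by
    intro j
    induction j with
    | zero => rfl
    | succ j ih =>
      rw [pow_succ', pow_succ', Equiv.Perm.mul_apply, Equiv.Perm.mul_apply, ih]
      exact hct _ ⟨t ^ j, pow_mem ht j, rfl⟩
  rw [key, h.expp t ht, Equiv.Perm.one_apply]

omit [Fintype α] [DecidableEq α] in
/-- Two elements fixing every orbit induce commuting power maps. -/
theorem commutator_mem_transSub (h : Setting P Δ p) {a b : Equiv.Perm α}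
    (ha : a ∈ normalizer (P : Set (Equiv.Perm α))) (hb : b ∈ normalizer (P : Set (Equiv.Perm α)))
    (hea : ∀ x, x ∉ Δ → ∃ e : ℤ, ∀ v ∈ P, ∀ y ∈ orb P x, (a * v * a⁻¹) y = (v ^ e) y)
    (heb : ∀ x, x ∉ Δ → ∃ e : ℤ, ∀ v ∈ P, ∀ y ∈ orb P x, (b * v * b⁻¹) y = (v ^ e) y)
    (hao : ∀ x, x ∉ Δ → a x ∈ orb P x) (hbo : ∀ x, x ∉ Δ → b x ∈ orb P x) :
    ⁅a, b⁆ ∈ transSub h := by
  have hmap : ∀ g : Equiv.Perm α, g ∈ normalizer (P : Set (Equiv.Perm α)) →
      (∀ x, x ∉ Δ → g x ∈ orb P x) → ∀ x, x ∉ Δ → ∀ y ∈ orb P x, g y ∈ orb P x := by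
    intro g hg hgo x hx y hy
    rw [← orb_eq_of_mem (hgo x hx)]
    exact conj_mem_orb hg hy
  have hinv : ∀ g : Equiv.Perm α, g ∈ normalizer (P : Set (Equiv.Perm α)) →
      (∀ x, x ∉ Δ → g x ∈ orb P x) → ∀ x, x ∉ Δ → ∀ y ∈ orb P x, g⁻¹ y ∈ orb P x :=
    fun g hg hgo x hx y hy => inv_mem_orb hg (hgo x hx) hy
  refine mem_transSub h (fun x hx => ?_) fun x hx v hv y hy => ?_
  · rw [commutatorElement_def, Equiv.Perm.mul_apply, Equiv.Perm.mul_apply, Equiv.Perm.mul_apply]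
    exact hmap a ha hao x hx _ (hmap b hb hbo x hx _ (hinv a ha hao x hx _ (hinv b hb hbo x hx _
      (mem_orb_self x))))
  · obtain ⟨e, he⟩ := hea x hx
    obtain ⟨f, hf⟩ := heb x hx
    have hab : ∀ w ∈ P, ∀ z ∈ orb P x, (a * b * w * (a * b)⁻¹) z = ((w ^ f) ^ e) z := by
      intro w hw z hz
      rw [show a * b * w * (a * b)⁻¹ = a * (b * w * b⁻¹) * a⁻¹ by group, ← he _ (zpow_mem hw f) z hz,
        Equiv.Perm.mul_apply, Equiv.Perm.mul_apply, hf w hw _ (hinv a ha hao x hx z hz)]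
      rfl
    have hba : ∀ w ∈ P, ∀ z ∈ orb P x, (b * a * w * (b * a)⁻¹) z = ((w ^ e) ^ f) z := by
      intro w hw z hz
      rw [show b * a * w * (b * a)⁻¹ = b * (a * w * a⁻¹) * b⁻¹ by group, ← hf _ (zpow_mem hw e) z hz,
        Equiv.Perm.mul_apply, Equiv.Perm.mul_apply, he w hw _ (hinv b hb hbo x hx z hz)]
      rfl
    have hv' : (b * a)⁻¹ * v * (b * a) ∈ P := (mem_normalizer_iff''.1 (mul_mem hb ha) v).1 hv
    have h1 := hab _ hv' y hy
    have h2 := hba _ hv' y hy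
    rw [← zpow_mul, mul_comm f e, zpow_mul, ← h2] at h1
    rw [show ⁅a, b⁆ * v * ⁅a, b⁆⁻¹ = a * b * ((b * a)⁻¹ * v * (b * a)) * (a * b)⁻¹ by
      rw [commutatorElement_def]; group, h1,
      show b * a * ((b * a)⁻¹ * v * (b * a)) * (b * a)⁻¹ = v by group]

theorem main (G : Subgroup (Equiv.Perm α)) {k p r : ℕ} (hp : p.Prime)
    (hn : Fintype.card α = k * p + r) (hk : 1 ≤ k) (hpk : k < p) (hrk : k < r) (hex : ¬ (k = 1 ∧ r = 2))
    (hG : IsMultiplyPretransitive G α (r + 1)) : alternatingGroup α ≤ G := by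
  by_cases hsmall : k * p ≤ 3
  · have h2 : IsMultiplyPretransitive G α (Nat.card α - 2) :=
      isMultiplyPretransitive_of_le (n := r + 1) (by rw [Nat.card_eq_fintype_card]; omega)
        (by rw [Nat.card_eq_fintype_card]; nlinarith [hp.two_le])
    exact IsMultiplyPretransitive.alternatingGroup_le α G h2
  have hp2 : p ≠ 2 := by
    rintro rfl
    omega
  have hr3 : 3 ≤ r := by omega
  have hkp : p ≤ k * p := Nat.le_mul_of_pos_left p hk
  have hn8 : 7 ≤ Fintype.card α := by omega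
  have hG4 : IsMultiplyPretransitive G α 4 :=
    isMultiplyPretransitive_of_le (n := r + 1) (by omega) (by rw [Nat.card_eq_fintype_card]; omega)
  have hG2 : IsMultiplyPretransitive G α 2 :=
    isMultiplyPretransitive_of_le (n := r + 1) (by omega) (by rw [Nat.card_eq_fintype_card]; omega)
  have hprim : IsPreprimitive G α := isPreprimitive_of_is_two_pretransitive hG2
  obtain ⟨Δ, -, hΔ⟩ := Finset.exists_subset_card_eq (s := (Finset.univ : Finset α)) (n := r)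
    (by rw [Finset.card_univ]; omega)
  obtain ⟨P, hPG, h, hsurj⟩ := exists_setting G hp hk hpk (by rw [hΔ]; exact hn) (hΔ.symm ▸ hG)
  -- an element moving a single orbit is a cycle of prime length
  by_cases hno : ∀ v ∈ P, ∀ x, x ∉ Δ → (∀ y, y ∉ orb P x → v y = y) → v = 1
  swap
  · push Not at hno
    obtain ⟨v, hv, x, hx, honly, hv1⟩ := hno
    obtain ⟨hc, hs⟩ := isCycle_of_single h hv hv1 hx honly
    exact Cfsg.Agent.S0713.result G hprim hp (by omega) (by omega) hc hs (hPG hv)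
  have hk2 : k ≠ 1 := by
    rintro rfl
    obtain ⟨x, hx⟩ : ∃ x, x ∉ Δ := by
      obtain ⟨x, -, hx⟩ := Finset.exists_mem_notMem_of_card_lt_card
        (s := Δ) (t := (Finset.univ : Finset α)) (by rw [Finset.card_univ]; omega)
      exact ⟨x, hx⟩
    obtain ⟨v, hv, hvx⟩ := h.moved x hx
    refine hvx ?_
    rw [hno v hv x hx (fun y hy => ?_), Equiv.Perm.one_apply]
    by_contra hvy
    have hyΔ : y ∉ Δ := fun hd => hvy (h.fixd v hv y hd)
    have he : orb P x = (↑Δ : Set α)ᶜ := by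
      refine Set.eq_of_subset_of_ncard_le (fun z hz => notMem_of_mem_orb h hx hz) ?_
      rw [ncard_orb h hx, Set.ncard_compl, Set.ncard_coe_finset, Nat.card_eq_fintype_card]
      omega
    exact hy (by rw [he]; simpa using hyΔ)
  have hn9 : 9 ≤ Fintype.card α := by
    have h1 : 2 * 3 ≤ k * p := Nat.mul_le_mul (by omega) (by have := hp.two_le; omega)
    omega
  by_cases hsharp : r = 3 ∧ p = 3
  · obtain ⟨rfl, rfl⟩ := hsharp
    have hk2' : k = 2 := by omega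
    subst hk2'
    haveI := hG4
    by_contra hA
    rcases Cfsg.Agent.S0415.result G (by omega) (fun x => (eq_bot_iff_forall _).2 fun g hg => by
      by_contra hg1
      obtain ⟨q, hq, hqd⟩ := Nat.exists_prime_and_dvd (n := orderOf g) (by
        rw [Ne, orderOf_eq_one_iff]; exact hg1)
      obtain ⟨m, hm⟩ := hqd
      have hm0 : m ≠ 0 := fun h0 => (orderOf_pos g).ne' (by rw [hm, h0, mul_zero])
      have hgm : ((g : Equiv.Perm α) ^ m) ≠ 1 := by
        rw [← SubgroupClass.coe_pow, Ne, OneMemClass.coe_eq_one, ← orderOf_dvd_iff_pow_eq_one, hm]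
        intro hd
        have h1 := Nat.le_of_dvd (Nat.pos_of_ne_zero hm0) hd
        have h2 := Nat.mul_le_mul_right m hq.two_le
        omega
      refine hA (alternating_of_small_element G hG4 (by omega) hq (pow_mem g.2 m) hgm ?_ ?_)
      · rw [← pow_mul, mul_comm m, ← hm, ← SubgroupClass.coe_pow, pow_orderOf_eq_one, OneMemClass.coe_one]
      · have hsub : ((g : Equiv.Perm α) ^ m).support ⊆ (Finset.univ.map x)ᶜ := by
          intro y hy
          rw [Finset.mem_compl, Finset.mem_map]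
          rintro ⟨i, -, rfl⟩
          refine Equiv.Perm.mem_support.1 hy (Equiv.Perm.pow_apply_eq_self_of_apply_eq_self ?_ m)
          exact DFunLike.congr_fun (mem_stabilizer_iff.1 hg) i
        have h3 := Finset.card_le_card hsub
        rw [Finset.card_compl, Finset.card_map, Finset.card_univ, Fintype.card_fin] at h3
        omega) with e | e | e | e <;> omega
  -- the normaliser and its actions on the fixed points and on the orbits
  obtain ⟨N, hN⟩ : ∃ N, N = G ⊓ normalizer (P : Set (Equiv.Perm α)) := ⟨_, rfl⟩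
  have hNn : ∀ g : N, (g : Equiv.Perm α) ∈ normalizer (P : Set (Equiv.Perm α)) :=
    fun g => ((SetLike.ext_iff.1 hN _).1 g.2).2
  have hNG : ∀ g : N, (g : Equiv.Perm α) ∈ G := fun g => ((SetLike.ext_iff.1 hN _).1 g.2).1
  let π : N →* Equiv.Perm {x // x ∈ Δ} :=
    { toFun := fun g => (g : Equiv.Perm α).subtypePerm (mem_of_normalizer h (hNn g))
      map_one' := Equiv.ext fun _ => rfl
      map_mul' := fun _ _ => Equiv.ext fun _ => rfl }
  let ρ : N →* Equiv.Perm (Orbs P Δ) :=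
    { toFun := fun g => Equiv.Perm.subtypePerm (Equiv.Set.congr (g : Equiv.Perm α))
        (image_mem_orbs h (hNn g))
      map_one' := Equiv.ext fun s => Subtype.ext (Set.image_id _)
      map_mul' := fun a b => Equiv.ext fun s => Subtype.ext
        (Set.image_comp (⇑(a : Equiv.Perm α)) (⇑(b : Equiv.Perm α)) s.1) }
  have hker : ∀ g ∈ ρ.ker, ∀ x, x ∉ Δ → (g : Equiv.Perm α) x ∈ orb P x := by
    intro g hg x hx
    have h1 : (g : Equiv.Perm α) '' orb P x = orb P x :=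
      congrArg Subtype.val (Equiv.congr_fun hg ⟨orb P x, x, hx, rfl⟩)
    rw [← h1]
    exact Set.mem_image_of_mem _ (mem_orb_self x)
  have hπ : Function.Surjective π := by
    intro σ
    obtain ⟨g, hg, hgd⟩ := hsurj σ
    exact ⟨⟨g, (SetLike.ext_iff.1 hN _).2 hg⟩, Equiv.ext fun d => Subtype.ext (hgd d)⟩
  obtain ⟨H, hH⟩ : ∃ H, H = ρ.ker.map π := ⟨_, rfl⟩
  haveI hHn : H.Normal := hH ▸ Subgroup.Normal.map inferInstance π hπ
  have hcardΔ : Fintype.card {x // x ∈ Δ} = r := by rw [Fintype.card_coe, hΔ]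
  have horbs : Nat.card (Orbs P Δ) ≤ k := card_orbs h (by rw [hΔ]; exact hn)
  have hH1 : H ≠ ⊥ := by
    intro hb
    rw [hH, Subgroup.map_eq_bot_iff] at hb
    have h1 := Nat.le_of_dvd (Nat.pos_of_ne_zero (index_ne_zero_of_finite)) (index_dvd_of_le hb)
    have h2 : π.ker.index = r.factorial := by
      rw [index_ker, MonoidHom.range_eq_top.2 hπ, Nat.card_congr Subgroup.topEquiv.toEquiv,
        Nat.card_perm, Nat.card_eq_fintype_card, hcardΔ]
    have h3 : ρ.ker.index ≤ k.factorial := by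
      rw [index_ker]
      refine (Subgroup.card_le_card_group ρ.range).trans ?_
      rw [Nat.card_perm]
      exact Nat.factorial_le horbs
    have h4 := (Nat.factorial_lt (by omega)).2 hrk
    omega
  have hexp : ∀ g ∈ ρ.ker, ∀ x, x ∉ Δ → ∃ e : ℤ, ∀ v ∈ P, ∀ y ∈ orb P x,
      ((g : Equiv.Perm α) * v * (g : Equiv.Perm α)⁻¹) y = (v ^ e) y :=
    fun g hg x hx => exists_exponent h (hNn g) hx (hker g hg x hx)
  by_cases hr5 : 5 ≤ r
  · obtain ⟨A, hA⟩ : ∃ A, A = alternatingGroup {x // x ∈ Δ} := ⟨_, rfl⟩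
    have hcard5 : 5 ≤ Nat.card {x // x ∈ Δ} := by rw [Nat.card_eq_fintype_card, hcardΔ]; exact hr5
    have hAH : A ≤ H :=
      hA ▸ Equiv.Perm.alternatingGroup_le_of_normal hcard5 ((nontrivial_iff_ne_bot H).2 hH1)
    have hAA : A ≤ ⁅⁅H, H⁆, ⁅H, H⁆⁆ := by
      have hperf : ⁅A, A⁆ = A := hA ▸ commutator_alternatingGroup_eq_self hcard5
      have h1 : A ≤ ⁅H, H⁆ := hperf.symm.trans_le (commutator_mono hAH hAH)
      exact hperf.symm.trans_le (commutator_mono h1 h1)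
    obtain ⟨a, b, c, hab, hac, hbc⟩ := Finset.two_lt_card_iff.1
      (show 2 < (Finset.univ : Finset {x // x ∈ Δ}).card by rw [Finset.card_univ, hcardΔ]; omega) |>
      fun ⟨a, b, c, _, _, _, h1, h2, h3⟩ => (⟨a, b, c, h1, h2, h3⟩ : ∃ a b c : {x // x ∈ Δ},
        a ≠ b ∧ a ≠ c ∧ b ≠ c)
    have h3 : (Equiv.swap a b * Equiv.swap a c).IsThreeCycle :=
      Equiv.Perm.isThreeCycle_swap_mul_swap_same hab hac hbc
    have hmem := hAA (hA ▸ h3.mem_alternatingGroup)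
    rw [hH, ← map_commutator, ← map_commutator] at hmem
    obtain ⟨g, hg, hgσ⟩ := hmem
    have hfix : ⁅⁅ρ.ker, ρ.ker⁆, ⁅ρ.ker, ρ.ker⁆⁆ ≤
        (fixingSubgroup (Equiv.Perm α) ((↑Δ : Set α)ᶜ)).comap N.subtype := by
      have hT : ⁅ρ.ker, ρ.ker⁆ ≤ (transSub h).comap N.subtype :=
        commutator_le.2 fun a ha b hb => by
          rw [mem_comap, map_commutatorElement]
          exact commutator_mem_transSub h (hNn a) (hNn b) (hexp a ha) (hexp b hb) (hker a ha) (hker b hb)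
      refine commutator_le.2 fun a ha b hb => ?_
      rw [mem_comap, map_commutatorElement, mem_fixingSubgroup_iff]
      exact fun x hx => transSub_commutator_fix h (hT ha) (hT hb) hx
    have hgout : ∀ x, (g : Equiv.Perm α) x ≠ x → x ∈ Δ := fun x hx => by_contra fun hxΔ =>
      hx ((mem_fixingSubgroup_iff _).1 (hfix hg) x hxΔ)
    have hg3 : (g : Equiv.Perm α).IsThreeCycle := by
      have h4 := Equiv.Perm.ofSubtype_subtypePerm (mem_of_normalizer h (hNn g)) hgout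
      rw [← h4]
      change (Equiv.Perm.ofSubtype (π g)).IsThreeCycle
      rw [hgσ, Equiv.Perm.IsThreeCycle, Equiv.Perm.cycleType_ofSubtype]
      exact h3.cycleType
    exact Equiv.Perm.alternatingGroup_le_of_isPreprimitive_of_isThreeCycle_mem hprim hg3 (hNG g)
  -- three or four fixed points
  have hthree : ∀ x y z w, x ∉ Δ → y ∉ Δ → z ∉ Δ → w ∉ Δ → y ∉ orb P x → z ∉ orb P x → z ∉ orb P y →
      w ∈ orb P x ∨ w ∈ orb P y ∨ w ∈ orb P z := by
    intro x y z w hx hy hz hw hyx hzx hzy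
    by_contra hc
    simp only [not_or] at hc
    have hne : ∀ {u v : α}, v ∉ orb P u → orb P u ≠ orb P v := fun {u v} hv e => hv (e ▸ mem_orb_self v)
    have hinj : Function.Injective (![⟨orb P x, x, hx, rfl⟩, ⟨orb P y, y, hy, rfl⟩,
        ⟨orb P z, z, hz, rfl⟩, ⟨orb P w, w, hw, rfl⟩] : Fin 4 → Orbs P Δ) := by
      intro i j hij
      fin_cases i <;> fin_cases j <;>
        first
          | rfl
          | simp [Subtype.ext_iff, hne hyx, (hne hyx).symm, hne hzx, (hne hzx).symm, hne hzy, (hne hzy).symm,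
              hne hc.1, (hne hc.1).symm, hne hc.2.1, (hne hc.2.1).symm, hne hc.2.2, (hne hc.2.2).symm] at hij
    have h1 := Nat.card_le_card_of_injective _ hinj
    rw [Nat.card_fin] at h1
    omega
  obtain ⟨q, hqp, hqcop, hq⟩ : ∃ q, q.Prime ∧ ¬ q ∣ p ∧ ∀ σ : Equiv.Perm {x // x ∈ Δ}, σ ≠ 1 →
      ∃ τ, ⁅τ, σ⁆ ≠ 1 ∧ ⁅τ, σ⁆ ^ q = 1 := by
    rcases (show r = 3 ∨ r = 4 by omega) with e | e
    · refine ⟨3, Nat.prime_three, fun hd => hsharp ⟨e, ((Nat.prime_dvd_prime_iff_eq Nat.prime_three hp).1 hd).symm⟩,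
        comm_transport comm_three_fin (Fintype.equivFinOfCardEq (hcardΔ.trans e))⟩
    · refine ⟨2, Nat.prime_two, fun hd => hp2 ((Nat.prime_dvd_prime_iff_eq Nat.prime_two hp).1 hd).symm,
        comm_transport comm_four_fin (Fintype.equivFinOfCardEq (hcardΔ.trans e))⟩
  obtain ⟨σ, hσH, hσ1⟩ := (ne_bot_iff_exists_ne_one.1 hH1) |>
    fun ⟨⟨σ, hσ⟩, h1⟩ => (⟨σ, hσ, fun e => h1 (Subtype.ext e)⟩ : ∃ σ, σ ∈ H ∧ σ ≠ 1)
  obtain ⟨τ, hu1, huq⟩ := hq σ hσ1
  rw [hH] at hσH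
  obtain ⟨g, hg, hgσ⟩ := hσH
  obtain ⟨y, hy⟩ := hπ τ
  obtain ⟨c, hc⟩ : ∃ c, c = ⁅y, g⁆ := ⟨_, rfl⟩
  have hcK : c ∈ ρ.ker := hc ▸ commutator_le_right ⊤ ρ.ker (commutator_mem_commutator (mem_top y) hg)
  have hcent : ∀ v ∈ P, (c : Equiv.Perm α) * v * (c : Equiv.Perm α)⁻¹ = v := by
    intro v hv
    obtain ⟨e, he⟩ := exists_scalar h hno hthree (hNn g) (hker g hg)
    obtain ⟨f, hf⟩ := exists_scalar h hno hthree (hNn g⁻¹) (hker g⁻¹ (inv_mem hg))
    rw [Subgroup.coe_inv] at hf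
    obtain ⟨Y, hY⟩ : ∃ Y : Equiv.Perm α, Y = y := ⟨_, rfl⟩
    obtain ⟨X, hX⟩ : ∃ X : Equiv.Perm α, X = g := ⟨_, rfl⟩
    rw [← hX] at he hf
    have hv' : Y⁻¹ * v ^ f * Y ∈ P := hY ▸ (mem_normalizer_iff''.1 (hNn y) _).1 (zpow_mem hv f)
    have h1 : X⁻¹ * v * X = v ^ f := by rw [← hf v hv, inv_inv]
    have h2 : (v ^ f) ^ e = v := by rw [← he _ (zpow_mem hv f), ← h1]; group
    have h3 : (Y⁻¹ * v ^ f * Y) ^ e = Y⁻¹ * v * Y := by
      have := conj_zpow (i := e) (a := Y⁻¹) (b := v ^ f)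
      rw [inv_inv, h2] at this
      exact this
    rw [hc, commutatorElement_def]
    simp only [Subgroup.coe_mul, Subgroup.coe_inv, ← hY, ← hX]
    calc Y * X * Y⁻¹ * X⁻¹ * v * (Y * X * Y⁻¹ * X⁻¹)⁻¹
        = Y * (X * (Y⁻¹ * (X⁻¹ * v * X) * Y) * X⁻¹) * Y⁻¹ := by group
      _ = Y * (Y⁻¹ * v * Y) * Y⁻¹ := by rw [h1, he _ hv', h3]
      _ = v := by group
  have hcT : (c : Equiv.Perm α) ∈ transSub h :=
    mem_transSub h (hker c hcK) fun x _ v hv z _ => by rw [hcent v hv]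
  have hπc : π (c ^ p) = ⁅τ, σ⁆ ^ p := by
    rw [map_pow, hc, map_commutatorElement, hy, hgσ]
  obtain ⟨d, hd⟩ : ∃ d : Equiv.Perm α, d = (c : Equiv.Perm α) ^ p := ⟨_, rfl⟩
  have hdout : ∀ x, x ∉ Δ → d x = x := fun x hx => hd ▸ pow_apply_orb h hcT hx
  have hdq : d ^ q = 1 := by
    refine Equiv.ext fun x => ?_
    by_cases hx : x ∈ Δ
    · have h1 : π ((c ^ p) ^ q) = 1 := by
        rw [map_pow, hπc, ← pow_mul, mul_comm, pow_mul, huq, one_pow]
      have h2 := congrArg Subtype.val (Equiv.congr_fun h1 ⟨x, hx⟩)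
      rw [hd]
      simpa [π] using h2
    · exact Equiv.Perm.pow_apply_eq_self_of_apply_eq_self (hdout x hx) q
  have hd1 : d ≠ 1 := by
    intro e
    have h1 : ⁅τ, σ⁆ ^ p = 1 := by
      rw [← hπc]
      refine Equiv.ext fun x => Subtype.ext ?_
      have h2 := Equiv.congr_fun e x.1
      rw [hd] at h2
      simpa [π] using h2
    have h2 := Nat.dvd_gcd (orderOf_dvd_of_pow_eq_one h1) (orderOf_dvd_of_pow_eq_one huq)
    rw [Nat.Coprime.gcd_eq_one ((hqp.coprime_iff_not_dvd.2 hqcop).symm), Nat.dvd_one,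
      orderOf_eq_one_iff] at h2
    exact hu1 h2
  refine alternating_of_small_element G hG4 (by omega) hqp (hd ▸ pow_mem (hNG c) p) hd1 hdq ?_
  have hsub : d.support ⊆ Δ := fun x hx => by_contra fun hxΔ =>
    Equiv.Perm.mem_support.1 hx (hdout x hxΔ)
  have := Finset.card_le_card hsub
  omega

end CfsgLib.Perm.Miller
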