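import Cfsg.Agent.Lib.Perm.DerivedLength

/-!
Setup for Miller's theorem: a Sylow `p`-subgroup of the stabiliser of `r` points with `k < p` orbits of
length `p`, and its normaliser.
-/

set_option autoImplicit false

namespace CfsgLib.Perm.Miller

open Subgroup MulAction
open scoped commutatorElement

universe u

variable {α : Type u} [Fintype α] [DecidableEq α]

/-- An abelian group of exponent `p` fixing exactly the points of `Δ`, with orbits of length `p`. -/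
structure Setting (P : Subgroup (Equiv.Perm α)) (Δ : Finset α) (p : ℕ) : Prop where
  prime : p.Prime
  comm : ∀ v ∈ P, ∀ w ∈ P, Commute v w
  expp : ∀ v ∈ P, v ^ p = 1
  fixd : ∀ v ∈ P, ∀ d ∈ Δ, v d = d
  moved : ∀ x, x ∉ Δ → ∃ v ∈ P, v x ≠ x
  index_stab : ∀ x, x ∉ Δ → (stabilizer P x).index = p

/-- The orbit of `x`. -/
def orb (P : Subgroup (Equiv.Perm α)) (x : α) : Set α := {y | ∃ v ∈ P, v x = y}

variable {P : Subgroup (Equiv.Perm α)} {Δ : Finset α} {p : ℕ}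

omit [Fintype α] [DecidableEq α] in
theorem mem_orb_self (x : α) : x ∈ orb P x := ⟨1, P.one_mem, rfl⟩

omit [Fintype α] [DecidableEq α] in
theorem orb_eq_of_mem {x y : α} (h : y ∈ orb P x) : orb P y = orb P x := by
  obtain ⟨v, hv, rfl⟩ := h
  ext z
  constructor
  · rintro ⟨w, hw, rfl⟩
    exact ⟨w * v, mul_mem hw hv, rfl⟩
  · rintro ⟨w, hw, rfl⟩
    exact ⟨w * v⁻¹, mul_mem hw (inv_mem hv), by rw [Equiv.Perm.mul_apply, ← Equiv.Perm.mul_apply v⁻¹, inv_mul_cancel, Equiv.Perm.one_apply]⟩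

omit [Fintype α] [DecidableEq α] in
theorem Setting.apply_pow (h : Setting P Δ p) {v : Equiv.Perm α} (hv : v ∈ P) (j : ℤ) :
    v ^ j = 1 ∨ ¬ (p : ℤ) ∣ j := by
  by_cases hd : (p : ℤ) ∣ j
  · left
    obtain ⟨c, rfl⟩ := hd
    rw [zpow_mul, zpow_natCast, h.expp v hv, one_zpow]
  · exact Or.inr hd

omit [Fintype α] [DecidableEq α] in
theorem fix_orb {v : Equiv.Perm α} (h : Setting P Δ p) (hv : v ∈ P) {x y : α} (hvx : v x = x)
    (hy : y ∈ orb P x) : v y = y := by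
  obtain ⟨w, hw, rfl⟩ := hy
  rw [← Equiv.Perm.mul_apply, (h.comm v hv w hw).eq, Equiv.Perm.mul_apply, hvx]

omit [DecidableEq α] in
/-- On an orbit every element of `P` is a power of any element moving it. -/
theorem pow_on (h : Setting P Δ p) {x : α} (hx : x ∉ Δ) {v₀ : Equiv.Perm α} (hv₀ : v₀ ∈ P)
    (hmv : v₀ x ≠ x) {w : Equiv.Perm α} (hw : w ∈ P) :
    ∃ j : ℤ, ∀ y ∈ orb P x, w y = (v₀ ^ j) y := by
  haveI : IsMulCommutative P := ⟨⟨fun a b => Subtype.ext (h.comm a a.2 b b.2).eq⟩⟩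
  obtain ⟨S, hS⟩ : ∃ S : Subgroup P, S = stabilizer P x := ⟨_, rfl⟩
  have hidx : S.index = p := hS ▸ h.index_stab x hx
  have htop : S ⊔ zpowers (⟨v₀, hv₀⟩ : P) = ⊤ := by
    have hd := index_dvd_of_le (show S ≤ S ⊔ zpowers (⟨v₀, hv₀⟩ : P) from le_sup_left)
    rw [hidx, Nat.dvd_prime h.prime] at hd
    rcases hd with e | e
    · exact index_eq_one.1 e
    · exfalso
      have heq : S = S ⊔ zpowers (⟨v₀, hv₀⟩ : P) := by
        refine eq_of_le_of_card_ge le_sup_left ?_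
        refine Nat.le_of_mul_le_mul_right ?_ h.prime.pos
        conv_lhs => rw [← e, card_mul_index]
        rw [← hidx, card_mul_index]
      have : (⟨v₀, hv₀⟩ : P) ∈ S := heq ▸ mem_sup_right (mem_zpowers _)
      rw [hS] at this
      exact hmv this
  have hSn : S.Normal := inferInstance
  obtain ⟨s, hs, z, hz, hsz⟩ := mem_sup_of_normal_left.1 (htop ▸ mem_top (⟨w, hw⟩ : P))
  obtain ⟨j, rfl⟩ := mem_zpowers_iff.1 hz
  refine ⟨j, fun y hy => ?_⟩
  have e : w = (s : Equiv.Perm α) * v₀ ^ j := by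
    have := congrArg Subtype.val hsz.symm
    simpa using this
  have hy' : (v₀ ^ j) y ∈ orb P x := by
    obtain ⟨v, hv, rfl⟩ := hy
    exact ⟨v₀ ^ j * v, mul_mem (zpow_mem hv₀ j) hv, rfl⟩
  rw [e, Equiv.Perm.mul_apply, fix_orb h s.2 (hS ▸ hs :) hy']

omit [DecidableEq α] in
theorem ncard_orb (h : Setting P Δ p) {x : α} (hx : x ∉ Δ) : (orb P x).ncard = p := by
  have e : orb P x = MulAction.orbit P x := by
    ext y
    constructor
    · rintro ⟨v, hv, rfl⟩; exact ⟨⟨v, hv⟩, rfl⟩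
    · rintro ⟨v, rfl⟩; exact ⟨v, v.2, rfl⟩
  rw [e, ← index_stabilizer, h.index_stab x hx]

omit [Fintype α] [DecidableEq α] in
theorem notMem_of_mem_orb (h : Setting P Δ p) {x y : α} (hx : x ∉ Δ) (hy : y ∈ orb P x) : y ∉ Δ := by
  intro hd
  obtain ⟨v, hv, rfl⟩ := hy
  have h1 := h.fixd v⁻¹ (inv_mem hv) _ hd
  rw [← Equiv.Perm.mul_apply, inv_mul_cancel, Equiv.Perm.one_apply] at h1
  exact hx (h1 ▸ hd)

omit [DecidableEq α] in
/-- A nontrivial element of `P` moving a single orbit is a `p`-cycle. -/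
theorem isCycle_of_single (h : Setting P Δ p) [DecidableEq α] {v : Equiv.Perm α} (hv : v ∈ P) (hv1 : v ≠ 1)
    {x : α} (hx : x ∉ Δ) (honly : ∀ y, y ∉ orb P x → v y = y) : v.IsCycle ∧ v.support.card = p := by
  have hvx : v x ≠ x := fun e => hv1 (Equiv.ext fun y => by
    by_cases hy : y ∈ orb P x
    · rw [fix_orb h hv e hy, Equiv.Perm.one_apply]
    · rw [honly y hy, Equiv.Perm.one_apply])
  have hmov : ∀ y ∈ orb P x, v y ≠ y := fun y hy e => hvx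
    (fix_orb h hv e (orb_eq_of_mem hy ▸ mem_orb_self x))
  refine ⟨⟨x, hvx, fun y hy => ?_⟩, ?_⟩
  · have hyo : y ∈ orb P x := by_contra fun e => hy (honly y e)
    obtain ⟨w, hw, rfl⟩ := hyo
    obtain ⟨j, hj⟩ := pow_on h hx hv hvx hw
    exact ⟨j, (hj x (mem_orb_self x)).symm⟩
  · rw [← ncard_orb h hx, ← Set.ncard_coe_finset]
    congr 1
    ext y
    simp only [Finset.mem_coe, Equiv.Perm.mem_support]
    exact ⟨fun hy => by_contra fun e => hy (honly y e), hmov y⟩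

omit [Fintype α] [DecidableEq α] in
theorem conj_mem_orb {g : Equiv.Perm α} (hg : g ∈ normalizer (P : Set (Equiv.Perm α))) {x y : α}
    (hy : y ∈ orb P x) : g y ∈ orb P (g x) := by
  obtain ⟨v, hv, rfl⟩ := hy
  refine ⟨g * v * g⁻¹, (mem_normalizer_iff.1 hg v).1 hv, ?_⟩
  simp [Equiv.Perm.mul_apply]

omit [Fintype α] [DecidableEq α] in
theorem inv_mem_orb {g : Equiv.Perm α} (hg : g ∈ normalizer (P : Set (Equiv.Perm α))) {x y : α}
    (hgx : g x ∈ orb P x) (hy : y ∈ orb P x) : g⁻¹ y ∈ orb P x := by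
  have h1 := conj_mem_orb (inv_mem hg) (orb_eq_of_mem hgx ▸ hy : y ∈ orb P (g x))
  rwa [← Equiv.Perm.mul_apply, inv_mul_cancel, Equiv.Perm.one_apply] at h1

omit [DecidableEq α] in
/-- An element fixing an orbit acts on `P` there as a power map. -/
theorem exists_exponent (h : Setting P Δ p) {g : Equiv.Perm α}
    (hg : g ∈ normalizer (P : Set (Equiv.Perm α))) {x : α} (hx : x ∉ Δ) (hgx : g x ∈ orb P x) :
    ∃ e : ℤ, ∀ v ∈ P, ∀ y ∈ orb P x, (g * v * g⁻¹) y = (v ^ e) y := by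
  obtain ⟨v₀, hv₀, hmv⟩ := h.moved x hx
  have hc : g * v₀ * g⁻¹ ∈ P := (mem_normalizer_iff.1 hg v₀).1 hv₀
  obtain ⟨e, he⟩ := pow_on h hx hv₀ hmv hc
  have hpow : ∀ (a b : Equiv.Perm α), a ∈ P → b ∈ P → (∀ y ∈ orb P x, a y = b y) →
      ∀ (j : ℤ), ∀ y ∈ orb P x, (a ^ j) y = (b ^ j) y := by
    intro a b ha hb hab j y hy
    have h1 : (a * b⁻¹) x = x := by
      rw [Equiv.Perm.mul_apply, hab _ ⟨b⁻¹, inv_mem hb, rfl⟩, ← Equiv.Perm.mul_apply, mul_inv_cancel,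
        Equiv.Perm.one_apply]
    have h1' : ((a * b⁻¹) ^ j) x = x := Equiv.Perm.zpow_apply_eq_self_of_apply_eq_self h1 j
    have hy' : (b ^ j) y ∈ orb P x := by
      obtain ⟨v, hv, rfl⟩ := hy; exact ⟨b ^ j * v, mul_mem (zpow_mem hb j) hv, rfl⟩
    have h2 := fix_orb h (zpow_mem (mul_mem ha (inv_mem hb)) j) h1' hy'
    rwa [(h.comm a ha b hb).inv_right.mul_zpow, inv_zpow', Equiv.Perm.mul_apply, ← Equiv.Perm.mul_apply (b ^ (-j)), ← zpow_add,
      neg_add_cancel, zpow_zero, Equiv.Perm.one_apply] at h2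
  refine ⟨e, fun v hv y hy => ?_⟩
  obtain ⟨j, hj⟩ := pow_on h hx hv₀ hmv hv
  calc (g * v * g⁻¹) y = g (v (g⁻¹ y)) := rfl
    _ = g ((v₀ ^ j) (g⁻¹ y)) := by rw [hj _ (inv_mem_orb hg hgx hy)]
    _ = ((g * v₀ * g⁻¹) ^ j) y := by rw [conj_zpow]; rfl
    _ = ((v₀ ^ e) ^ j) y := hpow _ _ hc (zpow_mem hv₀ e) he j y hy
    _ = ((v₀ ^ j) ^ e) y := by rw [← zpow_mul, mul_comm, zpow_mul]
    _ = (v ^ e) y := (hpow v (v₀ ^ j) hv (zpow_mem hv₀ j) hj e y hy).symm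

/-- Translations on every orbit. -/
def transSub (h : Setting P Δ p) : Subgroup (Equiv.Perm α) where
  carrier := {c | ∀ x, x ∉ Δ → ∃ t ∈ P, ∀ y ∈ orb P x, c y = t y}
  one_mem' := fun x _ => ⟨1, P.one_mem, fun y _ => rfl⟩
  mul_mem' := by
    intro a b ha hb x hx
    obtain ⟨t, ht, hat⟩ := ha x hx
    obtain ⟨t', ht', hbt⟩ := hb x hx
    refine ⟨t * t', mul_mem ht ht', fun y hy => ?_⟩
    have hy' : t' y ∈ orb P x := by
      obtain ⟨v, hv, rfl⟩ := hy; exact ⟨t' * v, mul_mem ht' hv, rfl⟩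
    rw [Equiv.Perm.mul_apply, hbt y hy, hat _ hy', Equiv.Perm.mul_apply]
  inv_mem' := by
    intro a ha x hx
    obtain ⟨t, ht, hat⟩ := ha x hx
    refine ⟨t⁻¹, inv_mem ht, fun y hy => ?_⟩
    have hy' : t⁻¹ y ∈ orb P x := by
      obtain ⟨v, hv, rfl⟩ := hy; exact ⟨t⁻¹ * v, mul_mem (inv_mem ht) hv, rfl⟩
    have h1 := hat _ hy'
    rw [← Equiv.Perm.mul_apply t, mul_inv_cancel, Equiv.Perm.one_apply] at h1
    exact (congrArg (⇑a⁻¹) h1.symm).trans (by rw [← Equiv.Perm.mul_apply, inv_mul_cancel, Equiv.Perm.one_apply])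

omit [Fintype α] [DecidableEq α] in
/-- An element centralising `P` on each orbit it fixes is a translation. -/
theorem mem_transSub (h : Setting P Δ p) {c : Equiv.Perm α} (horb : ∀ x, x ∉ Δ → c x ∈ orb P x)
    (hc : ∀ x, x ∉ Δ → ∀ v ∈ P, ∀ y ∈ orb P x, (c * v * c⁻¹) y = v y) : c ∈ transSub h := by
  intro x hx
  obtain ⟨t, ht, hcx⟩ := horb x hx
  refine ⟨t, ht, ?_⟩
  rintro _ ⟨v, hv, rfl⟩
  have h1 := hc x hx v hv (c x) ⟨t, ht, hcx⟩
  rw [Equiv.Perm.mul_apply, Equiv.Perm.mul_apply, ← Equiv.Perm.mul_apply c⁻¹, inv_mul_cancel,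
    Equiv.Perm.one_apply] at h1
  rw [h1, ← hcx, ← Equiv.Perm.mul_apply, ← Equiv.Perm.mul_apply, (h.comm v hv t ht).eq]

omit [Fintype α] [DecidableEq α] in
theorem transSub_commutator_fix (h : Setting P Δ p) {a b : Equiv.Perm α} (ha : a ∈ transSub h)
    (hb : b ∈ transSub h) {x : α} (hx : x ∉ Δ) : ⁅a, b⁆ x = x := by
  obtain ⟨t, ht, hat⟩ := ha x hx
  obtain ⟨t', ht', hbt⟩ := hb x hx
  have hab : a (b x) = b (a x) := by
    rw [hbt x (mem_orb_self x), hat _ ⟨t', ht', rfl⟩, hat x (mem_orb_self x), hbt _ ⟨t, ht, rfl⟩,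
      ← Equiv.Perm.mul_apply, ← Equiv.Perm.mul_apply, (h.comm t ht t' ht').eq]
  have hinv : ∀ u : Equiv.Perm α, u ∈ transSub h → ∀ y ∈ orb P x, u y ∈ orb P x := by
    intro u hu y hy
    obtain ⟨w, hw, huw⟩ := hu x hx
    rw [huw y hy]
    obtain ⟨v, hv, rfl⟩ := hy
    exact ⟨w * v, mul_mem hw hv, rfl⟩
  obtain ⟨z, hzx, hzo⟩ : ∃ z, b (a z) = x ∧ z ∈ orb P x :=
    ⟨a⁻¹ (b⁻¹ x), by
      rw [← Equiv.Perm.mul_apply a, mul_inv_cancel, Equiv.Perm.one_apply, ← Equiv.Perm.mul_apply b,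
        mul_inv_cancel, Equiv.Perm.one_apply],
      hinv _ (inv_mem ha) _ (hinv _ (inv_mem hb) _ (mem_orb_self x))⟩
  have hz' : a (b z) = b (a z) := by
    rw [hbt z hzo, hat _ (hinv b hb z hzo |> (hbt z hzo ▸ ·)), hat z hzo,
      hbt _ (hinv a ha z hzo |> (hat z hzo ▸ ·)), ← Equiv.Perm.mul_apply, ← Equiv.Perm.mul_apply,
      (h.comm t ht t' ht').eq]
  have e : a⁻¹ (b⁻¹ x) = z := by
    rw [← hzx, ← Equiv.Perm.mul_apply b⁻¹, inv_mul_cancel, Equiv.Perm.one_apply, ← Equiv.Perm.mul_apply a⁻¹,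
      inv_mul_cancel, Equiv.Perm.one_apply]
  rw [commutatorElement_def, Equiv.Perm.mul_apply, Equiv.Perm.mul_apply, Equiv.Perm.mul_apply, e, hz', hzx]

end CfsgLib.Perm.Miller
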