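import Cfsg.Agent.Lib.Perm.MillerSmall

/-!
The Sylow `p`-subgroup of the stabiliser of `r` points in an `(r+1)`-transitive group of degree `kp + r`,
and its normaliser, which induces the symmetric group on the fixed points.
-/

set_option autoImplicit false

namespace CfsgLib.Perm.Miller

open Subgroup MulAction

universe u

variable {α : Type u} [Fintype α] [DecidableEq α]

/-- The pointwise stabiliser of `Δ` in `G`. -/
def pstab (G : Subgroup (Equiv.Perm α)) (Δ : Finset α) : Subgroup (Equiv.Perm α) :=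
  G ⊓ fixingSubgroup (Equiv.Perm α) (Δ : Set α)

omit [Fintype α] [DecidableEq α] in
theorem mem_pstab {G : Subgroup (Equiv.Perm α)} {Δ : Finset α} {g : Equiv.Perm α} :
    g ∈ pstab G Δ ↔ g ∈ G ∧ ∀ d ∈ Δ, g d = d := by
  simp [pstab, mem_fixingSubgroup_iff]

omit [DecidableEq α] in
theorem exists_setting [DecidableEq α] (G : Subgroup (Equiv.Perm α)) {Δ : Finset α} {k p : ℕ}
    (hp : p.Prime) (hk : 1 ≤ k) (hpk : k < p) (hn : Fintype.card α = k * p + Δ.card)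
    (hG : IsMultiplyPretransitive G α (Δ.card + 1)) :
    ∃ P : Subgroup (Equiv.Perm α), P ≤ G ∧ Setting P Δ p ∧
      ∀ σ : Equiv.Perm {x // x ∈ Δ}, ∃ g ∈ G ⊓ normalizer (P : Set (Equiv.Perm α)),
        ∀ d : {x // x ∈ Δ}, g d = σ d := by
  haveI : Fact p.Prime := ⟨hp⟩
  obtain ⟨G₁, hG₁⟩ : ∃ G₁, G₁ = pstab G Δ := ⟨_, rfl⟩
  have hkp : 0 < k * p := Nat.mul_pos hk hp.pos
  have htrans : ∀ x y, x ∉ Δ → y ∉ Δ → ∃ g ∈ G₁, g x = y := by
    intro x y hx hy
    obtain ⟨g, hg, hmap⟩ := exists_map G hG (by omega) (ι := Option {d // d ∈ Δ})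
      (by simp [Fintype.card_coe])
      (Function.Embedding.optionElim ⟨Subtype.val, Subtype.val_injective⟩ x (by simpa using hx))
      (Function.Embedding.optionElim ⟨Subtype.val, Subtype.val_injective⟩ y (by simpa using hy))
    exact ⟨g, hG₁ ▸ mem_pstab.2 ⟨hg, fun d hd => hmap (some ⟨d, hd⟩)⟩, hmap none⟩
  obtain ⟨P₀⟩ : Nonempty (Sylow p G₁) := inferInstance
  obtain ⟨P, hP⟩ : ∃ P : Subgroup (Equiv.Perm α), P = (P₀ : Subgroup G₁).map G₁.subtype := ⟨_, rfl⟩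
  have hPG₁ : P ≤ G₁ := hP ▸ map_subtype_le _
  have hfix : ∀ v ∈ P, ∀ d ∈ Δ, v d = d := fun v hv => (mem_pstab.1 (hG₁ ▸ hPG₁ hv)).2
  have hcard : Nat.card P = Nat.card (P₀ : Subgroup G₁) := by
    rw [hP]; exact (Nat.card_congr ((P₀ : Subgroup G₁).equivMapOfInjective _ G₁.subtype_injective).toEquiv).symm
  obtain ⟨a, ha⟩ : ∃ a, Nat.card P = p ^ a := ⟨_, hcard.trans P₀.card_eq_multiplicity⟩
  have hstab : ∀ x, x ∉ Δ → (stabilizer P x).index = p := by
    intro x hx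
    obtain ⟨j, -, hj⟩ := (Nat.dvd_prime_pow hp).1 (ha ▸ index_dvd_card (stabilizer P x))
    have hsub : orbit P x ⊆ (↑Δ : Set α)ᶜ := by
      rintro _ ⟨⟨v, hv⟩, rfl⟩ hd
      refine hx ?_
      have h1 : v⁻¹ (v x) = v x := hfix v⁻¹ (inv_mem hv) _ hd
      rw [← Equiv.Perm.mul_apply, inv_mul_cancel, Equiv.Perm.one_apply] at h1
      exact h1 ▸ hd
    have hnc : ((↑Δ : Set α)ᶜ).ncard = k * p := by
      rw [Set.ncard_compl, Set.ncard_coe_finset, Nat.card_eq_fintype_card]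
      omega
    have hle : p ^ j ≤ k * p := by
      rw [← hj, index_stabilizer, ← hnc]
      exact Set.ncard_le_ncard hsub
    have hj0 : j ≠ 0 := by
      rintro rfl
      rw [pow_zero, index_eq_one] at hj
      have hle0 : (P₀ : Subgroup G₁) ≤ stabilizer G₁ x := by
        intro v hv
        have hvP : (v : Equiv.Perm α) ∈ P := hP ▸ ⟨v, hv, rfl⟩
        have h1 : (⟨(v : Equiv.Perm α), hvP⟩ : P) ∈ stabilizer P x := hj ▸ mem_top _
        exact h1
      have hidx : (stabilizer G₁ x).index = k * p := by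
        rw [index_stabilizer, ← hnc]
        congr 1
        ext y
        constructor
        · rintro ⟨⟨v, hv⟩, rfl⟩ hd
          refine hx ?_
          have h1 : v⁻¹ (v x) = v x := (mem_pstab.1 (hG₁ ▸ inv_mem hv)).2 _ hd
          rw [← Equiv.Perm.mul_apply, inv_mul_cancel, Equiv.Perm.one_apply] at h1
          exact h1 ▸ hd
        · intro hy
          obtain ⟨g, hg, rfl⟩ := htrans x y hx hy
          exact ⟨⟨g, hg⟩, rfl⟩
      exact P₀.not_dvd_index ((dvd_mul_left p k).trans (hidx ▸ index_dvd_of_le hle0))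
    have hj2 : j < 2 := by
      by_contra hc
      have h1 : p * p ≤ p ^ j := by rw [← sq]; exact Nat.pow_le_pow_right hp.pos (by omega)
      have h2 : k * p < p * p := Nat.mul_lt_mul_of_pos_right hpk hp.pos
      omega
    rw [hj, show j = 1 by omega, pow_one]
  have hnorm : ∀ x, x ∉ Δ → (stabilizer P x).Normal := by
    intro x hx
    refine normal_of_index_eq_minFac_card ?_
    rw [hstab x hx, ha]
    have ha0 : a ≠ 0 := by
      rintro rfl
      have h1 := hstab x hx ▸ index_dvd_card (stabilizer P x)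
      rw [ha, pow_zero, Nat.dvd_one] at h1
      exact hp.one_lt.ne' h1
    rw [hp.pow_minFac ha0]
  have hfixall : ∀ (v : P), (∀ x, x ∉ Δ → v ∈ stabilizer P x) → (v : Equiv.Perm α) = 1 := by
    intro v hv
    refine Equiv.ext fun x => ?_
    by_cases hx : x ∈ Δ
    · exact hfix v v.2 x hx
    · exact hv x hx
  have hsetting : Setting P Δ p := by
    refine ⟨hp, fun v hv w hw => ?_, fun v hv => ?_, hfix, fun x hx => ?_, hstab⟩
    · have h1 : (((⟨w, hw⟩ * ⟨v, hv⟩ : P)⁻¹ * (⟨v, hv⟩ * ⟨w, hw⟩) : P) : Equiv.Perm α) = 1 := by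
        refine hfixall _ fun x hx => ?_
        haveI := hnorm x hx
        haveI : IsCyclic (P ⧸ stabilizer P x) := isCyclic_of_prime_card (p := p) (hstab x hx)
        letI : CommGroup (P ⧸ stabilizer P x) := IsCyclic.commGroup
        rw [← QuotientGroup.eq, QuotientGroup.mk_mul, QuotientGroup.mk_mul, mul_comm]
      simp only [Subgroup.coe_mul, Subgroup.coe_inv] at h1
      exact (inv_mul_eq_one.1 h1).symm
    · have h1 := hfixall ((⟨v, hv⟩ : P) ^ p) fun x hx => by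
        haveI := hnorm x hx
        have := pow_index_mem (stabilizer P x) (⟨v, hv⟩ : P)
        rwa [hstab x hx] at this
      simpa using h1
    · by_contra hc
      push Not at hc
      have htop : stabilizer P x = ⊤ := eq_top_iff.2 fun v _ => hc v v.2
      have := hstab x hx
      rw [htop, index_top] at this
      exact hp.one_lt.ne this
  refine ⟨P, hPG₁.trans (hG₁ ▸ inf_le_left), hsetting, fun σ => ?_⟩
  obtain ⟨g₀, hg₀, hmap⟩ := exists_map G hG (by omega) (ι := {d // d ∈ Δ}) (by simp [Fintype.card_coe])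
    ⟨Subtype.val, Subtype.val_injective⟩ ⟨fun d => σ d, Subtype.val_injective.comp σ.injective⟩
  simp only [Function.Embedding.coeFn_mk] at hmap
  have hg₀Δ : ∀ d ∈ Δ, g₀⁻¹ d ∈ Δ := by
    intro d hd
    have h1 := hmap (σ.symm ⟨d, hd⟩)
    rw [Equiv.apply_symm_apply] at h1
    rw [show g₀⁻¹ d = ((σ.symm ⟨d, hd⟩ : {d // d ∈ Δ}) : α) by
      conv_lhs => rw [show d = g₀ ((σ.symm ⟨d, hd⟩ : {d // d ∈ Δ}) : α) from h1.symm]
      rw [← Equiv.Perm.mul_apply, inv_mul_cancel, Equiv.Perm.one_apply]]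
    exact (σ.symm ⟨d, hd⟩).2
  have hconj : ∀ v ∈ P, g₀ * v * g₀⁻¹ ∈ G₁ := by
    intro v hv
    have hvG : v ∈ G := (mem_pstab.1 (hG₁ ▸ hPG₁ hv)).1
    refine hG₁ ▸ mem_pstab.2 ⟨mul_mem (mul_mem hg₀ hvG) (inv_mem hg₀), fun d hd => ?_⟩
    rw [Equiv.Perm.mul_apply, Equiv.Perm.mul_apply, hfix v hv _ (hg₀Δ d hd), ← Equiv.Perm.mul_apply,
      mul_inv_cancel, Equiv.Perm.one_apply]
  obtain ⟨Q₀, hQ₀⟩ : ∃ Q₀ : Subgroup G₁,
      Q₀ = (P.map (MulAut.conj g₀).toMonoidHom).comap G₁.subtype := ⟨_, rfl⟩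
  have hQp : IsPGroup p Q₀ := by
    refine IsPGroup.of_card (n := a) ?_
    rw [← ha, hQ₀]
    refine (Nat.card_congr (subgroupOfEquivOfLe (G := Equiv.Perm α) ?_).toEquiv).trans
      (Nat.card_congr (P.equivMapOfInjective _ (MulAut.conj g₀).injective).toEquiv).symm
    rintro _ ⟨v, hv, rfl⟩
    exact hconj v hv
  obtain ⟨Q, hQ⟩ := hQp.exists_le_sylow
  obtain ⟨g₁, hg₁⟩ := exists_smul_eq G₁ Q P₀
  have hg₁' : (g₁ : Equiv.Perm α) ∈ pstab G Δ := (SetLike.ext_iff.1 hG₁ _).1 g₁.2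
  refine ⟨(g₁ : Equiv.Perm α) * g₀, mem_inf.2 ⟨mul_mem (mem_pstab.1 hg₁').1 hg₀, ?_⟩, fun d => ?_⟩
  · refine mem_normalizer_fintype fun v hv => ?_
    have h1 : (⟨g₀ * v * g₀⁻¹, hconj v hv⟩ : G₁) ∈ Q₀ := by
      rw [hQ₀]; exact ⟨v, hv, rfl⟩
    have h2 : g₁ * ⟨g₀ * v * g₀⁻¹, hconj v hv⟩ * g₁⁻¹ ∈ (P₀ : Subgroup G₁) := by
      rw [← hg₁, Sylow.coe_subgroup_smul]
      exact ⟨⟨g₀ * v * g₀⁻¹, hconj v hv⟩, hQ h1, rfl⟩
    have h3 : (g₁ : Equiv.Perm α) * (g₀ * v * g₀⁻¹) * (g₁ : Equiv.Perm α)⁻¹ ∈ P :=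
      hP ▸ ⟨_, h2, rfl⟩
    rwa [show (g₁ : Equiv.Perm α) * g₀ * v * ((g₁ : Equiv.Perm α) * g₀)⁻¹ =
      (g₁ : Equiv.Perm α) * (g₀ * v * g₀⁻¹) * (g₁ : Equiv.Perm α)⁻¹ by group]
  · rw [Equiv.Perm.mul_apply, hmap d]
    exact (mem_pstab.1 hg₁').2 _ (σ d).2

end CfsgLib.Perm.Miller
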