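import Cfsg.Agent.Lib.Perm.SquarefreeClasses

/-!
Elements of minimal class size in a group with a self-centralizing abelian normal subgroup generate a
nilpotent subgroup of class at most three.
-/

set_option autoImplicit false

namespace CfsgLib.Perm.MinimalClasses

open Subgroup CfsgLib.Perm.SquarefreeClasses
open scoped commutatorElement

universe u

variable {G : Type u} [Group G] [Finite G]

/-- `[A, x]` is central for an element `x` of minimal class size. -/
theorem commHom_mem_center (A : Subgroup G) [A.Normal] [IsMulCommutative A] {x : G}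
    (hmin : ∀ z : G, z ∉ center G →
      (centralizer ({x} : Set G)).index ≤ (centralizer ({z} : Set G)).index) (a : A) :
    ((commHom A x a : A) : G) ∈ center G := by
  by_contra hz
  obtain ⟨z, hzdef⟩ : ∃ z, z = commHom A x a := ⟨_, rfl⟩
  rw [← hzdef] at hz
  have hz1 : (z : G) ≠ 1 := fun e => hz (e ▸ one_mem _)
  obtain ⟨T, hT⟩ : ∃ T, T = centralizer ({x} : Set G) ⊔ A := ⟨_, rfl⟩
  -- `T` permutes the image
  have hstable : ∀ t ∈ T, ∀ w ∈ (commHom A x).range.map A.subtype,
      t * w * t⁻¹ ∈ (commHom A x).range.map A.subtype := by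
    intro t ht
    have hle : T ≤ normalizer (((commHom A x).range.map A.subtype : Subgroup G) : Set G) := by
      rw [hT]
      refine sup_le (fun c hc => ?_) (fun b hb => ?_)
      · refine mem_normalizer_fintype (S := (((commHom A x).range.map A.subtype : Subgroup G) : Set G)) ?_
        rintro _ ⟨_, ⟨v, rfl⟩, rfl⟩
        have hcx := mem_centralizer_singleton_iff.1 hc
        refine ⟨commHom A x ⟨c * v * c⁻¹, (inferInstance : A.Normal).conj_mem v v.2 c⟩, ⟨_, rfl⟩, ?_⟩
        show x * (c * v * c⁻¹) * x⁻¹ * (c * v * c⁻¹)⁻¹ = c * (x * v * x⁻¹ * (v : G)⁻¹) * c⁻¹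
        calc x * (c * v * c⁻¹) * x⁻¹ * (c * v * c⁻¹)⁻¹
            = (x * c) * v * (x * c)⁻¹ * (c * (v : G)⁻¹ * c⁻¹) := by group
          _ = (c * x) * v * (c * x)⁻¹ * (c * (v : G)⁻¹ * c⁻¹) := by rw [hcx]
          _ = c * (x * v * x⁻¹ * (v : G)⁻¹) * c⁻¹ := by group
      · refine mem_normalizer_fintype (S := (((commHom A x).range.map A.subtype : Subgroup G) : Set G)) ?_
        rintro _ ⟨w, hw, rfl⟩
        refine ⟨w, hw, ?_⟩
        show (w : G) = b * w * b⁻¹
        have h : b * (w : G) = w * b := congrArg Subtype.val (IsMulCommutative.is_comm.comm (⟨b, hb⟩ : A) w)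
        rw [h, mul_inv_cancel_right]
    exact fun w hw => (mem_normalizer_iff.1 (hle ht) w).1 hw
  -- the class of `z`
  let f : (T ⧸ (centralizer ({(z : G)} : Set G)).subgroupOf T) →
      {w : ((commHom A x).range.map A.subtype : Subgroup G) // w ≠ 1} :=
    Quotient.lift (fun t : T => ⟨⟨(t : G) * z * (t : G)⁻¹,
        hstable t t.2 z ⟨z, hzdef ▸ ⟨a, rfl⟩, rfl⟩⟩,
        fun e => hz1 (conj_eq_one_iff.1 (congrArg Subtype.val e))⟩) fun s t hst => by
      have h : Commute ((s : G)⁻¹ * (t : G)) (z : G) :=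
        mem_centralizer_singleton_iff.1 (mem_subgroupOf.1 (QuotientGroup.leftRel_apply.1 hst))
      refine Subtype.ext (Subtype.ext ?_)
      show (s : G) * z * (s : G)⁻¹ = t * z * (t : G)⁻¹
      calc (s : G) * z * (s : G)⁻¹ = s * ((z : G) * ((s : G)⁻¹ * t)) * (t : G)⁻¹ := by group
        _ = s * (((s : G)⁻¹ * t) * z) * (t : G)⁻¹ := by rw [h.eq]
        _ = t * z * (t : G)⁻¹ := by group
  have hf : Function.Injective f := by
    rintro ⟨s⟩ ⟨t⟩ e
    refine Quotient.sound' ?_
    rw [QuotientGroup.leftRel_apply, mem_subgroupOf, mem_centralizer_singleton_iff]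
    have e' : (s : G) * z * (s : G)⁻¹ = t * z * (t : G)⁻¹ :=
      congrArg Subtype.val (congrArg Subtype.val e)
    show (s : G)⁻¹ * t * z = z * ((s : G)⁻¹ * t)
    calc (s : G)⁻¹ * t * z = (s : G)⁻¹ * (t * z * (t : G)⁻¹) * t := by group
      _ = (s : G)⁻¹ * (s * z * (s : G)⁻¹) * t := by rw [e']
      _ = z * ((s : G)⁻¹ * t) := by group
  have h1 : (centralizer ({(z : G)} : Set G)).relIndex T < Nat.card (commHom A x).range := by
    have h := Nat.card_le_card_of_injective f hf
    have := Fintype.ofFinite ((commHom A x).range.map A.subtype : Subgroup G)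
    classical
    rw [Nat.card_eq_fintype_card (α := {w // w ≠ (1 : ((commHom A x).range.map A.subtype : Subgroup G))}),
      Fintype.card_subtype_compl, Fintype.card_subtype_eq, ← Nat.card_eq_fintype_card,
      card_map_of_injective A.subtype_injective] at h
    have hp : 0 < Nat.card (commHom A x).range := Nat.card_pos
    show Nat.card (T ⧸ (centralizer ({(z : G)} : Set G)).subgroupOf T) < _
    omega
  have h2 : Nat.card (commHom A x).range ≤ (centralizer ({x} : Set G)).relIndex T := by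
    have hker : (commHom A x).ker = (centralizer ({x} : Set G)).subgroupOf A := by
      ext n
      rw [commHom_mem_ker_iff, mem_subgroupOf, mem_centralizer_singleton_iff, eq_comm]
    rw [← Subgroup.index_ker, hker]
    exact relIndex_le_of_le_right (hT ▸ le_sup_right) (index_ne_zero_of_finite (H := (centralizer ({x} : Set G)).subgroupOf T))
  have h3 := hmin z hz
  rw [← relIndex_mul_index (show centralizer ({x} : Set G) ≤ T from hT ▸ le_sup_left)] at h3
  have h4 : (centralizer ({(z : G)} : Set G)).index ≤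
      (centralizer ({(z : G)} : Set G)).relIndex T * T.index := by
    have h5 := relIndex_mul_index (show centralizer ({(z : G)} : Set G) ⊓ T ≤ T from inf_le_right)
    rw [inf_relIndex_right] at h5
    rw [h5]
    exact Nat.le_of_dvd (Nat.pos_of_ne_zero index_ne_zero_of_finite) (index_dvd_of_le inf_le_left)
  have h6 : (centralizer ({(z : G)} : Set G)).relIndex T * T.index <
      (centralizer ({x} : Set G)).relIndex T * T.index :=
    Nat.mul_lt_mul_of_pos_right (h1.trans_le h2) (Nat.pos_of_ne_zero index_ne_zero_of_finite)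
  omega

/-- The subgroup generated by elements of minimal class size has class at most three. -/
theorem upperCentralSeries_three (A : Subgroup G) [A.Normal] [IsMulCommutative A]
    (hCA : centralizer (A : Set G) = A) {S : Set G}
    (hS : ∀ x ∈ S, x ∉ center G → ∀ z : G, z ∉ center G →
      (centralizer ({x} : Set G)).index ≤ (centralizer ({z} : Set G)).index) :
    Subgroup.upperCentralSeries ↥(closure S) 3 = ⊤ := by
  obtain ⟨M, hM⟩ : ∃ M, M = closure S := ⟨_, rfl⟩
  rw [← hM]
  let W : Subgroup G :=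
    { carrier := {g | ∀ a ∈ A, g * a * g⁻¹ * a⁻¹ ∈ center G}
      one_mem' := fun a _ => by simp
      mul_mem' := fun {g h} hg hh a ha => by
        have h' : h * a * h⁻¹ ∈ A := (inferInstance : A.Normal).conj_mem a ha h
        have e : g * h * a * (g * h)⁻¹ * a⁻¹
            = (g * (h * a * h⁻¹) * g⁻¹ * (h * a * h⁻¹)⁻¹) * (h * a * h⁻¹ * a⁻¹) := by group
        rw [e]
        exact mul_mem (hg _ h') (hh a ha)
      inv_mem' := fun {g} hg a ha => by
        have h' : g⁻¹ * a * g⁻¹⁻¹ ∈ A := (inferInstance : A.Normal).conj_mem a ha g⁻¹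
        have e : g⁻¹ * a * g⁻¹⁻¹ * a⁻¹
            = (g * (g⁻¹ * a * g⁻¹⁻¹) * g⁻¹ * (g⁻¹ * a * g⁻¹⁻¹)⁻¹)⁻¹ := by group
        rw [e]
        exact inv_mem (hg _ h') }
  have hMW : M ≤ W := by
    rw [hM, closure_le]
    intro x hx a ha
    by_cases hxc : x ∈ center G
    · rw [← mem_center_iff.1 hxc a, mul_inv_cancel_right, mul_inv_cancel]
      exact one_mem _
    · exact commHom_mem_center A (hS x hx hxc) ⟨a, ha⟩
  -- commutators centralise `A`
  have hcomm : ∀ g ∈ M, ∀ h ∈ M, ⁅g, h⁆ ∈ A := by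
    intro g hg h hh
    rw [← hCA, mem_centralizer_iff]
    intro a ha
    let f : M →* center G :=
      { toFun := fun w => ⟨w * a * (w : G)⁻¹ * a⁻¹, hMW w.2 a ha⟩
        map_one' := Subtype.ext (by simp)
        map_mul' := fun v w => Subtype.ext (by
          show (v * w : G) * a * ((v : G) * w)⁻¹ * a⁻¹
            = v * a * (v : G)⁻¹ * a⁻¹ * (w * a * (w : G)⁻¹ * a⁻¹)
          have hc := mem_center_iff.1 (hMW w.2 a ha)
          calc (v * w : G) * a * ((v : G) * w)⁻¹ * a⁻¹
              = v * (w * a * (w : G)⁻¹ * a⁻¹) * (a * (v : G)⁻¹ * a⁻¹) := by group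
            _ = w * a * (w : G)⁻¹ * a⁻¹ * (v * a * (v : G)⁻¹ * a⁻¹) := by rw [hc]; group
            _ = v * a * (v : G)⁻¹ * a⁻¹ * (w * a * (w : G)⁻¹ * a⁻¹) := (hc _).symm) }
    have h1 : f ⁅(⟨g, hg⟩ : M), ⟨h, hh⟩⁆ = 1 := by
      rw [map_commutatorElement, commutatorElement_eq_one_iff_mul_comm]
      exact Subtype.ext (mem_center_iff.1 (f ⟨h, hh⟩).2 _)
    have h2 : ⁅g, h⁆ * a * ⁅g, h⁆⁻¹ * a⁻¹ = 1 := congrArg Subtype.val h1
    rw [mul_inv_eq_one, mul_inv_eq_iff_eq_mul] at h2
    exact h2.symm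
  refine top_unique fun x _ => ?_
  rw [Subgroup.mem_upperCentralSeries_succ_iff]
  intro y
  rw [Subgroup.mem_upperCentralSeries_succ_iff]
  intro z
  rw [Subgroup.upperCentralSeries_one, mem_center_iff]
  intro w
  have hA : (⁅(x : G), (y : G)⁆) ∈ A := hcomm x x.2 y y.2
  have hc : z * ⁅x, y⁆ * (z : M)⁻¹ * ⁅x, y⁆⁻¹ ∈ center M := mem_center_iff.2 fun w =>
    Subtype.ext (mem_center_iff.1 (hMW z.2 _ hA) w)
  have e : ⁅⁅x, y⁆, z⁆ = (z * ⁅x, y⁆ * (z : M)⁻¹ * ⁅x, y⁆⁻¹)⁻¹ := by
    simp only [commutatorElement_def]; group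
  rw [e]
  exact mem_center_iff.1 (inv_mem hc) w

end CfsgLib.Perm.MinimalClasses
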