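/-
Minimal degree of primitive permutation groups.

* doubly transitive case (Bochert): if some element moves `m` points then either
  `n - 1 ≤ (m - 1)^2` or the group contains a 3-cycle;
* uniprimitive case (Babai): `n ≤ (2 m + 1)^2`, through the distinguishing numbers
  `D(x,y) = #{z | colour (z,x) ≠ colour (z,y)}` of the orbital colouring.
-/
import Mathlib

set_option autoImplicit false

namespace CfsgLib.MinDegree

open MulAction Finset

/-! ## The doubly transitive case -/

section TwoTransitive

variable {α : Type*} [Fintype α] [DecidableEq α]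

/-- Two permutations whose supports meet in one point have a 3-cycle as commutator. -/
theorem isThreeCycle_commutator (p q : Equiv.Perm α) (a : α)
    (h : p.support ∩ q.support = {a}) : (p * q * p⁻¹ * q⁻¹).IsThreeCycle := by
  have ha : a ∈ p.support ∩ q.support := by rw [h]; exact Finset.mem_singleton_self a
  obtain ⟨hpa, hqa⟩ := Finset.mem_inter.mp ha
  have hp : ∀ x, x ∈ q.support → x ≠ a → p x = x := by
    intro x hx hxa
    by_contra hne
    have : x ∈ p.support ∩ q.support := Finset.mem_inter.mpr ⟨Equiv.Perm.mem_support.mpr hne, hx⟩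
    rw [h, Finset.mem_singleton] at this
    exact hxa this
  have hq : ∀ x, x ∈ p.support → x ≠ a → q x = x := by
    intro x hx hxa
    by_contra hne
    have : x ∈ p.support ∩ q.support := Finset.mem_inter.mpr ⟨hx, Equiv.Perm.mem_support.mpr hne⟩
    rw [h, Finset.mem_singleton] at this
    exact hxa this
  obtain ⟨b, hb⟩ : ∃ b, b = p a := ⟨_, rfl⟩
  obtain ⟨c, hc⟩ : ∃ c, c = q a := ⟨_, rfl⟩
  have hba : b ≠ a := by rw [hb]; exact Equiv.Perm.mem_support.mp hpa
  have hca : c ≠ a := by rw [hc]; exact Equiv.Perm.mem_support.mp hqa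
  have hbs : b ∈ p.support := by rw [hb]; exact Equiv.Perm.apply_mem_support.mpr hpa
  have hcs : c ∈ q.support := by rw [hc]; exact Equiv.Perm.apply_mem_support.mpr hqa
  have hbc : b ≠ c := by
    intro e
    have : b ∈ p.support ∩ q.support := Finset.mem_inter.mpr ⟨hbs, e ▸ hcs⟩
    rw [h, Finset.mem_singleton] at this
    exact hba this
  have hps : ∀ x, x ∈ p.support → p⁻¹ x ∈ p.support := by
    intro x hx
    rw [← Equiv.Perm.apply_mem_support]
    simpa using hx
  have hqs : ∀ x, x ∈ q.support → q⁻¹ x ∈ q.support := by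
    intro x hx
    rw [← Equiv.Perm.apply_mem_support]
    simpa using hx
  have hpinv : ∀ x, p x = x → p⁻¹ x = x := by
    intro x hx
    apply p.injective
    simp [hx]
  have hqinv : ∀ x, q x = x → q⁻¹ x = x := by
    intro x hx
    apply q.injective
    simp [hx]
  have eva : (p * q * p⁻¹ * q⁻¹) a = b := by
    have h1 : q⁻¹ a ≠ a := by
      intro e
      apply Equiv.Perm.mem_support.mp hqa
      have := congrArg q e
      simpa using this.symm
    have h2 : p⁻¹ (q⁻¹ a) = q⁻¹ a := hpinv _ (hp _ (hqs a hqa) h1)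
    rw [Equiv.Perm.mul_apply, Equiv.Perm.mul_apply, Equiv.Perm.mul_apply, h2, hb]
    simp
  have evb : (p * q * p⁻¹ * q⁻¹) b = c := by
    have h2 : q⁻¹ b = b := hqinv _ (hq _ hbs hba)
    rw [Equiv.Perm.mul_apply, Equiv.Perm.mul_apply, Equiv.Perm.mul_apply, h2]
    have h3 : p⁻¹ b = a := by rw [hb]; simp
    rw [h3, ← hc, hp _ hcs hca]
  have evc : (p * q * p⁻¹ * q⁻¹) c = a := by
    have h2 : q⁻¹ c = a := by rw [hc]; simp
    rw [Equiv.Perm.mul_apply, Equiv.Perm.mul_apply, Equiv.Perm.mul_apply, h2]
    have h3 : p⁻¹ a ≠ a := by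
      intro e
      apply Equiv.Perm.mem_support.mp hpa
      have := congrArg p e
      simpa using this.symm
    rw [hq _ (hps a hpa) h3]
    simp
  have evo : ∀ x, x ≠ a → x ≠ b → x ≠ c → (p * q * p⁻¹ * q⁻¹) x = x := by
    intro x hxa hxb hxc
    rw [Equiv.Perm.mul_apply, Equiv.Perm.mul_apply, Equiv.Perm.mul_apply]
    by_cases hxq : x ∈ q.support
    · have h1 : q⁻¹ x ≠ a := by
        intro e
        apply hxc
        rw [hc, ← e]
        simp
      rw [hpinv _ (hp _ (hqs x hxq) h1)]
      simp [hp _ hxq hxa]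
    · have hqx : q x = x := Equiv.Perm.notMem_support.mp hxq
      rw [hqinv _ hqx]
      by_cases hxp : x ∈ p.support
      · have h1 : p⁻¹ x ≠ a := by
          intro e
          apply hxb
          rw [hb, ← e]
          simp
        rw [hq _ (hps x hxp) h1]
        simp
      · have hpx : p x = x := Equiv.Perm.notMem_support.mp hxp
        rw [hpinv _ hpx, hqx, hpx]
  have hsupp : (p * q * p⁻¹ * q⁻¹).support = {a, b, c} := by
    ext x
    simp only [Equiv.Perm.mem_support, Finset.mem_insert, Finset.mem_singleton]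
    constructor
    · intro hx
      by_contra hne
      push Not at hne
      exact hx (evo x hne.1 hne.2.1 hne.2.2)
    · rintro (rfl | rfl | rfl)
      · rw [eva]; exact hba
      · rw [evb]; exact hbc.symm
      · rw [evc]; exact hca.symm
  rw [← card_support_eq_three_iff, hsupp]
  rw [Finset.card_insert_of_notMem, Finset.card_pair hbc]
  simp [hba.symm, hca.symm]

variable {G : Type*} [Group G] [Finite G] [MulAction G α]

/-- Bochert: in a doubly transitive group without 3-cycles, an element moving `m` points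
has `n - 1 ≤ (m - 1)^2`. -/
theorem bochert
    (h2 : ∀ a b c d : α, a ≠ b → c ≠ d → ∃ h : G, h • a = c ∧ h • b = d)
    (h3 : ∀ h : G, ¬ (toPermHom G α h).IsThreeCycle)
    (g : G) (a : α) (ha : g • a ≠ a) :
    Fintype.card α - 1 ≤ ((Finset.univ.filter fun z : α => g • z ≠ z).card - 1) ^ 2 := by
  classical
  obtain ⟨hft⟩ : Nonempty (Fintype G) := ⟨Fintype.ofFinite G⟩
  obtain ⟨M, hM⟩ : ∃ M, M = Finset.univ.filter (fun z : α => g • z ≠ z) := ⟨_, rfl⟩
  have hmM : ∀ z, z ∈ M ↔ g • z ≠ z := by intro z; simp [hM]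
  rw [← hM]
  have haM : a ∈ M := (hmM a).mpr ha
  obtain ⟨M', hM'⟩ : ∃ M', M' = M.erase a := ⟨_, rfl⟩
  have hM'card : M'.card = M.card - 1 := by rw [hM']; exact Finset.card_erase_of_mem haM
  rw [← hM'card]
  obtain ⟨H, hH⟩ : ∃ H, H = Finset.univ.filter (fun h : G => h • a = a) := ⟨_, rfl⟩
  have hmH : ∀ h, h ∈ H ↔ h • a = a := by intro h; simp [hH]
  have hHpos : 0 < H.card := Finset.card_pos.mpr ⟨1, (hmH 1).mpr (one_smul _ _)⟩
  -- every h fixing a sends M' meeting M'
  have hmeet : ∀ h ∈ H, 1 ≤ (M'.filter fun x => h • x ∈ M').card := by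
    intro h hh
    by_contra hlt
    have hempty : ∀ x ∈ M', h • x ∉ M' := by
      intro x hx hx'
      apply hlt
      exact Finset.card_pos.mpr ⟨x, Finset.mem_filter.mpr ⟨hx, hx'⟩⟩
    apply h3 (g * (h * g * h⁻¹) * g⁻¹ * (h * g * h⁻¹)⁻¹)
    rw [map_mul, map_mul, map_mul, map_inv, map_inv]
    apply isThreeCycle_commutator _ _ a
    ext x
    simp only [Finset.mem_inter, Equiv.Perm.mem_support, Finset.mem_singleton,
      toPermHom_apply, toPerm_apply]
    have hconj : (h * g * h⁻¹) • x ≠ x ↔ h⁻¹ • x ∈ M := by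
      rw [hmM, mul_smul, mul_smul, not_iff_not]
      exact ⟨fun e => by conv_rhs => rw [← e, inv_smul_smul], fun e => by rw [e, smul_inv_smul]⟩
    rw [hconj, ← hmM]
    constructor
    · rintro ⟨hx1, hx2⟩
      by_contra hxa
      have hy : h⁻¹ • x ≠ a := by
        intro e
        apply hxa
        rw [← smul_inv_smul h x, e]
        exact (hmH h).mp hh
      apply hempty (h⁻¹ • x) (by rw [hM']; exact Finset.mem_erase.mpr ⟨hy, hx2⟩)
      rw [smul_inv_smul, hM']
      exact Finset.mem_erase.mpr ⟨hxa, hx1⟩
    · rintro rfl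
      refine ⟨haM, ?_⟩
      rw [show h⁻¹ • x = x from inv_smul_eq_iff.mpr ((hmH h).mp hh).symm]
      exact haM
  -- fibres
  have hfib : ∀ x, x ≠ a → ∀ y, y ≠ a → ∀ y', y' ≠ a →
      (H.filter fun h => h • x = y).card = (H.filter fun h => h • x = y').card := by
    intro x hx y hy y' hy'
    obtain ⟨u, hua, huy⟩ := h2 a y a y' (Ne.symm hy) (Ne.symm hy')
    refine Finset.card_bij' (fun h _ => u * h) (fun h _ => u⁻¹ * h) ?_ ?_ ?_ ?_
    · intro h hh
      simp only [Finset.mem_filter, hmH] at hh ⊢
      rw [mul_smul, mul_smul, hh.1, hh.2]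
      exact ⟨hua, huy⟩
    · intro h hh
      simp only [Finset.mem_filter, hmH] at hh ⊢
      rw [mul_smul, mul_smul, hh.1, hh.2]
      exact ⟨inv_smul_eq_iff.mpr hua.symm, inv_smul_eq_iff.mpr huy.symm⟩
    · intro h _; simp
    · intro h _; simp
  have hfib' : ∀ x, x ≠ a → ∀ y, y ≠ a →
      (Fintype.card α - 1) * (H.filter fun h => h • x = y).card = H.card := by
    intro x hx y hy
    have hsum : H.card = ∑ z ∈ (Finset.univ.erase a), (H.filter fun h => h • x = z).card := by
      apply Finset.card_eq_sum_card_fiberwise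
      intro h hh
      simp only [Finset.coe_erase, Finset.coe_univ, Set.mem_diff, Set.mem_univ, Set.mem_singleton_iff,
        true_and]
      intro e
      apply hx
      have h1 := (hmH h).mp hh
      exact smul_left_cancel h (e.trans h1.symm)
    rw [hsum, Finset.sum_congr rfl (fun z hz => hfib x hx z (Finset.ne_of_mem_erase hz) y hy),
      Finset.sum_const, Finset.card_erase_of_mem (Finset.mem_univ a), Finset.card_univ,
      smul_eq_mul]
  -- double count
  have hne : ∀ x ∈ M', x ≠ a := by intro x hx; rw [hM'] at hx; exact Finset.ne_of_mem_erase hx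
  have hle : H.card ≤ ∑ x ∈ M', ∑ y ∈ M', (H.filter fun h => h • x = y).card := by
    calc H.card = ∑ h ∈ H, 1 := Finset.card_eq_sum_ones H
      _ ≤ ∑ h ∈ H, (M'.filter fun x => h • x ∈ M').card := Finset.sum_le_sum hmeet
      _ = ∑ x ∈ M', (H.filter fun h => h • x ∈ M').card := by
        simp only [Finset.card_filter]
        exact Finset.sum_comm
      _ = ∑ x ∈ M', ∑ y ∈ M', (H.filter fun h => h • x = y).card := by
        refine Finset.sum_congr rfl fun x _ => ?_
        rw [Finset.card_eq_sum_card_fiberwise (s := H.filter fun h => h • x ∈ M') (t := M')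
          (f := fun h : G => h • x)
          (fun h hh => (Finset.mem_filter.mp (Finset.mem_coe.mp hh)).2)]
        refine Finset.sum_congr rfl fun y hy => ?_
        congr 1
        ext h
        simp only [Finset.mem_filter]
        exact ⟨fun k => ⟨k.1.1, k.2⟩, fun k => ⟨⟨k.1, k.2.symm ▸ hy⟩, k.2⟩⟩
  have hmul : (Fintype.card α - 1) * H.card ≤ M'.card ^ 2 * H.card := by
    calc (Fintype.card α - 1) * H.card
        ≤ (Fintype.card α - 1) * ∑ x ∈ M', ∑ y ∈ M', (H.filter fun h => h • x = y).card :=
          Nat.mul_le_mul_left _ hle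
      _ = ∑ x ∈ M', ∑ y ∈ M', H.card := by
        rw [Finset.mul_sum]
        refine Finset.sum_congr rfl fun x hx => ?_
        rw [Finset.mul_sum]
        exact Finset.sum_congr rfl fun y hy => hfib' x (hne x hx) y (hne y hy)
      _ = M'.card ^ 2 * H.card := by
        rw [Finset.sum_const, Finset.sum_const, smul_eq_mul, smul_eq_mul, sq, mul_assoc]
  exact Nat.le_of_mul_le_mul_right hmul hHpos

end TwoTransitive

/-! ## The uniprimitive case -/

section Uniprimitive

variable {G : Type*} [Group G] {α : Type*} [MulAction G α]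

variable (G) in
/-- The colour of an ordered pair: its orbital. -/
def col (x y : α) : Set (α × α) := MulAction.orbit G (x, y)

theorem col_smul (h : G) (x y : α) : col G (h • x) (h • y) = col G x y :=
  MulAction.orbit_eq_iff.mpr ⟨h, rfl⟩

theorem col_eq_iff {x y x' y' : α} :
    col G x y = col G x' y' ↔ ∃ h : G, h • x' = x ∧ h • y' = y := by
  rw [col, col, MulAction.orbit_eq_iff]
  constructor
  · rintro ⟨h, hh⟩
    exact ⟨h, congrArg Prod.fst hh, congrArg Prod.snd hh⟩
  · rintro ⟨h, h1, h2⟩
    exact ⟨h, Prod.ext h1 h2⟩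

theorem col_eq_self_iff {x y z : α} (e : col G x y = col G x z) : y = x ↔ z = x := by
  obtain ⟨h, h1, h2⟩ := col_eq_iff.mp e
  constructor
  · intro hy
    exact smul_left_cancel h (by rw [h2, hy, h1])
  · intro hz
    rw [← h2, hz, h1]

variable [Fintype α] [DecidableEq α]

open scoped Classical in
variable (G) in
/-- The distinguishing number of two points. -/
noncomputable def dnum (x y : α) : ℕ :=
  (Finset.univ.filter fun z : α => col G z x ≠ col G z y).card

theorem dnum_symm (x y : α) : dnum G x y = dnum G y x := by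
  classical
  unfold dnum
  congr 1
  ext z
  simp [ne_comm]

theorem dnum_self (x : α) : dnum G x x = 0 := by
  classical
  simp [dnum]

theorem dnum_triangle (x y w : α) : dnum G x w ≤ dnum G x y + dnum G y w := by
  classical
  refine le_trans (Finset.card_le_card ?_) (Finset.card_union_le _ _)
  intro z hz
  simp only [Finset.mem_filter, Finset.mem_univ, true_and, Finset.mem_union] at hz ⊢
  by_contra hn
  push Not at hn
  exact hz (hn.1.trans hn.2)

theorem dnum_smul (h : G) (x y : α) : dnum G (h • x) (h • y) = dnum G x y := by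
  classical
  refine Finset.card_bij' (fun z _ => h⁻¹ • z) (fun z _ => h • z) ?_ ?_ ?_ ?_
  · intro z hz
    simp only [Finset.mem_filter, Finset.mem_univ, true_and] at hz ⊢
    rwa [← col_smul h, ← col_smul h (h⁻¹ • z) y, smul_inv_smul]
  · intro z hz
    simp only [Finset.mem_filter, Finset.mem_univ, true_and] at hz ⊢
    rwa [col_smul, col_smul]
  · intro z _; simp
  · intro z _; simp

theorem dnum_le_moved (g : G) (a : α) :
    dnum G a (g • a) ≤ (Finset.univ.filter fun z : α => g • z ≠ z).card := by
  classical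
  refine Finset.card_le_card ?_
  intro z hz
  simp only [Finset.mem_filter, Finset.mem_univ, true_and] at hz ⊢
  intro e
  apply hz
  conv_rhs => rw [← e]
  rw [col_smul]

variable (G) in
/-- The graph of the orbital of `(a,b)` and its converse. -/
def orbitalGraph (a b : α) : SimpleGraph α where
  Adj u v := u ≠ v ∧ (col G u v = col G a b ∨ col G v u = col G a b)
  symm := ⟨fun _ _ h => ⟨h.1.symm, h.2.symm⟩⟩
  loopless := ⟨fun _ h => h.1 rfl⟩

theorem orbitalGraph_adj_smul (a b : α) (h : G) (u v : α) :
    (orbitalGraph G a b).Adj (h • u) (h • v) ↔ (orbitalGraph G a b).Adj u v := by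
  simp only [orbitalGraph, col_smul, ne_eq, smul_left_cancel_iff]

theorem orbitalGraph_dnum (a b u v : α) (h : (orbitalGraph G a b).Adj u v) :
    dnum G u v = dnum G a b := by
  rcases h.2 with e | e
  · obtain ⟨g, h1, h2⟩ := col_eq_iff.mp e
    rw [← h1, ← h2, dnum_smul]
  · obtain ⟨g, h1, h2⟩ := col_eq_iff.mp e
    rw [← h1, ← h2, dnum_smul, dnum_symm]

/-- The translate of a reachability class is the class of the translate. -/
theorem reachable_smul (a b : α) (h : G) {u v : α} (hr : (orbitalGraph G a b).Reachable u v) :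
    (orbitalGraph G a b).Reachable (h • u) (h • v) :=
  hr.map { toFun := fun x => h • x, map_rel' := fun e => (orbitalGraph_adj_smul a b h _ _).mpr e }

variable [IsPreprimitive G α]

theorem orbitalGraph_connected {a b : α} (hab : a ≠ b) : (orbitalGraph G a b).Connected := by
  have hadj : (orbitalGraph G a b).Adj a b := ⟨hab, Or.inl rfl⟩
  have hB : IsBlock G {v | (orbitalGraph G a b).Reachable a v} := by
    rw [isBlock_iff_smul_eq_of_nonempty]
    intro h hne
    obtain ⟨z, hz1, hz2⟩ := hne
    obtain ⟨y, hy, rfl⟩ := Set.mem_smul_set.mp hz1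
    have hha : (orbitalGraph G a b).Reachable a (h • a) :=
      (hz2 : (orbitalGraph G a b).Reachable a (h • y)).trans (reachable_smul a b h hy).symm
    ext v
    rw [Set.mem_smul_set_iff_inv_smul_mem]
    simp only [Set.mem_setOf_eq]
    constructor
    · intro hv
      have := reachable_smul a b h hv
      rw [smul_inv_smul] at this
      exact hha.trans this
    · intro hv
      have := reachable_smul a b h⁻¹ (hha.symm.trans hv)
      rwa [inv_smul_smul] at this
  have hall : ∀ v, (orbitalGraph G a b).Reachable a v := by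
    rcases IsPreprimitive.isTrivialBlock_of_isBlock hB with hs | hu
    · exact absurd (hs (SimpleGraph.Reachable.refl a) hadj.reachable) hab
    · intro v
      have : v ∈ {v | (orbitalGraph G a b).Reachable a v} := by rw [hu]; trivial
      exact this
  exact { preconnected := fun u v => (hall u).symm.trans (hall v), nonempty := ⟨a⟩ }

theorem orbitalGraph_dist_smul {a b : α} (hab : a ≠ b) (h : G) (u v : α) :
    (orbitalGraph G a b).dist (h • u) (h • v) = (orbitalGraph G a b).dist u v := by
  have key : ∀ (h : G) (u v : α),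
      (orbitalGraph G a b).dist (h • u) (h • v) ≤ (orbitalGraph G a b).dist u v := by
    intro h u v
    obtain ⟨w, hw⟩ := (orbitalGraph_connected (G := G) hab).exists_walk_length_eq_dist u v
    have := SimpleGraph.dist_le (w.map
      ({ toFun := fun x => h • x, map_rel' := fun e => (orbitalGraph_adj_smul a b h _ _).mpr e } :
        (orbitalGraph G a b) →g (orbitalGraph G a b)))
    rw [SimpleGraph.Walk.length_map, hw] at this
    exact this
  refine le_antisymm (key h u v) ?_
  have := key h⁻¹ (h • u) (h • v)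
  rwa [inv_smul_smul, inv_smul_smul] at this

theorem dnum_le_walk {a b u v : α} (w : (orbitalGraph G a b).Walk u v) :
    dnum G u v ≤ w.length * dnum G a b := by
  induction w with
  | nil => simp [dnum_self]
  | @cons x y z hxy p ih =>
    rw [SimpleGraph.Walk.length_cons, Nat.succ_mul]
    have := dnum_triangle (G := G) x y z
    rw [orbitalGraph_dnum a b x y hxy] at this
    omega

theorem dnum_le_dist {a b : α} (hab : a ≠ b) (u v : α) :
    dnum G u v ≤ (orbitalGraph G a b).dist u v * dnum G a b := by
  obtain ⟨w, hw⟩ := (orbitalGraph_connected (G := G) hab).exists_walk_length_eq_dist u v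
  rw [← hw]
  exact dnum_le_walk w

open scoped Classical in
theorem degree_eq (a b u : α) :
    (Finset.univ.filter fun v => (orbitalGraph G a b).Adj u v).card =
      (Finset.univ.filter fun v => (orbitalGraph G a b).Adj a v).card := by
  obtain ⟨h, rfl⟩ := exists_smul_eq G a u
  refine Finset.card_bij' (fun v _ => h⁻¹ • v) (fun v _ => h • v) ?_ ?_ ?_ ?_
  · intro v hv
    simp only [Finset.mem_filter, Finset.mem_univ, true_and] at hv ⊢
    rwa [← orbitalGraph_adj_smul a b h, smul_inv_smul]
  · intro v hv
    simp only [Finset.mem_filter, Finset.mem_univ, true_and] at hv ⊢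
    rwa [orbitalGraph_adj_smul]
  · intro v _; simp
  · intro v _; simp

/-- Intermediate distances occur. -/
theorem exists_dist_eq {Γ : SimpleGraph α} (hΓ : Γ.Connected) (x w : α) {i : ℕ}
    (hi : i ≤ Γ.dist x w) : ∃ v, Γ.dist x v = i := by
  obtain ⟨p, hp⟩ := hΓ.exists_walk_length_eq_dist x w
  refine ⟨p.getVert i, le_antisymm ?_ ?_⟩
  · exact le_trans (SimpleGraph.dist_le (p.take i)) (by simp [SimpleGraph.Walk.take_length])
  · have h1 := hΓ.dist_triangle (u := x) (v := p.getVert i) (w := w)
    have h2 := SimpleGraph.dist_le (p.drop i)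
    rw [SimpleGraph.Walk.drop_length] at h2
    omega

open scoped Classical in
/-- Disjoint closed neighbourhoods along a geodesic. -/
theorem packing {a b : α} (hab : a ≠ b) (x w : α) (t : ℕ)
    (ht : 3 * t ≤ (orbitalGraph G a b).dist x w) (B : Finset α)
    (hB : ∀ v, (orbitalGraph G a b).dist x v ≤ 3 * t + 1 → v ∈ B) :
    (t + 1) * ((Finset.univ.filter fun v => (orbitalGraph G a b).Adj a v).card + 1) ≤ B.card := by
  have hc := orbitalGraph_connected (G := G) hab
  have hex : ∀ i : Fin (t + 1), ∃ u, (orbitalGraph G a b).dist x u = 3 * i.1 := fun i =>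
    exists_dist_eq hc x w (by omega)
  choose u hu using hex
  have hclose : ∀ (i : Fin (t + 1)) (v : α),
      v ∈ insert (u i) (Finset.univ.filter fun v => (orbitalGraph G a b).Adj (u i) v) →
      (orbitalGraph G a b).dist x v ≤ 3 * i.1 + 1 ∧
        3 * i.1 ≤ (orbitalGraph G a b).dist x v + 1 := by
    intro i v hv
    simp only [Finset.mem_insert, Finset.mem_filter, Finset.mem_univ, true_and] at hv
    rcases hv with rfl | hv
    · rw [hu i]; omega
    · have h1 := hc.dist_triangle (u := x) (v := u i) (w := v)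
      have h2 := hc.dist_triangle (u := x) (v := v) (w := u i)
      have h3 : (orbitalGraph G a b).dist (u i) v = 1 := SimpleGraph.dist_eq_one_iff_adj.mpr hv
      have h4 : (orbitalGraph G a b).dist v (u i) = 1 := SimpleGraph.dist_eq_one_iff_adj.mpr hv.symm
      rw [h3, hu i] at h1
      rw [h4, hu i] at h2
      omega
  have hsum : (Finset.univ.biUnion fun i : Fin (t + 1) =>
      insert (u i) (Finset.univ.filter fun v => (orbitalGraph G a b).Adj (u i) v)).card =
      (t + 1) * ((Finset.univ.filter fun v => (orbitalGraph G a b).Adj a v).card + 1) := by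
    rw [Finset.card_biUnion]
    · rw [Finset.sum_congr rfl (fun i _ => by
        rw [Finset.card_insert_of_notMem (by simp), degree_eq a b (u i)]),
        Finset.sum_const, Finset.card_univ, Fintype.card_fin, smul_eq_mul]
    · intro i _ j _ hij
      refine Finset.disjoint_left.mpr ?_
      intro v hvi hvj
      have h1 := hclose i v hvi
      have h2 := hclose j v hvj
      exact hij (Fin.ext (by omega))
  rw [← hsum]
  refine Finset.card_le_card ?_
  intro v hv
  obtain ⟨i, _, hvi⟩ := Finset.mem_biUnion.mp hv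
  exact hB v (le_trans (hclose i v hvi).1 (by omega))

open scoped Classical in
/-- The edge count. -/
theorem two_mul_pred_le {a b : α} (hab : a ≠ b) :
    2 * (Fintype.card α - 1) ≤
      dnum G a b * (Finset.univ.filter fun v => (orbitalGraph G a b).Adj a v).card := by
  obtain ⟨k, hk⟩ : ∃ k, k = (Finset.univ.filter fun v => (orbitalGraph G a b).Adj a v).card :=
    ⟨_, rfl⟩
  rw [← hk]
  have hc := orbitalGraph_connected (G := G) hab
  obtain ⟨P, hP⟩ : ∃ P, P = Finset.univ.filter
      (fun p : α × α => (orbitalGraph G a b).Adj p.1 p.2) := ⟨_, rfl⟩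
  have hPcard : P.card = Fintype.card α * k := by
    rw [hP, Finset.card_filter, Fintype.sum_prod_type]
    rw [Finset.sum_congr rfl (fun u _ => by rw [← Finset.card_filter, degree_eq a b u, ← hk]),
      Finset.sum_const, Finset.card_univ, smul_eq_mul]
  have hlow : ∀ z : α, 2 * (Fintype.card α - 1) ≤
      (P.filter fun p => col G z p.1 ≠ col G z p.2).card := by
    intro z
    have hex : ∀ v : α, ∃ y : α, v ≠ z → (orbitalGraph G a b).Adj y v ∧
        (orbitalGraph G a b).dist z y + 1 = (orbitalGraph G a b).dist z v := by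
      intro v
      by_cases hv : v = z
      · exact ⟨v, fun h => absurd hv h⟩
      · obtain ⟨p, hp⟩ := hc.exists_walk_length_eq_dist z v
        have hpos : 0 < (orbitalGraph G a b).dist z v := hc.pos_dist_of_ne (Ne.symm hv)
        refine ⟨p.getVert (p.length - 1), fun _ => ?_⟩
        have hadj : (orbitalGraph G a b).Adj (p.getVert (p.length - 1)) v := by
          have := p.adj_getVert_succ (i := p.length - 1) (by omega)
          rwa [show p.length - 1 + 1 = p.length by omega, SimpleGraph.Walk.getVert_length] at this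
        refine ⟨hadj, ?_⟩
        have h1 := hc.dist_triangle (u := z) (v := p.getVert (p.length - 1)) (w := v)
        have h2 := SimpleGraph.dist_le (p.take (p.length - 1))
        rw [SimpleGraph.Walk.take_length] at h2
        rw [SimpleGraph.dist_eq_one_iff_adj.mpr hadj] at h1
        omega
    choose pr hpr using hex
    have hcolne : ∀ v, v ≠ z → col G z (pr v) ≠ col G z v := by
      intro v hv e
      obtain ⟨h, h1, h2⟩ := col_eq_iff.mp e
      have h3 := orbitalGraph_dist_smul (G := G) hab h z v
      rw [h1, h2] at h3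
      have h4 := (hpr v hv).2
      omega
    obtain ⟨X, hX⟩ : ∃ X, X = (Finset.univ.erase z).image (fun v => (pr v, v)) := ⟨_, rfl⟩
    obtain ⟨Y, hY⟩ : ∃ Y, Y = (Finset.univ.erase z).image (fun v => (v, pr v)) := ⟨_, rfl⟩
    have hXc : X.card = Fintype.card α - 1 := by
      rw [hX, Finset.card_image_of_injective _ (fun p q e => congrArg Prod.snd e),
        Finset.card_erase_of_mem (Finset.mem_univ z), Finset.card_univ]
    have hYc : Y.card = Fintype.card α - 1 := by
      rw [hY, Finset.card_image_of_injective _ (fun p q e => congrArg Prod.fst e),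
        Finset.card_erase_of_mem (Finset.mem_univ z), Finset.card_univ]
    have hdisj : Disjoint X Y := by
      refine Finset.disjoint_left.mpr ?_
      intro p hp hq
      rw [hX, Finset.mem_image] at hp
      rw [hY, Finset.mem_image] at hq
      obtain ⟨v, hv, rfl⟩ := hp
      obtain ⟨v', hv', e⟩ := hq
      have h4 := (hpr v (Finset.ne_of_mem_erase hv)).2
      have h5 := (hpr v' (Finset.ne_of_mem_erase hv')).2
      have e1 : v' = pr v := congrArg Prod.fst e
      have e2 : pr v' = v := congrArg Prod.snd e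
      rw [e2, e1] at h5
      omega
    calc 2 * (Fintype.card α - 1) = X.card + Y.card := by rw [hXc, hYc]; ring
      _ = (X ∪ Y).card := (Finset.card_union_of_disjoint hdisj).symm
      _ ≤ _ := by
        refine Finset.card_le_card ?_
        intro p hp
        rw [Finset.mem_union, hX, hY, Finset.mem_image, Finset.mem_image] at hp
        rw [Finset.mem_filter, hP, Finset.mem_filter]
        rcases hp with ⟨v, hv, rfl⟩ | ⟨v, hv, rfl⟩
        · exact ⟨⟨Finset.mem_univ _, (hpr v (Finset.ne_of_mem_erase hv)).1⟩,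
            hcolne v (Finset.ne_of_mem_erase hv)⟩
        · exact ⟨⟨Finset.mem_univ _, (hpr v (Finset.ne_of_mem_erase hv)).1.symm⟩,
            (hcolne v (Finset.ne_of_mem_erase hv)).symm⟩
  have htot : ∑ z : α, (P.filter fun p => col G z p.1 ≠ col G z p.2).card =
      P.card * dnum G a b := by
    simp only [Finset.card_filter]
    rw [Finset.sum_comm]
    simp only [← Finset.card_filter]
    calc ∑ p ∈ P, (Finset.univ.filter fun i => col G i p.1 ≠ col G i p.2).card
        = ∑ p ∈ P, dnum G a b := Finset.sum_congr rfl fun p hp => by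
          rw [hP] at hp
          exact orbitalGraph_dnum a b p.1 p.2 (Finset.mem_filter.mp hp).2
      _ = P.card * dnum G a b := by rw [Finset.sum_const, smul_eq_mul]
  have hmul : Fintype.card α * (2 * (Fintype.card α - 1)) ≤
      Fintype.card α * (dnum G a b * k) := by
    calc Fintype.card α * (2 * (Fintype.card α - 1))
        = ∑ _z : α, 2 * (Fintype.card α - 1) := by simp
      _ ≤ ∑ z : α, (P.filter fun p => col G z p.1 ≠ col G z p.2).card :=
          Finset.sum_le_sum fun z _ => hlow z
      _ = Fintype.card α * (dnum G a b * k) := by rw [htot, hPcard]; ring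
  exact Nat.le_of_mul_le_mul_left hmul (Fintype.card_pos_iff.mpr ⟨a⟩)

open scoped Classical in
theorem colClass_card_eq (x y z : α) (O : Set (α × α)) (hy : y = x) :
    (Finset.univ.filter fun v => col G z v = O).card =
      (Finset.univ.filter fun v => col G y v = O).card := by
  obtain ⟨h, rfl⟩ := exists_smul_eq G z y
  refine Finset.card_bij' (fun v _ => h • v) (fun v _ => h⁻¹ • v) ?_ ?_ ?_ ?_
  · intro v hv
    simp only [Finset.mem_filter, Finset.mem_univ, true_and] at hv ⊢
    rwa [col_smul]
  · intro v hv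
    simp only [Finset.mem_filter, Finset.mem_univ, true_and] at hv ⊢
    rwa [← col_smul h, smul_inv_smul]
  · intro v _; simp
  · intro v _; simp

open scoped Classical in
/-- No dominant colour. -/
theorem uni_bound_small {a b : α} (hab : a ≠ b)
    (hsmall : ∀ x w : α, 8 * (Finset.univ.filter fun v => col G x v = col G x w).card ≤
      5 * Fintype.card α) :
    Fintype.card α ≤ (2 * dnum G a b + 1) ^ 2 := by
  obtain ⟨n, hn⟩ : ∃ n, n = Fintype.card α := ⟨_, rfl⟩
  rw [← hn] at hsmall ⊢
  have hpairs : (Finset.univ : Finset (α × α)).Nonempty := ⟨(a, b), Finset.mem_univ _⟩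
  have hsum : ∀ z x : α, 3 * n ≤ 8 * (Finset.univ.filter fun y => col G z x ≠ col G z y).card := by
    intro z x
    have h1 := Finset.card_filter_add_card_filter_not
      (s := (Finset.univ : Finset α)) (fun v => col G z v = col G z x)
    rw [Finset.card_univ, ← hn] at h1
    have h2 := hsmall z x
    have h3 : (Finset.univ.filter fun y => col G z x ≠ col G z y) =
        (Finset.univ.filter fun v => ¬ col G z v = col G z x) := by
      ext v; simp [eq_comm]
    rw [h3]
    omega
  have htot : ∑ p : α × α, 8 * dnum G p.1 p.2 ≥ ∑ _p : α × α, 3 * n := by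
    rw [Finset.sum_const, Finset.card_univ, Fintype.card_prod, ← hn, smul_eq_mul]
    rw [← Finset.mul_sum]
    unfold dnum
    simp only [Finset.card_filter]
    rw [Finset.sum_comm, Finset.mul_sum]
    calc n * n * (3 * n) = ∑ _z : α, ∑ _x : α, 3 * n := by
          simp [← hn]; ring
      _ ≤ _ := by
        refine Finset.sum_le_sum fun z _ => ?_
        rw [Fintype.sum_prod_type, Finset.mul_sum]
        refine Finset.sum_le_sum fun x _ => ?_
        rw [← Finset.card_filter]
        exact hsum z x
  obtain ⟨p, _, hp⟩ := Finset.exists_le_of_sum_le hpairs htot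
  have hd := dnum_le_dist (G := G) hab p.1 p.2
  obtain ⟨d, hddef⟩ : ∃ d, d = (orbitalGraph G a b).dist p.1 p.2 := ⟨_, rfl⟩
  rw [← hddef] at hd
  obtain ⟨k, hk⟩ : ∃ k, k = (Finset.univ.filter fun v => (orbitalGraph G a b).Adj a v).card :=
    ⟨_, rfl⟩
  have hpk := packing (G := G) hab p.1 p.2 (d / 3) (by rw [← hddef]; omega) Finset.univ
    (fun v _ => Finset.mem_univ v)
  rw [Finset.card_univ, ← hn, ← hk] at hpk
  have hdk : d * k ≤ 3 * n := by
    have h1 : d ≤ 3 * (d / 3 + 1) := by omega
    calc d * k ≤ 3 * (d / 3 + 1) * (k + 1) := Nat.mul_le_mul h1 (Nat.le_succ k)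
      _ ≤ 3 * n := by rw [mul_assoc]; exact Nat.mul_le_mul_left 3 hpk
  have hedge := two_mul_pred_le (G := G) hab
  rw [← hn, ← hk] at hedge
  obtain ⟨D, hD⟩ : ∃ D, D = dnum G a b := ⟨_, rfl⟩
  rw [← hD] at hd hedge ⊢
  have h3 : 3 * n ≤ 8 * (d * D) := le_trans hp (Nat.mul_le_mul_left 8 hd)
  have h4 : 2 * (n - 1) * (3 * n) ≤ D * D * (8 * (3 * n)) :=
    calc 2 * (n - 1) * (3 * n) ≤ (D * k) * (8 * (d * D)) := Nat.mul_le_mul hedge h3
      _ = D * D * (8 * (d * k)) := by ring
      _ ≤ D * D * (8 * (3 * n)) := Nat.mul_le_mul_left _ (Nat.mul_le_mul_left 8 hdk)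
  have hnpos : 0 < 3 * n := by
    have : 0 < n := hn ▸ Fintype.card_pos_iff.mpr ⟨a⟩
    omega
  have h5 : 2 * (n - 1) ≤ D * D * 8 :=
    Nat.le_of_mul_le_mul_right (le_of_le_of_eq h4 (mul_assoc _ _ _).symm) hnpos
  have h6 : (2 * D + 1) ^ 2 = 4 * (D * D) + 4 * D + 1 := by ring
  omega

open scoped Classical Pointwise in
/-- A dominant colour. -/
theorem uni_bound_big {a b : α} (hab : a ≠ b)
    (hnot2 : ∃ x y z : α, y ≠ x ∧ z ≠ x ∧ col G x y ≠ col G x z)
    {x0 w0 : α} (hbig : 5 * Fintype.card α <
      8 * (Finset.univ.filter fun v => col G x0 v = col G x0 w0).card) :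
    Fintype.card α ≤ (2 * dnum G a b + 1) ^ 2 := by
  obtain ⟨n, hn⟩ : ∃ n, n = Fintype.card α := ⟨_, rfl⟩
  rw [← hn] at hbig ⊢
  obtain ⟨O, hO⟩ : ∃ O, O = col G x0 w0 := ⟨_, rfl⟩
  rw [← hO] at hbig
  obtain ⟨K, hK⟩ : ∃ K, K = (Finset.univ.filter fun v => col G x0 v = O).card := ⟨_, rfl⟩
  rw [← hK] at hbig
  have hn2 : 2 ≤ n := by
    rw [hn]; exact Fintype.one_lt_card_iff_nontrivial.mpr ⟨a, b, hab⟩
  have hKx : ∀ x : α, (Finset.univ.filter fun v => col G x v = O).card = K := fun x => by
    rw [hK]; exact colClass_card_eq x0 x0 x O rfl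
  have hKy : ∀ x : α, (Finset.univ.filter fun v => col G v x = O).card = K := by
    intro x
    have hconst : ∀ y : α, (Finset.univ.filter fun v => col G v y = O).card =
        (Finset.univ.filter fun v => col G v x = O).card := by
      intro y
      obtain ⟨h, rfl⟩ := exists_smul_eq G y x
      refine Finset.card_bij' (fun v _ => h • v) (fun v _ => h⁻¹ • v) ?_ ?_ ?_ ?_
      · intro v hv
        simp only [Finset.mem_filter, Finset.mem_univ, true_and] at hv ⊢
        rwa [col_smul]
      · intro v hv
        simp only [Finset.mem_filter, Finset.mem_univ, true_and] at hv ⊢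
        rwa [← col_smul h, smul_inv_smul]
      · intro v _; simp
      · intro v _; simp
    have h1 : ∑ y : α, (Finset.univ.filter fun v => col G v y = O).card =
        ∑ v : α, (Finset.univ.filter fun y => col G v y = O).card := by
      simp only [Finset.card_filter]
      exact Finset.sum_comm
    rw [Finset.sum_congr rfl (fun y _ => hconst y), Finset.sum_congr rfl (fun v _ => hKx v),
      Finset.sum_const, Finset.sum_const, smul_eq_mul, smul_eq_mul] at h1
    exact Nat.eq_of_mul_eq_mul_left (by rw [Finset.card_univ]; omega) h1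
  -- self paired
  have hsym : ∀ u v : α, col G u v = O → col G v u = O := by
    have hinter : ((Finset.univ.filter fun v => col G x0 v = O) ∩
        (Finset.univ.filter fun v => col G v x0 = O)).Nonempty := by
      refine Finset.inter_nonempty_of_card_lt_card_add_card (Finset.subset_univ _)
        (Finset.subset_univ _) ?_
      rw [hKx, hKy, Finset.card_univ, ← hn]
      omega
    obtain ⟨y, hy⟩ := hinter
    simp only [Finset.mem_inter, Finset.mem_filter, Finset.mem_univ, true_and] at hy
    intro u v huv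
    obtain ⟨h, h1, h2⟩ := col_eq_iff.mp (huv.trans hy.1.symm)
    rw [← h1, ← h2, col_smul, hy.2]
  have hdiag : ∀ x : α, col G x x ≠ O := by
    intro x e
    have : (Finset.univ.filter fun v => col G x v = O) ⊆ {x} := by
      intro v hv
      simp only [Finset.mem_filter, Finset.mem_univ, true_and, Finset.mem_singleton] at hv ⊢
      exact (col_eq_self_iff (hv.trans e.symm)).mpr rfl
    have := Finset.card_le_card this
    rw [hKx, Finset.card_singleton] at this
    omega
  obtain ⟨S, hS⟩ : ∃ S : α → Finset α, S = fun x => Finset.univ.filter fun v => col G x v ≠ O :=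
    ⟨_, rfl⟩
  have hmS : ∀ x v, v ∈ S x ↔ col G x v ≠ O := by intro x v; simp [hS]
  have hScard : ∀ x, (S x).card + K = n := by
    intro x
    have h1 := Finset.card_filter_add_card_filter_not
      (s := (Finset.univ : Finset α)) (fun v => col G x v = O)
    rw [Finset.card_univ, ← hn, hKx] at h1
    rw [hS]
    show (Finset.univ.filter fun v => col G x v ≠ O).card + K = n
    simp only [ne_eq]
    omega
  have hSsymm : ∀ x v, v ∈ S x ↔ x ∈ S v := by
    intro x v
    rw [hmS, hmS]
    exact ⟨fun h e => h (hsym _ _ e), fun h e => h (hsym _ _ e)⟩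
  have hSself : ∀ x, x ∈ S x := fun x => (hmS x x).mpr (hdiag x)
  obtain ⟨s, hs⟩ : ∃ s, s = (S x0).card := ⟨_, rfl⟩
  have hSs : ∀ x, (S x).card = s := fun x => by have := hScard x; have := hScard x0; omega
  -- pairs in O
  obtain ⟨x, w, hxw⟩ : ∃ x w : α, col G x w = O := ⟨x0, w0, hO.symm⟩
  have hxw_ne : w ≠ x := fun e => hdiag x (e ▸ hxw)
  have hmu : ∀ v, col G x v = O → ((S x) ∩ (S v)).card = ((S x) ∩ (S w)).card := by
    intro v hv
    obtain ⟨h, h1, h2⟩ := col_eq_iff.mp (hxw.trans hv.symm)
    refine Finset.card_bij' (fun z _ => h • z) (fun z _ => h⁻¹ • z) ?_ ?_ ?_ ?_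
    · intro z hz
      simp only [Finset.mem_inter, hmS] at hz ⊢
      refine ⟨?_, ?_⟩
      · rw [show col G x (h • z) = col G (h • x) (h • z) by rw [h1], col_smul]; exact hz.1
      · rw [show col G w (h • z) = col G (h • v) (h • z) by rw [h2], col_smul]; exact hz.2
    · intro z hz
      simp only [Finset.mem_inter, hmS] at hz ⊢
      refine ⟨?_, ?_⟩
      · rw [← col_smul h, h1, smul_inv_smul]; exact hz.1
      · rw [← col_smul h, h2, smul_inv_smul]; exact hz.2
    · intro z _; simp
    · intro z _; simp
  -- the graph of the other colours has diameter two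
  have hmupos : 0 < ((S x) ∩ (S w)).card := by
    by_contra h0
    have hdis : ∀ u v : α, col G u v = O → ∀ z, z ∈ S u → z ∉ S v := by
      intro u v huv z hzu hzv
      obtain ⟨h, h1, h2⟩ := col_eq_iff.mp (huv.trans hxw.symm)
      apply h0
      refine Finset.card_pos.mpr ⟨h⁻¹ • z, ?_⟩
      simp only [Finset.mem_inter, hmS] at hzu hzv ⊢
      refine ⟨?_, ?_⟩
      · rw [← col_smul h, h1, smul_inv_smul]; exact hzu
      · rw [← col_smul h, h2, smul_inv_smul]; exact hzv
    have hsub : ∀ u z, z ∈ S u → S z = S u := by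
      intro u z hz
      refine Finset.eq_of_subset_of_card_le ?_ (by rw [hSs, hSs])
      intro v hv
      rw [hmS]
      intro e
      exact hdis u v e z hz ((hSsymm v z).mpr hv)
    have hB : IsBlock G (S x : Set α) := by
      rw [isBlock_iff_smul_eq_of_nonempty]
      intro h hne
      have himg : h • (S x : Set α) = (S (h • x) : Set α) := by
        ext v
        rw [Set.mem_smul_set_iff_inv_smul_mem]
        simp only [Finset.mem_coe, hmS]
        rw [← col_smul h, smul_inv_smul]
      obtain ⟨z, hz1, hz2⟩ := hne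
      rw [himg] at hz1 ⊢
      rw [Finset.mem_coe] at hz1 hz2
      rw [← hsub _ _ hz1, hsub _ _ hz2]
    rcases IsPreprimitive.isTrivialBlock_of_isBlock hB with hs1 | hu
    · obtain ⟨p, q, r, hq, hr, hne⟩ := hnot2
      have hone : ∀ v, v ≠ p → col G p v = O := by
        intro v hv
        by_contra hc
        obtain ⟨h, hh⟩ := exists_smul_eq G p x
        have hv' : h • v ∈ (S x : Set α) := by
          rw [Finset.mem_coe, hmS, ← hh, col_smul]; exact hc
        have := hs1 hv' (Finset.mem_coe.mpr (hSself x))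
        rw [← hh] at this
        exact hv (smul_left_cancel h this)
      exact hne ((hone q hq).trans (hone r hr).symm)
    · have : w ∈ (S x : Set α) := by rw [hu]; trivial
      rw [Finset.mem_coe, hmS] at this
      exact this hxw
  -- counting
  have hcount : K * ((S x) ∩ (S w)).card ≤ s * s := by
    calc K * ((S x) ∩ (S w)).card
        = ∑ v ∈ Finset.univ.filter (fun v => col G x v = O), ((S x) ∩ (S v)).card := by
          rw [Finset.sum_congr rfl (fun v hv => hmu v (Finset.mem_filter.mp hv).2),
            Finset.sum_const, hKx, smul_eq_mul]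
      _ ≤ ∑ v : α, ((S x) ∩ (S v)).card :=
          Finset.sum_le_sum_of_subset (Finset.subset_univ _)
      _ = ∑ v : α, ∑ z ∈ S x, if v ∈ S z then 1 else 0 := by
          refine Finset.sum_congr rfl fun v _ => ?_
          rw [← Finset.card_filter]
          congr 1
          ext z
          simp only [Finset.mem_inter, Finset.mem_filter]
          rw [hSsymm v z]
      _ = s * s := by
          rw [Finset.sum_comm, Finset.sum_congr rfl (fun z _ => by
            rw [← Finset.card_filter, Finset.filter_univ_mem, hSs]), Finset.sum_const, hSs,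
            smul_eq_mul]
  have hD1 : 2 * s ≤ dnum G x w + 2 * ((S x) ∩ (S w)).card := by
    have hsub1 : (S x \ S w) ∪ (S w \ S x) ⊆
        Finset.univ.filter fun z => col G z x ≠ col G z w := by
      intro z hz
      simp only [Finset.mem_union, Finset.mem_sdiff, hmS, not_not] at hz
      simp only [Finset.mem_filter, Finset.mem_univ, true_and]
      rcases hz with ⟨h1, h2⟩ | ⟨h1, h2⟩
      · rw [hsym _ _ h2]; exact fun e => h1 (hsym _ _ e)
      · rw [hsym _ _ h2]; exact fun e => h1 (hsym _ _ e.symm)
    have h1 := Finset.card_le_card hsub1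
    rw [Finset.card_union_of_disjoint (disjoint_sdiff_sdiff)] at h1
    have h2 := Finset.card_sdiff_add_card_inter (S x) (S w)
    have h3 := Finset.card_sdiff_add_card_inter (S w) (S x)
    rw [Finset.inter_comm (S w) (S x)] at h3
    rw [hSs] at h2 h3
    change (S x \ S w).card + (S w \ S x).card ≤ dnum G x w at h1
    omega
  have h5mu : 5 * ((S x) ∩ (S w)).card ≤ 3 * s := by
    have h1 : 5 * s ≤ 3 * K := by have := hScard x0; omega
    have h2 : 5 * ((S x) ∩ (S w)).card * K ≤ 3 * s * K :=
      calc 5 * ((S x) ∩ (S w)).card * K = 5 * (K * ((S x) ∩ (S w)).card) := by ring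
        _ ≤ 5 * (s * s) := Nat.mul_le_mul_left 5 hcount
        _ = (5 * s) * s := by ring
        _ ≤ (3 * K) * s := Nat.mul_le_mul_right s h1
        _ = 3 * s * K := by ring
    exact Nat.le_of_mul_le_mul_right h2 (by omega)
  have hKle : K ≤ s * s := le_trans (Nat.le_mul_of_pos_right K hmupos) hcount
  obtain ⟨D, hD⟩ : ∃ D, D = dnum G a b := ⟨_, rfl⟩
  rw [← hD]
  have hc := orbitalGraph_connected (G := G) hab
  obtain ⟨s0, hs0⟩ : ∃ s0, s0 = (orbitalGraph G a b).dist x w := ⟨_, rfl⟩
  have hd := dnum_le_dist (G := G) hab x w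
  rw [← hs0, ← hD] at hd
  have hs0pos : 0 < s0 := hs0 ▸ hc.pos_dist_of_ne (Ne.symm hxw_ne)
  have hexp : (2 * D + 1) ^ 2 = 4 * (D * D) + 4 * D + 1 := by ring
  rcases Nat.lt_or_ge s0 2 with h1 | h2
  · have hs01 : s0 = 1 := by omega
    rw [hs01, one_mul] at hd
    have h4 : 4 * s ≤ 5 * D := by omega
    have hn' : n = s + K := by have := hScard x0; omega
    have : 4 * (s * s) * 4 ≤ 4 * (D * D) * 25 :=
      calc 4 * (s * s) * 4 = (4 * s) * (4 * s) := by ring
        _ ≤ (5 * D) * (5 * D) := Nat.mul_le_mul h4 h4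
        _ ≤ 4 * (D * D) * 25 := by nlinarith
    nlinarith [hKle, h4]
  · obtain ⟨k, hk⟩ : ∃ k, k = (Finset.univ.filter fun v => (orbitalGraph G a b).Adj a v).card :=
      ⟨_, rfl⟩
    have hpk := packing (G := G) hab x w ((s0 - 2) / 3) (by rw [← hs0]; omega) (S x) (by
      intro v hv
      rw [hmS]
      intro e
      obtain ⟨h, h1, h2'⟩ := col_eq_iff.mp (e.trans hxw.symm)
      have h3 := orbitalGraph_dist_smul (G := G) hab h x w
      rw [h1, h2', ← hs0] at h3
      omega)
    rw [hSs, ← hk] at hpk
    have hk1 : k ≤ s := le_trans (Nat.le_succ k) (le_trans (Nat.le_mul_of_pos_left _ (Nat.succ_pos _)) hpk)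
    have hsk : s0 * k ≤ 4 * s := by
      have h3 : s0 - 1 ≤ 3 * ((s0 - 2) / 3 + 1) := by omega
      have h4 : (s0 - 1) * k ≤ 3 * s :=
        calc (s0 - 1) * k ≤ 3 * ((s0 - 2) / 3 + 1) * (k + 1) := Nat.mul_le_mul h3 (Nat.le_succ k)
          _ ≤ 3 * s := by rw [mul_assoc]; exact Nat.mul_le_mul_left 3 hpk
      have h5 : s0 * k = (s0 - 1) * k + k := by
        rw [← Nat.succ_mul]; congr 1; omega
      omega
    have hedge := two_mul_pred_le (G := G) hab
    rw [← hn, ← hk, ← hD] at hedge
    have h6 : 4 * s ≤ 5 * (s0 * D) := by omega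
    have h7 : 2 * (n - 1) * (4 * s) ≤ 5 * (D * D) * (4 * s) :=
      calc 2 * (n - 1) * (4 * s) ≤ (D * k) * (5 * (s0 * D)) := Nat.mul_le_mul hedge h6
        _ = 5 * (D * D) * (s0 * k) := by ring
        _ ≤ 5 * (D * D) * (4 * s) := Nat.mul_le_mul_left _ hsk
    have hspos : 0 < 4 * s := by
      have : 0 < (S x).card := Finset.card_pos.mpr ⟨x, hSself x⟩
      rw [hSs] at this
      omega
    have h8 := Nat.le_of_mul_le_mul_right h7 hspos
    omega

/-- Minimal degree of a primitive group without 3-cycles. -/
theorem card_le_moved_sq [Finite G] (h3 : ∀ h : G, ¬ (toPermHom G α h).IsThreeCycle)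
    (g : G) (a : α) (ha : g • a ≠ a) :
    Fintype.card α ≤ (2 * (Finset.univ.filter fun z : α => g • z ≠ z).card + 1) ^ 2 := by
  classical
  obtain ⟨m, hm⟩ : ∃ m, m = (Finset.univ.filter fun z : α => g • z ≠ z).card := ⟨_, rfl⟩
  rw [← hm]
  by_cases h2 : ∀ x y z : α, y ≠ x → z ≠ x → col G x y = col G x z
  · have hb := bochert (G := G) (α := α) (fun p q r t hpq hrt => by
      obtain ⟨h, rfl⟩ := exists_smul_eq G p r
      obtain ⟨k, hk1, hk2⟩ := col_eq_iff.mp
        (h2 (h • p) t (h • q) (Ne.symm hrt) (fun e => hpq (smul_left_cancel h e).symm))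
      exact ⟨k * h, by rw [mul_smul, hk1], by rw [mul_smul, hk2]⟩) h3 g a ha
    rw [← hm] at hb
    have h1 : (m - 1) ^ 2 ≤ m ^ 2 := Nat.pow_le_pow_left (Nat.sub_le m 1) 2
    have h2' : (2 * m + 1) ^ 2 = 4 * m ^ 2 + 4 * m + 1 := by ring
    omega
  · push Not at h2
    have hab : a ≠ g • a := fun e => ha e.symm
    have hD := dnum_le_moved (G := G) g a
    rw [← hm] at hD
    refine le_trans ?_ (Nat.pow_le_pow_left (by omega : 2 * dnum G a (g • a) + 1 ≤ 2 * m + 1) 2)
    by_cases hbig : ∃ x w : α, 5 * Fintype.card α <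
        8 * (Finset.univ.filter fun v => col G x v = col G x w).card
    · obtain ⟨x, w, hxw⟩ := hbig
      exact uni_bound_big hab h2 hxw
    · push Not at hbig
      exact uni_bound_small hab hbig

end Uniprimitive

end CfsgLib.MinDegree
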