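import Cfsg.Agent.Lib.Perm.RegularNormal
import Cfsg.Agent.Lib.Perm.SharplyTwo
import Mathlib.GroupTheory.GroupAction.MultiplePrimitivity

/-!
Normal subgroups of multiply primitive groups.
-/

set_option autoImplicit false

namespace CfsgLib.Perm

open MulAction SubMulAction

section

variable {G : Type*} [Group G] {X : Type*} [MulAction G X]

/-- `(n-1)`-transitivity implies `n`-transitivity in degree `n`. -/
theorem isMultiplyPretransitive_top_of_pred [Finite X]
    (h : IsMultiplyPretransitive G X (Nat.card X - 1)) :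
    IsMultiplyPretransitive G X (Nat.card X) := by
  have hr : (MulAction.toPermHom G X).range = ⊤ := by
    apply Equiv.Perm.eq_top_of_isMultiplyPretransitive
    constructor
    intro x y
    obtain ⟨g, hg⟩ := h.exists_smul_eq x y
    exact ⟨⟨MulAction.toPermHom G X g, g, rfl⟩, hg⟩
  constructor
  intro x y
  obtain ⟨σ, hσ⟩ := (Equiv.Perm.isMultiplyPretransitive X (Nat.card X)).exists_smul_eq x y
  obtain ⟨g, rfl⟩ : σ ∈ (MulAction.toPermHom G X).range := by rw [hr]; exact Subgroup.mem_top σ
  exact ⟨g, hσ⟩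

theorem faithfulSMul_ofStabilizer [FaithfulSMul G X] (a : X) :
    FaithfulSMul (stabilizer G a) (ofStabilizer G a) := by
  constructor
  intro g h hgh
  apply Subtype.ext
  refine eq_of_smul_eq_smul fun x : X => ?_
  by_cases hx : x = a
  · rw [hx, mem_stabilizer_iff.mp g.2, mem_stabilizer_iff.mp h.2]
  · exact congrArg Subtype.val (hgh ⟨x, by rw [mem_ofStabilizer_iff]; exact hx⟩)

theorem subgroupOf_stabilizer_ne_bot {H : Subgroup G} {a : X} (h : stabilizer H a ≠ ⊥) :
    H.subgroupOf (stabilizer G a) ≠ ⊥ := by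
  intro e
  apply h
  rw [Subgroup.eq_bot_iff_forall] at e ⊢
  intro x hx
  have := e ⟨(x : G), hx⟩ x.2
  exact Subtype.ext (congrArg (fun z : stabilizer G a => (z : G)) this)

/-- Transfer from `H ∩ G_a` to the stabilizer of `a` in `H`. -/
theorem isMultiplyPretransitive_stabilizer_of_subgroupOf (H : Subgroup G) (a : X) (k : ℕ)
    (h : IsMultiplyPretransitive (H.subgroupOf (stabilizer G a)) (ofStabilizer G a) k) :
    IsMultiplyPretransitive (stabilizer H a) (ofStabilizer H a) k := by
  constructor
  intro x y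
  let ι : (Fin k ↪ ofStabilizer H a) → (Fin k ↪ ofStabilizer G a) := fun z =>
    ⟨fun i => ⟨(z i : X), (z i).2⟩, fun i j e => z.injective (Subtype.ext (congrArg (fun w : ofStabilizer G a => (w : X)) e))⟩
  obtain ⟨g, hg⟩ := h.exists_smul_eq (ι x) (ι y)
  refine ⟨⟨⟨((g : stabilizer G a) : G), g.2⟩, (g : stabilizer G a).2⟩, ?_⟩
  ext i
  exact congrArg (fun z : Fin k ↪ ofStabilizer G a => (z i : X)) hg

/-- In a three-primitive group that is not the full symmetric group, a transitive normal subgroup
is not sharply two-transitive. -/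
theorem not_sharply_two_of_normal [Finite G] [Finite X] [FaithfulSMul G X] (hX : 3 ≤ Nat.card X)
    (h3 : IsMultiplyPreprimitive G X 3) (hns : ¬ IsMultiplyPretransitive G X (Nat.card X))
    (H : Subgroup G) [hH : H.Normal] (h2 : IsMultiplyPretransitive H X 2) :
    ∃ a b : X, a ≠ b ∧ ∃ g ∈ H, g ≠ 1 ∧ g • a = a ∧ g • b = b := by
  classical
  by_contra hcon
  push Not at hcon
  haveI := Fintype.ofFinite X
  let π := (MulAction.toPermHom G X).comp H.subtype
  let M : Subgroup (Equiv.Perm X) := π.range
  have hMt : IsMultiplyPretransitive M X 2 := by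
    constructor
    intro x y
    obtain ⟨g, hg⟩ := h2.exists_smul_eq x y
    exact ⟨⟨π g, g, rfl⟩, hg⟩
  have hsharp : ∀ x : Fin 2 ↪ X, stabilizer M x = ⊥ := by
    intro x
    rw [Subgroup.eq_bot_iff_forall]
    rintro ⟨_, g, rfl⟩ hg
    have hg1 : (g : G) = 1 := by
      by_contra hne
      exact hcon (x 0) (x 1) (x.injective.ne (by decide)) g g.2 hne
        (congrArg (fun z : Fin 2 ↪ X => z 0) hg) (congrArg (fun z : Fin 2 ↪ X => z 1) hg)
    apply Subtype.ext
    show π g = 1
    rw [show g = 1 from Subtype.ext hg1, map_one]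
  obtain ⟨T, -, -, -, -, -, -, -, -, hTt, -, hTmem, -, -⟩ :=
    sharply_two_structure M hMt hsharp (by rw [← Nat.card_eq_fintype_card]; omega)
  have hmem : ∀ (g : H) (hg : π g ∈ M), (⟨π g, hg⟩ : M) ∈ T ↔
      ((g : G) = 1 ∨ ∀ a : X, (g : G) • a ≠ a) := by
    intro g hg
    rw [hTmem]
    refine or_congr ⟨fun h => ?_, fun h => ?_⟩ Iff.rfl
    · refine eq_of_smul_eq_smul fun x : X => ?_
      rw [one_smul]
      exact congrArg (fun z : M => (z : Equiv.Perm X) x) h
    · apply Subtype.ext
      show π g = 1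
      rw [show g = 1 from Subtype.ext h, map_one]
  let T0 : Subgroup G :=
    { carrier := {g | g ∈ H ∧ (g = 1 ∨ ∀ a : X, g • a ≠ a)}
      one_mem' := ⟨H.one_mem, Or.inl rfl⟩
      mul_mem' := by
        rintro g k ⟨hg, hg'⟩ ⟨hk, hk'⟩
        refine ⟨H.mul_mem hg hk, ?_⟩
        have h1 := T.mul_mem ((hmem ⟨g, hg⟩ ⟨⟨g, hg⟩, rfl⟩).mpr hg') ((hmem ⟨k, hk⟩ ⟨⟨k, hk⟩, rfl⟩).mpr hk')
        refine (hmem (⟨g, hg⟩ * ⟨k, hk⟩) ⟨_, rfl⟩).mp ?_
        convert h1 using 1
        exact Subtype.ext (map_mul π _ _)
      inv_mem' := by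
        rintro g ⟨hg, hg'⟩
        refine ⟨H.inv_mem hg, hg'.imp (fun h => by rw [h, inv_one]) fun h a e => h a ?_⟩
        conv_lhs => rw [← e]
        rw [smul_inv_smul] }
  haveI : T0.Normal := ⟨fun g hg k => ⟨hH.conj_mem g hg.1 k, hg.2.imp (fun h => by rw [h]; group)
    fun h a e => h (k⁻¹ • a) (by rw [mul_smul, mul_smul] at e; rw [eq_inv_smul_iff, e])⟩⟩
  have hT0t : IsPretransitive T0 X := by
    constructor
    intro a b
    obtain ⟨⟨⟨s, g, hs⟩, ht⟩, hab⟩ := hTt.exists_smul_eq a b
    subst hs
    exact ⟨⟨(g : G), g.2, (hmem g ⟨g, rfl⟩).mp ht⟩, hab⟩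
  have hT0r : ∀ a : X, stabilizer T0 a = ⊥ := by
    intro a
    rw [Subgroup.eq_bot_iff_forall]
    rintro ⟨g, hg, rfl | hfix⟩ hga
    · rfl
    · exact absurd hga (hfix a)
  have hE : (3 : ℕ∞) ≤ ENat.card X := by rw [ENat.card_eq_coe_natCard]; exact_mod_cast hX
  rcases regular_normal_three_primitive hX h3 hT0t hT0r with h | h
  · exact hns (by rw [h]; exact IsMultiplyPreprimitive.isMultiplyPretransitive G X 3)
  · exact hns (isMultiplyPretransitive_top_of_pred (by
      rw [h]; exact IsMultiplyPreprimitive.isMultiplyPretransitive G X 3))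

end

/-- A non-trivial normal subgroup, non-regular when `k ≥ 2`, of a `k`-primitive group, not the
symmetric group when `k ≥ 3`, is `k`-transitive. -/
theorem normal_isMultiplyPretransitive (k : ℕ) :
    ∀ {G X : Type*} [Group G] [MulAction G X] [Finite G] [Finite X] [FaithfulSMul G X],
      k ≤ Nat.card X → IsMultiplyPreprimitive G X k → ∀ (H : Subgroup G), H.Normal → H ≠ ⊥ →
        (2 ≤ k → ∃ a : X, stabilizer H a ≠ ⊥) →
        (3 ≤ k → ¬ IsMultiplyPretransitive G X (Nat.card X)) →
        IsMultiplyPretransitive H X k := by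
  induction k with
  | zero => intros; exact is_zero_pretransitive'
  | succ k ih =>
    intro G X _ _ _ _ _ hkn hG H hHn hH hnr hns
    haveI := hG
    haveI := hHn
    have hE : ((k + 1 : ℕ) : ℕ∞) ≤ ENat.card X := by
      rw [ENat.card_eq_coe_natCard]; exact_mod_cast hkn
    haveI : IsPreprimitive G X :=
      (is_one_preprimitive_iff G X).mp (isMultiplyPreprimitive_of_le G X hG (by omega) hE)
    haveI hHt : IsPretransitive H X := normal_isPretransitive hH
    rcases Nat.eq_zero_or_pos k with rfl | hk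
    · exact is_one_pretransitive_iff.mpr hHt
    obtain ⟨a, ha⟩ := hnr (by omega)
    haveI := isMultiplyPreprimitive_ofStabilizer G X (n := k) (a := a)
    haveI := faithfulSMul_ofStabilizer (G := G) a
    haveI : (H.subgroupOf (stabilizer G a)).Normal := Subgroup.normal_subgroupOf
    have hc := nat_card_ofStabilizer_add_one_eq G a
    apply isMultiplyPretransitive_succ a
    apply isMultiplyPretransitive_stabilizer_of_subgroupOf H a k
    refine ih (by omega) inferInstance _ inferInstance (subgroupOf_stabilizer_ne_bot ha) ?_ ?_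
    · intro hk2
      by_contra hcon
      push Not at hcon
      have hE' : ((k : ℕ) : ℕ∞) ≤ ENat.card (ofStabilizer G a) := by
        rw [ENat.card_eq_coe_natCard]; exact_mod_cast (show k ≤ _ by omega)
      haveI : IsPreprimitive (stabilizer G a) (ofStabilizer G a) :=
        (is_one_preprimitive_iff _ _).mp
          (isMultiplyPreprimitive_of_le _ _ inferInstance hk hE')
      haveI : IsPretransitive (H.subgroupOf (stabilizer G a)) (ofStabilizer G a) :=
        normal_isPretransitive (subgroupOf_stabilizer_ne_bot ha)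
      have h2 : IsMultiplyPretransitive H X 2 := by
        apply isMultiplyPretransitive_succ (k := 1) a
        apply isMultiplyPretransitive_stabilizer_of_subgroupOf H a 1
        exact is_one_pretransitive_iff.mpr inferInstance
      obtain ⟨u, v, huv, g, hg, hg1, hgu, hgv⟩ := not_sharply_two_of_normal (by omega)
        (isMultiplyPreprimitive_of_le G X hG (by omega) hE) (hns (by omega)) H h2
      obtain ⟨m, hm⟩ := exists_smul_eq G u a
      have hmv : m • v ≠ a := fun e => huv (MulAction.injective m (hm.trans e.symm))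
      have hmem : m * g * m⁻¹ ∈ stabilizer G a := by
        rw [mem_stabilizer_iff, mul_smul, mul_smul, inv_smul_eq_iff.mpr hm.symm, hgu, hm]
      have hfix : (⟨⟨m * g * m⁻¹, hmem⟩, hHn.conj_mem g hg m⟩ : H.subgroupOf (stabilizer G a)) ∈
          stabilizer (H.subgroupOf (stabilizer G a))
            (⟨m • v, by rw [mem_ofStabilizer_iff]; exact hmv⟩ : ofStabilizer G a) := by
        rw [mem_stabilizer_iff]
        apply Subtype.ext
        show (m * g * m⁻¹) • m • v = m • v
        rw [mul_smul, mul_smul, inv_smul_smul, hgv]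
      rw [hcon, Subgroup.mem_bot] at hfix
      have h5 : m * g * m⁻¹ = 1 :=
        congrArg (fun z : H.subgroupOf (stabilizer G a) => ((z : stabilizer G a) : G)) hfix
      exact hg1 (conj_eq_one_iff.mp h5)
    · intro hk3 hfull
      apply hns (by omega)
      rw [show Nat.card X = Nat.card (ofStabilizer G a) + 1 from hc.symm]
      exact isMultiplyPretransitive_succ a hfull

end CfsgLib.Perm
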