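import Mathlib.GroupTheory.Perm.Cycle.Basic
import Mathlib.Dynamics.PeriodicPts.Defs
import Mathlib.GroupTheory.OrderOfElement
set_option autoImplicit false

/-!
Odd periods of permutations modified at few points, and involutions glued from transpositions.
-/

namespace CfsgLib.Perm.OddGraph

open Equiv Equiv.Perm

variable {α : Type*} [DecidableEq α] [Fintype α]

/-- `a` has odd period under `g`. -/
def OddPer (g : Perm α) (a : α) : Prop := ∃ k : ℕ, Odd k ∧ (g ^ k) a = a

/-- The least period of `a` under `g`. -/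
noncomputable abbrev per (g : Perm α) (a : α) : ℕ := Function.minimalPeriod g a

omit [DecidableEq α] in
theorem per_pos (g : Perm α) (a : α) : 0 < per g a := by
  apply Function.minimalPeriod_pos_of_mem_periodicPts
  exact ⟨orderOf g, orderOf_pos g, by
    show (g : α → α)^[orderOf g] a = a
    rw [← Equiv.Perm.coe_pow, pow_orderOf_eq_one]; rfl⟩

omit [DecidableEq α] [Fintype α] in
theorem pow_per (g : Perm α) (a : α) : (g ^ per g a) a = a := by
  rw [Equiv.Perm.coe_pow]; exact Function.iterate_minimalPeriod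

omit [DecidableEq α] [Fintype α] in
theorem per_dvd {g : Perm α} {a : α} {n : ℕ} (h : (g ^ n) a = a) : per g a ∣ n :=
  Function.IsPeriodicPt.minimalPeriod_dvd (by rwa [Equiv.Perm.coe_pow] at h)

omit [DecidableEq α] [Fintype α] in
theorem per_dvd_zpow {g : Perm α} {a : α} {n : ℤ} (h : (g ^ n) a = a) : (per g a : ℤ) ∣ n := by
  rcases n.eq_nat_or_neg with ⟨k, rfl | rfl⟩
  · exact Int.natCast_dvd_natCast.mpr (per_dvd (by rwa [zpow_natCast] at h))
  · refine (Int.natCast_dvd_natCast.mpr (per_dvd (g := g) (a := a) (n := k) ?_)).neg_right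
    rw [zpow_neg, zpow_natCast, Equiv.Perm.inv_eq_iff_eq] at h
    exact h.symm

omit [DecidableEq α] [Fintype α] in
theorem oddPer_iff {g : Perm α} {a : α} : OddPer g a ↔ Odd (per g a) :=
  ⟨fun ⟨k, hk, h⟩ => hk.of_dvd_nat (per_dvd h), fun h => ⟨_, h, pow_per g a⟩⟩

omit [DecidableEq α] [Fintype α] in
theorem pow_ne_of_lt_per {g : Perm α} {a : α} {i : ℕ} (h0 : 0 < i) (hi : i < per g a) :
    (g ^ i) a ≠ a := fun h => absurd (Nat.le_of_dvd h0 (per_dvd h)) (by omega)

omit [DecidableEq α] [Fintype α] in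
theorem OddPer.of_fixed {g : Perm α} {a : α} (h : g a = a) : OddPer g a :=
  ⟨1, odd_one, by rw [pow_one]; exact h⟩

omit [DecidableEq α] [Fintype α] in
theorem OddPer.of_pow {g : Perm α} {a : α} {i : ℕ} (h : OddPer g ((g ^ i) a)) : OddPer g a := by
  obtain ⟨k, hk, h⟩ := h
  refine ⟨k, hk, (g ^ i).injective ?_⟩
  rw [← Equiv.Perm.mul_apply, ← pow_add, add_comm, pow_add, Equiv.Perm.mul_apply, h]

omit [DecidableEq α] [Fintype α] in
theorem OddPer.pow_self {g : Perm α} {a : α} (h : OddPer g a) (i : ℕ) : OddPer g ((g ^ i) a) := by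
  obtain ⟨k, hk, h⟩ := h
  refine ⟨k, hk, ?_⟩
  rw [← Equiv.Perm.mul_apply, ← pow_add, add_comm, pow_add, Equiv.Perm.mul_apply, h]

omit [DecidableEq α] [Fintype α] in
theorem pow_congr_set {g g' : Perm α} {P : α → Prop} (hP : ∀ b, P b → P (g b))
    (hgg : ∀ b, P b → g' b = g b) {a : α} (ha : P a) (i : ℕ) :
    (g' ^ i) a = (g ^ i) a ∧ P ((g ^ i) a) := by
  induction i with
  | zero => exact ⟨rfl, ha⟩
  | succ i ih =>
    rw [pow_succ', pow_succ', Equiv.Perm.mul_apply, Equiv.Perm.mul_apply, ih.1, hgg _ ih.2]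
    exact ⟨rfl, hP _ ih.2⟩

omit [DecidableEq α] [Fintype α] in
theorem OddPer.congr {g g' : Perm α} {P : α → Prop} (hP : ∀ b, P b → P (g b))
    (hgg : ∀ b, P b → g' b = g b) {a : α} (ha : P a) (h : OddPer g a) : OddPer g' a := by
  obtain ⟨k, hk, h⟩ := h
  exact ⟨k, hk, by rw [(pow_congr_set hP hgg ha k).1, h]⟩

omit [DecidableEq α] [Fintype α] in
/-- Where `g` agrees with `d` off `E`, iterates of `g` follow those of `d` until they meet `E`. -/
theorem gap {g d : Perm α} {E : Finset α} (hgd : ∀ b, b ∉ E → g b = d b) {e e' : α}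
    (he : g e = d e') {k : ℕ} (hk : 0 < k) (hav : ∀ i, 0 < i → i < k → (d ^ i) e' ∉ E) :
    (g ^ k) e = (d ^ k) e' := by
  induction k with
  | zero => omega
  | succ k ih =>
    rcases Nat.eq_zero_or_pos k with rfl | hk'
    · rw [pow_one, pow_one]; exact he
    · rw [pow_succ' g, pow_succ' d, Equiv.Perm.mul_apply, Equiv.Perm.mul_apply,
        ih hk' (fun i h0 hi => hav i h0 (by omega)), hgd _ (hav k hk' (by omega))]

omit [Fintype α] in
/-- All periods of `g` are odd if those at `E` are and off `E` it follows `d`. -/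
theorem oddPer_of_agree {g d : Perm α} {E : Finset α} (hgd : ∀ b, b ∉ E → g b = d b)
    (hE : ∀ e ∈ E, OddPer g e) {a : α} (ha : OddPer d a ∨ ∃ i : ℕ, (d ^ i) a ∈ E) :
    OddPer g a := by
  classical
  by_cases h : ∃ i : ℕ, (d ^ i) a ∈ E
  · have key : ∀ i ≤ Nat.find h, (g ^ i) a = (d ^ i) a := by
      intro i hi
      induction i with
      | zero => rfl
      | succ i ih =>
        rw [pow_succ' g, pow_succ' d, Equiv.Perm.mul_apply, Equiv.Perm.mul_apply, ih (by omega),
          hgd _ (Nat.find_min h (by omega))]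
    exact OddPer.of_pow (i := Nat.find h) (by rw [key _ le_rfl]; exact hE _ (Nat.find_spec h))
  · obtain ⟨k, hk, hka⟩ := ha.resolve_right h
    simp only [not_exists] at h
    exact OddPer.congr (P := fun b => ∀ i : ℕ, (d ^ i) b ∉ E)
      (fun b hb i => by rw [← Equiv.Perm.mul_apply, ← pow_succ]; exact hb (i + 1))
      (fun b hb => hgd b (hb 0)) h ⟨k, hk, hka⟩

omit [Fintype α] in
/-- Inserting two pairs `c₁ c₂` and `c₃ c₄` behind `p` and `q` keeps the period of `p` odd. -/
theorem oddPer_chain {g d : Perm α} {E : Finset α} (hgd : ∀ b, b ∉ E → g b = d b)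
    {p q c₁ c₂ c₃ c₄ : α} (hEsub : ∀ e ∈ E, e = p ∨ e = q ∨ ∀ i : ℕ, (d ^ i) p ≠ e)
    (hp : g p = c₁) (h1 : g c₁ = c₂) (h2 : g c₂ = d p) (hq : g q = c₃) (h3 : g c₃ = c₄)
    (h4 : g c₄ = d q) (hodd : Odd (per d p)) :
    OddPer g p ∧ OddPer g c₁ ∧ OddPer g c₂ := by
  classical
  set P := per d p with hP
  have hPpos : 0 < P := hodd.pos
  suffices h : OddPer g p by
    refine ⟨h, ?_, ?_⟩
    · have := h.pow_self 1; rwa [pow_one, hp] at this
    · have := h.pow_self 2; rwa [pow_two, Equiv.Perm.mul_apply, hp, h1] at this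
  by_cases hpq : ∃ i : ℕ, 0 < i ∧ i < P ∧ (d ^ i) p = q
  · obtain ⟨j0, hjP, hj⟩ := Nat.find_spec hpq
    set j := Nat.find hpq
    have e1 : (g ^ j) c₂ = q := by
      rw [gap hgd h2 j0 fun i h0 hi hiE => ?_, hj]
      rcases hEsub _ hiE with h | h | h
      · exact pow_ne_of_lt_per h0 (by omega) h
      · exact Nat.find_min hpq hi ⟨h0, by omega, h⟩
      · exact h i rfl
    have e2 : (g ^ (P - j)) c₄ = p := by
      rw [gap hgd h4 (by omega) fun i h0 hi hiE => ?_, ← hj, ← Equiv.Perm.mul_apply, ← pow_add,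
        show P - j + j = P by omega, hP, pow_per]
      have e : (d ^ i) q = (d ^ (i + j)) p := by
        rw [← hj, ← Equiv.Perm.mul_apply, ← pow_add]
      rcases hEsub _ hiE with h | h | h
      · exact pow_ne_of_lt_per (g := d) (a := p) (i := i + j) (by omega) (by omega) (e ▸ h)
      · refine pow_ne_of_lt_per (g := d) (a := p) (i := i) h0 (by omega) ((d ^ j).injective ?_)
        rw [← Equiv.Perm.mul_apply, ← pow_add, hj, add_comm, ← e]; exact h
      · exact h (i + j) e.symm
    refine ⟨(P - j) + 2 + (j + 2), ?_, ?_⟩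
    · rw [show (P - j) + 2 + (j + 2) = P + 4 by omega]; exact hodd.add_even (by decide)
    · rw [pow_add, Equiv.Perm.mul_apply, pow_add g j 2, Equiv.Perm.mul_apply, pow_two,
        Equiv.Perm.mul_apply, hp, h1, e1, pow_add, Equiv.Perm.mul_apply, pow_two,
        Equiv.Perm.mul_apply, hq, h3, e2]
  · simp only [not_exists, not_and] at hpq
    have e1 : (g ^ P) c₂ = p := by
      rw [gap hgd h2 hPpos fun i h0 hi hiE => ?_, hP, pow_per]
      rcases hEsub _ hiE with h | h | h
      · exact pow_ne_of_lt_per h0 (by omega) h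
      · exact hpq i h0 hi h
      · exact h i rfl
    refine ⟨P + 2, hodd.add_even (by decide), ?_⟩
    rw [pow_add, Equiv.Perm.mul_apply, pow_two, Equiv.Perm.mul_apply, hp, h1, e1]

omit [Fintype α] in
theorem swap_invol {h : Perm α} (hh : h * h = 1) {a b : α} (ha : h a = a) (hb : h b = b) :
    (h * Equiv.swap a b) * (h * Equiv.swap a b) = 1 := by
  have hc : Equiv.swap a b * h = h * Equiv.swap a b := by
    have := Equiv.mul_swap_eq_swap_mul h a b
    rw [ha, hb] at this
    exact this.symm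
  rw [mul_assoc, ← mul_assoc (Equiv.swap a b), hc, ← mul_assoc, ← mul_assoc, hh, one_mul,
    Equiv.swap_mul_self]

omit [Fintype α] in
theorem swap_invol' {h : Perm α} (hh : h * h = 1) {a : α} :
    (h * Equiv.swap a (h a)) * (h * Equiv.swap a (h a)) = 1 := by
  have hha : h (h a) = a := by rw [← Equiv.Perm.mul_apply, hh]; rfl
  have hc : Equiv.swap a (h a) * h = h * Equiv.swap a (h a) := by
    have := Equiv.mul_swap_eq_swap_mul h a (h a)
    rw [hha, Equiv.swap_comm (h a) a] at this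
    exact this.symm
  rw [mul_assoc, ← mul_assoc (Equiv.swap a (h a)), hc, ← mul_assoc, ← mul_assoc, hh, one_mul,
    Equiv.swap_mul_self]

omit [Fintype α] in
theorem invol_apply {x : Perm α} (hx : x * x = 1) (a : α) : x (x a) = a := by
  rw [← Equiv.Perm.mul_apply, hx]; rfl

omit [Fintype α] in
theorem invol_inv {x : Perm α} (hx : x * x = 1) : x⁻¹ = x := inv_eq_of_mul_eq_one_left hx

omit [Fintype α] in
theorem invol_conj_zpow {x y : Perm α} (hx : x * x = 1) (hy : y * y = 1) (i : ℤ) :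
    x * (x * y) ^ i = ((x * y) ^ i)⁻¹ * x := by
  have h : (SemiconjBy x (x * y) (x * y)⁻¹) := by
    show x * (x * y) = (x * y)⁻¹ * x
    rw [mul_inv_rev, invol_inv hy, invol_inv hx, ← mul_assoc, hx, one_mul, mul_assoc, hx, mul_one]
  have := h.zpow_right i
  rw [inv_zpow] at this
  exact this.eq

omit [Fintype α] in
theorem x_zpow_apply {x y : Perm α} (hx : x * x = 1) (hy : y * y = 1) (i : ℤ) (a : α) :
    x (((x * y) ^ i) a) = ((x * y) ^ (-i)) (x a) := by
  rw [← Equiv.Perm.mul_apply, invol_conj_zpow hx hy, zpow_neg]; rfl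

omit [Fintype α] in
theorem y_zpow_apply {x y : Perm α} (hx : x * x = 1) (hy : y * y = 1) (i : ℤ) (a : α) :
    y (((x * y) ^ i) a) = ((x * y) ^ (-(i + 1))) (x a) := by
  have e : y = x * (x * y) := by rw [← mul_assoc, hx, one_mul]
  conv_lhs => arg 1; rw [e]
  rw [Equiv.Perm.mul_apply, ← Equiv.Perm.mul_apply (x * y), ← zpow_one_add, add_comm,
    x_zpow_apply hx hy]

end CfsgLib.Perm.OddGraph
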