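import Mathlib.GroupTheory.GroupAction.Basic
import Mathlib.SetTheory.Cardinal.Finite
import Mathlib.Data.Set.Card
import Mathlib.Data.Finset.Card
import Mathlib.Algebra.Ring.Divisibility.Basic
import Mathlib.Algebra.Ring.Nat

/-!
An invariant finite set whose orbits all have one length.
-/

set_option autoImplicit false

namespace CfsgLib.Perm

theorem dvd_ncard_of_orbits {H α : Type*} [Group H] [MulAction H α] [Finite α] (S : Set α) (r : ℕ)
    (hinv : ∀ h : H, ∀ x ∈ S, h • x ∈ S)
    (hr : ∀ x ∈ S, Nat.card (MulAction.orbit H x) = r) : r ∣ S.ncard := by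
  generalize hn : S.ncard = n
  induction n using Nat.strong_induction_on generalizing S with
  | _ n IH =>
    rcases Set.eq_empty_or_nonempty S with rfl | ⟨x, hx⟩
    · rw [← hn, Set.ncard_empty]; exact dvd_zero r
    have hOS : MulAction.orbit H x ⊆ S := by
      rintro _ ⟨g, rfl⟩; exact hinv g x hx
    have hlt : (S \ MulAction.orbit H x).ncard < n := by
      rw [← hn]
      exact Set.ncard_lt_ncard ⟨Set.sdiff_subset, fun h => (h hx).2 (MulAction.mem_orbit_self x)⟩
    have h1 := IH _ hlt (S \ MulAction.orbit H x)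
      (fun g y hy => ⟨hinv g y hy.1, fun h => hy.2 (by
        obtain ⟨k, hk⟩ := h
        exact ⟨g⁻¹ * k, (mul_smul g⁻¹ k x).trans ((congrArg (g⁻¹ • ·) hk).trans (inv_smul_smul g y))⟩)⟩)
      (fun y hy => hr y hy.1) rfl
    rw [← hn, ← Set.ncard_sdiff_add_ncard_of_subset hOS]
    refine dvd_add h1 ?_
    rw [← Nat.card_coe_set_eq, hr x hx]

end CfsgLib.Perm
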