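import Cfsg.Agent.Lib.StructC.OutSolvable

/-!
# Automorphisms of a group with a subgroup of prime index

For a faithful action of `G` on the cosets of a subgroup of prime index `p`, with `x` of order `p`,
the automorphisms fixing `x` commute: each one is realised modulo `p` by an invertible polynomial in
the permutation operator of `x`.
-/

set_option autoImplicit false

universe u

namespace CfsgLib.Perm.PrimeIndexOut

open Subgroup Polynomial
open scoped Pointwise
open scoped Classical

variable {G : Type u} [Group G] [Finite G]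

/-- The permutation operators on functions on the cosets. -/
def op (p : ℕ) (H : Subgroup G) : G →* Module.End (ZMod p) ((G ⧸ H) → ZMod p) where
  toFun g :=
    { toFun := fun f q => f (g⁻¹ • q)
      map_add' := fun _ _ => rfl
      map_smul' := fun _ _ => rfl }
  map_one' := by
    apply LinearMap.ext; intro f; funext q
    show f ((1 : G)⁻¹ • q) = f q
    rw [inv_one, one_smul]
  map_mul' a b := by
    apply LinearMap.ext; intro f; funext q
    show f ((a * b)⁻¹ • q) = f (b⁻¹ • a⁻¹ • q)
    rw [mul_inv_rev, mul_smul]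

theorem op_single (p : ℕ) (H : Subgroup G) (g : G) (q : G ⧸ H) :
    op p H g (Pi.single q 1) = Pi.single (g • q) 1 := by
  funext r
  show Pi.single (M := fun _ => ZMod p) q 1 (g⁻¹ • r) = _
  by_cases h : r = g • q
  · subst h; rw [inv_smul_smul, Pi.single_eq_same, Pi.single_eq_same]
  · rw [Pi.single_eq_of_ne h, Pi.single_eq_of_ne]
    exact fun h2 => h (by rw [← h2, smul_inv_smul])

theorem op_injective (p : ℕ) [Fact p.Prime] (H : Subgroup G) (hcore : H.normalCore = ⊥) :
    Function.Injective (op p H) := by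
  rw [← MonoidHom.ker_eq_bot_iff, eq_bot_iff]
  intro g hg
  rw [← hcore, Subgroup.normalCore_eq_ker]
  refine Equiv.ext fun q => ?_
  show g • q = q
  have h1 : op p H g (Pi.single q 1) = Pi.single q 1 := by rw [MonoidHom.mem_ker.1 hg]; rfl
  rw [op_single] at h1
  by_contra hne
  have h2 := congrFun h1 (g • q)
  rw [Pi.single_eq_same, Pi.single_eq_of_ne hne] at h2
  exact one_ne_zero h2

theorem not_dvd_card {p : ℕ} [Fact p.Prime] (H : Subgroup G) (hp : H.index = p)
    (hcore : H.normalCore = ⊥) : ¬ p ∣ Nat.card H := by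
  intro hd
  have hinj : Function.Injective (MulAction.toPermHom G (G ⧸ H)) := by
    rw [← MonoidHom.ker_eq_bot_iff, ← Subgroup.normalCore_eq_ker, hcore]
  have h1 := Subgroup.card_dvd_of_injective _ hinj
  rw [Nat.card_perm, show Nat.card (G ⧸ H) = p from hp, ← Subgroup.card_mul_index H, hp] at h1
  have hp' := (Fact.out : p.Prime)
  have h2 : p * p ∣ p * (p - 1).factorial := by
    rw [Nat.mul_factorial_pred hp'.ne_zero]
    exact (Nat.mul_dvd_mul hd dvd_rfl).trans h1
  have h3 := Nat.le_of_dvd hp'.pos (dvd_refl p)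
  have h4 := (hp'.dvd_factorial).1 (Nat.dvd_of_mul_dvd_mul_left hp'.pos h2)
  have := hp'.one_le
  omega

/-- Every automorphism fixing `x` is realised by a unit polynomial in the operator of `x`. -/
theorem exists_intertwiner {p : ℕ} [Fact p.Prime] (H : Subgroup G) (hp : H.index = p)
    (hcore : H.normalCore = ⊥) (x : G) (hx : orderOf x = p) (d : MulAut G) (hd : d x = x) :
    ∃ P : (ZMod p)[X], IsUnit (aeval (op p H x) P) ∧
      ∀ g : G, op p H (d g) * aeval (op p H x) P = aeval (op p H x) P * op p H g := by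
  haveI : Fintype (G ⧸ H) := Fintype.ofFinite _
  have hp' := (Fact.out : p.Prime)
  have hnH := not_dvd_card H hp hcore
  have hxp : x ^ p = 1 := hx ▸ pow_orderOf_eq_one x
  set o : G ⧸ H := ((1 : G) : G ⧸ H) with ho
  -- the powers of `x` enumerate the points
  have hinj : Function.Injective (fun i : Fin p => x ^ (i : ℕ) • o) := by
    intro i j hij
    by_contra hne
    have h1 : (x ^ (i : ℕ))⁻¹ * x ^ (j : ℕ) ∈ H := by
      have h2 : ((x ^ (i : ℕ) * 1 : G) : G ⧸ H) = ((x ^ (j : ℕ) * 1 : G) : G ⧸ H) := hij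
      rw [mul_one, mul_one] at h2
      exact QuotientGroup.eq.1 h2
    have h2 : (x ^ (i : ℕ))⁻¹ * x ^ (j : ℕ) = x ^ ((j : ℤ) - (i : ℤ)) := by
      rw [← zpow_natCast x, ← zpow_natCast x, ← zpow_neg, ← zpow_add]; congr 1; ring
    rw [h2] at h1
    have h3 : ((⟨x ^ ((j : ℤ) - (i : ℤ)), h1⟩ : H)) ^ p = 1 := by
      apply Subtype.ext
      show (x ^ ((j : ℤ) - (i : ℤ))) ^ p = 1
      rw [← zpow_natCast, ← zpow_mul, mul_comm, zpow_mul, zpow_natCast, hxp, one_zpow]
    have h4 : x ^ ((j : ℤ) - (i : ℤ)) = 1 := by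
      by_contra h5
      have h6 : orderOf (⟨_, h1⟩ : H) = p := orderOf_eq_prime h3 fun h7 => h5 (congrArg Subtype.val h7)
      exact hnH (h6 ▸ orderOf_dvd_natCard _)
    rw [← orderOf_dvd_iff_zpow_eq_one, hx] at h4
    have h5 := Int.eq_zero_of_abs_lt_dvd h4 (by have := i.2; have := j.2; rw [abs_lt]; omega)
    exact hne (Fin.ext (by omega))
  have hbij : Function.Bijective (fun i : Fin p => x ^ (i : ℕ) • o) :=
    (Fintype.bijective_iff_injective_and_card _).2
      ⟨hinj, by rw [Fintype.card_fin, ← Nat.card_eq_fintype_card]; exact hp.symm⟩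
  -- the incidence with an orbit of the image of `H`
  set K : Subgroup G := H.map d.toMonoidHom with hK
  let inO : G ⧸ H → Prop := fun r => ∃ k ∈ K, k • o = r
  have hKo : ∀ k ∈ K, ∀ r, inO (k • r) ↔ inO r := by
    intro k hk r
    constructor
    · rintro ⟨k', hk', e⟩
      exact ⟨k⁻¹ * k', K.mul_mem (K.inv_mem hk) hk', by rw [mul_smul, e, inv_smul_smul]⟩
    · rintro ⟨k', hk', e⟩
      exact ⟨k * k', K.mul_mem hk hk', by rw [mul_smul, e]⟩
  let row : G ⧸ H → ((G ⧸ H) → ZMod p) := fun q =>
    Quotient.liftOn' q (fun g r => if inO ((d g)⁻¹ • r) then 1 else 0) (fun a b hab => by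
      funext r
      have h1 : d (a⁻¹ * b) ∈ K :=
        Subgroup.mem_map_of_mem _ (QuotientGroup.leftRel_apply.1 hab)
      have h2 : (d a)⁻¹ • r = d (a⁻¹ * b) • ((d b)⁻¹ • r) := by
        rw [← mul_smul]; congr 1; rw [map_mul, map_inv]; group
      have h3 := hKo _ h1 ((d b)⁻¹ • r)
      rw [← h2] at h3
      exact if_congr h3 rfl rfl)
  let T : Module.End (ZMod p) ((G ⧸ H) → ZMod p) := Fintype.linearCombination (ZMod p) row
  have hT : ∀ q, T (Pi.single q 1) = row q := fun q => by
    show Fintype.linearCombination (ZMod p) row (Pi.single q 1) = row q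
    rw [Fintype.linearCombination_apply_single, one_smul]
  have hrow : ∀ (g : G) q, row (g • q) = op p H (d g) (row q) := by
    intro g q
    induction q using QuotientGroup.induction_on with
    | _ a =>
      funext r
      show (if inO ((d (g * a))⁻¹ • r) then (1 : ZMod p) else 0) =
        (if inO ((d a)⁻¹ • (d g)⁻¹ • r) then 1 else 0)
      rw [map_mul, mul_inv_rev, mul_smul]
  have hint : ∀ g : G, op p H (d g) * T = T * op p H g := by
    intro g
    refine (Pi.basisFun (ZMod p) (G ⧸ H)).ext fun q => ?_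
    rw [Pi.basisFun_apply, Module.End.mul_apply, Module.End.mul_apply, op_single, hT, hT, hrow]
  -- it is a polynomial in the operator of `x`
  let B : Finset (Fin p) := Finset.univ.filter fun i => inO (x ^ (i : ℕ) • o)
  let P : (ZMod p)[X] := ∑ i ∈ B, X ^ (i : ℕ)
  have hP : aeval (op p H x) P = ∑ i ∈ B, op p H (x ^ (i : ℕ)) := by
    simp only [P, map_sum, map_pow, aeval_X]
  have hTo : T (Pi.single o 1) = aeval (op p H x) P (Pi.single o 1) := by
    rw [hT, hP, LinearMap.sum_apply]
    simp only [op_single]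
    funext r
    obtain ⟨j, rfl⟩ := hbij.2 r
    show (if inO ((d 1)⁻¹ • x ^ (j : ℕ) • o) then (1 : ZMod p) else 0) = _
    have hsingle : ∀ i : Fin p, Pi.single (M := fun _ => ZMod p) (x ^ (i : ℕ) • o) 1
        (x ^ (j : ℕ) • o) = if i = j then (1 : ZMod p) else 0 := by
      intro i
      by_cases h : i = j
      · subst h; rw [Pi.single_eq_same, if_pos rfl]
      · rw [if_neg h, Pi.single_eq_of_ne fun e => h (hinj e).symm]
    rw [map_one, inv_one, one_smul, Finset.sum_apply]
    show _ = ∑ i ∈ B, Pi.single (M := fun _ => ZMod p) (x ^ (i : ℕ) • o) 1 (x ^ (j : ℕ) • o)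
    rw [Finset.sum_congr rfl (fun i _ => hsingle i), Finset.sum_ite_eq']
    exact if_congr (by simp [B]) rfl rfl
  have hTP : T = aeval (op p H x) P := by
    refine (Pi.basisFun (ZMod p) (G ⧸ H)).ext fun q => ?_
    obtain ⟨j, rfl⟩ := hbij.2 q
    rw [Pi.basisFun_apply, ← op_single, ← Module.End.mul_apply, ← Module.End.mul_apply]
    have hdj : d (x ^ (j : ℕ)) = x ^ (j : ℕ) := by rw [map_pow, hd]
    have h1 := hint (x ^ (j : ℕ))
    rw [hdj] at h1
    have h2 : aeval (op p H x) P * op p H (x ^ (j : ℕ)) = op p H (x ^ (j : ℕ)) * aeval (op p H x) P := by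
      have h3 : op p H (x ^ (j : ℕ)) = aeval (op p H x) ((X : (ZMod p)[X]) ^ (j : ℕ)) := by
        rw [map_pow, map_pow, aeval_X]
      rw [h3, ← map_mul, ← map_mul, mul_comm]
    rw [← h1, h2, Module.End.mul_apply, Module.End.mul_apply, hTo]
  refine ⟨P, ?_, fun g => hTP ▸ hint g⟩
  -- its `p`-th power is a non-zero scalar
  have hpow : aeval (op p H x) P ^ p = algebraMap (ZMod p) _ ((B.card : ZMod p)) := by
    have hterm : ∀ i : Fin p, aeval (op p H x) (((X : (ZMod p)[X]) ^ (i : ℕ)) ^ p) =
        (1 : Module.End (ZMod p) ((G ⧸ H) → ZMod p)) := fun i => by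
      rw [map_pow, map_pow, aeval_X, ← map_pow, ← map_pow, ← pow_mul, mul_comm, pow_mul, hxp,
        one_pow, map_one]
    rw [← map_pow, sum_pow_char, map_sum, Finset.sum_congr rfl (fun i _ => hterm i),
      Finset.sum_const, nsmul_one, map_natCast]
  have hne : (B.card : ZMod p) ≠ 0 := by
    intro h0
    have hdvd := (ZMod.natCast_eq_zero_iff _ _).1 h0
    have hpos : 0 < B.card := Finset.card_pos.2 ⟨⟨0, hp'.pos⟩, by
      simp only [B, Finset.mem_filter, Finset.mem_univ, true_and]
      exact ⟨1, K.one_mem, by rw [one_smul, pow_zero, one_smul]⟩⟩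
    have hle : B.card ≤ p := (Finset.card_le_univ B).trans (Fintype.card_fin p).le
    have hall : B = Finset.univ := by
      rw [← Finset.card_eq_iff_eq_univ, Fintype.card_fin]
      exact le_antisymm hle (Nat.le_of_dvd hpos hdvd)
    -- so `K` would be transitive
    have horb : MulAction.orbit K o = Set.univ := by
      rw [Set.eq_univ_iff_forall]
      intro r
      obtain ⟨i, rfl⟩ := hbij.2 r
      have hi : i ∈ B := hall ▸ Finset.mem_univ i
      obtain ⟨k, hk, e⟩ := (Finset.mem_filter.1 hi).2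
      exact ⟨⟨k, hk⟩, e⟩
    have h1 : (MulAction.stabilizer K o).index = p := by
      rw [MulAction.index_stabilizer, horb, Set.ncard_univ]; exact hp
    have h2 : p ∣ Nat.card K := h1 ▸ Subgroup.index_dvd_card _
    rw [hK, Subgroup.card_map_of_injective d.injective] at h2
    exact hnH h2
  have hu : IsUnit (aeval (op p H x) P ^ p) := hpow ▸ (isUnit_iff_ne_zero.2 hne).map _
  exact (isUnit_pow_iff hp'.ne_zero).1 hu

/-- Automorphisms fixing an element of order `p` commute. -/
theorem aut_fix_commute {p : ℕ} [Fact p.Prime] (H : Subgroup G) (hp : H.index = p)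
    (hcore : H.normalCore = ⊥) (x : G) (hx : orderOf x = p) (d e : MulAut G)
    (hd : d x = x) (he : e x = x) : d * e = e * d := by
  obtain ⟨P, huP, hP⟩ := exists_intertwiner H hp hcore x hx d hd
  obtain ⟨Q, huQ, hQ⟩ := exists_intertwiner H hp hcore x hx e he
  refine MulEquiv.ext fun g => op_injective p H hcore ?_
  set a := aeval (op p H x) P
  set b := aeval (op p H x) Q
  have hab : a * b = b * a := by rw [← map_mul, ← map_mul, mul_comm]
  refine (huP.mul huQ).mul_right_cancel ?_
  show op p H (d (e g)) * (a * b) = op p H (e (d g)) * (a * b)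
  conv_lhs => rw [← mul_assoc, hP, mul_assoc, hQ, ← mul_assoc, hab]
  conv_rhs => rw [hab, ← mul_assoc, hQ, mul_assoc, hP, ← mul_assoc]

theorem isSolvable_out {p : ℕ} [Fact p.Prime] (H : Subgroup G) (hp : H.index = p)
    (hcore : H.normalCore = ⊥) : Group.IsSolvable (Cfsg.Out G) := by
  have hnH := not_dvd_card H hp hcore
  have hpG : p ∣ Nat.card G := hp ▸ H.index_dvd_card
  obtain ⟨x, hx⟩ := exists_prime_orderOf_dvd_card' p hpG
  have hfac : (Nat.card G).factorization p = 1 := by
    rw [← Subgroup.card_mul_index H, hp, Nat.factorization_mul Nat.card_pos.ne'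
      (Fact.out : p.Prime).ne_zero, Finsupp.add_apply, Nat.factorization_eq_zero_of_not_dvd hnH,
      (Fact.out : p.Prime).factorization_self]
  let S : Sylow p G := Sylow.ofCard (zpowers x) (by rw [Nat.card_zpowers, hx, hfac, pow_one])
  haveI : Group.IsSolvable (StructC.OutSolvable.pointFixer (zpowers x)) :=
    Group.isSolvable_of_comm (G := StructC.OutSolvable.pointFixer (zpowers x)) fun a b =>
      Subtype.ext (aut_fix_commute H hp hcore x hx a.1 b.1
        (a.2 x (mem_zpowers x)) (b.2 x (mem_zpowers x)))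
  haveI : Group.IsSolvable (MulAut (zpowers x)) :=
    Group.isSolvable_of_comm fun a b => by
      let g₀ : zpowers x := ⟨x, mem_zpowers x⟩
      have hgen : ∀ y : zpowers x, ∃ n : ℤ, g₀ ^ n = y := fun y => by
        obtain ⟨n, hn⟩ := mem_zpowers_iff.1 y.2
        exact ⟨n, Subtype.ext hn⟩
      obtain ⟨m, hm⟩ := hgen (a g₀)
      obtain ⟨k, hk⟩ := hgen (b g₀)
      refine MulEquiv.ext fun y => ?_
      obtain ⟨n, rfl⟩ := hgen y
      rw [MulAut.mul_apply, MulAut.mul_apply, map_zpow, map_zpow, map_zpow, map_zpow]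
      congr 1
      rw [← hm, ← hk, map_zpow, map_zpow, ← hm, ← hk, zpow_comm]
  have hle : StructC.OutSolvable.pointFixer (zpowers x) ≤
      StructC.OutSolvable.stabilizerAut (zpowers x) := by
    intro φ hφ y
    refine ⟨fun h => ?_, fun h => by rw [hφ y h]; exact h⟩
    have h2 : φ (φ y) = φ y := hφ _ h
    rwa [φ.injective h2] at h
  haveI : Group.IsSolvable (StructC.OutSolvable.stabilizerAut (zpowers x)) :=
    Group.isSolvable_of_ker_le_range (Subgroup.inclusion hle)
      (StructC.OutSolvable.restrictAut (zpowers x)) (fun φ hφ => by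
        have h1 := MonoidHom.mem_ker.1 hφ
        refine ⟨⟨φ.1, fun s hs => ?_⟩, rfl⟩
        exact congrArg Subtype.val (DFunLike.congr_fun h1 (⟨s, hs⟩ : zpowers x)))
  refine Group.isSolvable_of_surjective (f := (QuotientGroup.mk' (Cfsg.Inn G)).comp
    (StructC.OutSolvable.stabilizerAut (zpowers x)).subtype) fun q => ?_
  obtain ⟨φ, rfl⟩ := QuotientGroup.mk'_surjective (Cfsg.Inn G) q
  let S' : Sylow p G := S.comapOfInjective φ.toMonoidHom φ.injective
    (fun y _ => ⟨φ.symm y, φ.apply_symm_apply y⟩)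
  obtain ⟨g, hg⟩ := MulAction.exists_smul_eq G S S'
  refine ⟨⟨φ * MulAut.conj g, fun y => ?_⟩, ?_⟩
  · have h1 : g * y * g⁻¹ ∈ (S' : Subgroup G) ↔ y ∈ (S : Subgroup G) := by
      rw [← hg, Sylow.coe_subgroup_smul, ← MulAut.conj_apply, ← MulAut.smul_def,
        Subgroup.smul_mem_pointwise_smul_iff]
    exact h1
  · show QuotientGroup.mk' (Cfsg.Inn G) (φ * MulAut.conj g) = _
    rw [map_mul]
    simp only [QuotientGroup.mk'_apply]
    rw [(QuotientGroup.eq_one_iff (MulAut.conj g : MulAut G)).2 (MonoidHom.mem_range.2 ⟨g, rfl⟩),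
      mul_one]

end CfsgLib.Perm.PrimeIndexOut
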