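import Mathlib

/-!
Fixed point numbers of products of conjugates are not constant: counting agreements of two permutations.
-/

set_option autoImplicit false
set_option linter.unusedSectionVars false

namespace CfsgLib.Perm.ProductFixed

open Equiv Equiv.Perm Finset

variable {n : ℕ}

/-- agreements of `α` with the conjugate of `β` by `k`, read off in the domain of `k` -/
def agree (α β k : Perm (Fin n)) : ℕ := (univ.filter fun u => α (k u) = k (β u)).card

theorem fix_mul_conj (a β k : Perm (Fin n)) :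
    Nat.card (Function.fixedPoints ⇑(a * (k * β * k⁻¹))) = agree a⁻¹ β k := by
  rw [agree, ← Fintype.card_subtype, ← Nat.card_eq_fintype_card]
  refine (Nat.card_congr (Equiv.subtypeEquiv k fun u => ?_)).symm
  simp only [Function.mem_fixedPoints, Function.IsFixedPt, Perm.mul_apply]
  rw [← Perm.mul_apply k⁻¹ k, inv_mul_cancel, Perm.one_apply]
  constructor
  · intro h
    rw [← h, ← Perm.mul_apply, mul_inv_cancel, Perm.one_apply]
  · intro h
    conv_lhs => rw [← h]
    rw [← Perm.mul_apply, inv_mul_cancel, Perm.one_apply]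

/-- an even permutation with two or more points to spare realises any injection of `m` points -/
theorem exists_even_map {m : ℕ} (hm : m + 2 ≤ n) (e e' : Fin m ↪ Fin n) :
    ∃ k ∈ alternatingGroup (Fin n), ∀ i, k (e i) = e' i := by
  classical
  have := Equiv.Perm.isMultiplyPretransitive (Fin n) m
  obtain ⟨g, hg⟩ := MulAction.exists_smul_eq (Perm (Fin n)) e e'
  have hg' : ∀ i, g (e i) = e' i := fun i => congrArg (fun f : Fin m ↪ Fin n => f i) hg
  rcases Int.units_eq_one_or (sign g) with h | h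
  · exact ⟨g, mem_alternatingGroup.2 h, hg'⟩
  obtain ⟨p, hp⟩ : ∃ p, p ∉ univ.map e := by
    obtain ⟨p, -, hp⟩ := exists_mem_notMem_of_card_lt_card (s := univ.map e) (t := univ) (by simp; omega)
    exact ⟨p, hp⟩
  obtain ⟨q, hq⟩ : ∃ q, q ∉ insert p (univ.map e) := by
    obtain ⟨q, -, hq⟩ := exists_mem_notMem_of_card_lt_card (s := insert p (univ.map e)) (t := univ)
      (lt_of_le_of_lt (card_insert_le _ _) (by simp; omega))
    exact ⟨q, hq⟩
  have hpq : p ≠ q := fun e0 => hq (by rw [e0]; exact mem_insert_self _ _)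
  refine ⟨g * swap p q, mem_alternatingGroup.2 (by rw [Perm.sign_mul, sign_swap hpq, h]; decide), fun i => ?_⟩
  rw [Perm.mul_apply, swap_apply_of_ne_of_ne, hg']
  · exact fun e0 => hp (mem_map.2 ⟨i, mem_univ i, e0⟩)
  · exact fun e0 => hq (mem_insert_of_mem (mem_map.2 ⟨i, mem_univ i, e0⟩))

/-- the even permutations with prescribed values -/
def maps {m : ℕ} (e e' : Fin m → Fin n) : Finset (Perm (Fin n)) :=
  univ.filter fun k => sign k = 1 ∧ ∀ i, k (e i) = e' i

theorem card_maps_eq {m : ℕ} (hm : m + 2 ≤ n) (e : Fin m ↪ Fin n) (f f' : Fin m ↪ Fin n) :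
    (maps e f).card = (maps e f').card := by
  obtain ⟨g, hg, hgi⟩ := exists_even_map hm f f'
  refine card_equiv (Equiv.mulLeft g) fun k => ?_
  rw [mem_alternatingGroup] at hg
  simp only [maps, mem_filter, mem_univ, true_and, coe_mulLeft, Perm.sign_mul, hg, one_mul, Perm.mul_apply,
    ← hgi, g.injective.eq_iff]

theorem card_maps_eq_left {m : ℕ} (hm : m + 2 ≤ n) (e e' f : Fin m ↪ Fin n) :
    (maps e f).card = (maps e' f).card := by
  obtain ⟨g, hg, hgi⟩ := exists_even_map hm e' e
  refine card_equiv (Equiv.mulRight g) fun k => ?_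
  rw [mem_alternatingGroup] at hg
  simp only [maps, mem_filter, mem_univ, true_and, coe_mulRight, Perm.sign_mul, hg, mul_one, Perm.mul_apply, hgi]

/-- the injection of two points -/
def emb2 {a b : Fin n} (h : a ≠ b) : Fin 2 ↪ Fin n :=
  ⟨![a, b], by
    intro i j hij
    fin_cases i <;> fin_cases j <;> simp_all⟩

/-- the injection of three points -/
def emb3 {a b c : Fin n} (h : a ≠ b) (h' : a ≠ c) (h'' : b ≠ c) : Fin 3 ↪ Fin n :=
  ⟨![a, b, c], by
    intro i j hij
    fin_cases i <;> fin_cases j <;> simp_all [eq_comm]⟩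

/-- even maps with one, two, three prescribed values -/
def S1 (x y : Fin n) : Finset (Perm (Fin n)) := univ.filter fun k => sign k = 1 ∧ k x = y

/-- see `S1` -/
def S2 (x y u i : Fin n) : Finset (Perm (Fin n)) := (S1 x y).filter fun k => k u = i

/-- see `S1` -/
def S3 (x y u i v j : Fin n) : Finset (Perm (Fin n)) := (S2 x y u i).filter fun k => k v = j

theorem S2_eq {x y u i : Fin n} (h : x ≠ u) (h' : y ≠ i) : S2 x y u i = maps (emb2 h) (emb2 h') := by
  ext k
  simp only [S2, S1, maps, emb2, Fin.forall_fin_two, mem_filter, mem_univ, true_and, and_assoc]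
  rfl

theorem S3_eq {x y u i v j : Fin n} (h1 : x ≠ u) (h2 : x ≠ v) (h3 : u ≠ v) (g1 : y ≠ i) (g2 : y ≠ j) (g3 : i ≠ j) :
    S3 x y u i v j = maps (emb3 h1 h2 h3) (emb3 g1 g2 g3) := by
  ext k
  simp only [S3, S2, S1, maps, emb3, Fin.forall_fin_succ, mem_filter, mem_univ, true_and, and_assoc,
    IsEmpty.forall_iff, and_true]
  rfl

variable (hn : 5 ≤ n)
include hn

theorem card_S2 {x y u i x' y' u' i' : Fin n} (h : x ≠ u) (h' : y ≠ i) (g : x' ≠ u') (g' : y' ≠ i') :
    (S2 x y u i).card = (S2 x' y' u' i').card := by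
  rw [S2_eq h h', S2_eq g g', card_maps_eq (by omega) _ _ (emb2 g'), card_maps_eq_left (by omega) _ (emb2 g)]

theorem card_S3 {x y u i v j x' y' u' i' v' j' : Fin n} (h1 : x ≠ u) (h2 : x ≠ v) (h3 : u ≠ v) (g1 : y ≠ i)
    (g2 : y ≠ j) (g3 : i ≠ j) (h1' : x' ≠ u') (h2' : x' ≠ v') (h3' : u' ≠ v') (g1' : y' ≠ i') (g2' : y' ≠ j')
    (g3' : i' ≠ j') : (S3 x y u i v j).card = (S3 x' y' u' i' v' j').card := by
  rw [S3_eq h1 h2 h3 g1 g2 g3, S3_eq h1' h2' h3' g1' g2' g3', card_maps_eq (by omega) _ _ (emb3 g1' g2' g3'),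
    card_maps_eq_left (by omega) _ (emb3 h1' h2' h3')]

theorem S3_pos {x y u i v j : Fin n} (h1 : x ≠ u) (h2 : x ≠ v) (h3 : u ≠ v) (g1 : y ≠ i) (g2 : y ≠ j) (g3 : i ≠ j) :
    0 < (S3 x y u i v j).card := by
  obtain ⟨k, hk, hki⟩ := exists_even_map (show 3 + 2 ≤ n by omega) (emb3 h1 h2 h3) (emb3 g1 g2 g3)
  exact card_pos.2 ⟨k, by simp [S3_eq h1 h2 h3 g1 g2 g3, maps, mem_alternatingGroup.1 hk, hki]⟩

/-- sum of agreements over the even maps `x ↦ y` -/
theorem sum_agree_S1 (α β : Perm (Fin n)) {x y : Fin n} (hx : β x = x) :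
    ∀ x₁ y₁ u₁ i₁ v₁ j₁ : Fin n, x₁ ≠ u₁ → x₁ ≠ v₁ → u₁ ≠ v₁ → y₁ ≠ i₁ → y₁ ≠ j₁ → i₁ ≠ j₁ →
      ∑ k ∈ S1 x y, agree α β k =
        (if α y = y then (n - 1) * (n - 2) else 0) * (S3 x₁ y₁ u₁ i₁ v₁ j₁).card +
        ((univ.filter fun u => β u = u ∧ u ≠ x).card * ((univ.filter fun i => α i = i ∧ i ≠ y).card * (n - 2)) +
          (univ.filter fun u => β u ≠ u).card * (univ.filter fun i => α i ≠ i ∧ i ≠ y ∧ α i ≠ y).card) *
          (S3 x₁ y₁ u₁ i₁ v₁ j₁).card := by
  intro x₁ y₁ u₁ i₁ v₁ j₁ a1 a2 a3 b1 b2 b3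
  set N := (S3 x₁ y₁ u₁ i₁ v₁ j₁).card with hN
  have hS3 : ∀ {x y u i v j : Fin n}, x ≠ u → x ≠ v → u ≠ v → y ≠ i → y ≠ j → i ≠ j → (S3 x y u i v j).card = N :=
    fun h1 h2 h3 g1 g2 g3 => card_S3 hn h1 h2 h3 g1 g2 g3 a1 a2 a3 b1 b2 b3
  have hS2 : ∀ {x y u i : Fin n}, x ≠ u → y ≠ i → (S2 x y u i).card = (n - 2) * N := by
    intro x y u i h h'
    obtain ⟨v, hv⟩ : ∃ v, v ∉ ({x, u} : Finset (Fin n)) := by
      obtain ⟨v, -, hv⟩ := exists_mem_notMem_of_card_lt_card (s := ({x, u} : Finset (Fin n))) (t := univ)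
        (card_le_two.trans_lt (by simp; omega))
      exact ⟨v, hv⟩
    simp only [Finset.mem_insert, Finset.mem_singleton, not_or] at hv
    rw [card_eq_sum_card_fiberwise (f := fun k : Perm (Fin n) => k v) (t := univ \ {y, i}) ?_]
    · rw [sum_congr rfl (fun j hj => ?_), sum_const, smul_eq_mul, card_univ_sdiff, card_pair h', Fintype.card_fin]
      simp only [mem_sdiff, mem_univ, Finset.mem_insert, Finset.mem_singleton, true_and, not_or] at hj
      exact hS3 h (Ne.symm hv.1) (Ne.symm hv.2) h' (Ne.symm hj.1) (Ne.symm hj.2)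
    · intro k hk
      simp only [S2, S1, coe_filter, mem_filter, mem_univ, true_and, Set.mem_ofPred_eq] at hk
      simp only [coe_sdiff, coe_univ, coe_insert, coe_singleton, Set.mem_sdiff, Set.mem_univ, Set.mem_insert_iff,
        Set.mem_singleton_iff, true_and, not_or]
      rw [← hk.1.2, ← hk.2]
      exact ⟨fun e => hv.1 (k.injective e), fun e => hv.2 (k.injective e)⟩
  have hS1 : ∀ (x y : Fin n), (S1 x y).card = (n - 1) * ((n - 2) * N) := by
    intro x y
    obtain ⟨u, hu⟩ : ∃ u, u ∉ ({x} : Finset (Fin n)) := by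
      obtain ⟨u, -, hu⟩ := exists_mem_notMem_of_card_lt_card (s := ({x} : Finset (Fin n))) (t := univ)
        (by simp; omega)
      exact ⟨u, hu⟩
    rw [Finset.mem_singleton] at hu
    rw [card_eq_sum_card_fiberwise (f := fun k : Perm (Fin n) => k u) (t := univ \ {y}) ?_]
    · rw [sum_congr rfl (fun i hi => ?_), sum_const, smul_eq_mul, card_univ_sdiff, card_singleton, Fintype.card_fin]
      simp only [mem_sdiff, mem_univ, Finset.mem_singleton, true_and] at hi
      exact hS2 (Ne.symm hu) (Ne.symm hi)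
    · intro k hk
      simp only [S1, coe_filter, mem_univ, true_and, Set.mem_ofPred_eq] at hk
      simp only [coe_sdiff, coe_univ, coe_singleton, Set.mem_sdiff, Set.mem_univ, Set.mem_singleton_iff, true_and]
      rw [← hk.2]
      exact fun e => hu (k.injective e)
  have hswap : ∑ k ∈ S1 x y, agree α β k = ∑ u, ((S1 x y).filter fun k => α (k u) = k (β u)).card := by
    simp only [agree, card_filter]
    exact sum_comm
  rw [hswap, ← sum_filter_add_sum_filter_not univ (fun u => β u = u),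
    ← add_sum_erase (univ.filter fun u => β u = u) _ (show x ∈ univ.filter fun u => β u = u by simp [hx]),
    add_assoc, add_mul (_ * _) (_ * _) N]
  congr 1
  · split_ifs with h
    · rw [filter_true_of_mem, hS1, mul_assoc]
      intro k hk
      simp only [S1, mem_filter] at hk
      rw [hx, hk.2.2, h]
    · rw [filter_false_of_mem, card_empty, Nat.zero_mul]
      intro k hk
      simp only [S1, mem_filter] at hk
      rwa [hx, hk.2.2]
  congr 1
  · rw [sum_congr rfl (g := fun _ => (univ.filter fun i => α i = i ∧ i ≠ y).card * (n - 2) * N) fun u hu => ?_,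
      sum_const, smul_eq_mul, ← mul_assoc, ← mul_assoc]
    · have e : (univ.filter fun u => β u = u).erase x = univ.filter fun u => β u = u ∧ u ≠ x := by
        ext u
        simp [and_comm]
      rw [e, mul_assoc (univ.filter fun u => β u = u ∧ u ≠ x).card]
    simp only [mem_erase, mem_filter, mem_univ, true_and] at hu
    rw [card_eq_sum_card_fiberwise (f := fun k : Perm (Fin n) => k u)
      (t := univ.filter fun i => α i = i ∧ i ≠ y) ?_]
    · rw [sum_congr rfl (fun i hi => ?_), sum_const, smul_eq_mul, mul_assoc]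
      simp only [mem_filter, mem_univ, true_and] at hi
      rw [← hS2 (Ne.symm hu.1) (Ne.symm hi.2)]
      congr 1
      ext k
      simp only [S2, mem_filter, hu.2]
      exact ⟨fun h => ⟨h.1.1, h.2⟩, fun h => ⟨⟨h.1, by rw [h.2, hi.1]⟩, h.2⟩⟩
    · intro k hk
      simp only [S1, coe_filter, mem_filter, mem_univ, true_and, Set.mem_ofPred_eq, hu.2] at hk ⊢
      exact ⟨hk.2, fun e => hu.1 (k.injective (e.trans hk.1.2.symm))⟩
  · rw [sum_congr rfl (g := fun _ => (univ.filter fun i => α i ≠ i ∧ i ≠ y ∧ α i ≠ y).card * N) fun u hu => ?_,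
      sum_const, smul_eq_mul, ← mul_assoc]
    simp only [mem_filter, mem_univ, true_and] at hu
    have hux : u ≠ x := fun e => hu (e ▸ hx)
    have hbx : β u ≠ x := fun e => hux (β.injective (e.trans hx.symm))
    rw [card_eq_sum_card_fiberwise (f := fun k : Perm (Fin n) => k u)
      (t := univ.filter fun i => α i ≠ i ∧ i ≠ y ∧ α i ≠ y) ?_]
    · rw [sum_congr rfl (fun i hi => ?_), sum_const, smul_eq_mul]
      simp only [mem_filter, mem_univ, true_and] at hi
      rw [← hS3 (Ne.symm hux) (Ne.symm hbx) (Ne.symm hu) (Ne.symm hi.2.1) (Ne.symm hi.2.2) (Ne.symm hi.1)]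
      congr 1
      ext k
      simp only [S3, S2, mem_filter]
      exact ⟨fun h => ⟨⟨h.1.1, h.2⟩, by rw [← h.1.2, h.2]⟩, fun h => ⟨⟨h.1.1, by rw [h.1.2, h.2]⟩, h.1.2⟩⟩
    · intro k hk
      simp only [S1, coe_filter, mem_filter, mem_univ, true_and, Set.mem_ofPred_eq] at hk ⊢
      refine ⟨fun e => hu (k.injective (hk.2.symm.trans e)), fun e => hux (k.injective (e.trans hk.1.2.symm)),
        fun e => hbx (k.injective (hk.2.symm.trans (e.trans hk.1.2.symm)))⟩

/-- Both permutations have fixed points. -/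
theorem exists_ne_of_fixed (α β : Perm (Fin n)) (hα : α ≠ 1) (hβ : β ≠ 1) (ha : ∃ y, α y = y) (hb : ∃ x, β x = x) :
    ∃ k₁ ∈ alternatingGroup (Fin n), ∃ k₂ ∈ alternatingGroup (Fin n), agree α β k₁ ≠ agree α β k₂ := by
  classical
  by_contra hc
  push Not at hc
  obtain ⟨y, hy⟩ := ha
  obtain ⟨x, hx⟩ := hb
  obtain ⟨y', hy'⟩ : ∃ y', α y' ≠ y' := by
    by_contra h; push Not at h; exact hα (Equiv.ext h)
  obtain ⟨u, hu⟩ : ∃ u, β u ≠ u := by
    by_contra h; push Not at h; exact hβ (Equiv.ext h)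
  have h1 : x ≠ u := fun e => hu (e ▸ hx)
  have h2 : x ≠ β u := fun e => h1 (β.injective (hx.trans e))
  have g1 : y ≠ y' := fun e => hy' (e ▸ hy)
  have g2 : y ≠ α y' := fun e => g1 (α.injective (hy.trans e))
  have key := fun z => sum_agree_S1 hn α β (x := x) (y := z) hx x y u y' (β u) (α y') h1 h2 (Ne.symm hu) g1 g2
    (Ne.symm hy')
  have hN := S3_pos hn h1 h2 (Ne.symm hu) g1 g2 (Ne.symm hy')
  set N := (S3 x y u y' (β u) (α y')).card
  have hconst : ∀ z, ∑ k ∈ S1 x z, agree α β k = (S1 x z).card * agree α β 1 := by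
    intro z
    rw [sum_congr rfl (fun k hk => ?_), sum_const, smul_eq_mul]
    simp only [S1, mem_filter] at hk
    exact hc k (mem_alternatingGroup.2 hk.2.1) 1 (one_mem _)
  have hcard : (S1 x y).card = (S1 x y').card := by
    obtain ⟨g, hg, hgi⟩ := exists_even_map (show 1 + 2 ≤ n by omega) (⟨fun _ => y, fun i j _ => Subsingleton.elim i j⟩)
      (⟨fun _ => y', fun i j _ => Subsingleton.elim i j⟩)
    refine card_equiv (Equiv.mulLeft g) fun k => ?_
    have hgy : g y = y' := hgi 0
    simp only [S1, mem_filter, mem_univ, true_and, coe_mulLeft, Perm.sign_mul, mem_alternatingGroup.1 hg, one_mul,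
      Perm.mul_apply, ← hgy, g.injective.eq_iff]
  have e1 := (key y).symm.trans (hconst y)
  have e2 := (key y').symm.trans (hconst y')
  rw [hcard] at e1
  rw [← e2, if_pos hy, if_neg hy'] at e1
  -- the counts
  set F := (univ.filter fun i => α i = i).card with hF
  set M := (univ.filter fun i => α i ≠ i).card with hM
  have c1 : (univ.filter fun i => α i = i ∧ i ≠ y).card + 1 = F := by
    rw [hF, ← card_erase_add_one (show y ∈ univ.filter fun i => α i = i by simp [hy])]
    congr 2; ext i; simp [and_comm]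
  have c2 : (univ.filter fun i => α i = i ∧ i ≠ y').card = F := by
    rw [hF]; congr 1; ext i
    simp only [mem_filter, mem_univ, true_and, and_iff_left_iff_imp]
    exact fun h e => hy' (e ▸ h)
  have c3 : (univ.filter fun i => α i ≠ i ∧ i ≠ y ∧ α i ≠ y).card = M := by
    rw [hM]; congr 1; ext i
    simp only [mem_filter, mem_univ, true_and, and_iff_left_iff_imp]
    exact fun h => ⟨fun e => h (e ▸ hy), fun e => h (by rw [α.injective (e.trans hy.symm)]; exact hy)⟩
  have c4 : (univ.filter fun i => α i ≠ i ∧ i ≠ y' ∧ α i ≠ y').card + 2 = M := by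
    have hz : α (α.symm y') = y' := α.apply_symm_apply y'
    have hne : α.symm y' ≠ y' := fun e => hy' (by rw [e] at hz; exact hz)
    have hsub : ({y', α.symm y'} : Finset (Fin n)) ⊆ univ.filter fun i => α i ≠ i := by
      intro i hi
      simp only [Finset.mem_insert, Finset.mem_singleton] at hi
      simp only [mem_filter, mem_univ, true_and]
      rcases hi with rfl | rfl
      · exact hy'
      · rw [hz]; exact hne.symm
    have := card_sdiff_add_card_eq_card hsub
    rw [card_pair hne.symm, ← hM] at this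
    rw [← this]
    refine congrArg (· + 2) (congrArg Finset.card ?_)
    ext i
    simp only [mem_filter, mem_univ, true_and, mem_sdiff, Finset.mem_insert, Finset.mem_singleton, not_or,
      Equiv.eq_symm_apply]
  rw [c2, c3, ← c1, ← c4] at e1
  set fb := (univ.filter fun u => β u = u ∧ u ≠ x).card
  set mb := (univ.filter fun u => β u ≠ u).card
  have htot : fb + mb + 1 = n := by
    have h := card_filter_add_card_filter_not (s := (univ : Finset (Fin n))) (fun u => β u = u)
    rw [card_univ, Fintype.card_fin] at h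
    have e : fb + 1 = (univ.filter fun u => β u = u).card := by
      rw [← card_erase_add_one (show x ∈ univ.filter fun u => β u = u by simp [hx])]
      refine congrArg (· + 1) (congrArg Finset.card ?_)
      ext i; simp [and_comm]
    have e' : mb = (univ.filter fun u => ¬ β u = u).card := rfl
    omega
  obtain ⟨m, rfl⟩ : ∃ m, n = m + 3 := ⟨n - 3, by omega⟩
  have hs1 : m + 3 - 1 = m + 2 := rfl
  have hs2 : m + 3 - 2 = m + 1 := rfl
  rw [hs1, hs2] at e1
  nlinarith [Nat.mul_le_mul_right ((m + 1) * N) (show fb ≤ m + 1 by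
    have : 1 ≤ mb := card_pos.2 ⟨u, by simp [hu]⟩
    omega)]

/-- One permutation is free of fixed points. -/
theorem exists_ne_of_free (α β : Perm (Fin n)) (hα : ∀ i, α i ≠ i) (hβ : β ≠ 1) :
    ∃ k₁ ∈ alternatingGroup (Fin n), ∃ k₂ ∈ alternatingGroup (Fin n), agree α β k₁ ≠ agree α β k₂ := by
  classical
  by_contra hc
  push Not at hc
  set w := agree α β 1 with hw
  have hk : ∀ k, sign k = 1 → agree α β k = w := fun k hk => hc k (mem_alternatingGroup.2 hk) 1 (one_mem _)
  obtain ⟨u₀, hu₀⟩ : ∃ u, β u ≠ u := by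
    by_contra h; push Not at h; exact hβ (Equiv.ext h)
  set E := univ.filter fun k : Perm (Fin n) => sign k = 1 with hE
  set N := (S2 u₀ u₀ (β u₀) (β u₀)).card with hN
  have hNpos : 0 < N := card_pos.2 ⟨1, by simp [S2, S1]⟩
  have hS2 : ∀ {x y u i : Fin n}, x ≠ u → y ≠ i → (S2 x y u i).card = N :=
    fun h h' => card_S2 hn h h' (Ne.symm hu₀) (Ne.symm hu₀)
  have hEcard : E.card = n * (n - 1) * N := by
    rw [card_eq_sum_card_fiberwise (f := fun k : Perm (Fin n) => (k u₀, k (β u₀)))
      (t := (univ : Finset (Fin n)).offDiag) ?_]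
    · rw [sum_congr rfl (g := fun _ => N) (fun p hp => ?_), sum_const, smul_eq_mul, offDiag_card, card_univ,
        Fintype.card_fin, Nat.mul_sub_one]
      simp only [mem_offDiag, mem_univ, true_and] at hp
      rw [← hS2 (Ne.symm hu₀) hp]
      congr 1
      ext k
      simp [hE, S2, S1, Prod.ext_iff, and_assoc]
    · intro k _
      simp only [coe_offDiag, coe_univ, Set.mem_offDiag, Set.mem_univ, true_and]
      exact fun e => hu₀ (k.injective e).symm
  have hsum : ∑ k ∈ E, agree α β k = (univ.filter fun u => β u ≠ u).card * (n * N) := by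
    have h1 : ∑ k ∈ E, agree α β k = ∑ u, (E.filter fun k => α (k u) = k (β u)).card := by
      simp only [agree, card_filter]
      exact sum_comm
    rw [h1, ← sum_filter_add_sum_filter_not univ (fun u => β u = u),
      sum_eq_zero (fun u hu => ?_), zero_add, sum_congr rfl (fun u hu => ?_), sum_const, smul_eq_mul]
    · simp only [mem_filter, mem_univ, true_and] at hu
      rw [card_eq_sum_card_fiberwise (f := fun k : Perm (Fin n) => k u) (t := univ) (fun _ _ => mem_univ _)]
      rw [sum_congr rfl (fun i _ => ?_), sum_const, smul_eq_mul, card_univ, Fintype.card_fin]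
      rw [← hS2 (Ne.symm hu) (Ne.symm (hα i))]
      congr 1
      ext k
      simp only [hE, S2, S1, mem_filter, mem_univ, true_and]
      exact ⟨fun h => ⟨⟨h.1.1, h.2⟩, by rw [← h.1.2, h.2]⟩, fun h => ⟨⟨h.1.1, by rw [h.1.2, h.2]⟩, h.1.2⟩⟩
    · simp only [mem_filter, mem_univ, true_and] at hu
      rw [card_eq_zero, filter_eq_empty_iff]
      intro k _
      rw [hu]
      exact hα _
  rw [sum_congr rfl (fun k hk' => hk k (mem_filter.1 hk').2), sum_const, smul_eq_mul, hEcard] at hsum
  set mb := (univ.filter fun u => β u ≠ u).card with hmb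
  have hmb0 : 0 < mb := card_pos.2 ⟨u₀, by simp [hu₀]⟩
  have hmbn : mb ≤ n := (card_le_univ _).trans_eq (Fintype.card_fin n)
  have heq : (n - 1) * w = mb := by
    have : n * N * ((n - 1) * w) = n * N * mb := by linarith
    exact Nat.eq_of_mul_eq_mul_left (Nat.mul_pos (by omega) hNpos) this
  have hw1 : w = 1 := by
    rcases Nat.lt_or_ge w 2 with h | h
    · rcases Nat.eq_zero_or_pos w with h0 | h0
      · rw [h0, mul_zero] at heq; omega
      · omega
    · have := Nat.mul_le_mul_left (n - 1) h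
      omega
  rw [hw1, mul_one] at heq
  -- two agreements
  have huniq : ∀ k, sign k = 1 → ∀ u v, α (k u) = k (β u) → α (k v) = k (β v) → u = v := fun k hk' u v hu hv =>
    card_le_one.1 ((hk k hk').trans hw1).le u (by simp [hu]) v (by simp [hv])
  obtain ⟨v, hv1, hv2, hv3, hv4⟩ : ∃ v, β v ≠ v ∧ v ≠ u₀ ∧ v ≠ β u₀ ∧ β v ≠ u₀ := by
    by_contra h
    push Not at h
    have hsub : (univ.filter fun u => β u ≠ u) ⊆ {u₀, β u₀, β.symm u₀} := by
      intro v hv
      simp only [mem_filter, mem_univ, true_and] at hv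
      simp only [Finset.mem_insert, Finset.mem_singleton, Equiv.eq_symm_apply]
      by_contra hh
      push Not at hh
      exact hh.2.2 (h v hv hh.1 hh.2.1)
    have := (card_le_card hsub).trans card_le_three
    omega
  have hv5 : β v ≠ β u₀ := fun e => hv2 (β.injective e)
  obtain ⟨j, hj⟩ : ∃ j, j ∉ ({u₀, α u₀, α.symm u₀} : Finset (Fin n)) := by
    obtain ⟨j, -, hj⟩ := exists_mem_notMem_of_card_lt_card (s := ({u₀, α u₀, α.symm u₀} : Finset (Fin n)))
      (t := univ) (card_le_three.trans_lt (by simp; omega))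
    exact ⟨j, hj⟩
  simp only [Finset.mem_insert, Finset.mem_singleton, not_or, Equiv.eq_symm_apply] at hj
  let e : Fin 4 ↪ Fin n := ⟨![u₀, β u₀, v, β v], by
    intro a b hab
    fin_cases a <;> fin_cases b <;> first | rfl | (simp at hab; grind)⟩
  let e' : Fin 4 ↪ Fin n := ⟨![u₀, α u₀, j, α j], by
    intro a b hab
    have := hα u₀
    have := hα j
    have h5 : α j ≠ α u₀ := fun e => hj.1 (α.injective e)
    fin_cases a <;> fin_cases b <;> first | rfl | (simp at hab; grind)⟩
  have hfin : ∀ k : Perm (Fin n), (∀ i, k (e i) = e' i) → sign k = 1 → False := by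
    intro k hki hk1
    have k0 : k u₀ = u₀ := hki 0
    have k1 : k (β u₀) = α u₀ := hki 1
    have k2 : k v = j := hki 2
    have k3 : k (β v) = α j := hki 3
    exact hv2 (huniq k hk1 v u₀ (by rw [k2, k3]) (by rw [k0, k1]))
  rcases Nat.lt_or_ge n 6 with hn6 | hn6
  swap
  · obtain ⟨k, hk', hki⟩ := exists_even_map (show 4 + 2 ≤ n by omega) e e'
    exact hfin k hki (mem_alternatingGroup.1 hk')
  -- five points: repair the parity
  have := Equiv.Perm.isMultiplyPretransitive (Fin n) 4
  obtain ⟨g, hg⟩ := MulAction.exists_smul_eq (Perm (Fin n)) e e'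
  have hg' : ∀ i, g (e i) = e' i := fun i => congrArg (fun f : Fin 4 ↪ Fin n => f i) hg
  rcases Int.units_eq_one_or (sign g) with h | h
  · exact hfin g hg' h
  have k0 : g u₀ = u₀ := hg' 0
  have k1 : g (β u₀) = α u₀ := hg' 1
  have k2 : g v = j := hg' 2
  have k3 : g (β v) = α j := hg' 3
  rcases Int.units_eq_one_or (sign β) with hb | hb
  swap
  · refine hv5 (huniq (g * β⁻¹) (by rw [Perm.sign_mul, sign_inv, hb, h]; decide) _ _ ?_ ?_) <;>
      simp [k0, k1, k2, k3]
  -- `β` is an involution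
  have hsupp : β.support.card = 4 := by
    have : β.support = univ.filter fun u => β u ≠ u := by ext; simp
    rw [this, ← hmb]; omega
  have hsumc : β.cycleType.sum = 4 := by rw [sum_cycleType, hsupp]
  have hge : ∀ m ∈ β.cycleType, 2 ≤ m := fun m hm => two_le_of_mem_cycleType hm
  have hs := sign_of_cycleType β
  rw [hb, hsumc] at hs
  have hc2 : Multiset.card β.cycleType ≤ 2 := by
    have := Multiset.card_nsmul_le_sum hge
    rw [hsumc, smul_eq_mul] at this
    omega
  have hall : ∀ m ∈ β.cycleType, m = 2 := by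
    intro m hm
    obtain ⟨t, ht⟩ := Multiset.exists_cons_of_mem hm
    rw [ht, Multiset.sum_cons] at hsumc
    have h5 : ∀ v ∈ t, 2 ≤ v := fun v hv => hge v (ht ▸ Multiset.mem_cons_of_mem hv)
    have h6 := Multiset.card_nsmul_le_sum h5
    rw [smul_eq_mul] at h6
    rw [ht, Multiset.card_cons] at hs hc2
    rcases Nat.eq_zero_or_pos (Multiset.card t) with h7 | h7
    · rw [h7] at hs
      exact absurd hs (by decide)
    · have := hge m hm
      omega
  have hb2 : β ^ 2 = 1 := orderOf_dvd_iff_pow_eq_one.1 (by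
    rw [← lcm_cycleType, Multiset.lcm_dvd]
    exact fun m hm => (hall m hm) ▸ dvd_rfl)
  have hbb : β (β u₀) = u₀ := by rw [← Perm.mul_apply, ← pow_two, hb2, Perm.one_apply]
  refine hv3 (huniq (g * swap u₀ (β u₀)) (by rw [Perm.sign_mul, sign_swap (Ne.symm hu₀), h]; decide) v (β u₀) ?_ ?_)
  · rw [Perm.mul_apply, Perm.mul_apply, swap_apply_of_ne_of_ne hv2 hv3, swap_apply_of_ne_of_ne hv4 hv5, k2, k3]
  · rw [hbb, Perm.mul_apply, Perm.mul_apply, swap_apply_right, swap_apply_left, k0, k1]

theorem exists_ne (a b : Perm (Fin n)) (ha : a ≠ 1) (hb : b ≠ 1) :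
    ∃ k₁ ∈ alternatingGroup (Fin n), ∃ k₂ ∈ alternatingGroup (Fin n),
      Nat.card (Function.fixedPoints ⇑(a * (k₁ * b * k₁⁻¹))) ≠
        Nat.card (Function.fixedPoints ⇑(a * (k₂ * b * k₂⁻¹))) := by
  classical
  simp only [fix_mul_conj]
  have ha' : a⁻¹ ≠ 1 := inv_ne_one.2 ha
  by_cases hfa : ∀ i, a⁻¹ i ≠ i
  · exact exists_ne_of_free hn _ _ hfa hb
  push Not at hfa
  by_cases hfb : ∀ i, b i ≠ i
  swap
  · push Not at hfb
    exact exists_ne_of_fixed hn _ _ ha' hb hfa hfb
  -- read the agreements in the range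
  have hsymm : ∀ k : Perm (Fin n), agree b a⁻¹ k⁻¹ = agree a⁻¹ b k := by
    intro k
    refine card_equiv (s := univ.filter fun u => b (k⁻¹ u) = k⁻¹ (a⁻¹ u)) k⁻¹ fun u => ?_
    simp only [mem_filter, mem_univ, true_and]
    constructor
    · intro h
      have h2 := congrArg k h
      rw [← Perm.mul_apply k k⁻¹, mul_inv_cancel, Perm.one_apply] at h2
      rw [h2, ← Perm.mul_apply k k⁻¹, mul_inv_cancel, Perm.one_apply]
    · intro h
      rw [← Perm.mul_apply k k⁻¹, mul_inv_cancel, Perm.one_apply] at h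
      rw [h, ← Perm.mul_apply k⁻¹ k, inv_mul_cancel, Perm.one_apply]
  obtain ⟨k₁, h₁, k₂, h₂, hne⟩ := exists_ne_of_free hn b a⁻¹ hfb ha'
  refine ⟨k₁⁻¹, inv_mem h₁, k₂⁻¹, inv_mem h₂, ?_⟩
  rw [← hsymm, ← hsymm, inv_inv, inv_inv]
  exact hne

end CfsgLib.Perm.ProductFixed
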