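import Cfsg.Agent.Lib.Perm.QuartetCert

/-! Kernel checks on the quartet certificates. -/

set_option autoImplicit false
set_option maxRecDepth 100000

namespace CfsgLib.Perm.QuartetCert

open Cfsg CfsgLib.Golay

/-- The same set of masks. -/
def sameQ (L M : List ℕ) : Bool := (L.all fun x => M.contains x) && M.all fun x => L.contains x

/-- Hexads of the standard dodecad, as masks. -/
def hexList : List ℕ := (octList.map fun o => o &&& sqMask).filter fun h => Nat.beq (pop h) 6

/-- Triples completing a given one to a hexad. -/
def partners (a : ℕ) : List ℕ := (hexList.filter fun h => Nat.beq (h &&& a) a).map fun h => h ^^^ a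

/-- Triples of the standard dodecad through its first point. -/
def triList0 : List ℕ :=
  ((List.range 24).flatMap fun i => (List.range 24).filterMap fun j =>
    if Nat.blt i j && sqMask.testBit i && sqMask.testBit j && Nat.blt 0 i then
      some (1 ||| 2 ^ i ||| 2 ^ j) else none)

theorem allQ_check : allQ.all (fun e => inFix [sqMask] e.2 && sameQ (Q0.map (mimg e.2)) e.1 &&
    Nat.beq (mimg e.2 16777215) 16777215) = true := by decide +kernel

theorem allQ_nodup : allQ.length = 220 ∧ (allQ.map Prod.fst).Nodup := by decide +kernel

theorem allQ_lt : ∀ e ∈ allQ, ∀ x ∈ e.1, x < 16777216 := by decide +kernel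

theorem allQ_sameQ : (allQ.map Prod.fst).all (fun L => (allQ.map Prod.fst).all fun M =>
    !(sameQ L M) || L == M) = true := by decide +kernel

theorem Q0_facts : (∀ x ∈ Q0, x < 16777216 ∧ pop x = 3 ∧ x &&& sqMask = x) ∧ Q0.Nodup ∧ Q0.length = 4 ∧
    (∀ x ∈ Q0, ∀ y ∈ Q0, x ≠ y → x ||| y ∈ hexList) := by decide +kernel

/-- The search showing that there are no further quartets. -/
def searchOK : Bool :=
  triList0.all fun a => let pa := partners a
    pa.all fun b => let pb := partners b
      pa.all fun c => !(pb.contains c) || pa.all fun d =>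
        !(pb.contains d && hexList.contains (c ||| d)) ||
          (allQ.map Prod.fst).any (sameQ [a, b, c, d])

theorem search_ok : searchOK = true := by decide +kernel

/-- An orbit certificate. -/
def orbitOK (R : List ℕ) (O : List (List ℕ × ℕ)) (S : List ℕ) : Bool :=
  (O.all fun e => inFix [sqMask] e.2 && sameQ (Q0.map (mimg e.2)) Q0 && sameQ (R.map (mimg e.2)) e.1 &&
    (allQ.map Prod.fst).contains e.1) &&
  (S.all fun g => inFix [sqMask] g && sameQ (Q0.map (mimg g)) Q0 && sameQ (R.map (mimg g)) R) &&
  Nat.beq (O.length * S.length) 432 && (allQ.map Prod.fst).contains R &&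
  (O.map Prod.fst).Nodup && (S.map fun g => (List.range 24).map (img g)).Nodup

theorem orbit_ok1 : orbitOK rep1 orb1 stab1 = true ∧ orb1.length = 12 := by decide +kernel

theorem orbit_ok2 : orbitOK rep2 orb2 stab2 = true ∧ orb2.length = 27 := by decide +kernel

theorem orbit_ok3 : orbitOK rep3 orb3 stab3 = true ∧ orb3.length = 72 := by decide +kernel

theorem orbit_ok4 : orbitOK rep4 orb4 stab4 = true ∧ orb4.length = 108 := by decide +kernel

theorem cover_ok : (allQ.map Prod.fst).all (fun L => L == Q0 ||
    ([orb1, orb2, orb3, orb4].any fun O => (O.map Prod.fst).contains L)) = true := by decide +kernel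

theorem pointTrans_ok : pointTrans.all (fun g => inFix [sqMask] g && sameQ (Q0.map (mimg g)) Q0) = true ∧
    orbMask 0 pointTrans = sqMask := by decide +kernel

end CfsgLib.Perm.QuartetCert
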