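import Cfsg.Agent.Lib.Perm.QuartetStab

/-! Quartets through two triples; the action on all quartets of a dodecad. -/

set_option autoImplicit false
set_option maxRecDepth 100000

namespace CfsgLib.Perm.Quartet

open Cfsg MulAction CfsgLib.Golay CfsgLib.Perm.QuartetCert
open scoped Pointwise

theorem pair_check : (partners 7).all (fun b =>
    Nat.beq (qLists.filter fun L => L.contains 7 && L.contains b).length 1) = true := by
  decide +kernel

theorem triple_std {d : Finset GolayPt} (hd : d ∈ dodecads) {t : Finset GolayPt} (ht : t.card = 3)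
    (hsub : t ⊆ d) : ∃ c : M24, c • d = mset sqMask ∧ c • t = mset 7 := by
  classical
  obtain ⟨p, q, r, hpq, hpr, hqr, rfl⟩ := Finset.card_eq_three.1 ht
  obtain ⟨c, h0, h1, h2, h3⟩ := dodecad_three_std hd (hsub (by simp)) (hsub (by simp))
    (hsub (by simp)) hpq hpr hqr
  refine ⟨c, h0, ?_⟩
  rw [Finset.smul_finset_insert, Finset.smul_finset_insert, Finset.smul_finset_singleton, h1, h2, h3]
  decide +kernel

theorem pair_unique {d : Finset GolayPt} (hd : d ∈ dodecads) {t u : Finset GolayPt} (ht : t.card = 3)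
    (htu : Disjoint t u) (hh : t ∪ u ∈ hexadsOn d) :
    ∃! Q, Q ∈ quartets d ∧ t ∈ Q ∧ u ∈ Q := by
  have hsub : t ∪ u ⊆ d := by
    obtain ⟨-, o, -, e⟩ := hh
    rw [← e]; exact Finset.inter_subset_right
  obtain ⟨c, hc, hct⟩ := triple_std hd ht (Finset.union_subset_left hsub)
  obtain ⟨b, hb, hbu⟩ := exists_mset (c • u)
  have hbp : b ∈ partners 7 := by
    refine partner_mem (by norm_num) hb ?_ ?_
    · rw [← hct, hbu, Finset.disjoint_left]
      intro x hx hx'
      obtain ⟨y, hy, rfl⟩ := Finset.mem_smul_finset.1 hx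
      exact Finset.disjoint_left.1 htu hy ((Finset.smul_mem_smul_finset_iff c).1 hx')
    · rw [← hct, hbu, ← Finset.smul_finset_union, ← hc]
      exact hexads_smul c hh
  have h1 := Nat.eq_of_beq_eq_true (List.all_eq_true.1 pair_check b hbp)
  obtain ⟨L₀, hL₀⟩ := List.length_eq_one_iff.1 h1
  have hiff : ∀ Q, (Q ∈ quartets d ∧ t ∈ Q ∧ u ∈ Q) ↔ c • Q = qset L₀ := by
    intro Q
    have e : (Q ∈ quartets d ∧ t ∈ Q ∧ u ∈ Q) ↔
        (c • Q ∈ quartets (mset sqMask) ∧ mset 7 ∈ c • Q ∧ mset b ∈ c • Q) := by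
      rw [← hc, quartets_smul_iff, ← hct, hbu, Finset.smul_mem_smul_finset_iff,
        Finset.smul_mem_smul_finset_iff]
    rw [e, quartets_std]
    constructor
    · rintro ⟨⟨L, hL, eL⟩, h7, hbm⟩
      have hm : ∀ x, x < 16777216 → mset x ∈ c • Q → L.contains x = true := fun x hx hxQ => by
        rw [← eL] at hxQ
        obtain ⟨m, hm, em⟩ := mem_qset.1 hxQ
        rw [List.contains_iff_mem, ← mset_inj (qLists_lt hL m hm) hx em]; exact hm
      have : L ∈ [L₀] := hL₀ ▸ List.mem_filter.2 ⟨hL, by rw [hm 7 (by norm_num) h7, hm b hb hbm]; rfl⟩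
      rw [List.mem_singleton] at this
      rw [← eL, this]
    · intro hQ
      have : L₀ ∈ qLists.filter fun L => L.contains 7 && L.contains b := by rw [hL₀]; simp
      rw [List.mem_filter, Bool.and_eq_true, List.contains_iff_mem, List.contains_iff_mem] at this
      rw [hQ]
      exact ⟨⟨L₀, this.1, rfl⟩, mem_qset.2 ⟨7, this.2.1, rfl⟩, mem_qset.2 ⟨b, this.2.2, rfl⟩⟩
  exact ⟨c⁻¹ • qset L₀, (hiff _).2 (smul_inv_smul c _), fun Q hQ => eq_inv_smul_iff.2 ((hiff Q).1 hQ)⟩

theorem quartets_transitive {d : Finset GolayPt} (hd : d ∈ dodecads) :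
    (quartets d).ncard = 220 ∧ ∀ Q ∈ quartets d, ∀ Q' ∈ quartets d,
      ∃ g : Equiv.Perm GolayPt, g ∈ M24 ∧ g • d = d ∧ g • Q = Q' := by
  refine ⟨?_, fun Q hQ Q' hQ' => ?_⟩
  · obtain ⟨c, hc⟩ := M24_trans_dodecads hd sqMask_mem
    have e : quartets (mset sqMask) = (fun X => c • X) '' quartets d := by
      ext X
      constructor
      · intro hX
        exact ⟨c⁻¹ • X, (quartets_smul_iff c).1 (by rw [smul_inv_smul, hc]; exact hX),
          smul_inv_smul c X⟩
      · rintro ⟨Y, hY, rfl⟩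
        rw [← hc]; exact quartets_smul c hY
    rw [← Set.ncard_image_of_injective (quartets d) (MulAction.injective c), ← e, ncard_quartets]
  · obtain ⟨a, ha, haQ⟩ := standard hd hQ
    obtain ⟨b, hb, hbQ⟩ := standard hd hQ'
    refine ⟨((b⁻¹ * a : M24) : Equiv.Perm GolayPt), (b⁻¹ * a).2, ?_, ?_⟩
    · show (b⁻¹ * a) • d = d
      rw [mul_smul, ha, ← hb, inv_smul_smul]
    · show (b⁻¹ * a) • Q = Q'
      rw [mul_smul, haQ, ← hbQ, inv_smul_smul]

end CfsgLib.Perm.Quartet
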