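import Cfsg.Agent.Lib.Perm.QuartetChecks
import Cfsg.Agent.Lib.Perm.MElevenInvolution
import Cfsg.Prelude.Def_SporadicCombinatorics

/-!
# The stabiliser of a quartet of a dodecad

It has order 432, a normal subgroup of order 9 with quotient `GL(2, 3)`, is transitive on the
dodecad, and has five orbits on the quartets.
-/

set_option autoImplicit false
set_option maxRecDepth 100000

namespace CfsgLib.Perm.Quartet

open Cfsg MulAction CfsgLib.Golay CfsgLib.Perm.QuartetCert CfsgLib.InvChar.OctaRecog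
open CfsgLib.Perm.MElevenInvolution (mkP)
open scoped Pointwise

/-- A family of sets of points given by masks. -/
def qset (L : List ℕ) : Finset (Finset GolayPt) := (L.map mset).toFinset

theorem mem_qset {L : List ℕ} {s : Finset GolayPt} : s ∈ qset L ↔ ∃ m ∈ L, mset m = s := by
  simp [qset]

theorem smul_qset {g : ℕ} (h : valid g = true) (L : List ℕ) :
    permOf g • qset L = qset (L.map (mimg g)) := by
  ext s
  simp only [Finset.mem_smul_finset, mem_qset, List.mem_map]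
  constructor
  · rintro ⟨t, ⟨m, hm, rfl⟩, rfl⟩
    exact ⟨_, ⟨m, hm, rfl⟩, (smul_mset h m).symm⟩
  · rintro ⟨-, ⟨m, hm, rfl⟩, rfl⟩
    exact ⟨_, ⟨m, hm, rfl⟩, smul_mset h m⟩

theorem qset_of_sameQ {L M : List ℕ} (h : sameQ L M = true) : qset L = qset M := by
  simp only [sameQ, Bool.and_eq_true, List.all_eq_true, List.contains_iff_mem] at h
  ext s
  simp only [mem_qset]
  exact ⟨fun ⟨m, hm, e⟩ => ⟨m, h.1 m hm, e⟩, fun ⟨m, hm, e⟩ => ⟨m, h.2 m hm, e⟩⟩

theorem sameQ_of_qset {L M : List ℕ} (hL : ∀ x ∈ L, x < 16777216) (hM : ∀ x ∈ M, x < 16777216)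
    (h : qset L = qset M) : sameQ L M = true := by
  simp only [sameQ, Bool.and_eq_true, List.all_eq_true, List.contains_iff_mem]
  constructor
  · intro x hx
    obtain ⟨m, hm, e⟩ := mem_qset.1 (h ▸ mem_qset.2 ⟨x, hx, rfl⟩ : mset x ∈ qset M)
    rwa [← mset_inj (hM m hm) (hL x hx) e]
  · intro x hx
    obtain ⟨m, hm, e⟩ := mem_qset.1 (h ▸ mem_qset.2 ⟨x, hx, rfl⟩ : mset x ∈ qset L)
    rwa [← mset_inj (hL m hm) (hM x hx) e]

/-- The quartets of the standard dodecad, as mask lists. -/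
def qLists : List (List ℕ) := allQ.map Prod.fst

theorem qLists_lt {L : List ℕ} (hL : L ∈ qLists) : ∀ x ∈ L, x < 16777216 := by
  obtain ⟨e, he, rfl⟩ := List.mem_map.1 hL
  exact allQ_lt e he

theorem qset_injOn {L M : List ℕ} (hL : L ∈ qLists) (hM : M ∈ qLists) (h : qset L = qset M) :
    L = M := by
  have h1 := List.all_eq_true.1 (List.all_eq_true.1 allQ_sameQ L hL) M hM
  rw [sameQ_of_qset (qLists_lt hL) (qLists_lt hM) h] at h1
  simpa using h1

theorem ncard_lists {l : List (List ℕ)} (hsub : ∀ L ∈ l, L ∈ qLists) (hnd : l.Nodup) :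
    {Q | ∃ L ∈ l, qset L = Q}.ncard = l.length := by
  have e : {Q | ∃ L ∈ l, qset L = Q} = ↑((l.map qset).toFinset) := by
    ext Q; simp
  rw [e, Set.ncard_coe_finset, List.toFinset_card_of_nodup, List.length_map]
  exact hnd.map_on fun L hL M hM h => qset_injOn (hsub L hL) (hsub M hM) h

/-! ### Quartets -/

theorem hexads_smul (g : M24) {d h : Finset GolayPt} (hh : h ∈ hexadsOn d) :
    g • h ∈ hexadsOn (g • d) := by
  obtain ⟨h6, o, ho, e⟩ := hh
  exact ⟨by rw [Finset.card_smul_finset, h6], g • o, M24_smul_octad g.2 ho,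
    by rw [← Finset.smul_finset_inter, e]⟩

theorem quartets_smul (g : M24) {d : Finset GolayPt} {Q : Finset (Finset GolayPt)}
    (hQ : Q ∈ quartets d) : g • Q ∈ quartets (g • d) := by
  obtain ⟨h4, h3, hh⟩ := hQ
  refine ⟨by rw [Finset.card_smul_finset, h4], fun t ht => ?_, fun t ht u hu htu => ?_⟩
  · obtain ⟨s, hs, rfl⟩ := Finset.mem_smul_finset.1 ht
    exact ⟨by rw [Finset.card_smul_finset, (h3 s hs).1],
      Finset.smul_finset_subset_smul_finset (h3 s hs).2⟩
  · obtain ⟨s, hs, rfl⟩ := Finset.mem_smul_finset.1 ht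
    obtain ⟨r, hr, rfl⟩ := Finset.mem_smul_finset.1 hu
    rw [← Finset.smul_finset_union]
    exact hexads_smul g (hh s hs r hr fun e => htu (by rw [e]))

theorem quartets_smul_iff (g : M24) {d : Finset GolayPt} {Q : Finset (Finset GolayPt)} :
    g • Q ∈ quartets (g • d) ↔ Q ∈ quartets d :=
  ⟨fun h => by simpa using quartets_smul g⁻¹ h, quartets_smul g⟩

theorem mem_hexList {h : ℕ} : h ∈ hexList ↔ ∃ o ∈ octList, pop h = 6 ∧ o &&& sqMask = h := by
  simp only [hexList, List.mem_filter, List.mem_map, Nat.beq_eq]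
  constructor
  · rintro ⟨⟨o, ho, rfl⟩, h6⟩; exact ⟨o, ho, h6, rfl⟩
  · rintro ⟨o, ho, h6, rfl⟩; exact ⟨⟨o, ho, rfl⟩, h6⟩

theorem hexad_std {h : ℕ} (hh : h < 16777216) :
    mset h ∈ hexadsOn (mset sqMask) ↔ h ∈ hexList := by
  rw [mem_hexList]
  constructor
  · rintro ⟨h6, o, ho, e⟩
    obtain ⟨m, hm, rfl⟩ := mem_octads_iff.1 ho
    refine ⟨m, hm, by rw [← card_mset]; exact h6, ?_⟩
    rw [← mset_and] at e
    exact mset_inj (lt_of_le_of_lt Nat.and_le_left (isCode_lt (mem_octList.1 hm).1)) hh e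
  · rintro ⟨o, ho, h6, rfl⟩
    exact ⟨by rw [card_mset, h6], mset o, mem_octads_iff.2 ⟨o, ho, rfl⟩, (mset_and _ _).symm⟩

theorem Q0_mem : qset Q0 ∈ quartets (mset sqMask) := by
  obtain ⟨hm, hnd, hlen, hpair⟩ := Q0_facts
  refine ⟨?_, fun t ht => ?_, fun t ht u hu htu => ?_⟩
  · rw [qset, List.toFinset_card_of_nodup, List.length_map, hlen]
    exact hnd.map_on fun a ha b hb e => mset_inj (hm a ha).1 (hm b hb).1 e
  · obtain ⟨m, hmQ, rfl⟩ := mem_qset.1 ht
    refine ⟨by rw [card_mset, (hm m hmQ).2.1], ?_⟩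
    rw [← (hm m hmQ).2.2, mset_and]
    exact Finset.inter_subset_right
  · obtain ⟨a, ha, rfl⟩ := mem_qset.1 ht
    obtain ⟨b, hb, rfl⟩ := mem_qset.1 hu
    rw [← mset_or, hexad_std (Nat.or_lt_two_pow (n := 24) (hm a ha).1 (hm b hb).1)]
    exact hpair a ha b hb fun e => htu (by rw [e])

theorem allQ_trans {L : List ℕ} (hL : L ∈ qLists) :
    ∃ g : M24, g • mset sqMask = mset sqMask ∧ g • qset Q0 = qset L := by
  obtain ⟨e, he, rfl⟩ := List.mem_map.1 hL
  have h := List.all_eq_true.1 allQ_check e he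
  simp only [Bool.and_eq_true] at h
  obtain ⟨g, hg⟩ : ∃ g : M24, (g : Equiv.Perm GolayPt) = permOf e.2 :=
    ⟨⟨_, (inFix_mem h.1.1).1⟩, rfl⟩
  refine ⟨g, mem_fixMasks_one.1 (hg ▸ inFix_mem h.1.1), ?_⟩
  show (g : Equiv.Perm GolayPt) • qset Q0 = _
  rw [hg, smul_qset (inFix_valid h.1.1), qset_of_sameQ h.1.2]

theorem triList0_mem {a : ℕ} (ha : a < 16777216) (h3 : pop a = 3) (hs : mset a ⊆ mset sqMask)
    (h0 : pt 0 ∈ mset a) : a ∈ triList0 := by
  have h0' : a.testBit 0 = true := by rwa [mem_mset, idx_pt (by norm_num)] at h0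
  obtain ⟨i, j, hij, e⟩ : ∃ i j : GolayPt, i ≠ j ∧ (mset a).erase (pt 0) = {i, j} :=
    Finset.card_eq_two.1 (by rw [Finset.card_erase_of_mem h0, card_mset, h3])
  have key : ∀ x ∈ ({i, j} : Finset GolayPt), 0 < idx x ∧ sqMask.testBit (idx x) = true := by
    intro x hx
    rw [← e, Finset.mem_erase] at hx
    exact ⟨Nat.pos_of_ne_zero fun h => hx.1 (by rw [← pt_idx x, h]), mem_mset.1 (hs hx.2)⟩
  wlog hlt : idx i < idx j generalizing i j
  · refine this j i hij.symm (by rw [e, Finset.pair_comm]) (by rwa [Finset.pair_comm]) ?_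
    exact lt_of_le_of_ne (not_lt.1 hlt) fun h => hij (idx_injective h.symm)
  obtain ⟨hi0, his⟩ := key i (by simp)
  obtain ⟨-, hjs⟩ := key j (by simp)
  have hm : a = 1 ||| 2 ^ idx i ||| 2 ^ idx j := by
    refine mset_inj ha (Nat.or_lt_two_pow (n := 24) (Nat.or_lt_two_pow (n := 24) (by norm_num)
      (Nat.pow_lt_pow_right (by norm_num) (idx_lt i))) (Nat.pow_lt_pow_right (by norm_num) (idx_lt j))) ?_
    rw [mset_or, mset_or, show (1 : ℕ) = 2 ^ 0 from rfl, mset_two_pow (by norm_num),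
      mset_two_pow (idx_lt i), mset_two_pow (idx_lt j), pt_idx, pt_idx, Finset.union_assoc,
      ← Finset.insert_eq, ← Finset.insert_eq, ← e, Finset.insert_erase h0]
  simp only [triList0, List.mem_flatMap, List.mem_filterMap, List.mem_range]
  refine ⟨idx i, idx_lt i, idx j, idx_lt j, ?_⟩
  rw [if_pos, ← hm]
  simp [Nat.blt_eq, hlt, his, hjs, hi0]

theorem search_spec {a b c d : ℕ} (ha : a ∈ triList0) (hb : b ∈ partners a) (hc : c ∈ partners a)
    (hcb : c ∈ partners b) (hd : d ∈ partners a) (hdb : d ∈ partners b) (hdc : c ||| d ∈ hexList) :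
    ∃ L ∈ qLists, qset [a, b, c, d] = qset L := by
  have h := List.all_eq_true.1 search_ok a ha
  have h2 := List.all_eq_true.1 h b hb
  have h3 := List.all_eq_true.1 h2 c hc
  simp only [Bool.or_eq_true, Bool.not_eq_true', List.contains_iff_mem, ← Bool.not_eq_true, hcb,
    not_true_eq_false, false_or] at h3
  have h4 := List.all_eq_true.1 h3 d hd
  simp only [Bool.or_eq_true, Bool.not_eq_true', Bool.and_eq_false_iff, List.any_eq_true] at h4
  rcases h4 with (h4 | h4) | ⟨L, hL, hs⟩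
  · simp [hdb] at h4
  · simp [hdc] at h4
  · exact ⟨L, hL, qset_of_sameQ hs⟩

theorem partner_mem {a b : ℕ} (ha : a < 16777216) (hb : b < 16777216)
    (hd : Disjoint (mset a) (mset b)) (hh : mset a ∪ mset b ∈ hexadsOn (mset sqMask)) :
    b ∈ partners a := by
  rw [← mset_or, hexad_std (Nat.or_lt_two_pow (n := 24) ha hb)] at hh
  have h1 : a &&& b = 0 := by
    refine mset_inj (lt_of_le_of_lt Nat.and_le_left ha) (by norm_num) ?_
    rw [mset_and, mset_zero, ← Finset.disjoint_iff_inter_eq_empty]; exact hd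
  simp only [partners, List.mem_map, List.mem_filter, Nat.beq_eq]
  refine ⟨a ||| b, ⟨hh, ?_⟩, ?_⟩
  · refine Nat.eq_of_testBit_eq fun i => ?_
    simp only [Nat.testBit_land, Nat.testBit_lor]
    cases a.testBit i <;> simp
  · refine Nat.eq_of_testBit_eq fun i => ?_
    have h2 := congrArg (fun n => n.testBit i) h1
    simp only [Nat.testBit_land, Nat.zero_testBit] at h2
    simp only [Nat.testBit_xor, Nat.testBit_lor]
    revert h2
    cases a.testBit i <;> cases b.testBit i <;> simp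

theorem quartets_std : quartets (mset sqMask) = {Q | ∃ L ∈ qLists, qset L = Q} := by
  classical
  ext Q
  constructor
  · rintro ⟨h4, h3, hh⟩
    have hdj : ∀ t ∈ Q, ∀ u ∈ Q, t ≠ u → Disjoint t u := fun t ht u hu hne => by
      rw [← Finset.card_union_eq_card_add_card, (hh t ht u hu hne).1, (h3 t ht).1, (h3 u hu).1]
    obtain ⟨t, htQ, ht0⟩ : ∃ t ∈ Q, pt 0 ∈ t := by
      have hc : (Q.biUnion fun t => t).card = 12 := by
        rw [Finset.card_biUnion fun t ht u hu hne => hdj t ht u hu hne,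
          Finset.sum_congr rfl fun t ht => (h3 t ht).1, Finset.sum_const, h4]
        rfl
      have hsub : (Q.biUnion fun t => t) ⊆ mset sqMask := Finset.biUnion_subset.2 fun t ht => (h3 t ht).2
      have := Finset.eq_of_subset_of_card_le hsub (by rw [hc]; exact sqMask_mem.2.le)
      have h0 : pt 0 ∈ mset sqMask := by decide +kernel
      rw [← this, Finset.mem_biUnion] at h0
      exact h0
    obtain ⟨u, v, w, huv, huw, hvw, e3⟩ := Finset.card_eq_three.1
      (show (Q.erase t).card = 3 by rw [Finset.card_erase_of_mem htQ, h4])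
    have hQ : Q = {t, u, v, w} := by rw [← Finset.insert_erase htQ, e3]
    have hmem : ∀ x ∈ Q.erase t, x ∈ Q ∧ t ≠ x := fun x hx =>
      ⟨Finset.mem_of_mem_erase hx, (Finset.ne_of_mem_erase hx).symm⟩
    obtain ⟨huQ, htu⟩ := hmem u (by rw [e3]; simp)
    obtain ⟨hvQ, htv⟩ := hmem v (by rw [e3]; simp)
    obtain ⟨hwQ, htw⟩ := hmem w (by rw [e3]; simp)
    obtain ⟨a, ha, rfl⟩ := exists_mset t
    obtain ⟨b, hb, rfl⟩ := exists_mset u
    obtain ⟨c, hc, rfl⟩ := exists_mset v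
    obtain ⟨d, hd, rfl⟩ := exists_mset w
    obtain ⟨L, hL, e⟩ := search_spec (a := a) (b := b) (c := c) (d := d)
      (triList0_mem ha (by rw [← card_mset]; exact (h3 _ htQ).1) (h3 _ htQ).2 ht0)
      (partner_mem ha hb (hdj _ htQ _ huQ htu) (hh _ htQ _ huQ htu))
      (partner_mem ha hc (hdj _ htQ _ hvQ htv) (hh _ htQ _ hvQ htv))
      (partner_mem hb hc (hdj _ huQ _ hvQ huv) (hh _ huQ _ hvQ huv))
      (partner_mem ha hd (hdj _ htQ _ hwQ htw) (hh _ htQ _ hwQ htw))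
      (partner_mem hb hd (hdj _ huQ _ hwQ huw) (hh _ huQ _ hwQ huw))
      (by rw [← hexad_std (Nat.or_lt_two_pow (n := 24) hc hd), mset_or]; exact hh _ hvQ _ hwQ hvw)
    refine ⟨L, hL, ?_⟩
    rw [← e, hQ]
    simp [qset]
  · rintro ⟨L, hL, rfl⟩
    obtain ⟨g, hg, hgQ⟩ := allQ_trans hL
    rw [← hgQ, ← hg]
    exact quartets_smul g Q0_mem

theorem ncard_quartets : (quartets (mset sqMask)).ncard = 220 := by
  rw [quartets_std, ncard_lists (fun L h => h) allQ_nodup.2, qLists, List.length_map, allQ_nodup.1]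

/-! ### The stabiliser -/

/-- The stabiliser of the standard dodecad and quartet. -/
def qStab : Subgroup (Equiv.Perm GolayPt) :=
  fixMasks [sqMask] ⊓ stabilizer (Equiv.Perm GolayPt) (qset Q0)

theorem qStab_mem {g : ℕ} (h : inFix [sqMask] g = true)
    (hQ : sameQ (Q0.map (mimg g)) Q0 = true) : permOf g ∈ qStab :=
  ⟨inFix_mem h, mem_stabilizer_iff.2 (by rw [smul_qset (inFix_valid h), qset_of_sameQ hQ])⟩

theorem card_qStab : Nat.card qStab = 432 := by
  obtain ⟨M, hM⟩ : ∃ M, M = fixMasks [sqMask] := ⟨_, rfl⟩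
  have horb : orbit M (qset Q0) = quartets (mset sqMask) := by
    ext Q
    constructor
    · rintro ⟨g, rfl⟩
      have hg : (g : Equiv.Perm GolayPt) ∈ fixMasks [sqMask] := hM ▸ g.2
      have e : (⟨_, fixMasks_le _ hg⟩ : M24) • mset sqMask = mset sqMask :=
        mem_fixMasks_one.1 hg
      have := quartets_smul (⟨_, fixMasks_le _ hg⟩ : M24) Q0_mem
      rwa [e] at this
    · intro hQ
      rw [quartets_std] at hQ
      obtain ⟨L, hL, rfl⟩ := hQ
      obtain ⟨g, hg, hgQ⟩ := allQ_trans hL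
      exact ⟨⟨_, hM ▸ mem_fixMasks_one.2 hg⟩, hgQ⟩
  have h1 := (stabilizer M (qset Q0)).card_mul_index
  rw [index_stabilizer, horb, ncard_quartets] at h1
  have h2 : Nat.card (stabilizer M (qset Q0)) = Nat.card qStab := by
    rw [show stabilizer M (qset Q0) = (stabilizer (Equiv.Perm GolayPt) (qset Q0)).subgroupOf M from rfl,
      ← Subgroup.card_subtype M ((stabilizer (Equiv.Perm GolayPt) (qset Q0)).subgroupOf M),
      Subgroup.subgroupOf_map_subtype, inf_comm, hM]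
    rfl
  have h3 : Nat.card M = 95040 := hM ▸ card_fix12
  omega

theorem img_eq_of_perm {g h : ℕ} (hg : valid g = true) (hh : valid h = true)
    (e : permOf g = permOf h) : (List.range 24).map (img g) = (List.range 24).map (img h) := by
  refine List.map_congr_left fun i hi => ?_
  rw [List.mem_range] at hi
  have := congrArg (fun σ : Equiv.Perm GolayPt => idx (σ (pt i))) e
  simpa [permOf_pt hg hi, permOf_pt hh hi, idx_pt (valid_lt hg hi), idx_pt (valid_lt hh hi)] using this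

theorem orbit_std {R : List ℕ} {O : List (List ℕ × ℕ)} {S : List ℕ} (h : orbitOK R O S = true) :
    qset R ∈ quartets (mset sqMask) ∧ (orbit qStab (qset R)).ncard = O.length ∧
      orbit qStab (qset R) = {Q | ∃ L ∈ O.map Prod.fst, qset L = Q} := by
  simp only [orbitOK, Bool.and_eq_true, List.all_eq_true, Nat.beq_eq, decide_eq_true_eq,
    List.contains_iff_mem] at h
  obtain ⟨⟨⟨⟨⟨hO, hS⟩, h432⟩, hR⟩, hOnd⟩, hSnd⟩ := h
  have hsub : ∀ L ∈ O.map Prod.fst, L ∈ qLists := by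
    intro L hL
    obtain ⟨e, he, rfl⟩ := List.mem_map.1 hL
    exact (hO e he).2
  have hcO := ncard_lists hsub hOnd
  rw [List.length_map] at hcO
  have hle : {Q | ∃ L ∈ O.map Prod.fst, qset L = Q} ⊆ orbit qStab (qset R) := by
    rintro Q ⟨L, hL, rfl⟩
    obtain ⟨e, he, rfl⟩ := List.mem_map.1 hL
    obtain ⟨⟨⟨hg, hq⟩, hr⟩, -⟩ := hO e he
    refine ⟨⟨_, qStab_mem hg hq⟩, ?_⟩
    show permOf e.2 • qset R = _
    rw [smul_qset (inFix_valid hg), qset_of_sameQ hr]
  have hst : S.length ≤ Nat.card (stabilizer qStab (qset R)) := by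
    have hmem : ∀ i : Fin S.length, permOf S[i] ∈ qStab ∧ permOf S[i] • qset R = qset R := fun i => by
      obtain ⟨⟨hg, hq⟩, hr⟩ := hS S[i] (List.getElem_mem i.2)
      exact ⟨qStab_mem hg hq, by rw [smul_qset (inFix_valid hg), qset_of_sameQ hr]⟩
    refine le_trans (le_of_eq (Nat.card_fin _).symm) (Nat.card_le_card_of_injective
      (fun i => (⟨⟨_, (hmem i).1⟩, (hmem i).2⟩ : stabilizer qStab (qset R))) fun i j hij => ?_)
    have hp : permOf S[i] = permOf S[j] := congrArg (fun s : stabilizer qStab (qset R) => ((s : qStab) : Equiv.Perm GolayPt)) hij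
    have hl := img_eq_of_perm (inFix_valid (hS S[i] (List.getElem_mem i.2)).1.1)
      (inFix_valid (hS S[j] (List.getElem_mem j.2)).1.1) hp
    refine Fin.ext ((hSnd.getElem_inj_iff (hi := by simp) (hj := by simp)).1 ?_)
    simpa using hl
  have h1 := (stabilizer qStab (qset R)).card_mul_index
  rw [index_stabilizer, card_qStab] at h1
  have h2 : (orbit qStab (qset R)).ncard ≤ O.length := by
    have hpos : 0 < S.length := Nat.pos_of_ne_zero fun e => by rw [e] at h432; omega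
    by_contra hlt
    have := Nat.mul_le_mul hst (Nat.succ_le_of_lt (Nat.lt_of_not_le hlt))
    rw [h1, Nat.mul_succ, mul_comm, h432] at this
    omega
  have heq := Set.eq_of_subset_of_ncard_le hle (by rw [hcO]; exact h2) (Set.toFinite _)
  refine ⟨by rw [quartets_std]; exact ⟨R, hR, rfl⟩, ?_, heq.symm⟩
  rw [← heq, hcO]

theorem point_trans {q : GolayPt} (hq : q ∈ mset sqMask) : ∃ σ ∈ qStab, σ (pt 0) = q := by
  obtain ⟨h1, h2⟩ := pointTrans_ok
  rw [← h2, mem_mset, testBit_orbMask] at hq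
  obtain ⟨g, hg, e⟩ := hq
  have h := List.all_eq_true.1 h1 g hg
  rw [Bool.and_eq_true] at h
  exact ⟨_, qStab_mem h.1 h.2, by rw [permOf_pt (inFix_valid h.1) (by norm_num), e, pt_idx]⟩

/-- An element of the stabiliser of the standard quartet. -/
def qA : Equiv.Perm GolayPt where
  toFun := mkP [0, 1, 2, 13, 8, 19, 4, 17, 6, 16, 7, 22, 9, 18, 14, 5, 12, 10, 3, 15, 20, 21, 23, 11]
  invFun := mkP [0, 1, 2, 18, 6, 15, 8, 10, 4, 12, 17, 23, 16, 3, 14, 19, 9, 7, 13, 5, 20, 21, 11, 22]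
  left_inv := (by decide +kernel : ∀ p, mkP [0, 1, 2, 18, 6, 15, 8, 10, 4, 12, 17, 23, 16, 3, 14, 19, 9, 7, 13, 5, 20, 21, 11, 22] (mkP [0, 1, 2, 13, 8, 19, 4, 17, 6, 16, 7, 22, 9, 18, 14, 5, 12, 10, 3, 15, 20, 21, 23, 11] p) = p)
  right_inv := (by decide +kernel : ∀ p, mkP [0, 1, 2, 13, 8, 19, 4, 17, 6, 16, 7, 22, 9, 18, 14, 5, 12, 10, 3, 15, 20, 21, 23, 11] (mkP [0, 1, 2, 18, 6, 15, 8, 10, 4, 12, 17, 23, 16, 3, 14, 19, 9, 7, 13, 5, 20, 21, 11, 22] p) = p)

theorem qA_mem : qA ∈ qStab := by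
  have h : (inFix [sqMask] 487655643029606470073469406179395616 && sameQ (Q0.map (mimg 487655643029606470073469406179395616)) Q0) = true := by decide +kernel
  have e : ∀ p, mkP [0, 1, 2, 13, 8, 19, 4, 17, 6, 16, 7, 22, 9, 18, 14, 5, 12, 10, 3, 15, 20, 21, 23, 11] p = pt (img 487655643029606470073469406179395616 (idx p)) := by decide +kernel
  rw [Bool.and_eq_true] at h
  rw [show qA = permOf 487655643029606470073469406179395616 from Equiv.ext fun p => (e p).trans (permOf_apply (inFix_valid h.1) p).symm]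
  exact qStab_mem h.1 h.2

/-- An element of the stabiliser of the standard quartet. -/
def qB : Equiv.Perm GolayPt where
  toFun := mkP [1, 2, 0, 3, 6, 17, 8, 22, 4, 16, 11, 19, 9, 13, 14, 7, 12, 23, 18, 10, 20, 21, 15, 5]
  invFun := mkP [2, 0, 1, 3, 8, 23, 4, 15, 6, 12, 19, 10, 16, 13, 14, 22, 9, 5, 18, 11, 20, 21, 7, 17]
  left_inv := (by decide +kernel : ∀ p, mkP [2, 0, 1, 3, 8, 23, 4, 15, 6, 12, 19, 10, 16, 13, 14, 22, 9, 5, 18, 11, 20, 21, 7, 17] (mkP [1, 2, 0, 3, 6, 17, 8, 22, 4, 16, 11, 19, 9, 13, 14, 7, 12, 23, 18, 10, 20, 21, 15, 5] p) = p)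
  right_inv := (by decide +kernel : ∀ p, mkP [1, 2, 0, 3, 6, 17, 8, 22, 4, 16, 11, 19, 9, 13, 14, 7, 12, 23, 18, 10, 20, 21, 15, 5] (mkP [2, 0, 1, 3, 8, 23, 4, 15, 6, 12, 19, 10, 16, 13, 14, 22, 9, 5, 18, 11, 20, 21, 7, 17] p) = p)

theorem qB_mem : qB ∈ qStab := by
  have h : (inFix [sqMask] 228040621104547906519190828822396993 && sameQ (Q0.map (mimg 228040621104547906519190828822396993)) Q0) = true := by decide +kernel
  have e : ∀ p, mkP [1, 2, 0, 3, 6, 17, 8, 22, 4, 16, 11, 19, 9, 13, 14, 7, 12, 23, 18, 10, 20, 21, 15, 5] p = pt (img 228040621104547906519190828822396993 (idx p)) := by decide +kernel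
  rw [Bool.and_eq_true] at h
  rw [show qB = permOf 228040621104547906519190828822396993 from Equiv.ext fun p => (e p).trans (permOf_apply (inFix_valid h.1) p).symm]
  exact qStab_mem h.1 h.2

/-- An element of the stabiliser of the standard quartet. -/
def qU : Equiv.Perm GolayPt where
  toFun := mkP [3, 13, 18, 0, 12, 7, 9, 23, 16, 8, 5, 19, 4, 2, 14, 22, 6, 17, 1, 15, 20, 21, 11, 10]
  invFun := mkP [3, 18, 13, 0, 12, 10, 16, 5, 9, 6, 23, 22, 4, 1, 14, 19, 8, 17, 2, 11, 20, 21, 15, 7]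
  left_inv := (by decide +kernel : ∀ p, mkP [3, 18, 13, 0, 12, 10, 16, 5, 9, 6, 23, 22, 4, 1, 14, 19, 8, 17, 2, 11, 20, 21, 15, 7] (mkP [3, 13, 18, 0, 12, 7, 9, 23, 16, 8, 5, 19, 4, 2, 14, 22, 6, 17, 1, 15, 20, 21, 11, 10] p) = p)
  right_inv := (by decide +kernel : ∀ p, mkP [3, 13, 18, 0, 12, 7, 9, 23, 16, 8, 5, 19, 4, 2, 14, 22, 6, 17, 1, 15, 20, 21, 11, 10] (mkP [3, 18, 13, 0, 12, 10, 16, 5, 9, 6, 23, 22, 4, 1, 14, 19, 8, 17, 2, 11, 20, 21, 15, 7] p) = p)

theorem qU_mem : qU ∈ qStab := by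
  have h : (inFix [sqMask] 430540375374030761935506487252109731 && sameQ (Q0.map (mimg 430540375374030761935506487252109731)) Q0) = true := by decide +kernel
  have e : ∀ p, mkP [3, 13, 18, 0, 12, 7, 9, 23, 16, 8, 5, 19, 4, 2, 14, 22, 6, 17, 1, 15, 20, 21, 11, 10] p = pt (img 430540375374030761935506487252109731 (idx p)) := by decide +kernel
  rw [Bool.and_eq_true] at h
  rw [show qU = permOf 430540375374030761935506487252109731 from Equiv.ext fun p => (e p).trans (permOf_apply (inFix_valid h.1) p).symm]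
  exact qStab_mem h.1 h.2

/-- An element of the stabiliser of the standard quartet. -/
def qV : Equiv.Perm GolayPt where
  toFun := mkP [4, 6, 8, 12, 0, 22, 2, 15, 1, 13, 11, 7, 3, 16, 14, 10, 18, 17, 9, 5, 20, 21, 23, 19]
  invFun := mkP [4, 8, 6, 12, 0, 19, 1, 11, 2, 18, 15, 10, 3, 9, 14, 7, 13, 17, 16, 23, 20, 21, 5, 22]
  left_inv := (by decide +kernel : ∀ p, mkP [4, 8, 6, 12, 0, 19, 1, 11, 2, 18, 15, 10, 3, 9, 14, 7, 13, 17, 16, 23, 20, 21, 5, 22] (mkP [4, 6, 8, 12, 0, 22, 2, 15, 1, 13, 11, 7, 3, 16, 14, 10, 18, 17, 9, 5, 20, 21, 23, 19] p) = p)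
  right_inv := (by decide +kernel : ∀ p, mkP [4, 6, 8, 12, 0, 22, 2, 15, 1, 13, 11, 7, 3, 16, 14, 10, 18, 17, 9, 5, 20, 21, 23, 19] (mkP [4, 8, 6, 12, 0, 19, 1, 11, 2, 18, 15, 10, 3, 9, 14, 7, 13, 17, 16, 23, 20, 21, 5, 22] p) = p)

theorem qV_mem : qV ∈ qStab := by
  have h : (inFix [sqMask] 819962253540904854620149549329948868 && sameQ (Q0.map (mimg 819962253540904854620149549329948868)) Q0) = true := by decide +kernel
  have e : ∀ p, mkP [4, 6, 8, 12, 0, 22, 2, 15, 1, 13, 11, 7, 3, 16, 14, 10, 18, 17, 9, 5, 20, 21, 23, 19] p = pt (img 819962253540904854620149549329948868 (idx p)) := by decide +kernel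
  rw [Bool.and_eq_true] at h
  rw [show qV = permOf 819962253540904854620149549329948868 from Equiv.ext fun p => (e p).trans (permOf_apply (inFix_valid h.1) p).symm]
  exact qStab_mem h.1 h.2

/-- An element of the stabiliser of the standard quartet. -/
def qY : Equiv.Perm GolayPt where
  toFun := mkP [3, 13, 18, 12, 4, 22, 6, 23, 8, 2, 5, 11, 0, 16, 21, 15, 1, 17, 9, 7, 14, 20, 10, 19]
  invFun := mkP [12, 16, 9, 0, 4, 10, 6, 19, 8, 18, 22, 11, 3, 1, 20, 15, 13, 17, 2, 23, 21, 14, 5, 7]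
  left_inv := (by decide +kernel : ∀ p, mkP [12, 16, 9, 0, 4, 10, 6, 19, 8, 18, 22, 11, 3, 1, 20, 15, 13, 17, 2, 23, 21, 14, 5, 7] (mkP [3, 13, 18, 12, 4, 22, 6, 23, 8, 2, 5, 11, 0, 16, 21, 15, 1, 17, 9, 7, 14, 20, 10, 19] p) = p)
  right_inv := (by decide +kernel : ∀ p, mkP [3, 13, 18, 12, 4, 22, 6, 23, 8, 2, 5, 11, 0, 16, 21, 15, 1, 17, 9, 7, 14, 20, 10, 19] (mkP [12, 16, 9, 0, 4, 10, 6, 19, 8, 18, 22, 11, 3, 1, 20, 15, 13, 17, 2, 23, 21, 14, 5, 7] p) = p)

theorem qY_mem : qY ∈ qStab := by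
  have h : (inFix [sqMask] 803039197235665922919933489279551907 && sameQ (Q0.map (mimg 803039197235665922919933489279551907)) Q0) = true := by decide +kernel
  have e : ∀ p, mkP [3, 13, 18, 12, 4, 22, 6, 23, 8, 2, 5, 11, 0, 16, 21, 15, 1, 17, 9, 7, 14, 20, 10, 19] p = pt (img 803039197235665922919933489279551907 (idx p)) := by decide +kernel
  rw [Bool.and_eq_true] at h
  rw [show qY = permOf 803039197235665922919933489279551907 from Equiv.ext fun p => (e p).trans (permOf_apply (inFix_valid h.1) p).symm]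
  exact qStab_mem h.1 h.2

/-- An element of the stabiliser of the standard quartet. -/
def qT : Equiv.Perm GolayPt where
  toFun := mkP [3, 13, 18, 0, 4, 7, 8, 5, 6, 9, 23, 11, 12, 1, 14, 15, 16, 17, 2, 22, 21, 20, 19, 10]
  invFun := mkP [3, 13, 18, 0, 4, 7, 8, 5, 6, 9, 23, 11, 12, 1, 14, 15, 16, 17, 2, 22, 21, 20, 19, 10]
  left_inv := (by decide +kernel : ∀ p, mkP [3, 13, 18, 0, 4, 7, 8, 5, 6, 9, 23, 11, 12, 1, 14, 15, 16, 17, 2, 22, 21, 20, 19, 10] (mkP [3, 13, 18, 0, 4, 7, 8, 5, 6, 9, 23, 11, 12, 1, 14, 15, 16, 17, 2, 22, 21, 20, 19, 10] p) = p)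
  right_inv := (by decide +kernel : ∀ p, mkP [3, 13, 18, 0, 4, 7, 8, 5, 6, 9, 23, 11, 12, 1, 14, 15, 16, 17, 2, 22, 21, 20, 19, 10] (mkP [3, 13, 18, 0, 4, 7, 8, 5, 6, 9, 23, 11, 12, 1, 14, 15, 16, 17, 2, 22, 21, 20, 19, 10] p) = p)

theorem qT_mem : qT ∈ qStab := by
  have h : (inFix [sqMask] 440885950470826959026731807334746531 && sameQ (Q0.map (mimg 440885950470826959026731807334746531)) Q0) = true := by decide +kernel
  have e : ∀ p, mkP [3, 13, 18, 0, 4, 7, 8, 5, 6, 9, 23, 11, 12, 1, 14, 15, 16, 17, 2, 22, 21, 20, 19, 10] p = pt (img 440885950470826959026731807334746531 (idx p)) := by decide +kernel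
  rw [Bool.and_eq_true] at h
  rw [show qT = permOf 440885950470826959026731807334746531 from Equiv.ext fun p => (e p).trans (permOf_apply (inFix_valid h.1) p).symm]
  exact qStab_mem h.1 h.2

/-- The normal subgroup of order nine. -/
def fN : Multiplicative (ZMod 3 × ZMod 3) →* Equiv.Perm GolayPt :=
  MonoidHom.mk' (fun x => qA ^ x.toAdd.1.val * qB ^ x.toAdd.2.val) (by decide +kernel)

/-- The quaternion part of the complement. -/
def fQ : Q8 →* Equiv.Perm GolayPt := MonoidHom.mk' (pf qU qV) (by decide +kernel)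

/-- The dihedral part of the complement. -/
def fD : DihedralGroup 3 →* Equiv.Perm GolayPt :=
  liftD3 qY qT (by decide +kernel) (by decide +kernel) (by decide +kernel)

theorem f_compat : ∀ (h : DihedralGroup 3) (q : Q8), fQ (φ0 h q) = fD h * fQ q * (fD h)⁻¹ := by
  decide +kernel

theorem f_inj : ∀ (q : Q8) (h : DihedralGroup 3), fQ q * fD h = 1 → q = 1 ∧ h = 1 := by
  decide +kernel

theorem trivial_meet : ∀ (q : Q8) (h : DihedralGroup 3) (n : Multiplicative (ZMod 3 × ZMod 3)),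
    fQ q * fD h = fN n → q = 1 ∧ h = 1 ∧ n = 1 := by
  decide +kernel

theorem normal_Q : ∀ (q : Q8) (n : Multiplicative (ZMod 3 × ZMod 3)),
    ∃ m, fQ q * fN n * (fQ q)⁻¹ = fN m := by
  decide +kernel

theorem normal_D : ∀ (h : DihedralGroup 3) (n : Multiplicative (ZMod 3 × ZMod 3)),
    ∃ m, fD h * fN n * (fD h)⁻¹ = fN m := by
  decide +kernel

theorem fN_mem (x : Multiplicative (ZMod 3 × ZMod 3)) : fN x ∈ qStab :=
  Subgroup.mul_mem _ (Subgroup.pow_mem _ qA_mem _) (Subgroup.pow_mem _ qB_mem _)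

theorem fQ_mem (q : Q8) : fQ q ∈ qStab := by
  rcases q with i | i
  · exact Subgroup.pow_mem _ qU_mem _
  · exact Subgroup.mul_mem _ qV_mem (Subgroup.pow_mem _ qU_mem _)

theorem fD_mem (h : DihedralGroup 3) : fD h ∈ qStab := by
  rcases h with i | i
  · exact Subgroup.pow_mem _ qY_mem _
  · exact Subgroup.mul_mem _ qT_mem (Subgroup.pow_mem _ qY_mem _)

/-- The complement. -/
noncomputable def fK : Model →* qStab :=
  (SemidirectProduct.lift fQ fD fun h => by ext1 q; exact f_compat h q).codRestrict _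
    fun w => Subgroup.mul_mem _ (fQ_mem w.left) (fD_mem w.right)

/-- The normal subgroup inside the stabiliser. -/
def fN' : Multiplicative (ZMod 3 × ZMod 3) →* qStab := fN.codRestrict _ fN_mem

theorem fN'_injective : Function.Injective fN' := (injective_iff_map_eq_one _).2 fun n hn =>
  (trivial_meet 1 1 n (by rw [map_one, map_one, one_mul]; exact (congrArg Subtype.val hn).symm)).2.2

theorem structure_std : ∃ (N : Subgroup qStab) (_ : N.Normal), Nat.card N = 9 ∧
    Nonempty (qStab ⧸ N ≃* GL (Fin 2) (ZMod 3)) := by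
  obtain ⟨N, hN⟩ : ∃ N, N = fN'.range := ⟨_, rfl⟩
  have hN9 : Nat.card N = 9 := by
    rw [hN, ← Nat.card_congr (MonoidHom.ofInjective fN'_injective).toEquiv,
      Nat.card_congr Multiplicative.toAdd, Nat.card_prod, Nat.card_zmod]
  have hb : Function.Bijective fun p : Multiplicative (ZMod 3 × ZMod 3) × Model => fN' p.1 * fK p.2 := by
    haveI : Finite Model := Nat.finite_of_card_ne_zero (by rw [card_model]; norm_num)
    refine (Nat.bijective_iff_injective_and_card _).2 ⟨fun p r h => ?_, ?_⟩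
    · have h' : fK (p.2 * r.2⁻¹) = fN' (p.1⁻¹ * r.1) := by
        rw [map_mul, map_mul, map_inv, map_inv, mul_inv_eq_iff_eq_mul, mul_assoc,
          eq_inv_mul_iff_mul_eq]
        exact h
      obtain ⟨h1, h2, h3⟩ := trivial_meet _ _ _ (congrArg Subtype.val h')
      exact Prod.ext (inv_mul_eq_one.1 h3) (mul_inv_eq_one.1 (SemidirectProduct.ext h1 h2))
    · rw [Nat.card_prod, Nat.card_congr Multiplicative.toAdd, Nat.card_prod, Nat.card_zmod,
        card_model, card_qStab]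
  haveI hnor : N.Normal := ⟨fun x hx g => by
    rw [hN] at hx ⊢
    obtain ⟨n, rfl⟩ := hx
    obtain ⟨⟨m, w⟩, rfl⟩ := hb.2 g
    obtain ⟨n1, h1⟩ := normal_D w.right n
    obtain ⟨n2, h2⟩ := normal_Q w.left n1
    refine ⟨m * n2 * m⁻¹, Subtype.ext ?_⟩
    have : (fK w : Equiv.Perm GolayPt) = fQ w.left * fD w.right := rfl
    show fN (m * n2 * m⁻¹) = fN m * (fK w : Equiv.Perm GolayPt) * fN n * (fN m * (fK w : Equiv.Perm GolayPt))⁻¹
    rw [this, map_mul, map_mul, map_inv, ← h2, ← h1]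
    group⟩
  haveI : Finite Model := Nat.finite_of_card_ne_zero (by rw [card_model]; norm_num)
  let π : Model →* qStab ⧸ N := (QuotientGroup.mk' N).comp fK
  have hq : Nat.card (qStab ⧸ N) = 48 := by
    have := N.card_eq_card_quotient_mul_card_subgroup
    rw [hN9, card_qStab] at this
    omega
  have hπ : Function.Bijective π := (Nat.bijective_iff_injective_and_card π).2
    ⟨(injective_iff_map_eq_one π).2 fun w hw => by
      have hw' : fK w ∈ N := (QuotientGroup.eq_one_iff _).1 hw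
      rw [hN] at hw'
      obtain ⟨n, hn⟩ := hw'
      obtain ⟨h1, h2, -⟩ := trivial_meet _ _ n (congrArg Subtype.val hn).symm
      exact SemidirectProduct.ext h1 h2, by rw [card_model, hq]⟩
  obtain ⟨m⟩ := model_equiv_gl
  exact ⟨N, hnor, hN9, ⟨(MulEquiv.ofBijective π hπ).symm.trans m⟩⟩

/-! ### Any dodecad, any quartet -/

theorem standard {d : Finset GolayPt} (hd : d ∈ dodecads) {Q : Finset (Finset GolayPt)}
    (hQ : Q ∈ quartets d) : ∃ c : M24, c • d = mset sqMask ∧ c • Q = qset Q0 := by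
  obtain ⟨g, hg⟩ := M24_trans_dodecads hd sqMask_mem
  have h := quartets_smul g hQ
  rw [hg, quartets_std] at h
  obtain ⟨L, hL, e⟩ := h
  obtain ⟨k, hk, hkQ⟩ := allQ_trans hL
  refine ⟨k⁻¹ * g, ?_, ?_⟩
  · rw [mul_smul, hg, inv_smul_eq_iff, hk]
  · rw [mul_smul, ← e, inv_smul_eq_iff, hkQ]

theorem mem_conj {d : Finset GolayPt} {Q : Finset (Finset GolayPt)} {c : M24}
    (hd : c • d = mset sqMask) (hQ : c • Q = qset Q0) (x : M24) :
    x ∈ stabilizer M24 d ⊓ stabilizer M24 Q ↔ ((c * x * c⁻¹ : M24) : Equiv.Perm GolayPt) ∈ qStab := by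
  rw [Subgroup.mem_inf, mem_stabilizer_iff, mem_stabilizer_iff, qStab, Subgroup.mem_inf,
    mem_fixMasks_one, mem_stabilizer_iff]
  refine and_congr ?_ ?_
  · rw [← hd]; exact (conj_smul_iff c x d).symm
  · rw [← hQ]; exact (conj_smul_iff c x Q).symm

theorem stab_main {d : Finset GolayPt} (hd : d ∈ dodecads) {Q : Finset (Finset GolayPt)}
    (hQ : Q ∈ quartets d) :
    Nat.card ↥(stabilizer M24 d ⊓ stabilizer M24 Q) = 432 ∧
      (∃ (N : Subgroup ↥(stabilizer M24 d ⊓ stabilizer M24 Q)) (_ : N.Normal), Nat.card N = 9 ∧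
        Nonempty (↥(stabilizer M24 d ⊓ stabilizer M24 Q) ⧸ N ≃* GL (Fin 2) (ZMod 3))) ∧
      ∀ p ∈ d, ∀ q ∈ d, ∃ g ∈ (stabilizer M24 d ⊓ stabilizer M24 Q),
        ((g : M24) : Equiv.Perm GolayPt) p = q := by
  obtain ⟨c, hc, hcQ⟩ := standard hd hQ
  obtain ⟨e⟩ := conj_equiv c (H := stabilizer M24 d ⊓ stabilizer M24 Q) (K := qStab)
    (fun x hx => fixMasks_le _ hx.1) (mem_conj hc hcQ)
  refine ⟨by rw [Nat.card_congr e.toEquiv, card_qStab], ?_, fun p hp q hq => ?_⟩
  · obtain ⟨N, hN, h9, ⟨m⟩⟩ := structure_std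
    haveI := hN
    refine ⟨N.comap e.toMonoidHom, inferInstance, ?_, ⟨(QuotientGroup.congr _ N e ?_).trans m⟩⟩
    · rw [← h9]
      exact Nat.card_congr
        { toFun := fun x => ⟨e x.1, x.2⟩
          invFun := fun y => ⟨e.symm y.1, by rw [Subgroup.mem_comap, MulEquiv.coe_toMonoidHom, e.apply_symm_apply]; exact y.2⟩
          left_inv := fun x => Subtype.ext (e.symm_apply_apply _)
          right_inv := fun y => Subtype.ext (e.apply_symm_apply _) }
    · exact Subgroup.map_comap_eq_self_of_surjective e.surjective N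
  · have hm : ∀ x ∈ d, c • x ∈ mset sqMask := fun x hx => hc ▸ Finset.smul_mem_smul_finset hx
    obtain ⟨s, hs, hs0⟩ := point_trans (hm p hp)
    obtain ⟨t, ht, ht0⟩ := point_trans (hm q hq)
    obtain ⟨u, hu⟩ : ∃ u : M24, (u : Equiv.Perm GolayPt) = t * s⁻¹ :=
      ⟨⟨_, Subgroup.mul_mem _ (fixMasks_le _ ht.1) (Subgroup.inv_mem _ (fixMasks_le _ hs.1))⟩, rfl⟩
    refine ⟨c⁻¹ * u * c, (mem_conj hc hcQ _).2 ?_, ?_⟩
    · rw [show c * (c⁻¹ * u * c) * c⁻¹ = u by group, hu]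
      exact Subgroup.mul_mem _ ht (Subgroup.inv_mem _ hs)
    · show (c⁻¹ * u * c) • p = q
      rw [mul_smul, mul_smul, inv_smul_eq_iff]
      show (u : Equiv.Perm GolayPt) (c • p) = c • q
      rw [hu, Equiv.Perm.mul_apply, Equiv.Perm.inv_eq_iff_eq.2 hs0.symm, ht0]

theorem orbit_map {d : Finset GolayPt} {Q : Finset (Finset GolayPt)} {c : M24}
    (hd : c • d = mset sqMask) (hQ : c • Q = qset Q0) (X : Finset (Finset GolayPt)) :
    orbit ↥(stabilizer M24 d ⊓ stabilizer M24 Q) X = (fun Y => c⁻¹ • Y) '' orbit qStab (c • X) := by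
  ext Y
  constructor
  · rintro ⟨g, rfl⟩
    refine ⟨c • (g : M24) • X, ⟨⟨_, (mem_conj hd hQ g.1).1 g.2⟩, ?_⟩, inv_smul_smul _ _⟩
    show (c * (g : M24) * c⁻¹) • c • X = c • (g : M24) • X
    rw [mul_smul, mul_smul, inv_smul_smul]
  · rintro ⟨Z, ⟨⟨σ, hσ⟩, rfl⟩, rfl⟩
    obtain ⟨u, hu⟩ : ∃ u : M24, (u : Equiv.Perm GolayPt) = σ := ⟨⟨σ, fixMasks_le _ hσ.1⟩, rfl⟩
    have hmem : c⁻¹ * u * c ∈ stabilizer M24 d ⊓ stabilizer M24 Q := (mem_conj hd hQ _).2 (by
      rw [show c * (c⁻¹ * u * c) * c⁻¹ = u by group, hu]; exact hσ)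
    refine ⟨⟨_, hmem⟩, ?_⟩
    show (c⁻¹ * u * c) • X = c⁻¹ • (σ • c • X)
    rw [mul_smul, mul_smul, ← hu]
    rfl

theorem five_orbits {d : Finset GolayPt} (hd : d ∈ dodecads) {Q : Finset (Finset GolayPt)}
    (hQ : Q ∈ quartets d) : ∃ X₁ ∈ quartets d, ∃ X₂ ∈ quartets d, ∃ X₃ ∈ quartets d, ∃ X₄ ∈ quartets d,
      (orbit ↥(stabilizer M24 d ⊓ stabilizer M24 Q) X₁).ncard = 12 ∧
      (orbit ↥(stabilizer M24 d ⊓ stabilizer M24 Q) X₂).ncard = 27 ∧
      (orbit ↥(stabilizer M24 d ⊓ stabilizer M24 Q) X₃).ncard = 72 ∧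
      (orbit ↥(stabilizer M24 d ⊓ stabilizer M24 Q) X₄).ncard = 108 ∧
      quartets d = {Q} ∪ orbit ↥(stabilizer M24 d ⊓ stabilizer M24 Q) X₁ ∪
        orbit ↥(stabilizer M24 d ⊓ stabilizer M24 Q) X₂ ∪ orbit ↥(stabilizer M24 d ⊓ stabilizer M24 Q) X₃ ∪
        orbit ↥(stabilizer M24 d ⊓ stabilizer M24 Q) X₄ := by
  obtain ⟨c, hc, hcQ⟩ := standard hd hQ
  have hback : ∀ R, qset R ∈ quartets (mset sqMask) → c⁻¹ • qset R ∈ quartets d := fun R h => by
    have := quartets_smul c⁻¹ h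
    rwa [← hc, inv_smul_smul] at this
  have hn : ∀ R n, (orbit qStab (qset R)).ncard = n →
      (orbit ↥(stabilizer M24 d ⊓ stabilizer M24 Q) (c⁻¹ • qset R)).ncard = n := fun R n h => by
    rw [orbit_map hc hcQ, smul_inv_smul, Set.ncard_image_of_injective _ (MulAction.injective _), h]
  obtain ⟨a1, b1, e1⟩ := orbit_std orbit_ok1.1
  obtain ⟨a2, b2, e2⟩ := orbit_std orbit_ok2.1
  obtain ⟨a3, b3, e3⟩ := orbit_std orbit_ok3.1
  obtain ⟨a4, b4, e4⟩ := orbit_std orbit_ok4.1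
  refine ⟨_, hback _ a1, _, hback _ a2, _, hback _ a3, _, hback _ a4, hn _ _ (b1.trans orbit_ok1.2),
    hn _ _ (b2.trans orbit_ok2.2), hn _ _ (b3.trans orbit_ok3.2), hn _ _ (b4.trans orbit_ok4.2), ?_⟩
  have hfwd : ∀ R Y, Y ∈ orbit qStab (qset R) →
      c⁻¹ • Y ∈ orbit ↥(stabilizer M24 d ⊓ stabilizer M24 Q) (c⁻¹ • qset R) := fun R Y h => by
    rw [orbit_map hc hcQ, smul_inv_smul]; exact ⟨Y, h, rfl⟩
  ext X
  constructor
  · intro hX
    have h := quartets_smul c hX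
    rw [hc, quartets_std] at h
    obtain ⟨L, hL, e⟩ := h
    have hX' : X = c⁻¹ • qset L := by rw [e, inv_smul_smul]
    have h' := List.all_eq_true.1 cover_ok L hL
    simp only [Bool.or_eq_true, beq_iff_eq, List.any_cons, List.any_nil, List.contains_iff_mem,
      Bool.or_false] at h'
    rcases h' with rfl | h' | h' | h' | h'
    · refine Or.inl (Or.inl (Or.inl (Or.inl ?_)))
      rw [Set.mem_singleton_iff, hX', ← hcQ, inv_smul_smul]
    all_goals subst hX'
    · exact Or.inl (Or.inl (Or.inl (Or.inr (hfwd _ _ (e1 ▸ ⟨L, h', rfl⟩)))))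
    · exact Or.inl (Or.inl (Or.inr (hfwd _ _ (e2 ▸ ⟨L, h', rfl⟩))))
    · exact Or.inl (Or.inr (hfwd _ _ (e3 ▸ ⟨L, h', rfl⟩)))
    · exact Or.inr (hfwd _ _ (e4 ▸ ⟨L, h', rfl⟩))
  · have hin : ∀ R, qset R ∈ quartets (mset sqMask) →
        X ∈ orbit ↥(stabilizer M24 d ⊓ stabilizer M24 Q) (c⁻¹ • qset R) → X ∈ quartets d := by
      rintro R hR ⟨g, rfl⟩
      have := quartets_smul (g : M24) (hback R hR)
      rwa [mem_stabilizer_iff.1 g.2.1] at this
    rintro ((((rfl | h) | h) | h) | h)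
    · exact hQ
    · exact hin _ a1 h
    · exact hin _ a2 h
    · exact hin _ a3 h
    · exact hin _ a4 h

end CfsgLib.Perm.Quartet
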