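import Cfsg.Agent.Lib.Perm.CountingComplement
import Mathlib.GroupTheory.Sylow

/-!
No finite group acts semiregularly on an abelian group outside a fixed subgroup `Z` if two primes divide
its order which both occur as orders outside `Z`.
-/

set_option autoImplicit false

namespace CfsgLib.Perm.SemiregularModule

open Subgroup CfsgLib.Perm.CountingComplement

universe u v

variable {W : Type u} [Group W] [Finite W] {A : Type v} [CommGroup A] [Finite A]
  [MulDistribMulAction W A] {Z : Subgroup A}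

/-- The hypothesis: `Z` is fixed pointwise and the stabilisers outside `Z` are trivial. -/
def Semiregular (W : Type u) [Group W] {A : Type v} [CommGroup A] [MulDistribMulAction W A]
    (Z : Subgroup A) : Prop :=
  (∀ (w : W), ∀ z ∈ Z, w • z = z) ∧ ∀ (w : W) (a : A), w • a = a → w = 1 ∨ a ∈ Z

omit [Finite W] [Finite A] in
theorem pow_smul_of_central (hs : Semiregular W Z) {w : W} {v z : A} (hz : z ∈ Z)
    (hv : w • v = z * v) : ∀ n : ℕ, w ^ n • v = z ^ n * v := by
  intro n
  induction n with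
  | zero => simp
  | succ n ih =>
    rw [pow_succ', mul_smul, ih, smul_mul', smul_pow', hs.1 w z hz, hv, ← mul_assoc, ← pow_succ]

omit [Finite W] in
/-- A `p`-element fixes a coset of `Z` of order `p`. -/
theorem exists_fixed_coset {p : ℕ} [hp : Fact p.Prime] (hs : Semiregular W Z) {y : W} {n : ℕ}
    (hy : y ^ p ^ n = 1) {a : A} (ha : a ∉ Z) {k : ℕ} (hak : a ^ p ^ k = 1) :
    ∃ v : A, v ∉ Z ∧ v ^ p ∈ Z ∧ ∃ z ∈ Z, y • v = z * v ∧ z ^ p = 1 := by
  classical
  let B : Subgroup (A ⧸ Z) := (powMonoidHom p).ker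
  let f : (zpowers y) → B → B := fun w c => ⟨QuotientGroup.map Z Z
      (MulDistribMulAction.toMonoidHom A (w : W))
      (fun z hz => by show (w : W) • z ∈ Z; rw [hs.1 _ z hz]; exact hz) c, by
    have hc : (c : A ⧸ Z) ^ p = 1 := c.2
    rw [MonoidHom.mem_ker, powMonoidHom_apply, ← map_pow, hc, map_one]⟩
  letI : MulAction (zpowers y) B :=
    { smul := f
      one_smul := by
        rintro ⟨c, hc⟩
        induction c using QuotientGroup.induction_on with
        | _ a => exact Subtype.ext (congrArg QuotientGroup.mk (one_smul W a))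
      mul_smul := by
        rintro g h ⟨c, hc⟩
        induction c using QuotientGroup.induction_on with
        | _ a => exact Subtype.ext (congrArg QuotientGroup.mk (mul_smul (g : W) (h : W) a)) }
  have hP : IsPGroup p (zpowers y) := fun w => by
    obtain ⟨j, hj⟩ := mem_zpowers_iff.1 w.2
    refine ⟨n, Subtype.ext ?_⟩
    rw [SubmonoidClass.coe_pow, OneMemClass.coe_one, ← hj, ← zpow_natCast, ← zpow_mul, mul_comm,
      zpow_mul, zpow_natCast, hy, one_zpow]
  have hdvd : p ∣ Nat.card B := by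
    obtain ⟨j, -, hj⟩ := (Nat.dvd_prime_pow hp.out).1 (orderOf_dvd_of_pow_eq_one
      (show (QuotientGroup.mk' Z a) ^ p ^ k = 1 by rw [← map_pow, hak, map_one]))
    obtain ⟨i, rfl⟩ : ∃ i, j = i + 1 := ⟨j - 1, by
      have : j ≠ 0 := fun e => ha ((QuotientGroup.eq_one_iff a).1
        (orderOf_eq_one_iff.1 (by rw [e, pow_zero] at hj; exact hj)))
      omega⟩
    have hb : (QuotientGroup.mk' Z a) ^ p ^ i ∈ B := by
      show ((QuotientGroup.mk' Z a) ^ p ^ i) ^ p = 1
      rw [← pow_mul, ← pow_succ, ← hj, pow_orderOf_eq_one]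
    have hbo : orderOf ((QuotientGroup.mk' Z a) ^ p ^ i) = p := by
      rw [orderOf_pow_of_dvd (pow_ne_zero _ hp.out.ne_zero) (hj ▸ pow_dvd_pow p (Nat.le_succ i)), hj,
        pow_succ, Nat.mul_div_cancel_left _ (pow_pos hp.out.pos i)]
    exact hbo ▸ B.orderOf_dvd_natCard hb
  obtain ⟨c, hc, hc1⟩ := hP.exists_fixed_point_of_prime_dvd_card_of_fixed_point B hdvd
    (a := 1) (by intro g; exact Subtype.ext (map_one _))
  obtain ⟨c, hcB⟩ := c
  induction c using QuotientGroup.induction_on with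
  | _ v =>
    have hvZ : v ∉ Z := fun h => hc1 (Subtype.ext ((QuotientGroup.eq_one_iff v).2 h).symm)
    have hvp : v ^ p ∈ Z := (QuotientGroup.eq_one_iff (v ^ p)).1 hcB
    have hfix : ((y • v : A) : A ⧸ Z) = (v : A ⧸ Z) :=
      congrArg Subtype.val (hc ⟨y, mem_zpowers y⟩)
    have hzm : (y • v) * v⁻¹ ∈ Z := by
      rw [← QuotientGroup.eq_one_iff, QuotientGroup.mk_mul, hfix, QuotientGroup.mk_inv, mul_inv_cancel]
    refine ⟨v, hvZ, hvp, (y • v) * v⁻¹, hzm, (inv_mul_cancel_right _ _).symm, ?_⟩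
    rw [mul_pow, ← smul_pow', hs.1 y _ hvp, inv_pow, mul_inv_cancel]

omit [Finite W] in
/-- The norm identity: no `⟨y⟩⟨h⟩` of order `s t` which is not cyclic of order prime to `A`. -/
theorem norm_false {s t : ℕ} (hs : Semiregular W Z) (hsp : s.Prime) {y h : W}
    (hy : orderOf y = s) (hh : h ∉ zpowers y) (i : ℕ) (hi : h * y * h⁻¹ = y ^ i)
    (ht : ∀ j : ℕ, (y ^ j * h) ^ t = 1) (ht0 : 0 < t)
    (hcoef : ∀ l : ℕ, 0 < l → l < t → ¬ s ∣ ∑ u ∈ Finset.range l, i ^ u)
    {a : A} (ha : a ∉ Z) (hcop : (orderOf a).Coprime s) : False := by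
  classical
  haveI : Fact s.Prime := ⟨hsp⟩
  have hpw : ∀ l j : ℕ, (y ^ j * h) ^ l = y ^ (j * ∑ u ∈ Finset.range l, i ^ u) * h ^ l := by
    have hconj : ∀ e : ℕ, h * y ^ e = y ^ (i * e) * h := fun e => by
      rw [pow_mul, ← hi, conj_pow]; group
    intro l j
    induction l with
    | zero => simp
    | succ l ih =>
      obtain ⟨S, hS⟩ : ∃ S, S = ∑ u ∈ Finset.range l, i ^ u := ⟨_, rfl⟩
      have hsucc : ∑ u ∈ Finset.range (l + 1), i ^ u = i * S + 1 := by
        rw [Finset.sum_range_succ', pow_zero, hS, Finset.mul_sum]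
        simp only [pow_succ']
      rw [← hS] at ih
      rw [hsucc, pow_succ' h l]
      calc (y ^ j * h) ^ (l + 1) = y ^ j * (h * y ^ (j * S)) * h ^ l := by
            rw [pow_succ', ih]; simp only [mul_assoc]
        _ = y ^ j * y ^ (i * (j * S)) * (h * h ^ l) := by rw [hconj]; simp only [mul_assoc]
        _ = y ^ (j * (i * S + 1)) * (h * h ^ l) := by rw [← pow_add]; congr 2; ring
  let n : ℕ → A := fun j => ∏ l ∈ Finset.range t, (y ^ j * h) ^ l • a
  have hn : ∀ j, n j ∈ Z := by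
    intro j
    refine (hs.2 (y ^ j * h) (n j) ?_).resolve_left (fun e => hh ?_)
    · obtain ⟨T, rfl⟩ : ∃ T, t = T + 1 := ⟨t - 1, by omega⟩
      simp only [n]
      rw [Finset.smul_prod', Finset.prod_range_succ, Finset.prod_range_succ' _ T]
      refine congrArg₂ (· * ·) (Finset.prod_congr rfl fun l _ => ?_) ?_
      · rw [← mul_smul, ← pow_succ']
      · rw [← mul_smul, ← pow_succ', ht j, pow_zero]
    · rw [eq_inv_of_mul_eq_one_right e]
      exact inv_mem (pow_mem (mem_zpowers y) j)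
  have hNy : ∀ b : A, ∏ j ∈ Finset.range s, y ^ j • b ∈ Z := by
    intro b
    refine (hs.2 y _ ?_).resolve_left (fun e => hsp.ne_one (by rw [← hy, e, orderOf_one]))
    obtain ⟨T, hT⟩ : ∃ T, s = T + 1 := ⟨s - 1, by have := hsp.pos; omega⟩
    rw [Finset.smul_prod', hT, Finset.prod_range_succ, Finset.prod_range_succ' _ T]
    refine congrArg₂ (· * ·) (Finset.prod_congr rfl fun l _ => ?_) ?_
    · rw [← mul_smul, ← pow_succ']
    · rw [← mul_smul, ← pow_succ', ← hT, ← hy, pow_orderOf_eq_one, pow_zero]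
  have hcol : ∀ l : ℕ, 0 < l → l < t → ∏ j ∈ Finset.range s, (y ^ j * h) ^ l • a ∈ Z := by
    intro l hl hlt
    obtain ⟨c, hc⟩ : ∃ c, c = ∑ u ∈ Finset.range l, i ^ u := ⟨_, rfl⟩
    have hinj : Set.InjOn (fun j => j * c % s) (Finset.range s : Set ℕ) := by
      intro j hj j' hj' e
      have hcs : Nat.Coprime s c := (Nat.Prime.coprime_iff_not_dvd hsp).2 (hc ▸ hcoef l hl hlt)
      have h1 : j ≡ j' [MOD s] := Nat.ModEq.cancel_right_of_coprime hcs e
      rw [Finset.mem_coe, Finset.mem_range] at hj hj'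
      exact Nat.ModEq.eq_of_lt_of_lt h1 hj hj'
    have himg : (Finset.range s).image (fun j => j * c % s) = Finset.range s :=
      Finset.eq_of_subset_of_card_le (fun x hx => by
        obtain ⟨j, -, rfl⟩ := Finset.mem_image.1 hx
        exact Finset.mem_range.2 (Nat.mod_lt _ hsp.pos))
        (by rw [Finset.card_image_of_injOn hinj])
    have : ∏ j ∈ Finset.range s, (y ^ j * h) ^ l • a
        = ∏ j ∈ Finset.range s, y ^ j • (h ^ l • a) := by
      conv_rhs => rw [← himg, Finset.prod_image hinj]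
      refine Finset.prod_congr rfl fun j _ => ?_
      rw [hpw, mul_smul, ← hc, ← hy, pow_mod_orderOf]
    rw [this]
    exact hNy _
  have htot : ∏ l ∈ Finset.range t, ∏ j ∈ Finset.range s, (y ^ j * h) ^ l • a ∈ Z := by
    rw [Finset.prod_comm]
    exact prod_mem fun j _ => hn j
  obtain ⟨T, hT⟩ : ∃ T, t = T + 1 := ⟨t - 1, by omega⟩
  rw [hT, Finset.prod_range_succ'] at htot
  rw [mul_mem_cancel_left (prod_mem fun l hl => hcol (l + 1) (Nat.succ_pos l)
    (by rw [hT]; have := Finset.mem_range.1 hl; omega))] at htot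
  simp only [pow_zero, one_smul, Finset.prod_const, Finset.card_range] at htot
  refine ha ?_
  obtain ⟨m, hm⟩ := exists_pow_eq_self_of_coprime (x := a) hcop.symm
  exact hm ▸ pow_mem htot m

/-- For a prime dividing `#W` and occurring outside `Z`: the Sylow subgroup has prime order and is
self-normalising. -/
theorem sylow_structure {s t : ℕ} [hsF : Fact s.Prime] [htF : Fact t.Prime] (hst : s ≠ t)
    (hs : Semiregular W Z) (hdiv : s ∣ Nat.card W)
    {a : A} (ha : a ∉ Z) {k : ℕ} (hak : a ^ s ^ k = 1)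
    {b : A} (hb : b ∉ Z) {l : ℕ} (hbl : b ^ t ^ l = 1) (P : Sylow s W) :
    Nat.card ↥(P : Subgroup W) = s ∧ normalizer ((P : Subgroup W) : Set W) = P := by
  have hsp := hsF.out
  have hbs : (orderOf b).Coprime s := Nat.Coprime.coprime_dvd_left (orderOf_dvd_of_pow_eq_one hbl)
    (((Nat.coprime_primes htF.out hsp).2 hst.symm).pow_left l)
  -- exponent `s`
  have hexp : ∀ h ∈ (P : Subgroup W), h ^ s = 1 := by
    intro h hh
    obtain ⟨n, hn⟩ := P.isPGroup' ⟨h, hh⟩
    have hn' : h ^ s ^ n = 1 := congrArg Subtype.val hn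
    obtain ⟨v, hv, -, z, hz, hzv, hzs⟩ := exists_fixed_coset hs hn' ha hak
    refine (hs.2 (h ^ s) v ?_).resolve_right hv
    rw [pow_smul_of_central hs hz hzv, hzs, one_mul]
  haveI : Nontrivial ↥(P : Subgroup W) := by
    rw [← Finite.one_lt_card_iff_nontrivial]
    exact lt_of_lt_of_le hsp.one_lt
      (Nat.le_of_dvd Nat.card_pos (P.dvd_card_of_dvd_card hdiv))
  haveI := P.isPGroup'.center_nontrivial
  obtain ⟨⟨⟨y, hyP⟩, hyc⟩, hy1⟩ := exists_ne (1 : center ↥(P : Subgroup W))
  have hy1' : y ≠ 1 := fun e => hy1 (Subtype.ext (Subtype.ext e))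
  have hyo : orderOf y = s := orderOf_eq_prime (hexp y hyP) hy1'
  have hPy : (P : Subgroup W) = zpowers y := by
    refine le_antisymm (fun h hh => ?_) (zpowers_le.2 hyP)
    by_contra hny
    have hcm : Commute h y := congrArg Subtype.val (mem_center_iff.1 hyc ⟨h, hh⟩)
    refine norm_false (t := s) hs hsp hyo hny 1 ?_ (fun j => hexp _ (mul_mem (pow_mem hyP j) hh))
      hsp.pos (fun l hl hlt hd => ?_) hb hbs
    · rw [hcm.eq, mul_inv_cancel_right, pow_one]
    · simp only [one_pow, Finset.sum_const, Finset.card_range, smul_eq_mul, mul_one] at hd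
      exact absurd (Nat.le_of_dvd hl hd) (not_le.2 hlt)
  have hcard : Nat.card ↥(P : Subgroup W) = s := by rw [hPy, Nat.card_zpowers, hyo]
  refine ⟨hcard, le_antisymm (fun g hg => ?_) le_normalizer⟩
  obtain ⟨c, d, j, hcd, hc, hd, hco, hdj⟩ := exists_parts s g
  have hN : zpowers g ≤ normalizer ((P : Subgroup W) : Set W) := zpowers_le.2 hg
  suffices hc1 : c = 1 by
    rw [hcd, hc1, one_mul]
    exact mem_sylow_of_normalizer P hdj (hN hd)
  by_contra hc1
  obtain ⟨r, hr, hrd⟩ := Nat.exists_prime_and_dvd (fun e => hc1 (orderOf_eq_one_iff.1 e))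
  obtain ⟨h, hh⟩ : ∃ h, h = c ^ (orderOf c / r) := ⟨_, rfl⟩
  have hho : orderOf h = r := by
    rw [hh, orderOf_pow_orderOf_div (orderOf_pos c).ne' hrd]
  have hhN : h ∈ normalizer ((P : Subgroup W) : Set W) := hh ▸ pow_mem (hN hc) _
  have hrs : r ≠ s := fun e => hr.ne_one
    (Nat.eq_one_of_dvd_coprimes hco hrd (e ▸ dvd_rfl))
  have hhy : h ∉ zpowers y := fun e => by
    have h1 := orderOf_dvd_of_mem_zpowers e
    rw [hho, hyo] at h1
    exact hrs ((Nat.prime_dvd_prime_iff_eq hr hsp).1 h1)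
  have hconj : h * y * h⁻¹ ∈ zpowers y :=
    hPy ▸ ((mem_normalizer_iff (H := (P : Subgroup W))).1 hhN y).1 hyP
  obtain ⟨i, hi'⟩ := (Submonoid.mem_powers_iff _ _).1 (mem_powers_iff_mem_zpowers.2 hconj)
  have hi : h * y * h⁻¹ = y ^ i := hi'.symm
  by_cases hi1 : (i : ZMod s) = 1
  · -- commuting
    have hcm : h * y = y * h := by
      have h1 : y ^ i = y ^ 1 := pow_eq_pow_iff_modEq.2 (by
        rw [hyo, ← ZMod.natCast_eq_natCast_iff]; simpa using hi1)
      rw [h1, pow_one] at hi
      exact mul_inv_eq_iff_eq_mul.1 hi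
    obtain ⟨v, hv, hvp, z, hz, hzv, -⟩ :=
      exists_fixed_coset hs (show y ^ s ^ 1 = 1 by rw [pow_one, ← hyo, pow_orderOf_eq_one]) ha hak
    have hfix : y • ((h • v) * v⁻¹) = (h • v) * v⁻¹ := by
      rw [smul_mul', smul_inv', ← mul_smul, ← hcm, mul_smul, hzv, smul_mul', hs.1 h z hz]
      rw [mul_inv, mul_mul_mul_comm, mul_inv_cancel, one_mul]
    have hz' := (hs.2 y _ hfix).resolve_left hy1'
    obtain ⟨z', hz'd⟩ : ∃ z', z' = (h • v) * v⁻¹ := ⟨_, rfl⟩
    rw [← hz'd] at hz'
    have hhv : h • v = z' * v := by rw [hz'd, inv_mul_cancel_right]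
    have h1 : z' ^ r = 1 := by
      have := pow_smul_of_central hs hz' hhv r
      rw [← hho, pow_orderOf_eq_one, one_smul, hho] at this
      exact mul_eq_right.1 this.symm
    have h2 : z' ^ s = 1 := by
      rw [hz'd, mul_pow, ← smul_pow', hs.1 h _ hvp, inv_pow, mul_inv_cancel]
    have h3 : z' = 1 := orderOf_eq_one_iff.1 (Nat.eq_one_of_dvd_coprimes
      ((Nat.coprime_primes hr hsp).2 hrs) (orderOf_dvd_of_pow_eq_one h1) (orderOf_dvd_of_pow_eq_one h2))
    rw [h3, one_mul] at hhv
    rcases hs.2 h v hhv with e | e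
    · rw [e, orderOf_one] at hho; exact hr.ne_one hho.symm
    · exact hv e
  · -- a nonabelian group of order `s r`
    have hir : (i : ZMod s) ^ r = 1 := by
      have hk : ∀ e : ℕ, h ^ e * y * (h ^ e)⁻¹ = y ^ i ^ e := by
        intro e
        induction e with
        | zero => simp
        | succ e ih =>
          calc h ^ (e + 1) * y * (h ^ (e + 1))⁻¹ = h * (h ^ e * y * (h ^ e)⁻¹) * h⁻¹ := by
                rw [pow_succ']; group
            _ = y ^ i ^ (e + 1) := by rw [ih, ← conj_pow, hi, ← pow_mul, pow_succ']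
      have h1 := hk r
      rw [← hho, pow_orderOf_eq_one, one_mul, inv_one, mul_one, hho] at h1
      have h2 : y ^ 1 = y ^ i ^ r := by rwa [pow_one]
      rw [pow_eq_pow_iff_modEq, hyo, ← ZMod.natCast_eq_natCast_iff] at h2
      push_cast at h2
      exact h2.symm
    have hiord : orderOf (i : ZMod s) = r :=
      ((Nat.dvd_prime hr).1 (orderOf_dvd_of_pow_eq_one hir)).resolve_left
        (fun e => hi1 (orderOf_eq_one_iff.1 e))
    have hgeom : ∀ l : ℕ, ((i : ZMod s) - 1) * ((∑ u ∈ Finset.range l, i ^ u : ℕ) : ZMod s)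
        = (i : ZMod s) ^ l - 1 := fun l => by push_cast; exact mul_geom_sum _ _
    refine norm_false (t := r) hs hsp hyo hhy i hi (fun j => ?_) hr.pos (fun l hl hlt hd => ?_) hb hbs
    · -- `y ^ j * h` is conjugate to `h`
      obtain ⟨e, he⟩ : ∃ e : ZMod s, e * (1 - (i : ZMod s)) = j :=
        ⟨j * (1 - (i : ZMod s))⁻¹, by
          rw [mul_assoc, inv_mul_cancel₀ (sub_ne_zero.2 (Ne.symm hi1)), mul_one]⟩
      have hc : y ^ e.val * h * (y ^ e.val)⁻¹ = y ^ j * h := by
        have h1 : y ^ e.val = y ^ j * y ^ (i * e.val) := by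
          rw [← pow_add, pow_eq_pow_iff_modEq, hyo, ← ZMod.natCast_eq_natCast_iff]
          push_cast
          rw [ZMod.natCast_zmod_val, ← he]
          ring
        nth_rw 1 [h1]
        rw [pow_mul, ← hi, conj_pow]
        group
      rw [← hc, conj_pow, ← hho, pow_orderOf_eq_one, mul_one, mul_inv_cancel]
    · have h0 : (i : ZMod s) ^ l = 1 := by
        rw [← sub_eq_zero, ← hgeom l, (ZMod.natCast_eq_zero_iff _ _).2 hd, mul_zero]
      have := orderOf_dvd_of_pow_eq_one h0
      rw [hiord] at this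
      exact absurd (Nat.le_of_dvd hl this) (not_le.2 hlt)

/-- **Two primes are impossible.** -/
theorem not_two_primes {s t : ℕ} [hsF : Fact s.Prime] [htF : Fact t.Prime] (hst : s ≠ t)
    (hs : Semiregular W Z) (hds : s ∣ Nat.card W) (hdt : t ∣ Nat.card W)
    {a : A} (ha : a ∉ Z) {k : ℕ} (hak : a ^ s ^ k = 1)
    {b : A} (hb : b ∉ Z) {l : ℕ} (hbl : b ^ t ^ l = 1) : False := by
  obtain ⟨P⟩ := (inferInstance : Nonempty (Sylow s W))
  obtain ⟨hP, hPN⟩ := sylow_structure hst hs hds ha hak hb hbl P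
  haveI : IsMulCommutative ↥(P : Subgroup W) := by
    haveI : IsCyclic ↥(P : Subgroup W) := isCyclic_of_prime_card hP
    infer_instance
  have hcomp := CfsgLib.Transfer.hasNormalPComplement_of_normalizer_le_centralizer P
    (hPN.le.trans fun x hx => mem_centralizer_iff.2 fun y hy =>
      congrArg Subtype.val (IsMulCommutative.is_comm.comm (⟨y, hy⟩ : P) ⟨x, hx⟩))
  obtain ⟨K, hK, hKc⟩ := (CfsgLib.Transfer.hasNormalPComplement_iff_exists_isComplement' P).1 hcomp
  have hidx : K.index = s := by rw [hKc.symm.index_eq_card, hP]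
  obtain ⟨Q⟩ := (inferInstance : Nonempty (Sylow t K))
  obtain ⟨R, hR⟩ := (Q.isPGroup'.map K.subtype).exists_le_sylow
  obtain ⟨hRc, hRN⟩ := sylow_structure hst.symm hs hdt hb hbl ha hak R
  have hQR : (Q : Subgroup K).map K.subtype = R := by
    refine eq_of_le_of_card_ge hR (le_of_eq ?_)
    rw [card_map_of_injective K.subtype_injective, Q.card_eq_multiplicity, R.card_eq_multiplicity,
      ← K.card_mul_index, Nat.factorization_mul Nat.card_pos.ne' index_ne_zero_of_finite,
      Finsupp.add_apply, hidx, hsF.out.factorization, Finsupp.single_eq_of_ne hst.symm, add_zero]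
  have htop : normalizer (((Q : Subgroup K).map K.subtype : Subgroup W) : Set W) ⊔ K = ⊤ :=
    Sylow.normalizer_sup_eq_top Q
  rw [hQR, hRN, sup_eq_right.2 (hQR ▸ map_subtype_le _)] at htop
  rw [htop, index_top] at hidx
  exact hsF.out.ne_one hidx.symm

end CfsgLib.Perm.SemiregularModule
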