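import Cfsg.Agent.Lib.Golay.Mathieu

/-! Certificates for the stabiliser of the standard sextet. -/

set_option autoImplicit false
set_option maxRecDepth 100000

namespace CfsgLib.Perm.SextetCert

open CfsgLib.Golay

/-- The standard sextet, as masks. -/
def S0 : List ℕ := [8388615, 147496, 268544, 1082880, 2621632, 4268048]

/-- Transversals and refutations: kernel of the sextet action. -/
def sextKerLevels : List Level := [
  (4,
    [984818244535754528103549039458486304,
     21031891374900343699909455052375127,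
     112430718546812291948809181263398624,
     972554985085438564210745283889431554],
    [(0, [(1, 6, 0)]),
     (1, [(1, 6, 0)]),
     (2, [(1, 6, 0)]),
     (3, [(1, 6, 0)]),
     (5, [(1, 6, 0)]),
     (6, [(1, 6, 0)]),
     (7, [(1, 6, 0)]),
     (8, [(1, 6, 0)]),
     (9, [(1, 6, 0)]),
     (10, [(1, 6, 0)]),
     (11, [(1, 6, 0)]),
     (12, [(1, 6, 0)]),
     (14, [(1, 6, 0)]),
     (15, [(1, 6, 0)]),
     (17, [(1, 6, 0)]),
     (18, [(1, 6, 0)]),
     (19, [(1, 6, 0)]),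
     (20, [(1, 6, 0)]),
     (21, [(1, 6, 0)]),
     (23, [(1, 6, 0)])]),
  (18,
    [973047580892981701841065988820402241,
     17739793636303833671540501907627042,
     104717066230520680516329704062550071,
     984818244535754528103549039458486304],
    [(0, [(1, 4, 0)]),
     (1, [(1, 4, 0)]),
     (2, [(1, 4, 0)]),
     (3, [(1, 4, 0)]),
     (4, [(1, 4, 0)]),
     (5, [(1, 4, 0)]),
     (6, [(1, 6, 0)]),
     (7, [(1, 6, 0)]),
     (9, [(1, 5, 0)]),
     (10, [(1, 5, 0)]),
     (13, [(1, 4, 0)]),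
     (14, [(1, 4, 0)]),
     (15, [(1, 5, 0)]),
     (16, [(1, 4, 0)]),
     (17, [(1, 4, 0)]),
     (19, [(1, 6, 0)]),
     (20, [(1, 5, 0)]),
     (21, [(1, 6, 0)]),
     (22, [(1, 4, 0)]),
     (23, [(1, 4, 0)])]),
  (2,
    [70351105155508323366877919011341026,
     28854523491105362182008475499005015,
     984818244535754528103549039458486304,
     112424983097229755092343687492459521],
    [(3, [(1, 4, 0)]),
     (4, [(1, 3, 0)]),
     (5, [(1, 4, 0)]),
     (6, [(1, 7, 0)]),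
     (7, [(1, 7, 0)]),
     (8, [(1, 3, 0)]),
     (9, [(1, 6, 0)]),
     (10, [(1, 6, 0)]),
     (11, [(1, 3, 0)]),
     (12, [(1, 3, 0)]),
     (13, [(1, 3, 0)]),
     (14, [(1, 4, 0)]),
     (15, [(1, 6, 0)]),
     (16, [(1, 3, 0)]),
     (17, [(1, 4, 0)]),
     (18, [(1, 3, 0)]),
     (19, [(1, 7, 0)]),
     (20, [(1, 6, 0)]),
     (21, [(1, 7, 0)]),
     (22, [(1, 3, 0)])]),
  (0,
    [984818244535754528103549039458486304,
     21632717670220079703935367269354209,
     59284515345373500143959138539571223],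
    [(2, [(1, 1, 0)]),
     (3, [(1, 5, 0)]),
     (4, [(1, 3, 0)]),
     (5, [(1, 5, 0)]),
     (6, [(1, 8, 0)]),
     (7, [(1, 8, 0)]),
     (8, [(2, 6, 2), (1, 0, 1)]),
     (9, [(1, 7, 0)]),
     (10, [(1, 7, 0)]),
     (11, [(2, 6, 2), (1, 0, 1)]),
     (12, [(2, 6, 2), (1, 0, 1)]),
     (13, [(2, 9, 3), (1, 0, 1)]),
     (14, [(1, 5, 0)]),
     (15, [(1, 7, 0)]),
     (16, [(2, 9, 3), (1, 0, 1)]),
     (17, [(1, 5, 0)]),
     (18, [(1, 2, 0)]),
     (19, [(1, 8, 0)]),
     (20, [(1, 7, 0)]),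
     (21, [(1, 8, 0)]),
     (22, [(2, 9, 3), (1, 0, 1)])])]

/-- Final derivation: kernel of the sextet action. -/
def sextKerFin : List (ℕ × ℕ × ℕ) := [(2, 9, 3), (2, 7, 3), (2, 6, 3), (2, 0, 3), (0, 3, 6), (0, 0, 5), (3, 4563017, 4563017), (1, 15, 0), (2, 16, 1), (1, 16, 2), (2, 17, 3), (1, 16, 4), (2, 17, 5), (0, 16, 15), (0, 0, 15), (0, 0, 15), (0, 0, 8), (3, 6557781, 6557781), (1, 17, 0), (2, 18, 1), (1, 18, 2), (2, 19, 3), (1, 13, 4), (2, 14, 5), (0, 27, 16), (0, 0, 13), (0, 0, 7), (0, 0, 6), (3, 5255258, 5255258), (1, 25, 0), (2, 26, 1), (1, 20, 2), (2, 21, 3), (1, 13, 4), (2, 14, 5), (0, 38, 36), (0, 0, 36), (0, 0, 29), (0, 0, 26), (3, 663645, 663645), (1, 27, 0), (2, 28, 1), (1, 18, 2), (2, 19, 3), (0, 36, 34), (0, 0, 26), (0, 0, 14), (0, 0, 13), (3, 5939296, 5939296), (1, 7, 0), (2, 8, 1), (0, 53, 41), (0, 33, 29), (0, 1, 30), (0, 0, 22), (0, 0, 21), (3, 4038912, 4038912), (1, 35, 0), (2, 36, 1), (0, 6, 27), (0, 0, 25), (0, 0, 20), (3, 8077824, 8077824),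 (1, 30, 0), (2, 31, 1)]

theorem sextKer_ok : chainOK S0 sextKerLevels sextKerFin = true := by decide +kernel

/-- Elements exchanging neighbouring tetrads. -/
def swaps : List ℕ := [
  734979514589796562853405825177761955,
  21640358517826665490162244441606199,
  100819083966663436186129096740297760,
  984355386066803413838770983050249280,
  92351410677474640173504546684918816]

end CfsgLib.Perm.SextetCert
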