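import Cfsg.Agent.Lib.Perm.SextetCert
import Cfsg.Agent.Lib.Perm.MElevenInvolution
import Cfsg.Agent.Lib.Mathieu.StabOrbits

/-!
# The stabiliser of a sextet

It induces every permutation of the six tetrads; the kernel has order 192 and its involutions form,
with the identity, a normal elementary abelian subgroup of order 64.
-/

set_option autoImplicit false
set_option maxRecDepth 100000

namespace CfsgLib.Perm.Sextet

open Cfsg MulAction CfsgLib.Golay
open CfsgLib.Mathieu (sextSet)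
open CfsgLib.Perm.MElevenInvolution (mkP)
open scoped Pointwise

/-- An element fixing every tetrad. -/
def sB0 : Equiv.Perm GolayPt where
  toFun := mkP [0, 1, 2, 3, 13, 5, 19, 21, 11, 15, 20, 8, 18, 4, 14, 9, 22, 17, 12, 6, 10, 7, 16, 23]
  invFun := mkP [0, 1, 2, 3, 13, 5, 19, 21, 11, 15, 20, 8, 18, 4, 14, 9, 22, 17, 12, 6, 10, 7, 16, 23]
  left_inv := (by decide +kernel : ∀ p, mkP [0, 1, 2, 3, 13, 5, 19, 21, 11, 15, 20, 8, 18, 4, 14, 9, 22, 17, 12, 6, 10, 7, 16, 23] (mkP [0, 1, 2, 3, 13, 5, 19, 21, 11, 15, 20, 8, 18, 4, 14, 9, 22, 17, 12, 6, 10, 7, 16, 23] p) = p)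
  right_inv := (by decide +kernel : ∀ p, mkP [0, 1, 2, 3, 13, 5, 19, 21, 11, 15, 20, 8, 18, 4, 14, 9, 22, 17, 12, 6, 10, 7, 16, 23] (mkP [0, 1, 2, 3, 13, 5, 19, 21, 11, 15, 20, 8, 18, 4, 14, 9, 22, 17, 12, 6, 10, 7, 16, 23] p) = p)

theorem sB0_mem : sB0 ∈ fixMasks SextetCert.S0 := by
  have h : inFix SextetCert.S0 976448692869377735270425038196672544 = true := by decide +kernel
  have e : ∀ p, mkP [0, 1, 2, 3, 13, 5, 19, 21, 11, 15, 20, 8, 18, 4, 14, 9, 22, 17, 12, 6, 10, 7, 16, 23] p = pt (img 976448692869377735270425038196672544 (idx p)) := by decide +kernel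
  rw [show sB0 = permOf 976448692869377735270425038196672544 from Equiv.ext fun p => (e p).trans (permOf_apply (inFix_valid h) p).symm]
  exact inFix_mem h

/-- An element fixing every tetrad. -/
def sB1 : Equiv.Perm GolayPt where
  toFun := mkP [0, 1, 2, 3, 16, 5, 21, 19, 12, 20, 15, 18, 8, 22, 14, 10, 4, 17, 11, 7, 9, 6, 13, 23]
  invFun := mkP [0, 1, 2, 3, 16, 5, 21, 19, 12, 20, 15, 18, 8, 22, 14, 10, 4, 17, 11, 7, 9, 6, 13, 23]
  left_inv := (by decide +kernel : ∀ p, mkP [0, 1, 2, 3, 16, 5, 21, 19, 12, 20, 15, 18, 8, 22, 14, 10, 4, 17, 11, 7, 9, 6, 13, 23] (mkP [0, 1, 2, 3, 16, 5, 21, 19, 12, 20, 15, 18, 8, 22, 14, 10, 4, 17, 11, 7, 9, 6, 13, 23] p) = p)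
  right_inv := (by decide +kernel : ∀ p, mkP [0, 1, 2, 3, 16, 5, 21, 19, 12, 20, 15, 18, 8, 22, 14, 10, 4, 17, 11, 7, 9, 6, 13, 23] (mkP [0, 1, 2, 3, 16, 5, 21, 19, 12, 20, 15, 18, 8, 22, 14, 10, 4, 17, 11, 7, 9, 6, 13, 23] p) = p)

theorem sB1_mem : sB1 ∈ fixMasks SextetCert.S0 := by
  have h : inFix SextetCert.S0 972512676110088067912772961567868960 = true := by decide +kernel
  have e : ∀ p, mkP [0, 1, 2, 3, 16, 5, 21, 19, 12, 20, 15, 18, 8, 22, 14, 10, 4, 17, 11, 7, 9, 6, 13, 23] p = pt (img 972512676110088067912772961567868960 (idx p)) := by decide +kernel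
  rw [show sB1 = permOf 972512676110088067912772961567868960 from Equiv.ext fun p => (e p).trans (permOf_apply (inFix_valid h) p).symm]
  exact inFix_mem h

/-- An element fixing every tetrad. -/
def sB2 : Equiv.Perm GolayPt where
  toFun := mkP [0, 1, 2, 5, 4, 3, 21, 19, 11, 10, 9, 8, 18, 13, 17, 20, 16, 14, 12, 7, 15, 6, 22, 23]
  invFun := mkP [0, 1, 2, 5, 4, 3, 21, 19, 11, 10, 9, 8, 18, 13, 17, 20, 16, 14, 12, 7, 15, 6, 22, 23]
  left_inv := (by decide +kernel : ∀ p, mkP [0, 1, 2, 5, 4, 3, 21, 19, 11, 10, 9, 8, 18, 13, 17, 20, 16, 14, 12, 7, 15, 6, 22, 23] (mkP [0, 1, 2, 5, 4, 3, 21, 19, 11, 10, 9, 8, 18, 13, 17, 20, 16, 14, 12, 7, 15, 6, 22, 23] p) = p)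
  right_inv := (by decide +kernel : ∀ p, mkP [0, 1, 2, 5, 4, 3, 21, 19, 11, 10, 9, 8, 18, 13, 17, 20, 16, 14, 12, 7, 15, 6, 22, 23] (mkP [0, 1, 2, 5, 4, 3, 21, 19, 11, 10, 9, 8, 18, 13, 17, 20, 16, 14, 12, 7, 15, 6, 22, 23] p) = p)

theorem sB2_mem : sB2 ∈ fixMasks SextetCert.S0 := by
  have h : inFix SextetCert.S0 984202951082164080105044112956360736 = true := by decide +kernel
  have e : ∀ p, mkP [0, 1, 2, 5, 4, 3, 21, 19, 11, 10, 9, 8, 18, 13, 17, 20, 16, 14, 12, 7, 15, 6, 22, 23] p = pt (img 984202951082164080105044112956360736 (idx p)) := by decide +kernel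
  rw [show sB2 = permOf 984202951082164080105044112956360736 from Equiv.ext fun p => (e p).trans (permOf_apply (inFix_valid h) p).symm]
  exact inFix_mem h

/-- An element fixing every tetrad. -/
def sB3 : Equiv.Perm GolayPt where
  toFun := mkP [0, 1, 2, 14, 4, 17, 7, 6, 12, 15, 20, 18, 8, 13, 3, 9, 16, 5, 11, 21, 10, 19, 22, 23]
  invFun := mkP [0, 1, 2, 14, 4, 17, 7, 6, 12, 15, 20, 18, 8, 13, 3, 9, 16, 5, 11, 21, 10, 19, 22, 23]
  left_inv := (by decide +kernel : ∀ p, mkP [0, 1, 2, 14, 4, 17, 7, 6, 12, 15, 20, 18, 8, 13, 3, 9, 16, 5, 11, 21, 10, 19, 22, 23] (mkP [0, 1, 2, 14, 4, 17, 7, 6, 12, 15, 20, 18, 8, 13, 3, 9, 16, 5, 11, 21, 10, 19, 22, 23] p) = p)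
  right_inv := (by decide +kernel : ∀ p, mkP [0, 1, 2, 14, 4, 17, 7, 6, 12, 15, 20, 18, 8, 13, 3, 9, 16, 5, 11, 21, 10, 19, 22, 23] (mkP [0, 1, 2, 14, 4, 17, 7, 6, 12, 15, 20, 18, 8, 13, 3, 9, 16, 5, 11, 21, 10, 19, 22, 23] p) = p)

theorem sB3_mem : sB3 ∈ fixMasks SextetCert.S0 := by
  have h : inFix SextetCert.S0 984724508489452699215480746259449888 = true := by decide +kernel
  have e : ∀ p, mkP [0, 1, 2, 14, 4, 17, 7, 6, 12, 15, 20, 18, 8, 13, 3, 9, 16, 5, 11, 21, 10, 19, 22, 23] p = pt (img 984724508489452699215480746259449888 (idx p)) := by decide +kernel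
  rw [show sB3 = permOf 984724508489452699215480746259449888 from Equiv.ext fun p => (e p).trans (permOf_apply (inFix_valid h) p).symm]
  exact inFix_mem h

/-- An element fixing every tetrad. -/
def sB4 : Equiv.Perm GolayPt where
  toFun := mkP [1, 0, 23, 3, 4, 5, 21, 19, 18, 15, 20, 12, 11, 13, 14, 9, 16, 17, 8, 7, 10, 6, 22, 2]
  invFun := mkP [1, 0, 23, 3, 4, 5, 21, 19, 18, 15, 20, 12, 11, 13, 14, 9, 16, 17, 8, 7, 10, 6, 22, 2]
  left_inv := (by decide +kernel : ∀ p, mkP [1, 0, 23, 3, 4, 5, 21, 19, 18, 15, 20, 12, 11, 13, 14, 9, 16, 17, 8, 7, 10, 6, 22, 2] (mkP [1, 0, 23, 3, 4, 5, 21, 19, 18, 15, 20, 12, 11, 13, 14, 9, 16, 17, 8, 7, 10, 6, 22, 2] p) = p)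
  right_inv := (by decide +kernel : ∀ p, mkP [1, 0, 23, 3, 4, 5, 21, 19, 18, 15, 20, 12, 11, 13, 14, 9, 16, 17, 8, 7, 10, 6, 22, 2] (mkP [1, 0, 23, 3, 4, 5, 21, 19, 18, 15, 20, 12, 11, 13, 14, 9, 16, 17, 8, 7, 10, 6, 22, 2] p) = p)

theorem sB4_mem : sB4 ∈ fixMasks SextetCert.S0 := by
  have h : inFix SextetCert.S0 111890735759189500967275039606037505 = true := by decide +kernel
  have e : ∀ p, mkP [1, 0, 23, 3, 4, 5, 21, 19, 18, 15, 20, 12, 11, 13, 14, 9, 16, 17, 8, 7, 10, 6, 22, 2] p = pt (img 111890735759189500967275039606037505 (idx p)) := by decide +kernel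
  rw [show sB4 = permOf 111890735759189500967275039606037505 from Equiv.ext fun p => (e p).trans (permOf_apply (inFix_valid h) p).symm]
  exact inFix_mem h

/-- An element fixing every tetrad. -/
def sB5 : Equiv.Perm GolayPt where
  toFun := mkP [2, 23, 0, 3, 4, 5, 19, 21, 12, 10, 9, 18, 8, 13, 14, 20, 16, 17, 11, 6, 15, 7, 22, 1]
  invFun := mkP [2, 23, 0, 3, 4, 5, 19, 21, 12, 10, 9, 18, 8, 13, 14, 20, 16, 17, 11, 6, 15, 7, 22, 1]
  left_inv := (by decide +kernel : ∀ p, mkP [2, 23, 0, 3, 4, 5, 19, 21, 12, 10, 9, 18, 8, 13, 14, 20, 16, 17, 11, 6, 15, 7, 22, 1] (mkP [2, 23, 0, 3, 4, 5, 19, 21, 12, 10, 9, 18, 8, 13, 14, 20, 16, 17, 11, 6, 15, 7, 22, 1] p) = p)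
  right_inv := (by decide +kernel : ∀ p, mkP [2, 23, 0, 3, 4, 5, 19, 21, 12, 10, 9, 18, 8, 13, 14, 20, 16, 17, 11, 6, 15, 7, 22, 1] (mkP [2, 23, 0, 3, 4, 5, 19, 21, 12, 10, 9, 18, 8, 13, 14, 20, 16, 17, 11, 6, 15, 7, 22, 1] p) = p)

theorem sB5_mem : sB5 ∈ fixMasks SextetCert.S0 := by
  have h : inFix SextetCert.S0 70399228063273750146191920654811874 = true := by decide +kernel
  have e : ∀ p, mkP [2, 23, 0, 3, 4, 5, 19, 21, 12, 10, 9, 18, 8, 13, 14, 20, 16, 17, 11, 6, 15, 7, 22, 1] p = pt (img 70399228063273750146191920654811874 (idx p)) := by decide +kernel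
  rw [show sB5 = permOf 70399228063273750146191920654811874 from Equiv.ext fun p => (e p).trans (permOf_apply (inFix_valid h) p).symm]
  exact inFix_mem h

/-- An element fixing every tetrad. -/
def sW : Equiv.Perm GolayPt where
  toFun := mkP [0, 2, 23, 3, 4, 17, 6, 21, 11, 20, 9, 12, 8, 22, 5, 15, 13, 14, 18, 7, 10, 19, 16, 1]
  invFun := mkP [0, 23, 1, 3, 4, 14, 6, 19, 12, 10, 20, 8, 11, 16, 17, 15, 22, 5, 18, 21, 9, 7, 13, 2]
  left_inv := (by decide +kernel : ∀ p, mkP [0, 23, 1, 3, 4, 14, 6, 19, 12, 10, 20, 8, 11, 16, 17, 15, 22, 5, 18, 21, 9, 7, 13, 2] (mkP [0, 2, 23, 3, 4, 17, 6, 21, 11, 20, 9, 12, 8, 22, 5, 15, 13, 14, 18, 7, 10, 19, 16, 1] p) = p)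
  right_inv := (by decide +kernel : ∀ p, mkP [0, 2, 23, 3, 4, 17, 6, 21, 11, 20, 9, 12, 8, 22, 5, 15, 13, 14, 18, 7, 10, 19, 16, 1] (mkP [0, 23, 1, 3, 4, 14, 6, 19, 12, 10, 20, 8, 11, 16, 17, 15, 22, 5, 18, 21, 9, 7, 13, 2] p) = p)

theorem sW_mem : sW ∈ fixMasks SextetCert.S0 := by
  have h : inFix SextetCert.S0 63091270512736695476215892246912064 = true := by decide +kernel
  have e : ∀ p, mkP [0, 2, 23, 3, 4, 17, 6, 21, 11, 20, 9, 12, 8, 22, 5, 15, 13, 14, 18, 7, 10, 19, 16, 1] p = pt (img 63091270512736695476215892246912064 (idx p)) := by decide +kernel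
  rw [show sW = permOf 63091270512736695476215892246912064 from Equiv.ext fun p => (e p).trans (permOf_apply (inFix_valid h) p).symm]
  exact inFix_mem h

/-- Three of the basis involutions. -/
def fA : Multiplicative (ZMod 2 × ZMod 2 × ZMod 2) →* Equiv.Perm GolayPt :=
  MonoidHom.mk' (fun x => sB0 ^ x.toAdd.1.val * sB1 ^ x.toAdd.2.1.val * sB2 ^ x.toAdd.2.2.val)
    (by decide +kernel)

/-- The other three. -/
def fB : Multiplicative (ZMod 2 × ZMod 2 × ZMod 2) →* Equiv.Perm GolayPt :=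
  MonoidHom.mk' (fun x => sB3 ^ x.toAdd.1.val * sB4 ^ x.toAdd.2.1.val * sB5 ^ x.toAdd.2.2.val)
    (by decide +kernel)

theorem f_comm : ∀ a b, fA a * fB b = fB b * fA a := by decide +kernel

/-- The elementary abelian group of order 64. -/
def fE : Multiplicative (ZMod 2 × ZMod 2 × ZMod 2) × Multiplicative (ZMod 2 × ZMod 2 × ZMod 2) →*
    Equiv.Perm GolayPt :=
  MonoidHom.noncommCoprod fA fB f_comm

theorem fE_mem (v : Multiplicative (ZMod 2 × ZMod 2 × ZMod 2) × Multiplicative (ZMod 2 × ZMod 2 × ZMod 2)) :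
    fE v ∈ fixMasks SextetCert.S0 :=
  Subgroup.mul_mem _ (Subgroup.mul_mem _ (Subgroup.mul_mem _ (Subgroup.pow_mem _ sB0_mem _)
      (Subgroup.pow_mem _ sB1_mem _)) (Subgroup.pow_mem _ sB2_mem _))
    (Subgroup.mul_mem _ (Subgroup.mul_mem _ (Subgroup.pow_mem _ sB3_mem _)
      (Subgroup.pow_mem _ sB4_mem _)) (Subgroup.pow_mem _ sB5_mem _))

theorem meet_trivial : ∀ a b (k : Fin 3), fA a * fB b * sW ^ k.val = 1 → a = 1 ∧ b = 1 ∧ k = 0 := by
  decide +kernel

theorem invol_mem : ∀ a b (k : Fin 3),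
    fA a * fB b * sW ^ k.val * (fA a * fB b * sW ^ k.val) = 1 → k = 0 := by
  decide +kernel

theorem sW_cube : sW ^ 3 = 1 := by decide +kernel

theorem sq_one : ∀ a, fA a * fA a = 1 ∧ fB a * fB a = 1 := by decide +kernel

theorem card_kernel : Nat.card (fixMasks SextetCert.S0) = 192 := by
  rw [card_fixMasks SextetCert.sextKer_ok]; decide +kernel

theorem kernel_form {σ : Equiv.Perm GolayPt} (hσ : σ ∈ fixMasks SextetCert.S0) :
    ∃ v, ∃ k : Fin 3, σ = fE v * sW ^ k.val := by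
  have hb : Function.Bijective fun x : (Multiplicative (ZMod 2 × ZMod 2 × ZMod 2) ×
      Multiplicative (ZMod 2 × ZMod 2 × ZMod 2)) × Fin 3 =>
      (⟨fE x.1 * sW ^ x.2.val, Subgroup.mul_mem _ (fE_mem x.1) (Subgroup.pow_mem _ sW_mem _)⟩ :
        fixMasks SextetCert.S0) := by
    refine (Nat.bijective_iff_injective_and_card _).2 ⟨fun x y h => ?_, ?_⟩
    · have h' : fE x.1 * sW ^ x.2.val = fE y.1 * sW ^ y.2.val := congrArg Subtype.val h
      obtain ⟨k, hk⟩ : ∃ k : Fin 3, k = x.2 - y.2 := ⟨_, rfl⟩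
      have hpow : sW ^ k.val * sW ^ y.2.val = sW ^ x.2.val := by
        have e : ∀ a b : Fin 3, ((a - b).val + b.val) % 3 = a.val := by decide
        rw [← pow_add, hk, pow_eq_pow_mod _ sW_cube, e]
      have h1 : fE (y.1⁻¹ * x.1) * sW ^ k.val = 1 := by
        rw [← hpow, ← mul_assoc] at h'
        rw [map_mul, map_inv, mul_assoc, mul_right_cancel h', inv_mul_cancel]
      obtain ⟨ha, hb', hk0⟩ := meet_trivial _ _ _ h1
      have : y.1⁻¹ * x.1 = 1 := Prod.ext ha hb'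
      rw [hk0, eq_comm, sub_eq_zero] at hk
      exact Prod.ext (inv_mul_eq_one.1 this).symm hk
    · rw [card_kernel, Nat.card_prod, Nat.card_prod, Nat.card_congr Multiplicative.toAdd]
      simp [Nat.card_prod]
  obtain ⟨x, hx⟩ := hb.2 ⟨σ, hσ⟩
  exact ⟨x.1, x.2, (congrArg Subtype.val hx).symm⟩

/-- The standard sextet. -/
def T0 : Finset (Finset GolayPt) := sextSet SextetCert.S0

/-- The tetrads of the standard sextet, numbered. -/
def tet (i : Fin 6) : Finset GolayPt := mset (SextetCert.S0.getD i.val 0)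

theorem tet_injective : Function.Injective tet := by
  intro i j h
  have h1 : ∀ i : Fin 6, SextetCert.S0.getD i.val 0 < 16777216 := by decide +kernel
  have h2 : ∀ i j : Fin 6, SextetCert.S0.getD i.val 0 = SextetCert.S0.getD j.val 0 → i = j := by
    decide +kernel
  exact h2 _ _ (mset_inj (h1 i) (h1 j) h)

theorem mem_T0 {t : Finset GolayPt} : t ∈ T0 ↔ ∃ i, tet i = t := by
  simp [T0, sextSet, SextetCert.S0, tet, Fin.exists_fin_succ, eq_comm]

theorem T0_mem : T0 ∈ sextets := by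
  have h : ∀ i j : Fin 6, i ≠ j →
      (SextetCert.S0.getD i.val 0 ||| SextetCert.S0.getD j.val 0) ∈ octList := by decide +kernel
  have h4 : ∀ i : Fin 6, pop (SextetCert.S0.getD i.val 0) = 4 := by decide +kernel
  have e : T0 = Finset.univ.image tet := by ext t; simp [mem_T0]
  refine ⟨by rw [e, Finset.card_image_of_injective _ tet_injective]; rfl, fun t ht => ?_,
    fun t ht u hu htu => ?_⟩
  · obtain ⟨i, rfl⟩ := mem_T0.1 ht
    rw [tet, card_mset, h4]
  · obtain ⟨i, rfl⟩ := mem_T0.1 ht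
    obtain ⟨j, rfl⟩ := mem_T0.1 hu
    rw [tet, tet, ← mset_or]
    exact mem_octads_iff.2 ⟨_, h i j fun e => htu (by rw [e]), rfl⟩

theorem mem_fix_iff {σ : Equiv.Perm GolayPt} :
    σ ∈ fixMasks SextetCert.S0 ↔ σ ∈ M24 ∧ ∀ t ∈ T0, σ • t = t := by
  rw [mem_fixMasks]
  refine and_congr_right fun _ => ⟨fun h t ht => ?_, fun h m hm => h _ ?_⟩
  · rw [T0, sextSet, List.mem_toFinset, List.mem_map] at ht
    obtain ⟨m, hm, rfl⟩ := ht
    exact h m hm
  · rw [T0, sextSet, List.mem_toFinset, List.mem_map]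
    exact ⟨m, hm, rfl⟩

/-- The permutations of the tetrads induced by the stabiliser. -/
def induced : Subgroup (Equiv.Perm (Fin 6)) where
  carrier := {π | ∃ g : M24, g • T0 = T0 ∧ ∀ i, g • tet i = tet (π i)}
  one_mem' := ⟨1, one_smul _ _, fun i => one_smul _ _⟩
  mul_mem' := by
    rintro π ρ ⟨g, hg, hg'⟩ ⟨k, hk, hk'⟩
    exact ⟨g * k, by rw [mul_smul, hk, hg], fun i => by rw [mul_smul, hk', hg']; rfl⟩
  inv_mem' := by
    rintro π ⟨g, hg, hg'⟩
    exact ⟨g⁻¹, inv_smul_eq_iff.2 hg.symm, fun i => by rw [inv_smul_eq_iff, hg']; simp⟩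

theorem induced_top : induced = ⊤ := by
  have hs : ∀ k : Fin 5, Equiv.swap k.castSucc k.succ ∈ induced := by
    have h : ∀ k : Fin 5, (inM24 (SextetCert.swaps.getD k.val 0) = true) ∧
        ∀ i : Fin 6, mimg (SextetCert.swaps.getD k.val 0) (SextetCert.S0.getD i.val 0) =
          SextetCert.S0.getD (Equiv.swap k.castSucc k.succ i).val 0 := by decide +kernel
    intro k
    obtain ⟨hg, hi⟩ := h k
    obtain ⟨g, hg'⟩ : ∃ g : M24, (g : Equiv.Perm GolayPt) = permOf (SextetCert.swaps.getD k.val 0) :=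
      ⟨⟨_, inM24_mem hg⟩, rfl⟩
    have ht : ∀ i, g • tet i = tet (Equiv.swap k.castSucc k.succ i) := fun i => by
      show (g : Equiv.Perm GolayPt) • tet i = _
      rw [hg', tet, smul_mset (inM24_valid hg), hi]; rfl
    refine ⟨g, Finset.eq_of_subset_of_card_le (fun t h => ?_) (by rw [Finset.card_smul_finset]), ht⟩
    obtain ⟨u, hu, rfl⟩ := Finset.mem_smul_finset.1 h
    obtain ⟨i, rfl⟩ := mem_T0.1 hu
    exact mem_T0.2 ⟨_, (ht i).symm⟩
  refine eq_top_iff.2 fun π _ => ?_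
  have := Equiv.Perm.mclosure_swap_castSucc_succ 5
  have hπ : π ∈ Submonoid.closure (Set.range fun i : Fin 5 => Equiv.swap i.castSucc i.succ) := by
    rw [this]; trivial
  exact (Submonoid.closure_le.2 (by rintro _ ⟨k, rfl⟩; exact hs k) : _ ≤ induced.toSubmonoid) hπ

set_option maxHeartbeats 1000000 in
theorem main {S : Finset (Finset GolayPt)} (hS : S ∈ sextets) :
    (∀ e : Equiv.Perm ↥S, ∃ g ∈ stabilizer M24 S, ∀ t : ↥S,
      (g : Equiv.Perm GolayPt) • (t : Finset GolayPt) = ((e t : ↥S) : Finset GolayPt)) ∧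
    Nat.card {g : ↥(stabilizer M24 S) // ∀ t ∈ S, ((g : M24) : Equiv.Perm GolayPt) • t = t} = 192 ∧
    ∃ N : Subgroup ↥(stabilizer M24 S), N.Normal ∧ Nat.card N = 64 ∧ ∀ x ∈ N, x * x = 1 := by
  classical
  obtain ⟨c, hc⟩ := CfsgLib.Mathieu.sextet_move T0_mem hS
  have hT : ∀ t, t ∈ S ↔ ∃ i, c • tet i = t := fun t => by
    rw [← hc, Finset.mem_smul_finset]
    simp only [mem_T0]
    exact ⟨fun ⟨u, ⟨i, hi⟩, e⟩ => ⟨i, by rw [hi, e]⟩, fun ⟨i, e⟩ => ⟨_, ⟨i, rfl⟩, e⟩⟩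
  have hfix : ∀ g : M24, (∀ t ∈ S, (g : Equiv.Perm GolayPt) • t = t) ↔
      ((c⁻¹ * g * c : M24) : Equiv.Perm GolayPt) ∈ fixMasks SextetCert.S0 := fun g => by
    rw [mem_fix_iff]
    simp only [SetLike.coe_mem, true_and]
    refine ⟨fun h t ht => ?_, fun h t ht => ?_⟩
    · show (c⁻¹ * g * c) • t = t
      rw [mul_smul, mul_smul, inv_smul_eq_iff]
      exact h _ (hc ▸ Finset.smul_mem_smul_finset ht)
    · obtain ⟨i, rfl⟩ := (hT t).1 ht
      show g • c • tet i = c • tet i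
      have h1 : (c⁻¹ * g * c) • tet i = tet i := h _ (mem_T0.2 ⟨i, rfl⟩)
      rwa [mul_smul, mul_smul, inv_smul_eq_iff] at h1
  refine ⟨fun e => ?_, ?_, ?_⟩
  · let φ : Fin 6 ≃ ↥S := Equiv.ofBijective (fun i => ⟨c • tet i, (hT _).2 ⟨i, rfl⟩⟩)
      ⟨fun i j h => tet_injective (smul_left_cancel c (congrArg Subtype.val h)),
        fun t => by obtain ⟨i, hi⟩ := (hT t.1).1 t.2; exact ⟨i, Subtype.ext hi⟩⟩
    obtain ⟨g, hg, hgi⟩ : (φ.trans (e.trans φ.symm) : Equiv.Perm (Fin 6)) ∈ induced := by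
      rw [induced_top]; trivial
    refine ⟨c * g * c⁻¹, ?_, fun t => ?_⟩
    · rw [mem_stabilizer_iff, mul_smul, mul_smul, ← hc, inv_smul_smul, hg]
    · obtain ⟨i, rfl⟩ := φ.surjective t
      show (c * g * c⁻¹) • c • tet i = _
      rw [mul_smul, mul_smul, inv_smul_smul, hgi]
      exact congrArg Subtype.val (φ.apply_symm_apply (e (φ i)))
  · rw [← card_kernel]
    refine Nat.card_congr
      { toFun := fun g => ⟨_, (hfix g.1.1).1 g.2⟩
        invFun := fun σ => ⟨⟨c * (⟨σ.1, fixMasks_le _ σ.2⟩ : M24) * c⁻¹, ?_⟩, ?_⟩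
        left_inv := fun g => Subtype.ext (Subtype.ext ?_)
        right_inv := fun σ => Subtype.ext ?_ }
    · have h := (mem_fix_iff.1 σ.2).2
      rw [mem_stabilizer_iff, mul_smul, mul_smul, ← hc, inv_smul_smul]
      refine congrArg (c • ·) ?_
      refine Finset.eq_of_subset_of_card_le (fun t ht => ?_) (by rw [Finset.card_smul_finset])
      obtain ⟨u, hu, rfl⟩ := Finset.mem_smul_finset.1 ht
      have hu' : (⟨σ.1, fixMasks_le _ σ.2⟩ : M24) • u = u := h u hu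
      rwa [hu']
    · refine (hfix _).2 ?_
      rw [show c⁻¹ * (c * (⟨σ.1, fixMasks_le _ σ.2⟩ : M24) * c⁻¹) * c = ⟨σ.1, fixMasks_le _ σ.2⟩ by group]
      exact σ.2
    · show c * (c⁻¹ * (g.1 : M24) * c) * c⁻¹ = _
      group
    · show ((c⁻¹ * (c * (⟨σ.1, fixMasks_le _ σ.2⟩ : M24) * c⁻¹) * c : M24) : Equiv.Perm GolayPt) = σ.1
      rw [show c⁻¹ * (c * (⟨σ.1, fixMasks_le _ σ.2⟩ : M24) * c⁻¹) * c = ⟨σ.1, fixMasks_le _ σ.2⟩ by group]
  · let ψ : Multiplicative (ZMod 2 × ZMod 2 × ZMod 2) × Multiplicative (ZMod 2 × ZMod 2 × ZMod 2) →* M24 :=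
      (MulAut.conj c).toMonoidHom.comp (fE.codRestrict M24 fun v => fixMasks_le _ (fE_mem v))
    have hψ : ∀ v, c⁻¹ * ψ v * c = (⟨fE v, fixMasks_le _ (fE_mem v)⟩ : M24) := fun v => by
      show c⁻¹ * (c * _ * c⁻¹) * c = _
      group
      rfl
    have hψS : ∀ v, ψ v ∈ stabilizer M24 S := fun v => by
      have h := (hfix (ψ v)).2 (by rw [hψ]; exact fE_mem v)
      rw [mem_stabilizer_iff]
      refine Finset.eq_of_subset_of_card_le (fun t ht => ?_) (by rw [Finset.card_smul_finset])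
      obtain ⟨u, hu, rfl⟩ := Finset.mem_smul_finset.1 ht
      have hu' : ψ v • u = u := h u hu
      rwa [hu']
    let ψS : Multiplicative (ZMod 2 × ZMod 2 × ZMod 2) × Multiplicative (ZMod 2 × ZMod 2 × ZMod 2) →*
        ↥(stabilizer M24 S) :=
      { toFun := fun v => ⟨ψ v, hψS v⟩
        map_one' := Subtype.ext (map_one ψ)
        map_mul' := fun v w => Subtype.ext (map_mul ψ v w) }
    obtain ⟨N, hN⟩ : ∃ N : Subgroup ↥(stabilizer M24 S), N = ψS.range := ⟨_, rfl⟩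
    have hchar : ∀ x : stabilizer M24 S, x ∈ N ↔
        (∀ t ∈ S, ((x : M24) : Equiv.Perm GolayPt) • t = t) ∧ x * x = 1 := by
      intro x
      constructor
      · rw [hN]
        rintro ⟨v, rfl⟩
        refine ⟨(hfix _).2 (by show ((c⁻¹ * ψ v * c : M24) : Equiv.Perm GolayPt) ∈ _; rw [hψ]; exact fE_mem v),
          ?_⟩
        have : v * v = 1 := by
          have e : ∀ z : ZMod 2 × ZMod 2 × ZMod 2, z + z = 0 := by decide
          exact Prod.ext (congrArg Multiplicative.ofAdd (e v.1.toAdd))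
            (congrArg Multiplicative.ofAdd (e v.2.toAdd))
        rw [← map_mul, this, map_one]
      · rintro ⟨hf, hx2⟩
        obtain ⟨v, k, hv⟩ := kernel_form ((hfix x.1).1 hf)
        have h2 : (x : M24) * (x : M24) = 1 := congrArg Subtype.val hx2
        have h3 : c⁻¹ * (x : M24) * c * (c⁻¹ * (x : M24) * c) = 1 := by
          rw [show c⁻¹ * (x : M24) * c * (c⁻¹ * (x : M24) * c) = c⁻¹ * ((x : M24) * (x : M24)) * c by group,
            h2, mul_one, inv_mul_cancel]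
        have h4 := congrArg Subtype.val h3
        rw [Subgroup.coe_mul, hv] at h4
        have hk := invol_mem v.1 v.2 k h4
        rw [hk, Fin.val_zero, pow_zero, mul_one] at hv
        rw [hN]
        refine ⟨v, Subtype.ext ?_⟩
        show ψ v = (x : M24)
        have h5 : c⁻¹ * ψ v * c = c⁻¹ * (x : M24) * c := by
          rw [hψ]; exact Subtype.ext hv.symm
        exact mul_left_cancel (mul_right_cancel h5)
    refine ⟨N, ⟨fun x hx g => ?_⟩, ?_, fun x hx => ((hchar x).1 hx).2⟩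
    · obtain ⟨h1, h2⟩ := (hchar x).1 hx
      refine (hchar _).2 ⟨fun t ht => ?_, ?_⟩
      · show ((g : M24) * (x : M24) * (g : M24)⁻¹) • t = t
        have hmem : (g : M24)⁻¹ • t ∈ S := by
          have := Finset.smul_mem_smul_finset (a := (g : M24)⁻¹) ht
          rwa [inv_smul_eq_iff.2 (mem_stabilizer_iff.1 g.2).symm] at this
        have h6 : (x : M24) • (g : M24)⁻¹ • t = (g : M24)⁻¹ • t := h1 _ hmem
        rw [mul_smul, mul_smul, h6, smul_inv_smul]
      · rw [show g * x * g⁻¹ * (g * x * g⁻¹) = g * (x * x) * g⁻¹ by group, h2, mul_one, mul_inv_cancel]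
    · rw [hN, ← Nat.card_congr (MonoidHom.ofInjective (f := ψS) ?_).toEquiv,
        Nat.card_prod, Nat.card_congr Multiplicative.toAdd]
      · simp [Nat.card_prod]
      refine (injective_iff_map_eq_one _).2 fun v hv => ?_
      have h1 : ψ v = 1 := congrArg Subtype.val hv
      have h2 := hψ v
      rw [h1, mul_one, inv_mul_cancel] at h2
      obtain ⟨a, b, -⟩ := meet_trivial v.1 v.2 0 (by
        rw [Fin.val_zero, pow_zero, mul_one]; exact (congrArg Subtype.val h2).symm)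
      exact Prod.ext a b

end CfsgLib.Perm.Sextet
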