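import Cfsg.Agent.Lib.MaxSub.CLenFactors
import Mathlib.GroupTheory.QuotientGroup.Basic
import Mathlib.Data.Fintype.EquivFin
import Mathlib.Algebra.Group.TransferInstance

/-!
The intersection of a supplementing maximal subgroup with a non-abelian minimal normal subgroup:
a product of proper subgroups of the factors, or a product of diagonals over a partition.
-/

set_option autoImplicit false

namespace CfsgLib.Perm

open Subgroup CfsgLib.MaxSub CfsgLib.Recog

variable {G : Type*} [Group G] [Finite G] {N T : Subgroup G}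

theorem exists_fac_proj (h : FacHyp N T) {U : Subgroup G} (hU : U ∈ facs T) :
    ∃ φ : N →* U, Function.Surjective φ ∧
      ∀ (x : N) (u : U), φ x = u ↔ (u : G)⁻¹ * x ∈ centralizer (U : Set G) := by
  have hu : ∀ t t' : U, ∀ x : G, (t : G)⁻¹ * x ∈ centralizer (U : Set G) →
      (t' : G)⁻¹ * x ∈ centralizer (U : Set G) → t = t' := by
    intro t t' x ht ht'
    have : (t : G)⁻¹ * t' ∈ U ⊓ centralizer (U : Set G) :=
      ⟨U.mul_mem (U.inv_mem t.2) t'.2, by
        have := mul_mem ht (inv_mem ht')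
        simpa [mul_assoc] using this⟩
    rw [h.fac_inf_centralizer hU, Subgroup.mem_bot, inv_mul_eq_one] at this
    exact Subtype.ext this
  have hex : ∀ x : N, ∃ t : U, (t : G)⁻¹ * x ∈ centralizer (U : Set G) := by
    intro x
    obtain ⟨t, ht, c, hc, e⟩ := exists_mul_centralizer (h.le_fac_sup hU x.2)
    exact ⟨⟨t, ht⟩, by rw [← e]; simpa using hc⟩
  choose f hf using hex
  refine ⟨MonoidHom.mk' f fun x y => ?_, fun u => ?_, fun x u => ?_⟩
  · refine hu _ _ _ (hf (x * y)) ?_
    have h1 : (f y : G)⁻¹ * ((f x : G)⁻¹ * x) * f y ∈ centralizer (U : Set G) := by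
      simpa using conj_mem_centralizer (inv_mem (Subgroup.le_normalizer (f y).2)) (hf x)
    have h2 := mul_mem h1 (hf y)
    simpa [mul_assoc] using h2
  · exact ⟨⟨u, h.fac_le hU u.2⟩, hu _ _ _ (hf _) (by simp)⟩
  · exact ⟨fun e => e ▸ hf x, fun hc => hu _ _ _ (hf x) hc⟩

universe u

theorem socle_stabilizer_structure {G : Type u} [Group G] [Finite G] {N T S : Subgroup G}
    (h : FacHyp N T) (hS : IsCoatom S) (hNS : ¬ N ≤ S) :
    ∃ (T₀ : Type) (_ : Group T₀) (m : ℕ) (e : N ≃* (Fin m → T₀)), IsSimpleGroup T₀ ∧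
      ¬ IsMulCommutative T₀ ∧ 0 < m ∧
      ((∃ K : Fin m → Subgroup T₀, (∀ i, K i ≠ ⊤) ∧ ∀ n : N, (n : G) ∈ S ↔ ∀ i, e n i ∈ K i) ∨
        (∃ (k : ℕ) (c : Fin m → Fin m), 2 ≤ k ∧
          (∀ j : Fin m, Nat.card {i : Fin m // c i = j} = k ∨ Nat.card {i : Fin m // c i = j} = 0) ∧
          ∀ n : N, (n : G) ∈ S ↔ ∀ i j : Fin m, c i = c j → e n i = e n j)) := by
  classical
  have hNn := h.normal
  set m := (facs T).card with hm
  let σ : Fin m ≃ {U // U ∈ facs T} := (facs T).equivFin.symm
  let U : Fin m → Subgroup G := fun i => (σ i).1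
  have hU : ∀ i, U i ∈ facs T := fun i => (σ i).2
  have hUinj : Function.Injective U := fun i j e => σ.injective (Subtype.ext e)
  have hUsurj : ∀ V ∈ facs T, ∃ i, U i = V := fun V hV => ⟨σ.symm ⟨V, hV⟩, by simp [U]⟩
  choose φ hφs hφ using fun i => exists_fac_proj h (hU i)
  -- base isomorphisms
  obtain ⟨T₀, iT₀, ⟨ι⟩⟩ : ∃ (T₀ : Type) (_ : Group T₀), Nonempty (T₀ ≃* T) :=
    ⟨Fin (Nat.card T), (Finite.equivFin T).symm.group, ⟨(Finite.equivFin T).symm.mulEquiv⟩⟩
  haveI : Finite T₀ := Finite.of_equiv T ι.symm.toEquiv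
  choose g hg using fun i => mem_facs.mp (hU i)
  let β : ∀ i, U i ≃* T₀ := fun i => ((MulEquiv.subgroupCongr (hg i).symm).trans
    (Subgroup.equivMapOfInjective T _ (MulAut.conj (g i)).injective).symm).trans ι.symm
  have hT₀ : IsSimpleGroup T₀ := by
    haveI := h.factor.simple
    exact (MulEquiv.isSimpleGroup_congr ι).mpr inferInstance
  have hT₀n : ¬ IsMulCommutative T₀ := fun hc => h.factor.nonabelian ⟨⟨fun a b =>
    ι.symm.injective (by rw [map_mul, map_mul]; exact hc.is_comm.comm _ _)⟩⟩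
  have hm0 : 0 < m := Finset.card_pos.mpr ⟨T, self_mem_facs T⟩
  haveI : Nonempty (Fin m) := ⟨⟨0, hm0⟩⟩
  have hinj : ∀ x : N, (∀ i, φ i x = 1) → x = 1 := by
    intro x hx
    refine Subtype.ext ?_
    rw [OneMemClass.coe_one, ← Subgroup.mem_bot, ← h.cenInf_facs, mem_cenInf]
    refine ⟨x.2, fun V hV => ?_⟩
    obtain ⟨i, rfl⟩ := hUsurj V hV
    simpa using (hφ i x 1).mp (hx i)
  have hcardN : Nat.card N = Nat.card (Fin m → T₀) := by
    have h1 : Nat.card (Fin m → T₀) = Nat.card T ^ m := by
      rw [Nat.card_fun, Nat.card_fin, Nat.card_congr ι.toEquiv]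
    refine le_antisymm (Nat.card_le_card_of_injective (fun x i => β i (φ i x)) fun x y e => ?_)
      (h1 ▸ h.card_pow)
    have : x⁻¹ * y = 1 := hinj _ fun i => by
      rw [map_mul, map_inv, inv_mul_eq_one]
      exact (β i).injective (congrFun e i)
    exact inv_mul_eq_one.mp this
  -- `e η` is an isomorphism for each choice of isomorphisms
  have hiso : ∀ η : ∀ i, U i ≃* T₀, ∃ e : N ≃* (Fin m → T₀), ∀ x i, e x i = η i (φ i x) := by
    intro η
    let f : N →* (Fin m → T₀) := MonoidHom.mk' (fun x i => η i (φ i x))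
      fun x y => funext fun i => by rw [map_mul, map_mul]; rfl
    refine ⟨MulEquiv.ofBijective f ((Nat.bijective_iff_injective_and_card f).mpr ⟨?_, hcardN⟩), fun x i => rfl⟩
    rw [injective_iff_map_eq_one]
    exact fun x hx => hinj x fun i => (η i).map_eq_one_iff.mp (congrFun hx i)
  -- conjugation by `S`
  have hequiv : ∀ (s : G) (i j : Fin m), cj s (U i) = U j → ∀ x : N,
      (φ j ⟨s * x * s⁻¹, hNn.conj_mem x x.2 s⟩ : G) = s * (φ i x : G) * s⁻¹ := by
    intro s i j hij x
    have hmem : s * (φ i x : G) * s⁻¹ ∈ U j := hij ▸ conj_mem_cj (φ i x).2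
    have := (hφ j ⟨s * x * s⁻¹, hNn.conj_mem x x.2 s⟩ ⟨_, hmem⟩).mpr (by
      show (s * (φ i x : G) * s⁻¹)⁻¹ * (s * x * s⁻¹) ∈ _
      rw [← hij, ← cj_centralizer]
      have := conj_mem_cj (g := s) ((hφ i x _).mp rfl)
      simpa [mul_assoc] using this)
    exact congrArg Subtype.val this
  have hperm : ∀ (s : G) (i : Fin m), ∃ j, cj s (U i) = U j := fun s i => by
    obtain ⟨j, hj⟩ := hUsurj _ (cj_mem_facs s (hU i))
    exact ⟨j, hj.symm⟩
  have htop : S ⊔ N = ⊤ := hS.2 _ (lt_of_le_of_ne le_sup_left fun e => hNS (e.ge.trans' le_sup_right))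
  have htrans : ∀ i j, ∃ s ∈ S, cj s (U i) = U j := by
    intro i j
    obtain ⟨s, hs, n, hn, e⟩ := Subgroup.mem_sup_of_normal_right.mp
      (show g j * (g i)⁻¹ ∈ S ⊔ N from htop ▸ Subgroup.mem_top _)
    refine ⟨s, hs, ?_⟩
    have hn' : cj n (U i) = U i := by
      ext x
      rw [mem_cj]
      have := (mem_normalizer_iff.mp (h.fac_normalizer (hU i) (inv_mem hn)) x)
      rw [inv_inv] at this
      exact this.symm
    rw [← hn', ← cj_mul, e, ← hg i, ← cj_mul, inv_mul_cancel_right, hg j]
  let D : Subgroup N := S.subgroupOf N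
  have hD : ∀ x : N, x ∈ D ↔ (x : G) ∈ S := fun x => Subgroup.mem_subgroupOf
  by_cases hfull : ∀ i, D.map (φ i) = ⊤
  swap
  · -- proper projections
    have hprop : ∀ i, D.map (φ i) ≠ ⊤ := by
      intro i hi
      apply hfull
      intro j
      obtain ⟨s, hs, hsij⟩ := htrans i j
      rw [eq_top_iff]
      rintro ⟨u, hu⟩ -
      have hu' : s⁻¹ * u * s ∈ U i := by rw [← mem_cj, hsij]; exact hu
      obtain ⟨d, hd, hdu⟩ : (⟨_, hu'⟩ : U i) ∈ D.map (φ i) := hi ▸ Subgroup.mem_top _
      refine ⟨⟨s * d * s⁻¹, hNn.conj_mem d d.2 s⟩, (hD _).mpr (mul_mem (mul_mem hs ((hD d).mp hd)) (inv_mem hs)), Subtype.ext ?_⟩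
      rw [hequiv s i j hsij d, hdu]
      group
    let M : Subgroup G := (⨅ i, (D.map (φ i)).comap (φ i)).map N.subtype
    have hMmem : ∀ x : N, (x : G) ∈ M ↔ ∀ i, φ i x ∈ D.map (φ i) := by
      intro x
      rw [show (x : G) = N.subtype x from rfl, Subgroup.mem_map_iff_mem N.subtype_injective]
      simp [Subgroup.mem_iInf]
    have hMn : ∀ s ∈ S, ∀ y ∈ M, s * y * s⁻¹ ∈ M := by
      intro s hs y hy
      obtain ⟨x, -, rfl⟩ := id hy
      refine (hMmem ⟨s * x * s⁻¹, hNn.conj_mem x x.2 s⟩).mpr fun j => ?_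
      obtain ⟨i, hi⟩ := hperm s⁻¹ j
      have hij : cj s (U i) = U j := by rw [← hi, ← cj_mul, mul_inv_cancel, cj_one]
      obtain ⟨d, hd, hdx⟩ := (hMmem x).mp hy i
      refine ⟨⟨s * d * s⁻¹, hNn.conj_mem d d.2 s⟩, (hD _).mpr (mul_mem (mul_mem hs ((hD d).mp hd)) (inv_mem hs)), Subtype.ext ?_⟩
      rw [hequiv s i j hij d, hequiv s i j hij x, hdx]
    have hSM : S ≤ normalizer (M : Set G) := by
      intro s hs
      refine mem_normalizer_iff.mpr fun y => ⟨hMn s hs y, fun hy => ?_⟩
      have := hMn s⁻¹ (inv_mem hs) _ hy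
      simpa [mul_assoc] using this
    have hMS : M ≤ S := by
      by_contra hc
      have e : S ⊔ M = ⊤ := hS.2 _ (lt_of_le_of_ne le_sup_left fun e => hc (e.ge.trans' le_sup_right))
      obtain ⟨i⟩ := (inferInstance : Nonempty (Fin m))
      apply hprop i
      rw [eq_top_iff]
      intro u _
      obtain ⟨x, rfl⟩ := hφs i u
      have hx : (x : G) ∈ ((S ⊔ M : Subgroup G) : Set G) := by rw [e]; trivial
      rw [Subgroup.coe_mul_of_left_le_normalizer_right _ _ hSM] at hx
      obtain ⟨s, hs, y, hy, hsy⟩ := hx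
      obtain ⟨y', -, rfl⟩ := id hy
      have hsN : x * y'⁻¹ ∈ D := (hD _).mpr (by
        have : ((x * y'⁻¹ : N) : G) = s := by
          push_cast
          rw [← hsy]
          simp
        rw [this]; exact hs)
      have := mul_mem (Subgroup.mem_map_of_mem (φ i) hsN) ((hMmem y').mp hy i)
      rwa [← map_mul, inv_mul_cancel_right] at this
    obtain ⟨e, he⟩ := hiso β
    refine ⟨T₀, inferInstance, m, e, hT₀, hT₀n, hm0,
      Or.inl ⟨fun i => (D.map (φ i)).map (β i).toMonoidHom, fun i => ?_, fun x => ?_⟩⟩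
    · intro e'
      apply hprop i
      rw [← Subgroup.map_top_of_surjective (β i).toMonoidHom (β i).surjective] at e'
      exact Subgroup.map_injective (β i).injective e'
    · have key : ∀ i, e x i ∈ (D.map (φ i)).map (β i).toMonoidHom ↔ φ i x ∈ D.map (φ i) := fun i => by
        rw [he]; exact Subgroup.mem_map_iff_mem (β i).injective
      simp only [key]
      exact ⟨fun hx i => Subgroup.mem_map_of_mem _ ((hD x).mpr hx), fun hx => hMS ((hMmem x).mpr hx)⟩
  · -- diagonals
    let θ : ∀ i, D →* U i := fun i => (φ i).comp D.subtype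
    have hθs : ∀ i, Function.Surjective (θ i) := by
      intro i u
      obtain ⟨d, hd, e⟩ : u ∈ D.map (φ i) := hfull i ▸ Subgroup.mem_top u
      exact ⟨⟨d, hd⟩, e⟩
    let κ : Fin m → Subgroup D := fun i => (θ i).ker
    let r : Fin m → Fin m := fun i => Function.invFun κ (κ i)
    have hκr : ∀ i, κ (r i) = κ i := fun i => Function.invFun_eq ⟨i, rfl⟩
    have hrκ : ∀ i j, κ i = κ j → r i = r j := fun i j e => by simp only [r, e]
    have hrr : ∀ i, r (r i) = r i := fun i => hrκ _ _ (hκr i)
    let q : ∀ i, D ⧸ κ i ≃* U i := fun i => QuotientGroup.quotientKerEquivOfSurjective (θ i) (hθs i)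
    let η : ∀ i, U i ≃* T₀ := fun i =>
      (((q i).symm.trans (QuotientGroup.quotientMulEquivOfEq (hκr i).symm)).trans (q (r i))).trans (β (r i))
    have hη : ∀ i (d : D), η i (θ i d) = β (r i) (θ (r i) d) := by
      intro i d
      have h1 : (q i).symm (θ i d) = QuotientGroup.mk d := by rw [MulEquiv.symm_apply_eq]; rfl
      simp only [η, MulEquiv.trans_apply, h1]
      rfl
    -- independence of different kernels
    have hkey : ∀ (s : Finset (Fin m)) (i : Fin m), (∀ l ∈ s, κ l ≠ κ i) → ∀ u : U i,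
        ∃ d : D, θ i d = u ∧ ∀ l ∈ s, θ l d = 1 := by
      intro s
      induction s using Finset.induction_on with
      | empty =>
        intro i _ u
        obtain ⟨d, hd⟩ := hθs i u
        exact ⟨d, hd, by simp⟩
      | @insert v s hv ih =>
        intro i hne u
        let L : Subgroup D := ⨅ l ∈ insert v s, κ l
        have hL : L.Normal := normal_iInf_normal fun l => normal_iInf_normal fun _ => MonoidHom.normal_ker _
        haveI := h.fac_simple (hU i)
        rcases (hL.map (θ i) (hθs i)).eq_bot_or_eq_top with hb | ht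
        swap
        · obtain ⟨d, hd, e⟩ : u ∈ L.map (θ i) := ht ▸ Subgroup.mem_top u
          refine ⟨d, e, fun l hl => ?_⟩
          simp only [L, SetLike.mem_coe, Subgroup.mem_iInf] at hd
          exact MonoidHom.mem_ker.mp (hd l hl)
        exfalso
        obtain ⟨y, hyv, hyi⟩ : ∃ y ∈ κ v, y ∉ κ i := by
          by_contra hc
          push Not at hc
          haveI := h.fac_simple (hU v)
          rcases ((MonoidHom.normal_ker (θ i)).map (θ v) (hθs v)).eq_bot_or_eq_top with e | e
          · exact hne v (Finset.mem_insert_self _ _) (le_antisymm hc ((Subgroup.map_eq_bot_iff _).mp e))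
          · apply h.fac_nonab (hU i)
            intro w hw
            obtain ⟨d, hd⟩ := hθs i ⟨w, hw⟩
            obtain ⟨k, hk, hkd⟩ : θ v d ∈ (θ i).ker.map (θ v) := e ▸ Subgroup.mem_top _
            have : k⁻¹ * d ∈ κ v := MonoidHom.mem_ker.mpr (by rw [map_mul, map_inv, hkd, inv_mul_cancel])
            have h2 : θ i (k⁻¹ * d) = 1 := MonoidHom.mem_ker.mp (hc _ this)
            rw [map_mul, map_inv, MonoidHom.mem_ker.mp hk, inv_one, one_mul] at h2
            rw [h2] at hd
            rw [show w = 1 from (congrArg Subtype.val hd).symm]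
            exact one_mem _
        have hcen : (θ i y : G) ∈ U i ⊓ centralizer (U i : Set G) := by
          refine ⟨(θ i y).2, mem_centralizer_iff.mpr fun w hw => ?_⟩
          obtain ⟨d, hd, hds⟩ := ih i (fun l hl => hne l (Finset.mem_insert_of_mem hl)) ⟨w, hw⟩
          have hmem : y * d * y⁻¹ * d⁻¹ ∈ L := by
            simp only [L, Subgroup.mem_iInf]
            intro l hl
            rw [MonoidHom.mem_ker]
            rcases Finset.mem_insert.mp hl with rfl | hl
            · rw [map_mul, map_mul, map_mul, map_inv, map_inv, MonoidHom.mem_ker.mp hyv]; group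
            · rw [map_mul, map_mul, map_mul, map_inv, map_inv, hds l hl]; group
          have h1 : θ i (y * d * y⁻¹ * d⁻¹) ∈ L.map (θ i) := Subgroup.mem_map_of_mem _ hmem
          rw [hb, Subgroup.mem_bot, map_mul, map_mul, map_mul, map_inv, map_inv, hd,
            mul_inv_eq_one, mul_inv_eq_iff_eq_mul] at h1
          exact (congrArg Subtype.val h1).symm
        rw [h.fac_inf_centralizer (hU i), Subgroup.mem_bot] at hcen
        exact hyi (MonoidHom.mem_ker.mpr (Subtype.ext hcen))
    obtain ⟨e, he⟩ := hiso η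
    have hiff : ∀ x : N, (x : G) ∈ S ↔ ∀ i j, r i = r j → e x i = e x j := by
      intro x
      constructor
      · intro hx i j hij
        rw [he, he, show φ i x = θ i ⟨x, (hD x).mpr hx⟩ from rfl, show φ j x = θ j ⟨x, (hD x).mpr hx⟩ from rfl, hη, hη, hij]
      · intro hx
        have hd : ∀ s : Finset (Fin m), (∀ l ∈ s, r l = l) → ∃ d : D, ∀ l ∈ s, θ l d = φ l x := by
          intro s
          induction s using Finset.induction_on with
          | empty => exact fun _ => ⟨1, by simp⟩
          | @insert v s hv ih =>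
            intro hs
            obtain ⟨d, hd⟩ := ih fun l hl => hs l (Finset.mem_insert_of_mem hl)
            obtain ⟨δ, hδ, hδs⟩ := hkey s v (fun l hl e => hv (by
              have := hrκ _ _ e
              rw [hs l (Finset.mem_insert_of_mem hl), hs v (Finset.mem_insert_self _ _)] at this
              exact this ▸ hl)) ((θ v d)⁻¹ * φ v x)
            refine ⟨d * δ, fun l hl => ?_⟩
            rcases Finset.mem_insert.mp hl with rfl | hl
            · rw [map_mul, hδ, mul_inv_cancel_left]
            · rw [map_mul, hδs l hl, mul_one, hd l hl]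
        obtain ⟨d, hd⟩ := hd (Finset.univ.filter fun l => r l = l) fun l hl => (Finset.mem_filter.mp hl).2
        have hed : e x = e (d : N) := by
          funext i
          have h1 := hd (r i) (Finset.mem_filter.mpr ⟨Finset.mem_univ _, hrr i⟩)
          rw [hx i (r i) (hrr i).symm, he, he, ← h1, hη, show φ i (d : N) = θ i d from rfl, hη, hrr]
        rw [e.injective hed]
        exact (hD _).mp d.2
    let i₀ : Fin m := ⟨0, hm0⟩
    have hsize : ∀ i j, Nat.card {l // κ l = κ i} = Nat.card {l // κ l = κ j} := by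
      suffices ∀ i j, Nat.card {l // κ l = κ i} ≤ Nat.card {l // κ l = κ j} from
        fun i j => le_antisymm (this i j) (this j i)
      intro i j
      obtain ⟨s, hs, hsij⟩ := htrans i j
      choose π hπ using hperm s
      have hπi : π i = j := hUinj ((hπ i).symm.trans hsij)
      have hmemκ : ∀ (l : Fin m) (d : D), d ∈ κ (π l) ↔
          (⟨⟨s⁻¹ * ((d : N) : G) * s, by simpa using hNn.conj_mem _ (d : N).2 s⁻¹⟩,
            (hD _).mpr (mul_mem (mul_mem (inv_mem hs) ((hD _).mp d.2)) hs)⟩ : D) ∈ κ l := by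
        intro l d
        have h1 := hequiv s l (π l) (hπ l) ⟨s⁻¹ * ((d : N) : G) * s, by simpa using hNn.conj_mem _ (d : N).2 s⁻¹⟩
        have e1 : (⟨s * (s⁻¹ * ((d : N) : G) * s) * s⁻¹, hNn.conj_mem _ (by simpa using hNn.conj_mem _ (d : N).2 s⁻¹) s⟩ : N) = (d : N) :=
          Subtype.ext (by group)
        rw [e1] at h1
        rw [MonoidHom.mem_ker, MonoidHom.mem_ker]
        constructor
        · intro hd'
          refine Subtype.ext ?_
          rw [show φ (π l) (d : N) = 1 from hd', OneMemClass.coe_one, eq_comm, conj_eq_one_iff] at h1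
          exact h1
        · intro hd'
          refine Subtype.ext ?_
          show (φ (π l) (d : N) : G) = 1
          rw [h1, show φ l ⟨s⁻¹ * ((d : N) : G) * s, _⟩ = 1 from hd', OneMemClass.coe_one, mul_one, mul_inv_cancel]
      refine Nat.card_le_card_of_injective
        (fun l : {l // κ l = κ i} => (⟨π l.1, ?_⟩ : {l // κ l = κ j})) fun a b e => Subtype.ext ?_
      · ext d
        rw [← hπi, hmemκ, hmemκ, l.2]
      · refine hUinj ?_
        have e' : cj s (U a.1) = cj s (U b.1) := by rw [hπ, hπ, show π a.1 = π b.1 from congrArg Subtype.val e]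
        have := congrArg (cj s⁻¹) e'
        rwa [← cj_mul, ← cj_mul, inv_mul_cancel, cj_one, cj_one] at this
    refine ⟨T₀, inferInstance, m, e, hT₀, hT₀n, hm0,
      Or.inr ⟨Nat.card {l // κ l = κ i₀}, r, ?_, fun j => ?_, hiff⟩⟩
    · by_contra hk
      apply hNS
      intro x hx
      refine (hiff ⟨x, hx⟩).mpr fun i j hij => ?_
      have hone : Nat.card {l // κ l = κ i} ≤ 1 := by rw [hsize i i₀]; omega
      haveI := Finite.card_le_one_iff_subsingleton.mp hone
      have hji : κ j = κ i := by rw [← hκr j, ← hij, hκr]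
      rw [show j = i from congrArg Subtype.val (Subsingleton.elim (⟨j, hji⟩ : {l // κ l = κ i}) ⟨i, rfl⟩)]
    · by_cases hj : r j = j
      · left
        rw [← hsize j i₀]
        exact Nat.card_congr (Equiv.subtypeEquivRight fun i =>
          ⟨fun e => by rw [← hκr i, e], fun e => (hrκ _ _ e).trans hj⟩)
      · right
        haveI : IsEmpty {i // r i = j} := ⟨fun ⟨i, hi⟩ => hj (hi ▸ hrr i)⟩
        exact Nat.card_of_isEmpty

end CfsgLib.Perm
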