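import Cfsg.Agent.Lib.Perm.CountingComplement
import Cfsg.Agent.Lib.StructB.Misc
import Cfsg.Agent.Lib.StructC.RelIndex
import Cfsg.Agent.Lib.Solvable.MinNormal
import Cfsg.Agent.Lib.Solvable.Supersolvable
import Cfsg.Agent.Lib.Solvable.Fitting
import Cfsg.Agent.Lib.Solvable.Nilpotent
import Cfsg.Agent.S0526
import Cfsg.Agent.S3778
import Mathlib.GroupTheory.SpecificGroups.ZGroup
import Mathlib.GroupTheory.IndexNormal

/-!
Finite groups all of whose class sizes are square-free: the normal `p`-complement for the smallest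
prime, supersolubility, the order of the derived subgroup and the Fitting subgroup.
-/

set_option autoImplicit false

namespace CfsgLib.Perm.SquarefreeClasses

open Subgroup CfsgLib.Transfer CfsgLib.Perm.CountingComplement
open scoped commutatorElement Pointwise

universe u

section General

variable {G : Type u} [Group G] [Finite G]

theorem index_centralizer_subgroup_dvd (N : Subgroup G) [N.Normal] (x : N) :
    (centralizer ({x} : Set N)).index ∣ (centralizer ({(x : G)} : Set G)).index := by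
  have : centralizer ({x} : Set N) = (centralizer ({(x : G)} : Set G)).subgroupOf N := by
    ext c
    rw [mem_subgroupOf, mem_centralizer_singleton_iff, mem_centralizer_singleton_iff, Subtype.ext_iff]
    rfl
  rw [this]
  exact CfsgLib.StructC.relIndex_dvd_index_right N _

theorem index_centralizer_quotient_dvd (N : Subgroup G) [N.Normal] (x : G) :
    (centralizer ({(x : G ⧸ N)} : Set (G ⧸ N))).index ∣ (centralizer ({x} : Set G)).index := by
  refine (index_dvd_of_le ?_).trans
    (index_map_dvd (H := centralizer ({x} : Set G)) (QuotientGroup.mk'_surjective N))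
  rintro _ ⟨c, hc, rfl⟩
  have hc' := mem_centralizer_singleton_iff.1 hc
  rw [mem_centralizer_singleton_iff]
  exact congrArg (QuotientGroup.mk' N) hc'

omit [Finite G] in
theorem upperCentralSeries_two_eq_top (h : ∀ x y : G, ⁅x, y⁆ ∈ center G) :
    Subgroup.upperCentralSeries G 2 = ⊤ := by
  refine top_unique fun x _ => ?_
  rw [Subgroup.mem_upperCentralSeries_succ_iff]
  intro y
  rw [Subgroup.upperCentralSeries_one]
  exact h x y

omit [Finite G] in
theorem isNilpotent_of_commutator_central (h : ∀ x y : G, ⁅x, y⁆ ∈ center G) : Group.IsNilpotent G :=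
  ⟨⟨2, upperCentralSeries_two_eq_top h⟩⟩

theorem eq_of_card_dvd_prime {p : ℕ} (hp : p.Prime) {A B : Subgroup G} (hA : Nat.card A ∣ p)
    (hB : Nat.card B ∣ p) {x : G} (hxA : x ∈ A) (hxB : x ∈ B) (hx : x ≠ 1) : A = B := by
  have hne : Nat.card ↥(A ⊓ B) ≠ 1 := fun h => hx (by
    rw [card_eq_one] at h
    exact mem_bot.1 (h ▸ mem_inf.2 ⟨hxA, hxB⟩))
  have hd : Nat.card ↥(A ⊓ B) = p :=
    ((Nat.dvd_prime hp).1 ((card_dvd_of_le inf_le_left).trans hA)).resolve_left hne
  have h1 : A ⊓ B = A :=
    eq_of_le_of_card_ge inf_le_left (hd ▸ Nat.le_of_dvd hp.pos hA)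
  have h2 : A ⊓ B = B :=
    eq_of_le_of_card_ge inf_le_right (hd ▸ Nat.le_of_dvd hp.pos hB)
  exact h1.symm.trans h2

theorem dvd_prime_of_squarefree {p n : ℕ} (hp : p.Prime) (hs : Squarefree n) {k : ℕ}
    (h : n ∣ p ^ k) : n ∣ p := by
  obtain ⟨j, -, rfl⟩ := (Nat.dvd_prime_pow hp).1 h
  rcases Nat.lt_or_ge j 2 with hj | hj
  · interval_cases j <;> simp
  · exact absurd (Nat.isUnit_iff.1 (hs p (by rw [← pow_two]; exact pow_dvd_pow p hj))) hp.ne_one

omit [Finite G] in
/-- A subgroup of index dividing `p` of a finite `p`-group is normal. -/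
theorem normal_of_index_dvd_prime [Finite G] {p : ℕ} [hp : Fact p.Prime] (hG : IsPGroup p G)
    {R : Subgroup G} (hR : R.index ∣ p) : R.Normal := by
  rcases (Nat.dvd_prime hp.out).1 hR with h | h
  · exact normal_of_index_eq_one h
  · refine normal_of_index_eq_minFac_card ?_
    obtain ⟨k, hk⟩ := hG.exists_card_eq
    have hk0 : k ≠ 0 := by
      intro h0
      have h' := R.index_dvd_card
      rw [hk, h0, pow_zero, h] at h'
      exact hp.out.ne_one (Nat.dvd_one.1 h')
    rw [h, hk, Nat.pow_minFac hk0, hp.out.minFac_eq]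

end General

section Complement

variable {p : ℕ} [hp : Fact p.Prime]

/-- `p`-subgroups are elementary abelian. -/
def ElemSylow (p : ℕ) (G : Type u) [Group G] : Prop :=
  ∀ H : Subgroup G, IsPGroup p H → ∀ x ∈ H, ∀ y ∈ H, x ^ p = 1 ∧ x * y = y * x

theorem elemSylow_of_sylow {G : Type u} [Group G] [Finite G] (P : Sylow p G)
    (h : ∀ x ∈ (P : Subgroup G), ∀ y ∈ (P : Subgroup G), x ^ p = 1 ∧ x * y = y * x) :
    ElemSylow p G := by
  intro H hH x hx y hy
  obtain ⟨Q, hQ⟩ := hH.exists_le_sylow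
  obtain ⟨g, rfl⟩ := MulAction.exists_smul_eq G P Q
  rw [Sylow.coe_subgroup_smul] at hQ
  have hx' := hQ hx
  have hy' := hQ hy
  rw [Subgroup.mem_pointwise_smul_iff_inv_smul_mem] at hx' hy'
  obtain ⟨h1, h2⟩ := h _ hx' _ hy'
  rw [← smul_pow', ← smul_one ((MulAut.conj g)⁻¹)] at h1
  rw [← smul_mul', ← smul_mul'] at h2
  exact ⟨smul_left_cancel _ h1, smul_left_cancel _ h2⟩

theorem elemSylow_quotient {G : Type u} [Group G] [Finite G] (h : ElemSylow p G) (N : Subgroup G)
    [N.Normal] : ElemSylow p (G ⧸ N) := by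
  obtain ⟨P⟩ := (inferInstance : Nonempty (Sylow p G))
  refine elemSylow_of_sylow (P.mapSurjective (QuotientGroup.mk'_surjective N)) ?_
  rintro _ ⟨x, hx, rfl⟩ _ ⟨y, hy, rfl⟩
  obtain ⟨h1, h2⟩ := h _ P.isPGroup' x hx y hy
  rw [← map_pow, ← map_mul, ← map_mul, h1, h2, map_one]
  exact ⟨rfl, rfl⟩

theorem exists_orderOf_central {G : Type u} [Group G] [Finite G] {u : G} (hu : u ∈ center G)
    (hu1 : u ≠ 1) {k : ℕ} (hk : u ^ p ^ k = 1) : ∃ v ∈ center G, v ≠ 1 ∧ v ^ p = 1 := by
  obtain ⟨j, -, hj⟩ := (Nat.dvd_prime_pow hp.out).1 (orderOf_dvd_of_pow_eq_one hk)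
  obtain ⟨i, rfl⟩ : ∃ i, j = i + 1 := ⟨j - 1, by
    have : j ≠ 0 := fun e => hu1 (orderOf_eq_one_iff.1 (by rw [hj, e, pow_zero]))
    omega⟩
  refine ⟨u ^ p ^ i, pow_mem hu _, fun e => ?_, ?_⟩
  · have := Nat.le_of_dvd (pow_pos hp.out.pos i) (orderOf_dvd_of_pow_eq_one e)
    rw [hj] at this
    exact absurd this (not_le.2 (Nat.pow_lt_pow_right hp.out.one_lt (Nat.lt_succ_self i)))
  · rw [← pow_mul, ← pow_succ, ← hj, pow_orderOf_eq_one]

/-- Smallest prime, elementary abelian Sylow subgroups, class sizes of `p'`-elements not divisible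
by `p ^ 2`: there is a normal `p`-complement. -/
theorem hasNormalPComplement_elem : ∀ (n : ℕ) (G : Type u) [Group G] [Finite G], Nat.card G = n →
    (∀ q : ℕ, q.Prime → q ∣ Nat.card G → p ≤ q) → ElemSylow p G →
    (∀ a : G, (orderOf a).Coprime p → ¬ p ^ 2 ∣ (centralizer ({a} : Set G)).index) →
    Cfsg.HasNormalPComplement p G := by
  intro n
  induction n using Nat.strong_induction_on with
  | _ n ih =>
  intro G _ _ hn hmin hel hcl
  subst hn
  by_cases hcen : ∃ b ∈ center G, b ≠ 1 ∧ b ^ p = 1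
  · obtain ⟨b, hb, hb1, hbp⟩ := hcen
    have hNc : zpowers b ≤ center G := zpowers_le.2 hb
    haveI : (zpowers b).Normal :=
      ⟨fun x hx g => by rw [mem_center_iff.1 (hNc hx) g, mul_inv_cancel_right]; exact hx⟩
    have hNp : IsPGroup p (zpowers b) :=
      IsPGroup.of_card (n := 1) (by rw [Nat.card_zpowers, pow_one, orderOf_eq_prime hbp hb1])
    refine lift_central _ hNc hNp (ih _ ?_ (G ⧸ zpowers b) rfl
      (CfsgLib.Amalgam.hmin_quotient hmin _) (elemSylow_quotient hel _) ?_)
    · rw [Subgroup.card_eq_card_quotient_mul_card_subgroup (zpowers b), Nat.card_zpowers,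
        orderOf_eq_prime hbp hb1]
      exact lt_mul_of_one_lt_right Nat.card_pos hp.out.one_lt
    · intro a ha
      obtain ⟨g, rfl⟩ := QuotientGroup.mk'_surjective (zpowers b) a
      obtain ⟨c, d, k, hcd, hc, hd, hco, hdk⟩ := exists_parts p g
      have hd1 : QuotientGroup.mk' (zpowers b) d = 1 := by
        refine eq_one_of_coprime_pow (ha.coprime_dvd_left ?_)
          (by rw [← map_pow, hdk, map_one] : QuotientGroup.mk' (zpowers b) d ^ p ^ k = 1)
        obtain ⟨i, rfl⟩ := mem_zpowers_iff.1 hd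
        rw [map_zpow]
        exact orderOf_dvd_of_mem_zpowers (zpow_mem (mem_zpowers _) i)
      intro h
      rw [hcd, map_mul, hd1, mul_one] at h
      exact hcl c hco (h.trans (index_centralizer_quotient_dvd _ c))
  · push Not at hcen
    obtain ⟨P⟩ := (inferInstance : Nonempty (Sylow p G))
    haveI : IsMulCommutative P :=
      ⟨⟨fun a b => Subtype.ext (hel _ P.isPGroup' a a.2 b b.2).2⟩⟩
    obtain ⟨k, hk⟩ := P.isPGroup'.exists_card_eq
    rcases Nat.lt_or_ge k 2 with hk2 | hk2
    · refine hasNormalPComplement_of_normalizer_le_centralizer P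
        (normalizer_le_centralizer_of_parts P fun a ha haN => ?_)
      haveI : IsCyclic ↥(P : Subgroup G) := by
        interval_cases k
        · haveI := (Nat.card_eq_one_iff_unique.1 (hk.trans (pow_zero p))).1
          exact isCyclic_of_subsingleton
        · exact isCyclic_of_prime_card (hk.trans (pow_one p))
      exact CfsgLib.Amalgam.mem_centralizer_of_cyclic hmin P.isPGroup' ha haN
    · refine hasNormalPComplement_of_count P hmin (fun x hx => (hel _ P.isPGroup' x hx x hx).1)
        (fun b hbp hb1 => ?_) (fun a ha => ?_)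
      · have hb : centralizer ({b} : Set G) ≠ ⊤ := fun h =>
          hb1 (by
            by_contra hb1
            exact hcen b (mem_center_iff.2 fun g =>
              mem_centralizer_singleton_iff.1 (h ▸ mem_top g : g ∈ centralizer ({b} : Set G)))
              hb1 hbp)
        refine ih _ (CfsgLib.Solvable.card_subgroup_lt hb) _ rfl
          (CfsgLib.Amalgam.hmin_subgroup hmin _) ?_ ?_
        · intro H hH x hx y hy
          obtain ⟨h1, h2⟩ := hel _ (hH.map (centralizer ({b} : Set G)).subtype) _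
            (mem_map_of_mem _ hx) _ (mem_map_of_mem _ hy)
          exact ⟨Subtype.ext h1, Subtype.ext h2⟩
        · intro a ha h
          have hao : (orderOf (a : G)).Coprime p := by rwa [Subgroup.orderOf_coe]
          refine hcl _ hao ?_
          -- a Sylow subgroup of the centraliser of `a` containing `b` is abelian
          have hbz : IsPGroup p (zpowers (⟨b, mem_centralizer_singleton_iff.2
              (mem_centralizer_singleton_iff.1 a.2).symm⟩ : centralizer ({(a : G)} : Set G))) :=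
            IsPGroup.of_card (n := 1) (by
              rw [Nat.card_zpowers, orderOf_mk, pow_one, orderOf_eq_prime hbp hb1])
          obtain ⟨R, hR⟩ := hbz.exists_le_sylow
          have hRb : (R : Subgroup (centralizer ({(a : G)} : Set G))).map (Subgroup.subtype _)
              ≤ centralizer ({b} : Set G) := fun x hx =>
            mem_centralizer_singleton_iff.2
              (hel _ (R.isPGroup'.map _) x hx b (mem_map_of_mem _ (hR (mem_zpowers _)))).2
          have hRa : ((R : Subgroup (centralizer ({(a : G)} : Set G))).map (Subgroup.subtype _)).subgroupOf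
              (centralizer ({b} : Set G)) ≤ centralizer ({a} : Set (centralizer ({b} : Set G))) := by
            intro x hx
            obtain ⟨y, -, hy⟩ := mem_subgroupOf.1 hx
            refine mem_centralizer_singleton_iff.2 (Subtype.ext ?_)
            show (x : G) * a = a * x
            rw [← hy]
            exact mem_centralizer_singleton_iff.1 y.2
          obtain ⟨j, hj⟩ := R.isPGroup'.exists_card_eq
          have h1 : p ^ 2 * p ^ j ∣ Nat.card G := by
            refine (mul_dvd_mul h ?_).trans ((dvd_of_eq (Subgroup.index_mul_card _)).trans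
              (card_subgroup_dvd_card _))
            have := card_dvd_of_le hRa
            rwa [Nat.card_congr (subgroupOfEquivOfLe hRb).toEquiv,
              card_map_of_injective (Subgroup.subtype_injective _), hj] at this
          rw [← Subgroup.index_mul_card (centralizer ({(a : G)} : Set G)),
            ← (R : Subgroup (centralizer ({(a : G)} : Set G))).index_mul_card, hj, ← mul_assoc] at h1
          exact ((Nat.Coprime.pow_left 2 ((Nat.Prime.coprime_iff_not_dvd hp.out).2
            R.not_dvd_index))).dvd_of_dvd_mul_right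
            (Nat.dvd_of_mul_dvd_mul_right (pow_pos hp.out.pos j) h1)
      · by_contra hne
        push Not at hne
        have hpn : ¬ p ∣ Nat.card (centralizer ({a} : Set G)) := fun hd => by
          obtain ⟨⟨b, hb⟩, hbo⟩ := exists_prime_orderOf_dvd_card' p hd
          rw [orderOf_mk] at hbo
          refine hne b (hbo ▸ pow_orderOf_eq_one b) (fun e => ?_) (mem_centralizer_singleton_iff.1 hb)
          rw [e, orderOf_one] at hbo
          exact hp.out.ne_one hbo.symm
        refine hcl a ha ((Nat.Coprime.pow_left 2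
          ((Nat.Prime.coprime_iff_not_dvd hp.out).2 hpn)).dvd_of_dvd_mul_left ?_)
        rw [Subgroup.card_mul_index]
        exact (pow_dvd_pow p hk2).trans (hk ▸ card_subgroup_dvd_card _)

/-- Smallest prime, no class size divisible by `p ^ 2`: there is a normal `p`-complement. -/
theorem hasNormalPComplement_classes : ∀ (n : ℕ) (G : Type u) [Group G] [Finite G], Nat.card G = n →
    (∀ q : ℕ, q.Prime → q ∣ Nat.card G → p ≤ q) →
    (∀ g : G, ¬ p ^ 2 ∣ (centralizer ({g} : Set G)).index) →
    Cfsg.HasNormalPComplement p G := by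
  intro n
  induction n using Nat.strong_induction_on with
  | _ n ih =>
  intro G _ _ hn hmin hcl
  subst hn
  obtain ⟨P⟩ := (inferInstance : Nonempty (Sylow p G))
  by_cases hP : ∀ x ∈ (P : Subgroup G), ∀ y ∈ (P : Subgroup G), x ^ p = 1 ∧ x * y = y * x
  · exact hasNormalPComplement_elem _ G rfl hmin (elemSylow_of_sylow P hP) fun a _ => hcl a
  -- an element forced into every subgroup of index `p` of `P`
  obtain ⟨s, hs1, hsR⟩ : ∃ s : ↥(P : Subgroup G), s ≠ 1 ∧
      ∀ R : Subgroup ↥(P : Subgroup G), R.index ∣ p → s ∈ R := by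
    have key : ∀ R : Subgroup ↥(P : Subgroup G), R.index ∣ p →
        ∀ x y : ↥(P : Subgroup G), x ^ p ∈ R ∧ ⁅x, y⁆ ∈ R := by
      intro R hR x y
      haveI := normal_of_index_dvd_prime P.isPGroup' hR
      haveI : IsCyclic (↥(P : Subgroup G) ⧸ R) := by
        rcases (Nat.dvd_prime hp.out).1 hR with h | h <;> rw [Subgroup.index_eq_card] at h
        · haveI := (Nat.card_eq_one_iff_unique.1 h).1
          exact isCyclic_of_subsingleton
        · exact isCyclic_of_prime_card h
      constructor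
      · rw [← QuotientGroup.eq_one_iff, QuotientGroup.mk_pow, ← orderOf_dvd_iff_pow_eq_one]
        exact (_root_.orderOf_dvd_natCard _).trans (by rwa [← Subgroup.index_eq_card])
      · rw [← QuotientGroup.eq_one_iff]
        show QuotientGroup.mk' R ⁅x, y⁆ = 1
        rw [map_commutatorElement, commutatorElement_eq_one_iff_mul_comm]
        obtain ⟨g, hg⟩ := IsCyclic.exists_generator (α := ↥(P : Subgroup G) ⧸ R)
        obtain ⟨i, hi⟩ := mem_zpowers_iff.1 (hg (QuotientGroup.mk' R x))
        obtain ⟨j, hj⟩ := mem_zpowers_iff.1 (hg (QuotientGroup.mk' R y))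
        rw [← hi, ← hj, ← zpow_add, ← zpow_add, add_comm]
    push Not at hP
    obtain ⟨x, hx, y, hy, hxy⟩ := hP
    by_cases hxp : x ^ p = 1
    · refine ⟨⁅(⟨x, hx⟩ : ↥(P : Subgroup G)), ⟨y, hy⟩⁆, fun e => hxy hxp ?_,
        fun R hR => (key R hR _ _).2⟩
      exact congrArg Subtype.val (commutatorElement_eq_one_iff_mul_comm.1 e)
    · exact ⟨(⟨x, hx⟩ : ↥(P : Subgroup G)) ^ p, fun e => hxp (congrArg Subtype.val e),
        fun R hR => (key R hR _ ⟨x, hx⟩).1⟩
  haveI : Group.IsNilpotent ↥(P : Subgroup G) := P.isPGroup'.isNilpotent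
  have hD : normalClosure ({s} : Set ↥(P : Subgroup G)) ≠ ⊥ := fun h =>
    hs1 (mem_bot.1 (h ▸ subset_normalClosure rfl))
  obtain ⟨u, hu, hu1⟩ := Subgroup.ne_bot_iff_exists_ne_one.1
    (CfsgLib.Solvable.normal_inf_center_ne_bot _ hD) |> fun ⟨w, hw⟩ =>
      (⟨(w : ↥(P : Subgroup G)), w.2, fun e => hw (Subtype.ext e)⟩ :
        ∃ u, u ∈ normalClosure ({s} : Set ↥(P : Subgroup G)) ⊓ center _ ∧ u ≠ 1)
  -- every element has a conjugate centralising `u`
  have htop : centralizer ({(u : G)} : Set G) = ⊤ := by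
    refine CfsgLib.StructB.eq_top_of_conj_cover _ fun g => ?_
    obtain ⟨S⟩ := (inferInstance : Nonempty (Sylow p (centralizer ({g} : Set G))))
    obtain ⟨Q, hQ⟩ := (S.isPGroup'.map (centralizer ({g} : Set G)).subtype).exists_le_sylow
    obtain ⟨c, hc⟩ := MulAction.exists_smul_eq G Q P
    refine ⟨c, ?_⟩
    obtain ⟨R₀, hR₀⟩ : ∃ R₀, R₀ = ((S : Subgroup (centralizer ({g} : Set G))).map
        (Subgroup.subtype _)).map (MulAut.conj c).toMonoidHom := ⟨_, rfl⟩
    have hR₀P : R₀ ≤ (P : Subgroup G) := by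
      rw [hR₀, ← hc, Sylow.coe_subgroup_smul]
      exact Subgroup.map_mono hQ
    obtain ⟨j, hj⟩ := S.isPGroup'.exists_card_eq
    obtain ⟨k, hk⟩ := P.isPGroup'.exists_card_eq
    have hcard : Nat.card (R₀.subgroupOf (P : Subgroup G)) = p ^ j := by
      rw [Nat.card_congr (subgroupOfEquivOfLe hR₀P).toEquiv, hR₀,
        card_map_of_injective (MulEquiv.injective _),
        card_map_of_injective (Subgroup.subtype_injective _), hj]
    have hidx : (R₀.subgroupOf (P : Subgroup G)).index ∣ p := by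
      have h1 := Subgroup.index_mul_card (R₀.subgroupOf (P : Subgroup G))
      rw [hcard, hk] at h1
      obtain ⟨i, -, hi⟩ := (Nat.dvd_prime_pow hp.out).1 (Dvd.intro _ h1)
      rcases Nat.lt_or_ge i 2 with h2 | h2
      · rw [hi]; interval_cases i <;> simp
      · exfalso
        have h3 : p ^ 2 * p ^ j ∣ Nat.card G := by
          refine dvd_trans ?_ (hk ▸ card_subgroup_dvd_card (P : Subgroup G))
          rw [← h1, hi]
          exact mul_dvd_mul_right (pow_dvd_pow p h2) _
        rw [← Subgroup.index_mul_card (centralizer ({g} : Set G)),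
          ← (S : Subgroup (centralizer ({g} : Set G))).index_mul_card, hj, ← mul_assoc] at h3
        exact hcl g (((Nat.Coprime.pow_left 2 ((Nat.Prime.coprime_iff_not_dvd hp.out).2
          S.not_dvd_index))).dvd_of_dvd_mul_right
          (Nat.dvd_of_mul_dvd_mul_right (pow_pos hp.out.pos j) h3))
    haveI := normal_of_index_dvd_prime P.isPGroup' hidx
    have huR : (u : G) ∈ R₀ :=
      mem_subgroupOf.1 (normalClosure_le_normal (Set.singleton_subset_iff.2 (hsR _ hidx)) hu.1)
    rw [hR₀] at huR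
    obtain ⟨w, ⟨v, -, rfl⟩, hw⟩ := huR
    rw [← hw, mem_centralizer_singleton_iff, MulEquiv.coe_toMonoidHom, MulAut.conj_apply]
    have hv : (v : G) * g = g * v := mem_centralizer_singleton_iff.1 v.2
    show c * g * c⁻¹ * (c * (v : G) * c⁻¹) = c * (v : G) * c⁻¹ * (c * g * c⁻¹)
    calc c * g * c⁻¹ * (c * (v : G) * c⁻¹) = c * (g * v) * c⁻¹ := by group
      _ = c * ((v : G) * g) * c⁻¹ := by rw [hv]
      _ = c * (v : G) * c⁻¹ * (c * g * c⁻¹) := by group
  have huc : (u : G) ∈ center G := mem_center_iff.2 fun g =>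
    mem_centralizer_singleton_iff.1 (htop ▸ mem_top g : g ∈ centralizer ({(u : G)} : Set G))
  obtain ⟨k, hk⟩ := P.isPGroup'.exists_card_eq
  obtain ⟨b, hb, hb1, hbp⟩ := exists_orderOf_central (p := p) (k := k) huc
    (fun e => hu1 (Subtype.ext e)) (hk ▸ congrArg Subtype.val (pow_card_eq_one' (x := u)))
  have hNc : zpowers b ≤ center G := zpowers_le.2 hb
  haveI : (zpowers b).Normal :=
    ⟨fun x hx g => by rw [mem_center_iff.1 (hNc hx) g, mul_inv_cancel_right]; exact hx⟩
  have hNp : IsPGroup p (zpowers b) :=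
    IsPGroup.of_card (n := 1) (by rw [Nat.card_zpowers, pow_one, orderOf_eq_prime hbp hb1])
  refine lift_central _ hNc hNp (ih _ ?_ (G ⧸ zpowers b) rfl
    (CfsgLib.Amalgam.hmin_quotient hmin _) ?_)
  · rw [Subgroup.card_eq_card_quotient_mul_card_subgroup (zpowers b), Nat.card_zpowers,
      orderOf_eq_prime hbp hb1]
    exact lt_mul_of_one_lt_right Nat.card_pos hp.out.one_lt
  · intro g h
    obtain ⟨g, rfl⟩ := QuotientGroup.mk'_surjective (zpowers b) g
    exact hcl g (h.trans (index_centralizer_quotient_dvd _ g))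

end Complement

section Structure

theorem not_sq_dvd {n p : ℕ} (h : Squarefree n) (hp : p.Prime) : ¬ p ^ 2 ∣ n := fun hd =>
  hp.ne_one (Nat.isUnit_iff.1 (h p (by rwa [← pow_two])))

theorem squarefree_subgroup {G : Type u} [Group G] [Finite G]
    (h : ∀ x : G, Squarefree (centralizer ({x} : Set G)).index) (N : Subgroup G) [N.Normal]
    (x : N) : Squarefree (centralizer ({x} : Set N)).index :=
  (h x).squarefree_of_dvd (index_centralizer_subgroup_dvd N x)

theorem squarefree_quotient {G : Type u} [Group G] [Finite G]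
    (h : ∀ x : G, Squarefree (centralizer ({x} : Set G)).index) (N : Subgroup G) [N.Normal]
    (x : G ⧸ N) : Squarefree (centralizer ({x} : Set (G ⧸ N))).index := by
  obtain ⟨g, rfl⟩ := QuotientGroup.mk'_surjective N x
  exact (h g).squarefree_of_dvd (index_centralizer_quotient_dvd N g)

theorem isSolvable : ∀ (n : ℕ) (G : Type u) [Group G] [Finite G], Nat.card G = n →
    (∀ x : G, Squarefree (centralizer ({x} : Set G)).index) → Group.IsSolvable G := by
  intro n
  induction n using Nat.strong_induction_on with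
  | _ n ih =>
  intro G _ _ hn hcl
  subst hn
  rcases subsingleton_or_nontrivial G with hs | hs
  · exact Group.isSolvable_of_comm fun a b => Subsingleton.elim _ _
  have hp : Fact (Nat.card G).minFac.Prime := ⟨Nat.minFac_prime Finite.one_lt_card.ne'⟩
  obtain ⟨p, hpdef⟩ : ∃ p, p = (Nat.card G).minFac := ⟨_, rfl⟩
  rw [← hpdef] at hp
  have hmin : ∀ q : ℕ, q.Prime → q ∣ Nat.card G → p ≤ q := fun q hq hd =>
    hpdef ▸ Nat.minFac_le_of_dvd hq.two_le hd
  have hnc := hasNormalPComplement_classes (p := p) _ G rfl hmin fun g => not_sq_dvd (hcl g) hp.out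
  have hK := CfsgLib.Transfer.pResidual_normal (G := G) (p := p)
  have hq := isPGroup_quotient_of_pResidual_le (le_refl (Cfsg.pResidual p G))
  rw [hasNormalPComplement_iff_coprime_pResidual] at hnc
  have hKne : Cfsg.pResidual p G ≠ ⊤ := fun h => by
    rw [h, card_top] at hnc
    exact hp.out.ne_one (Nat.eq_one_of_dvd_coprimes hnc (hpdef ▸ Nat.minFac_dvd _) dvd_rfl)
  have hKs : Group.IsSolvable (Cfsg.pResidual p G) :=
    ih _ (CfsgLib.Solvable.card_subgroup_lt hKne) _ rfl (squarefree_subgroup hcl _)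
  haveI := hq.isNilpotent
  exact Group.isSolvable_of_ker_le_range (Cfsg.pResidual p G).subtype
    (QuotientGroup.mk' (Cfsg.pResidual p G))
    (by rw [QuotientGroup.ker_mk', Subgroup.range_subtype])

variable {G : Type u} [Group G] [Finite G]

/-- The map `n ↦ g n g⁻¹ n⁻¹` of an abelian normal subgroup. -/
def commHom (A : Subgroup G) [A.Normal] [IsMulCommutative A] (g : G) : A →* A where
  toFun n := ⟨g * n * g⁻¹ * (n : G)⁻¹,
    mul_mem ((inferInstance : A.Normal).conj_mem n n.2 g) (inv_mem n.2)⟩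
  map_one' := Subtype.ext (by simp)
  map_mul' v w := Subtype.ext (by
    show g * (v * w : G) * g⁻¹ * ((v : G) * w)⁻¹
      = g * v * g⁻¹ * (v : G)⁻¹ * (g * w * g⁻¹ * (w : G)⁻¹)
    have hc : (v : G)⁻¹ * (g * w * g⁻¹ * (w : G)⁻¹) = g * w * g⁻¹ * (w : G)⁻¹ * (v : G)⁻¹ :=
      congrArg Subtype.val (IsMulCommutative.is_comm.comm (v⁻¹)
        (⟨g * w * g⁻¹ * (w : G)⁻¹, mul_mem ((inferInstance : A.Normal).conj_mem w w.2 g)
          (inv_mem w.2)⟩ : A))
    rw [mul_assoc (g * (v : G) * g⁻¹) ((v : G)⁻¹), hc]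
    group)

omit [Finite G] in
theorem commHom_mul (A : Subgroup G) [A.Normal] [IsMulCommutative A] (g h : G) (n : A) :
    commHom A (g * h) n = commHom A g (commHom A h n) * commHom A h n * commHom A g n :=
  Subtype.ext (by
    show g * h * n * (g * h)⁻¹ * (n : G)⁻¹ = g * (h * n * h⁻¹ * (n : G)⁻¹) * g⁻¹
      * (h * n * h⁻¹ * (n : G)⁻¹)⁻¹ * (h * n * h⁻¹ * (n : G)⁻¹) * (g * n * g⁻¹ * (n : G)⁻¹)
    group)

theorem card_range_commHom_dvd (hcl : ∀ x : G, Squarefree (centralizer ({x} : Set G)).index)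
    {q : ℕ} [hq : Fact q.Prime] (A : Subgroup G) [A.Normal] [IsMulCommutative A] (hA : IsPGroup q A)
    (g : G) : Nat.card (commHom A g).range ∣ q := by
  have hker : (commHom A g).ker = (centralizer ({g} : Set G)).subgroupOf A := by
    ext n
    rw [mem_subgroupOf, mem_centralizer_singleton_iff, MonoidHom.mem_ker, Subtype.ext_iff]
    show g * n * g⁻¹ * (n : G)⁻¹ = 1 ↔ _
    rw [mul_inv_eq_one, mul_inv_eq_iff_eq_mul, eq_comm]
  obtain ⟨k, hk⟩ := hA.exists_card_eq
  have h1 : Nat.card (commHom A g).range = (commHom A g).ker.index := (Subgroup.index_ker _).symm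
  rw [h1]
  refine dvd_prime_of_squarefree hq.out ?_ (hk ▸ (commHom A g).ker.index_dvd_card)
  rw [hker]
  exact (hcl g).squarefree_of_dvd (CfsgLib.StructC.relIndex_dvd_index_right A _)

/-- Rank one: the maps `commHom A g` have a common line as image or a common hyperplane as kernel. -/
theorem rank_one (A : Subgroup G) [A.Normal] [IsMulCommutative A] {q : ℕ} (hq : q.Prime)
    (h : ∀ g, Nat.card (commHom A g).range ∣ q) :
    (∃ I : Subgroup A, Nat.card I ∣ q ∧ ∀ g, (commHom A g).range ≤ I) ∨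
    (∃ K : Subgroup A, K.index = q ∧ ∀ g, K ≤ (commHom A g).ker) := by
  have hidx : ∀ g, (commHom A g).ker.index ∣ q := fun g => by rw [Subgroup.index_ker]; exact h g
  have pair : ∀ g k, (commHom A g).ker ≠ ⊤ → (commHom A k).ker ≠ ⊤ →
      (commHom A g).range = (commHom A k).range ∨ (commHom A g).ker = (commHom A k).ker := by
    intro g k hg hk
    have hgi := ((Nat.dvd_prime hq).1 (hidx g)).resolve_left (fun e => hg (index_eq_one.1 e))
    have hki := ((Nat.dvd_prime hq).1 (hidx k)).resolve_left (fun e => hk (index_eq_one.1 e))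
    rw [or_iff_not_imp_right]
    intro hne
    have hnle : ∀ {K L : Subgroup A}, K.index = q → L.index = q → K ≠ L → ∃ u ∈ K, u ∉ L := by
      intro K L hK hL hKL
      by_contra hno
      push Not at hno
      have h2 := relIndex_mul_index (show K ≤ L from hno)
      rw [hK, hL] at h2
      exact hKL (le_antisymm hno (relIndex_eq_one.1
        (mul_right_cancel₀ hq.ne_zero (h2.trans (one_mul q).symm))))
    obtain ⟨u, hu, hu'⟩ := hnle hki hgi (Ne.symm hne)
    obtain ⟨v, hv, hv'⟩ := hnle hgi hki hne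
    rw [MonoidHom.mem_ker] at hu hu' hv hv'
    have hgk : (commHom A (g * k)).range = (commHom A g).range := by
      refine eq_of_card_dvd_prime hq (h _) (h _) (x := commHom A g u) ?_ ⟨u, rfl⟩ hu'
      exact ⟨u, by rw [commHom_mul, hu, map_one, one_mul, one_mul]⟩
    have hz : commHom A g (commHom A k v) * commHom A k v ∈ (commHom A g).range :=
      hgk ▸ ⟨v, by rw [commHom_mul, hv, mul_one]⟩
    rw [mul_mem_cancel_left (MonoidHom.mem_range.2 ⟨_, rfl⟩)] at hz
    exact eq_of_card_dvd_prime hq (h g) (h k) hz ⟨v, rfl⟩ hv'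
  by_cases hall : ∀ g, (commHom A g).ker = ⊤
  · exact Or.inl ⟨⊥, by simp, fun g => by
      rintro _ ⟨n, rfl⟩
      exact MonoidHom.mem_ker.1 (hall g ▸ mem_top n)⟩
  push Not at hall
  obtain ⟨g, hg⟩ := hall
  by_cases hI : ∀ k, (commHom A k).ker ≠ ⊤ → (commHom A k).range = (commHom A g).range
  · refine Or.inl ⟨_, h g, fun k => ?_⟩
    by_cases hk : (commHom A k).ker = ⊤
    · rintro _ ⟨n, rfl⟩
      rw [MonoidHom.mem_ker.1 (hk ▸ mem_top n)]
      exact one_mem _
    · exact (hI k hk).le
  · push Not at hI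
    obtain ⟨k, hk, hkI⟩ := hI
    refine Or.inr ⟨_, ((Nat.dvd_prime hq).1 (hidx g)).resolve_left (fun e => hg (index_eq_one.1 e)),
      fun l => ?_⟩
    have hKgk := (pair g k hg hk).resolve_left (Ne.symm hkI)
    by_cases hl : (commHom A l).ker = ⊤
    · rw [hl]; exact le_top
    · by_contra hne
      have h1 := (pair g l hg hl).resolve_right fun e => hne e.le
      have h2 := (pair k l hk hl).resolve_right fun e => hne (hKgk.trans e).le
      exact hkI (h2.trans h1.symm)

omit [Finite G] in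
theorem commHom_mem_ker_iff (A : Subgroup G) [A.Normal] [IsMulCommutative A] (g : G) (n : A) :
    n ∈ (commHom A g).ker ↔ g * (n : G) = n * g := by
  rw [MonoidHom.mem_ker, Subtype.ext_iff]
  show g * n * g⁻¹ * (n : G)⁻¹ = 1 ↔ _
  rw [mul_inv_eq_one, mul_inv_eq_iff_eq_mul]

/-- All class sizes square-free: supersoluble. -/
theorem isSupersolvable : ∀ (n : ℕ) (G : Type u) [Group G] [Finite G], Nat.card G = n →
    (∀ x : G, Squarefree (centralizer ({x} : Set G)).index) → Cfsg.IsSupersolvable G := by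
  intro n
  induction n using Nat.strong_induction_on with
  | _ n ih =>
  intro G _ _ hn hcl
  subst hn
  rcases subsingleton_or_nontrivial G with hs | hs
  · exact CfsgLib.Solvable.isSupersolvable_of_subsingleton G
  have hsol := isSolvable _ G rfl hcl
  obtain ⟨N, hN, hne, hmin⟩ := CfsgLib.Solvable.exists_minimal_normal (G := G)
  haveI := hN
  haveI : Group.IsSolvable N := inferInstance
  obtain ⟨q, hq, hNq, -, hNc⟩ := CfsgLib.Solvable.exists_isPGroup_of_minimal_normal hne hmin
  have : Fact q.Prime := ⟨hq⟩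
  haveI : IsCyclic N := by
    rcases rank_one N hq (card_range_commHom_dvd hcl N hNq) with ⟨I, hI, hle⟩ | ⟨K, hK, hle⟩
    · have hI1 : I.map N.subtype = N ∨ I = ⊥ := by
        have hnor : (I.map N.subtype).Normal := by
          refine ⟨?_⟩
          rintro _ ⟨n, hn, rfl⟩ g
          refine ⟨commHom N g n * n, mul_mem (hle g ⟨n, rfl⟩) hn, ?_⟩
          show g * n * g⁻¹ * (n : G)⁻¹ * n = g * n * g⁻¹
          rw [inv_mul_cancel_right]
        rcases hmin _ hnor (map_subtype_le I) with h | h
        · exact Or.inr ((map_eq_bot_iff_of_injective _ N.subtype_injective).1 h)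
        · exact Or.inl h
      rcases hI1 with h | h
      · refine isCyclic_of_card_dvd_prime (p := q) ?_
        rw [← h, card_map_of_injective N.subtype_injective]
        exact hI
      · -- `N` is central, so each of its subgroups is normal
        have hc : ∀ g : G, ∀ n ∈ N, g * n = n * g := fun g n hn =>
          (commHom_mem_ker_iff N g ⟨n, hn⟩).1 (MonoidHom.mem_ker.2 (mem_bot.1 (h ▸ hle g ⟨_, rfl⟩)))
        obtain ⟨x, hx, hx1⟩ := Subgroup.ne_bot_iff_exists_ne_one.1 hne |> fun ⟨w, hw⟩ =>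
          (⟨(w : G), w.2, fun e => hw (Subtype.ext e)⟩ : ∃ x, x ∈ N ∧ x ≠ 1)
        have hnor : (zpowers x).Normal := ⟨fun y hy g => by
          rw [hc g y (zpowers_le.2 hx hy), mul_inv_cancel_right]; exact hy⟩
        rcases hmin _ hnor (zpowers_le.2 hx) with h' | h'
        · exact absurd (zpowers_eq_bot.1 h') hx1
        · rw [← h']; infer_instance
    · -- the common kernel is central
      have hc : ∀ g : G, ∀ k ∈ K, g * (k : G) = k * g := fun g k hk =>
        (commHom_mem_ker_iff N g k).1 (hle g hk)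
      have hnor : (K.map N.subtype).Normal := by
        refine ⟨?_⟩
        rintro _ ⟨k, hk, rfl⟩ g
        refine ⟨k, hk, ?_⟩
        show (k : G) = g * k * g⁻¹
        rw [hc g k hk, mul_inv_cancel_right]
      rcases hmin _ hnor (map_subtype_le K) with h | h
      · rw [map_eq_bot_iff_of_injective _ N.subtype_injective] at h
        rw [h, index_bot] at hK
        exact isCyclic_of_prime_card hK
      · exfalso
        have : K = ⊤ := Subgroup.map_injective N.subtype_injective (by
          rw [h, ← MonoidHom.range_eq_map, range_subtype])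
        rw [this, index_top] at hK
        exact hq.ne_one hK.symm
  exact CfsgLib.Solvable.isSupersolvable_of_cyclic_normal N
    (ih _ (CfsgLib.Solvable.card_quotient_lt hne) _ rfl (squarefree_quotient hcl N))

end Structure

section Derived

variable {G : Type u} [Group G] [Finite G] {p : ℕ} [hp : Fact p.Prime]

/-- A `p`-group with class sizes at most `p` has derived subgroup of order at most `p`. -/
theorem exists_commutator_line {P : Type u} [Group P] [Finite P] (hP : IsPGroup p P)
    (hcl : ∀ x : P, (centralizer ({x} : Set P)).index ∣ p) :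
    ∃ I : Subgroup P, Nat.card I ∣ p ∧ ∀ x y : P, ⁅x, y⁆ ∈ I := by
  obtain ⟨c, hc, hc1, -⟩ := Cfsg.Agent.S3778.result hP 1
    (fun x => by rw [pow_one]; exact Nat.le_of_dvd hp.out.pos (hcl x))
  have hc2 : c ≤ 2 := (hc1 one_ne_zero).2
  have hbot : (⊤ : Subgroup P).lowerCentralSeries 2 = ⊥ :=
    le_bot_iff.1 (hc ▸ Subgroup.lowerCentralSeries_antitone _ hc2)
  have hcen : ∀ x y : P, ⁅x, y⁆ ∈ center P := fun x y => mem_center_iff.2 fun z => by
    have h : ⁅⁅x, y⁆, z⁆ ∈ (⊤ : Subgroup P).lowerCentralSeries 2 :=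
      commutator_mem_commutator (commutator_mem_commutator (mem_top x) (mem_top y)) (mem_top z)
    rw [hbot, mem_bot, commutatorElement_eq_one_iff_mul_comm] at h
    exact h.symm
  let φ : P → (P →* P) := fun x =>
    { toFun := fun n => ⁅x, n⁆
      map_one' := commutatorElement_one_right x
      map_mul' := fun n m => by
        have h := mem_center_iff.1 (hcen x m) n
        calc ⁅x, n * m⁆ = ⁅x, n⁆ * (n * ⁅x, m⁆ * n⁻¹) := by simp only [commutatorElement_def]; group
          _ = ⁅x, n⁆ * ⁅x, m⁆ := by rw [h, mul_inv_cancel_right] }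
  have hker : ∀ x, (φ x).ker = centralizer ({x} : Set P) := fun x => by
    ext n
    rw [MonoidHom.mem_ker, mem_centralizer_singleton_iff]
    exact commutatorElement_eq_one_iff_mul_comm.trans eq_comm
  have hrange : ∀ x, Nat.card (φ x).range ∣ p := fun x => by
    rw [← Subgroup.index_ker, hker]; exact hcl x
  by_cases hall : ∀ x y : P, ⁅x, y⁆ = 1
  · exact ⟨⊥, by simp, fun x y => (hall x y).symm ▸ one_mem _⟩
  push Not at hall
  obtain ⟨x, y₀, hx⟩ := hall
  refine ⟨_, hrange x, fun y z => ?_⟩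
  by_cases hy : ⁅y, z⁆ = 1
  · exact hy.symm ▸ one_mem _
  suffices h : (φ x).range = (φ y).range from h ▸ ⟨z, rfl⟩
  by_cases hu : ∃ u : P, ⁅y, u⁆ = 1 ∧ ⁅x, u⁆ ≠ 1
  · by_cases hv : ∃ v : P, ⁅x, v⁆ = 1 ∧ ⁅y, v⁆ ≠ 1
    · obtain ⟨u, hu1, hu2⟩ := hu
      obtain ⟨v, hv1, hv2⟩ := hv
      have key : ∀ n, φ (x * y) n = φ y n * φ x n := fun n => by
        have h := mem_center_iff.1 (hcen y n) x
        show ⁅x * y, n⁆ = ⁅y, n⁆ * ⁅x, n⁆
        calc ⁅x * y, n⁆ = x * ⁅y, n⁆ * x⁻¹ * ⁅x, n⁆ := by simp only [commutatorElement_def]; group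
          _ = ⁅y, n⁆ * ⁅x, n⁆ := by rw [h, mul_inv_cancel_right]
      have h1 : (φ (x * y)).range = (φ x).range := eq_of_card_dvd_prime hp.out (hrange _) (hrange _)
        (x := ⁅x, u⁆) ⟨u, by rw [key]; show ⁅y, u⁆ * ⁅x, u⁆ = _; rw [hu1, one_mul]⟩ ⟨u, rfl⟩ hu2
      have h2 : (φ (x * y)).range = (φ y).range := eq_of_card_dvd_prime hp.out (hrange _) (hrange _)
        (x := ⁅y, v⁆) ⟨v, by rw [key]; show ⁅y, v⁆ * ⁅x, v⁆ = _; rw [hv1, mul_one]⟩ ⟨v, rfl⟩ hv2
      exact h1.symm.trans h2
    · push Not at hv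
      -- a witness moving both
      have hb : ∃ w : P, ⁅x, w⁆ ≠ 1 ∧ ⁅y, w⁆ ≠ 1 := ⟨z, fun e => hy (hv z e), hy⟩
      obtain ⟨w, hw1, hw2⟩ := hb
      have e : ∀ a, ⁅a, w⁆ ∈ (φ w).range := fun a => by
        rw [← commutatorElement_inv w a]
        exact inv_mem ⟨a, rfl⟩
      exact (eq_of_card_dvd_prime hp.out (hrange x) (hrange w) ⟨w, rfl⟩ (e x) hw1).trans
        (eq_of_card_dvd_prime hp.out (hrange y) (hrange w) ⟨w, rfl⟩ (e y) hw2).symm
  · push Not at hu
    have hb : ∃ w : P, ⁅x, w⁆ ≠ 1 ∧ ⁅y, w⁆ ≠ 1 := ⟨y₀, hx, fun e => hx (hu y₀ e)⟩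
    obtain ⟨w, hw1, hw2⟩ := hb
    have e : ∀ a, ⁅a, w⁆ ∈ (φ w).range := fun a => by
      rw [← commutatorElement_inv w a]
      exact inv_mem ⟨a, rfl⟩
    exact (eq_of_card_dvd_prime hp.out (hrange x) (hrange w) ⟨w, rfl⟩ (e x) hw1).trans
      (eq_of_card_dvd_prime hp.out (hrange y) (hrange w) ⟨w, rfl⟩ (e y) hw2).symm

omit [Finite G] in
theorem eq_one_of_pow_fix {P : Subgroup G} (hP : IsPGroup p P) {h v z : G}
    (hh : (orderOf h).Coprime p) (hz : z ∈ P) (hzh : Commute h z) (hv : h * v * h⁻¹ = z * v) :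
    z = 1 := by
  have hpow : ∀ n : ℕ, h ^ n * v * (h ^ n)⁻¹ = z ^ n * v := by
    intro n
    induction n with
    | zero => simp
    | succ n ih =>
      calc h ^ (n + 1) * v * (h ^ (n + 1))⁻¹ = h * (h ^ n * v * (h ^ n)⁻¹) * h⁻¹ := by
            rw [pow_succ']; group
        _ = h * z ^ n * h⁻¹ * (h * v * h⁻¹) := by rw [ih]; group
        _ = z ^ n * (z * v) := by rw [(hzh.pow_right n).eq, mul_inv_cancel_right, hv]
        _ = z ^ (n + 1) * v := by rw [pow_succ, mul_assoc]
  have h1 := hpow (orderOf h)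
  rw [pow_orderOf_eq_one, one_mul, inv_one, mul_one] at h1
  have hz1 : z ^ orderOf h = 1 := mul_eq_right.1 h1.symm
  obtain ⟨k, hk⟩ := hP ⟨z, hz⟩
  exact orderOf_eq_one_iff.1 (Nat.eq_one_of_dvd_coprimes (hh.pow_right k)
    (orderOf_dvd_of_pow_eq_one hz1) (orderOf_dvd_of_pow_eq_one (congrArg Subtype.val hk)))

/-- A `p'`-element cannot move a nonabelian normal Sylow subgroup. -/
theorem commute_of_nonabelian (hcl : ∀ x : G, Squarefree (centralizer ({x} : Set G)).index)
    (P : Subgroup G) [P.Normal] (hP : IsPGroup p P) (hnc : ¬ ∀ a ∈ P, ∀ b ∈ P, a * b = b * a)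
    {h : G} (hh : (orderOf h).Coprime p) : ∀ v ∈ P, h * v = v * h := by
  by_contra hmove
  push Not at hmove
  obtain ⟨v, hv, hhv⟩ := hmove
  obtain ⟨k, hk⟩ := hP.exists_card_eq
  have hidx : ∀ g : G, (centralizer ({g} : Set G)).relIndex P ∣ p := fun g =>
    dvd_prime_of_squarefree hp.out ((hcl g).squarefree_of_dvd
      (CfsgLib.StructC.relIndex_dvd_index_right P _)) (hk ▸ ((centralizer ({g} : Set G)).subgroupOf P).index_dvd_card)
  obtain ⟨C, hC⟩ : ∃ C, C = (centralizer ({h} : Set G)).subgroupOf P := ⟨_, rfl⟩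
  have hCmem : ∀ c : P, c ∈ C ↔ (c : G) * h = h * c := fun c => by
    rw [hC, mem_subgroupOf, mem_centralizer_singleton_iff]
  have hvC : (⟨v, hv⟩ : P) ∉ C := fun e => hhv ((hCmem _).1 e).symm
  have hCi : C.index = p := ((Nat.dvd_prime hp.out).1 (hC ▸ hidx h)).resolve_left
    (fun e => hvC (by rw [index_eq_one] at e; rw [e]; exact mem_top _))
  haveI := normal_of_index_dvd_prime hP (R := C) (dvd_of_eq hCi)
  obtain ⟨z, hz⟩ : ∃ z : P, (z : G) = h * v * h⁻¹ * v⁻¹ :=
    ⟨⟨_, mul_mem ((inferInstance : P.Normal).conj_mem v hv h) (inv_mem hv)⟩, rfl⟩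
  -- `z` centralises `C` and lies outside it
  have hzC : ∀ c ∈ C, (z : G) * c = c * z := by
    intro c hc
    -- every element of `C` is such a conjugate
    obtain ⟨d, hd, hdc⟩ : ∃ d ∈ C, ⟨v, hv⟩ * d * (⟨v, hv⟩ : P)⁻¹ = c :=
      ⟨(⟨v, hv⟩ : P)⁻¹ * c * (⟨v, hv⟩ : P)⁻¹⁻¹, (inferInstance : C.Normal).conj_mem c hc _, by group⟩
    have hd1 : v * (d : G) * v⁻¹ * h = h * (v * (d : G) * v⁻¹) :=
      (hCmem _).1 (hdc.symm ▸ hc)
    have hd2 : (d : G) * h = h * d := (hCmem d).1 hd
    have hcd : (c : G) = v * d * v⁻¹ := (congrArg Subtype.val hdc).symm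
    rw [hcd, hz]
    calc h * v * h⁻¹ * v⁻¹ * (v * (d : G) * v⁻¹) = h * v * (h⁻¹ * (d : G)) * v⁻¹ := by group
      _ = h * v * ((d : G) * h⁻¹) * v⁻¹ := by
          rw [(show Commute h (d : G) from hd2.symm).inv_left.eq]
      _ = h * (v * (d : G) * v⁻¹) * (v * h⁻¹ * v⁻¹) := by group
      _ = v * (d : G) * v⁻¹ * h * (v * h⁻¹ * v⁻¹) := by rw [← hd1]
      _ = v * (d : G) * v⁻¹ * (h * v * h⁻¹ * v⁻¹) := by group
  have hznC : z ∉ C := fun e => hvC ((hCmem _).2 (by
    have h1 : (z : G) = 1 := eq_one_of_pow_fix (v := v) hP hh z.2 ((hCmem z).1 e).symm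
      (by rw [hz, inv_mul_cancel_right])
    rw [hz, mul_inv_eq_one, mul_inv_eq_iff_eq_mul] at h1
    exact h1.symm))
  have htop : C ⊔ zpowers z = ⊤ := by
    rw [← index_eq_one]
    refine ((Nat.dvd_prime hp.out).1 (hCi ▸ index_dvd_of_le le_sup_left)).resolve_right fun e => ?_
    have h2 := relIndex_mul_index (show C ≤ C ⊔ zpowers z from le_sup_left)
    rw [e, hCi] at h2
    exact hznC (relIndex_eq_one.1 (mul_right_cancel₀ hp.out.ne_zero (h2.trans (one_mul p).symm))
      (mem_sup_right (mem_zpowers z)))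
  -- so `C` is not abelian
  obtain ⟨c, hc, c', hc', hcc⟩ : ∃ c ∈ C, ∃ c' ∈ C, c * c' ≠ c' * c := by
    by_contra hno
    push Not at hno
    have hCc : ∀ c ∈ C, ∀ w : P, c * w = w * c := by
      intro c hc w
      have : C ⊔ zpowers z ≤ centralizer ({c} : Set P) := sup_le
        (fun d hd => mem_centralizer_singleton_iff.2 (hno d hd c hc))
        (zpowers_le.2 (mem_centralizer_singleton_iff.2 (Subtype.ext (hzC c hc))))
      exact (mem_centralizer_singleton_iff.1 (this (htop.symm ▸ mem_top w))).symm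
    refine hnc fun a ha b hb => ?_
    have : C ⊔ zpowers z ≤ centralizer ({(⟨b, hb⟩ : P)} : Set P) := sup_le
      (fun d hd => mem_centralizer_singleton_iff.2 (hCc d hd _))
      (zpowers_le.2 (mem_centralizer_singleton_iff.2 (by
        have : C ⊔ zpowers z ≤ centralizer ({z} : Set P) := sup_le
          (fun d hd => mem_centralizer_singleton_iff.2 (hCc d hd z))
          (zpowers_le.2 (mem_centralizer_singleton_iff.2 rfl))
        exact (mem_centralizer_singleton_iff.1 (this (htop.symm ▸ mem_top _))).symm)))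
    exact congrArg Subtype.val
      (mem_centralizer_singleton_iff.1 (this (htop.symm ▸ mem_top (⟨a, ha⟩ : P))))
  -- the class of `h * c`
  have hhc : Commute h (c : G) := ((hCmem c).1 hc).symm
  obtain ⟨j, hj⟩ := hP c
  obtain ⟨m, hm⟩ : ∃ m : ℕ, (h ^ p ^ j) ^ m = h :=
    exists_pow_eq_self_of_coprime (hh.pow_right j).symm
  obtain ⟨D, hD⟩ : ∃ D, D = (centralizer ({h * (c : G)} : Set G)).subgroupOf P := ⟨_, rfl⟩
  have key : ∀ w ∈ D, (w : G) * h = h * w ∧ (w : G) * c = c * w := by
    intro w hw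
    rw [hD, mem_subgroupOf, mem_centralizer_singleton_iff] at hw
    have h1 : Commute (w : G) ((h * c) ^ p ^ j) := (show Commute (w : G) (h * c) from hw).pow_right _
    rw [hhc.mul_pow, show (c : G) ^ p ^ j = 1 from congrArg Subtype.val hj, mul_one] at h1
    have h2 : Commute (w : G) h := hm ▸ h1.pow_right m
    have h3 := h2.inv_right.mul_right (show Commute (w : G) (h * c) from hw)
    rw [inv_mul_cancel_left] at h3
    exact ⟨h2.eq, h3.eq⟩
  have hDC : D ≤ C := fun w hw => (hCmem w).2 (key w hw).1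
  have hDeq : C ≤ D := by
    have h2 := relIndex_mul_index hDC
    rw [hCi] at h2
    have h3 : D.index ∣ p := hD ▸ hidx _
    rw [← h2] at h3
    exact relIndex_eq_one.1 (Nat.dvd_one.1 (Nat.dvd_of_mul_dvd_mul_right hp.out.pos (by rwa [one_mul])))
  exact hcc (Subtype.ext (key c' (hDeq hc')).2.symm)

/-- The `p`-part of the derived subgroup has order at most `p`. -/
theorem not_sq_dvd_card_commutator : ∀ (n : ℕ) (G : Type u) [Group G] [Finite G], Nat.card G = n →
    (∀ x : G, Squarefree (centralizer ({x} : Set G)).index) →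
    ¬ p ^ 2 ∣ Nat.card (commutator G) := by
  intro n
  induction n using Nat.strong_induction_on with
  | _ n ih =>
  intro G _ _ hn hcl hdvd
  subst hn
  haveI := CfsgLib.Solvable.pPrimeCore_normal p G
  by_cases hM : Cfsg.pPrimeCore p G = ⊥
  swap
  · let π := QuotientGroup.mk' (Cfsg.pPrimeCore p G)
    have hmap : (commutator G).map π = commutator (G ⧸ Cfsg.pPrimeCore p G) := by
      rw [commutator_def, commutator_def, map_commutator,
        map_top_of_surjective π (QuotientGroup.mk'_surjective _)]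
    refine ih _ (CfsgLib.Solvable.card_quotient_lt hM) _ rfl (squarefree_quotient hcl _) ?_
    rw [← hmap]
    rw [← CfsgLib.Solvable.card_map_mk'_mul (Cfsg.pPrimeCore p G) (commutator G)] at hdvd
    exact (((CfsgLib.Solvable.pPrimeCore_coprime p).coprime_dvd_left
      (card_dvd_of_le inf_le_right)).pow_right 2).symm.dvd_of_dvd_mul_right hdvd
  -- now the derived subgroup is a `p`-group
  have hnil : Group.IsNilpotent (commutator G) :=
    Cfsg.Agent.S0526.result (isSupersolvable _ G rfl hcl)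
  have hGp : commutator G ≤ Cfsg.pCore p G := by
    refine (CfsgLib.Solvable.le_fittingSubgroup inferInstance hnil).trans
      (CfsgLib.Solvable.fittingSubgroup_eq_iSup_pCore.le.trans (iSup_le fun s => ?_))
    by_cases hs : (s : ℕ) = p
    · rw [hs]
    · have : Fact (s : ℕ).Prime := ⟨s.2⟩
      obtain ⟨i, hi⟩ := (CfsgLib.Solvable.pCore_isPGroup (G := G) (s : ℕ)).exists_card_eq
      refine le_trans (CfsgLib.Solvable.le_pPrimeCore (CfsgLib.Solvable.pCore_normal _ _) ?_)
        (hM.le.trans bot_le)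
      rw [hi]
      exact ((Nat.coprime_primes s.2 hp.out).2 hs).pow_left i
  obtain ⟨P⟩ := (inferInstance : Nonempty (Sylow p G))
  have hGP : commutator G ≤ (P : Subgroup G) := hGp.trans (CfsgLib.Solvable.pCore_le_sylow P)
  haveI hPn : (P : Subgroup G).Normal := ⟨fun x hx g => by
    have : g * x * g⁻¹ = ⁅g, x⁆ * x := by simp only [commutatorElement_def]; group
    rw [this]
    exact mul_mem (hGP (commutator_mem_commutator (mem_top g) (mem_top x))) hx⟩
  obtain ⟨H, hH⟩ := Subgroup.exists_right_complement'_of_coprime P.card_coprime_index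
  have hHp : ∀ h ∈ H, (orderOf h).Coprime p := fun h hh => by
    refine Nat.Coprime.coprime_dvd_left (H.orderOf_dvd_natCard hh) ?_
    rw [← hH.symm.index_eq_card]
    exact ((Nat.Prime.coprime_iff_not_dvd hp.out).2 P.not_dvd_index).symm
  have hHc : ∀ h ∈ H, ∀ k ∈ H, h * k = k * h := fun h hh k hk =>
    commutatorElement_eq_one_iff_mul_comm.1 (mem_bot.1 (disjoint_iff.1 hH.disjoint ▸
      mem_inf.2 ⟨hGP (commutator_mem_commutator (mem_top h) (mem_top k)),
        mul_mem (mul_mem (mul_mem hh hk) (inv_mem hh)) (inv_mem hk)⟩))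
  have hdec : ∀ g : G, ∃ v ∈ (P : Subgroup G), ∃ h ∈ H, g = v * h := fun g => by
    obtain ⟨⟨v, h⟩, hvh, -⟩ := hH.existsUnique g
    exact ⟨v, v.2, h, h.2, hvh.symm⟩
  suffices hI : ∃ I : Subgroup G, Nat.card I ∣ p ∧ ∀ g₁ g₂ : G, ⁅g₁, g₂⁆ ∈ I by
    obtain ⟨I, hI, hmem⟩ := hI
    have hle : commutator G ≤ I := by
      rw [commutator_def, commutator_le]
      exact fun a _ b _ => hmem a b
    have h1 := Nat.le_of_dvd hp.out.pos (hdvd.trans ((card_dvd_of_le hle).trans hI))
    exact absurd h1 (not_le.2 (by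
      calc p = p ^ 1 := (pow_one p).symm
        _ < p ^ 2 := Nat.pow_lt_pow_right hp.out.one_lt Nat.one_lt_two))
  by_cases hPc : ∀ a ∈ (P : Subgroup G), ∀ b ∈ (P : Subgroup G), a * b = b * a
  · haveI : IsMulCommutative ↥(P : Subgroup G) :=
      ⟨⟨fun a b => Subtype.ext (hPc a a.2 b b.2)⟩⟩
    have key : ∃ I : Subgroup ↥(P : Subgroup G), Nat.card I ∣ p ∧
        ∀ h ∈ H, (commHom (P : Subgroup G) h).range ≤ I := by
      rcases rank_one (P : Subgroup G) hp.out (card_range_commHom_dvd hcl _ P.isPGroup')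
        with ⟨I, hI, hle⟩ | ⟨K, hK, hle⟩
      · exact ⟨I, hI, fun h _ => hle h⟩
      by_cases hall : ∀ h ∈ H, (commHom (P : Subgroup G) h).ker = ⊤
      · exact ⟨⊥, by simp, fun h hh => by
          rintro _ ⟨n, rfl⟩
          exact MonoidHom.mem_ker.1 (hall h hh ▸ mem_top n)⟩
      push Not at hall
      obtain ⟨h, hh, hh'⟩ := hall
      refine ⟨_, card_range_commHom_dvd hcl _ P.isPGroup' h, fun k hk => ?_⟩
      rintro _ ⟨v, rfl⟩
      by_cases hkv : commHom (P : Subgroup G) k v = 1
      · rw [hkv]; exact one_mem _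
      -- moved elements have nontrivial commutator outside `K`
      have out : ∀ l ∈ H, ∀ n, commHom (P : Subgroup G) l n ≠ 1 →
          commHom (P : Subgroup G) l n ∉ K := fun l hl n hne e => hne (Subtype.ext
        (eq_one_of_pow_fix P.isPGroup' (hHp l hl) (SetLike.coe_mem _)
          ((commHom_mem_ker_iff _ l _).1 (hle l e))
          (show l * (n : G) * l⁻¹ = l * n * l⁻¹ * (n : G)⁻¹ * n by rw [inv_mul_cancel_right])))
      have hkerK : ∀ l, (commHom (P : Subgroup G) l).ker ≠ ⊤ → (commHom (P : Subgroup G) l).ker = K := by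
        intro l hl
        have h2 := relIndex_mul_index (hle l)
        have h3 := ((Nat.dvd_prime hp.out).1 (show (commHom (P : Subgroup G) l).ker.index ∣ p by
          rw [Subgroup.index_ker]; exact card_range_commHom_dvd hcl _ P.isPGroup' l)).resolve_left
          (fun e => hl (index_eq_one.1 e))
        rw [h3, hK] at h2
        exact le_antisymm (relIndex_eq_one.1
          (mul_right_cancel₀ hp.out.ne_zero (h2.trans (one_mul p).symm))) (hle l)
      have hhv : commHom (P : Subgroup G) h v ≠ 1 := by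
        intro e
        have : v ∈ K := hkerK h hh' ▸ MonoidHom.mem_ker.2 e
        exact hkv (MonoidHom.mem_ker.1 (hle k this))
      have hswap : commHom (P : Subgroup G) h (commHom (P : Subgroup G) k v)
          = commHom (P : Subgroup G) k (commHom (P : Subgroup G) h v) := by
        have e1 := commHom_mul (P : Subgroup G) h k v
        have e2 := commHom_mul (P : Subgroup G) k h v
        rw [hHc h hh k hk] at e1
        rw [e1, mul_assoc, mul_assoc] at e2
        rw [IsMulCommutative.is_comm.comm (commHom (P : Subgroup G) h v)] at e2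
        exact mul_right_cancel e2
      have hne : commHom (P : Subgroup G) k (commHom (P : Subgroup G) h v) ≠ 1 := fun e =>
        out h hh v hhv (by
          have h1 : (commHom (P : Subgroup G) k).ker = K :=
            hkerK k fun e' => hkv (MonoidHom.mem_ker.1 (e' ▸ mem_top v))
          exact h1 ▸ MonoidHom.mem_ker.2 e)
      rw [eq_of_card_dvd_prime hp.out (card_range_commHom_dvd hcl _ P.isPGroup' h)
        (card_range_commHom_dvd hcl _ P.isPGroup' k) ⟨_, hswap⟩ ⟨_, rfl⟩ hne]
      exact ⟨v, rfl⟩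
    obtain ⟨I, hI, hle⟩ := key
    refine ⟨I.map (P : Subgroup G).subtype, by rwa [card_map_of_injective (subtype_injective _)],
      fun g₁ g₂ => ?_⟩
    obtain ⟨v, hv, h, hh, rfl⟩ := hdec g₁
    obtain ⟨w, hw, k, hk, rfl⟩ := hdec g₂
    refine ⟨commHom (P : Subgroup G) h ⟨w, hw⟩ * (commHom (P : Subgroup G) k ⟨v, hv⟩)⁻¹,
      mul_mem (hle h hh ⟨_, rfl⟩) (inv_mem (hle k hk ⟨_, rfl⟩)), ?_⟩
    obtain ⟨a, ha, hae⟩ : ∃ a ∈ (P : Subgroup G), h * w * h⁻¹ = a :=
      ⟨_, hPn.conj_mem w hw h, rfl⟩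
    obtain ⟨b, hb, hbe⟩ : ∃ b ∈ (P : Subgroup G), k * v * k⁻¹ = b :=
      ⟨_, hPn.conj_mem v hv k, rfl⟩
    show h * w * h⁻¹ * w⁻¹ * (k * v * k⁻¹ * v⁻¹)⁻¹ = ⁅v * h, w * k⁆
    have : ⁅v * h, w * k⁆ = v * (h * w * h⁻¹) * (h * k * h⁻¹ * k⁻¹) * (k * v⁻¹ * k⁻¹) * w⁻¹ := by
      simp only [commutatorElement_def]; group
    rw [this, hHc h hh k hk, mul_inv_cancel_right, mul_inv_cancel, mul_one, hae, hbe,
      show k * v⁻¹ * k⁻¹ = b⁻¹ by rw [← hbe]; group]
    calc a * w⁻¹ * (b * v⁻¹)⁻¹ = a * (w⁻¹ * (v * b⁻¹)) := by group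
      _ = a * (v * b⁻¹ * w⁻¹) := by
          rw [hPc _ (inv_mem hw) _ (mul_mem hv (inv_mem hb))]
      _ = a * v * (b⁻¹ * w⁻¹) := by group
      _ = v * a * (b⁻¹ * w⁻¹) := by rw [hPc a ha v hv]
      _ = v * a * b⁻¹ * w⁻¹ := by group
  · -- otherwise the complement is central, hence trivial
    have hcomm := fun h hh => commute_of_nonabelian hcl (P : Subgroup G) P.isPGroup' hPc (hHp h hh)
    have hHcen : H ≤ center G := fun h hh => mem_center_iff.2 fun g => by
      obtain ⟨v, hv, k, hk, rfl⟩ := hdec g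
      rw [mul_assoc, hHc k hk h hh, ← mul_assoc, ← hcomm h hh v hv, mul_assoc]
    have hHn : H.Normal :=
      ⟨fun x hx g => by rw [mem_center_iff.1 (hHcen hx) g, mul_inv_cancel_right]; exact hx⟩
    have hH1 : H = ⊥ := le_bot_iff.1 (hM ▸ CfsgLib.Solvable.le_pPrimeCore hHn (by
      rw [← hH.symm.index_eq_card]
      exact ((Nat.Prime.coprime_iff_not_dvd hp.out).2 P.not_dvd_index).symm))
    have hall : ∀ g : G, g ∈ (P : Subgroup G) := fun g => by
      obtain ⟨v, hv, h, hh, rfl⟩ := hdec g
      rw [hH1, mem_bot] at hh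
      rwa [hh, mul_one]
    have hG : IsPGroup p G := fun g => by
      obtain ⟨k, hk⟩ := P.isPGroup' ⟨g, hall g⟩
      exact ⟨k, congrArg Subtype.val hk⟩
    obtain ⟨k, hk⟩ := hG.exists_card_eq
    exact exists_commutator_line hG fun x =>
      dvd_prime_of_squarefree hp.out (hcl x) (hk ▸ Subgroup.index_dvd_card _)

end Derived

section Fitting

variable {G : Type u} [Group G] [Finite G]

theorem squarefree_card_commutator (hcl : ∀ x : G, Squarefree (centralizer ({x} : Set G)).index) :
    Squarefree (Nat.card (commutator G)) := by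
  rw [Nat.squarefree_iff_prime_squarefree]
  intro q hq hd
  have : Fact q.Prime := ⟨hq⟩
  exact not_sq_dvd_card_commutator _ G rfl hcl (by rwa [pow_two])

theorem isCyclic_commutator (hcl : ∀ x : G, Squarefree (centralizer ({x} : Set G)).index) :
    IsCyclic (commutator G) := by
  haveI : Group.IsNilpotent (commutator G) :=
    Cfsg.Agent.S0526.result (isSupersolvable _ G rfl hcl)
  haveI : IsZGroup (commutator G) := IsZGroup.of_squarefree (squarefree_card_commutator hcl)
  infer_instance

theorem fitting_structure (hcl : ∀ x : G, Squarefree (centralizer ({x} : Set G)).index) :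
    Squarefree (Cfsg.fittingSubgroup G).index ∧
    (∀ _h : (Cfsg.fittingSubgroup G).Normal, IsCyclic (G ⧸ Cfsg.fittingSubgroup G)) ∧
    Subgroup.upperCentralSeries ↥(Cfsg.fittingSubgroup G) 2 = ⊤ := by
  haveI hcyc := isCyclic_commutator hcl
  haveI := CfsgLib.Solvable.fittingSubgroup_normal G
  have hnil : Group.IsNilpotent (commutator G) :=
    Cfsg.Agent.S0526.result (isSupersolvable _ G rfl hcl)
  have hGF : commutator G ≤ Cfsg.fittingSubgroup G :=
    CfsgLib.Solvable.le_fittingSubgroup inferInstance hnil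
  have hcomm : ∀ x y : G, ⁅x, y⁆ ∈ commutator G := fun x y =>
    commutator_mem_commutator (mem_top x) (mem_top y)
  obtain ⟨v, hv⟩ := IsCyclic.exists_generator (α := commutator G)
  -- the centraliser of the derived subgroup is nilpotent
  obtain ⟨C, hC⟩ : ∃ C, C = centralizer (commutator G : Set G) := ⟨_, rfl⟩
  have hCn : C.Normal := by rw [hC]; infer_instance
  have hCF : C ≤ Cfsg.fittingSubgroup G := by
    refine CfsgLib.Solvable.le_fittingSubgroup hCn (isNilpotent_of_commutator_central fun x y => ?_)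
    refine mem_center_iff.2 fun z => Subtype.ext ?_
    have hz : (z : G) ∈ centralizer (commutator G : Set G) := hC ▸ z.2
    exact (mem_centralizer_iff.1 hz _ (hcomm (x : G) y)).symm
  have hvC : centralizer ({(v : G)} : Set G) ≤ C := fun g hg => by
    rw [hC, mem_centralizer_iff]
    intro c hc
    obtain ⟨i, hi⟩ := mem_zpowers_iff.1 (hv ⟨c, hc⟩)
    have h : (c : G) = (v : G) ^ i := (congrArg Subtype.val hi).symm
    rw [h]
    exact ((show Commute g (v : G) from mem_centralizer_singleton_iff.1 hg).zpow_right i).symm.eq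
  have hidx : Squarefree (Cfsg.fittingSubgroup G).index :=
    (hcl v).squarefree_of_dvd (index_dvd_of_le (hvC.trans hCF))
  refine ⟨hidx, fun hn => ?_, ?_⟩
  · haveI : Group.IsNilpotent (G ⧸ Cfsg.fittingSubgroup G) := by
      refine isNilpotent_of_commutator_central fun x y => ?_
      obtain ⟨x, rfl⟩ := QuotientGroup.mk'_surjective _ x
      obtain ⟨y, rfl⟩ := QuotientGroup.mk'_surjective _ y
      rw [← map_commutatorElement,
        show QuotientGroup.mk' (Cfsg.fittingSubgroup G) ⁅x, y⁆ = 1 from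
          (QuotientGroup.eq_one_iff _).2 (hGF (hcomm x y))]
      exact one_mem _
    haveI : IsZGroup (G ⧸ Cfsg.fittingSubgroup G) :=
      IsZGroup.of_squarefree (by rwa [← Subgroup.index_eq_card])
    infer_instance
  · haveI := CfsgLib.Solvable.fittingSubgroup_isNilpotent (G := G)
    obtain ⟨F, hF⟩ : ∃ F, F = Cfsg.fittingSubgroup G := ⟨_, rfl⟩
    have hsq := squarefree_card_commutator hcl
    -- the derived subgroup is central in the Fitting subgroup
    obtain ⟨D, hD⟩ : ∃ D, D = commutator G ⊓ (center ↥(Cfsg.fittingSubgroup G)).map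
        (Cfsg.fittingSubgroup G).subtype := ⟨_, rfl⟩
    have hDeq : D = commutator G := by
      refine eq_of_le_of_card_ge (hD ▸ inf_le_left) (Nat.le_of_dvd Nat.card_pos ?_)
      rw [← Nat.prod_primeFactors_of_squarefree hsq]
      refine Finset.prod_primes_dvd _ (fun q hq => (Nat.prime_of_mem_primeFactors hq).prime) fun q hq => ?_
      have hq' : q.Prime ∧ q ∣ Nat.card (commutator G) :=
        ⟨Nat.prime_of_mem_primeFactors hq, Nat.dvd_of_mem_primeFactors hq⟩
      have : Fact q.Prime := ⟨hq'.1⟩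
      obtain ⟨a, ha⟩ := exists_prime_orderOf_dvd_card' q hq'.2
      obtain ⟨i, hi⟩ := mem_zpowers_iff.1 (hv a)
      -- the subgroup generated by `a` is normal in `G`
      have hnor : (zpowers (a : G)).Normal := by
        refine ⟨fun y hy g => ?_⟩
        obtain ⟨j, rfl⟩ := mem_zpowers_iff.1 hy
        rw [← conj_zpow]
        refine zpow_mem ?_ j
        obtain ⟨l, hl⟩ := mem_zpowers_iff.1
          (hv ⟨g * v * g⁻¹, (inferInstance : (commutator G).Normal).conj_mem _ v.2 g⟩)
        have hl' : (v : G) ^ l = g * v * g⁻¹ := congrArg Subtype.val hl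
        have ha' : (a : G) = (v : G) ^ i := (congrArg Subtype.val hi).symm
        rw [ha', ← conj_zpow, ← hl', ← zpow_mul, mul_comm, zpow_mul]
        exact zpow_mem (mem_zpowers _) l
      have haF : (a : G) ∈ Cfsg.fittingSubgroup G := hGF a.2
      haveI : ((zpowers (a : G)).subgroupOf (Cfsg.fittingSubgroup G)).Normal :=
        hnor.subgroupOf _
      have hne : (zpowers (a : G)).subgroupOf (Cfsg.fittingSubgroup G) ≠ ⊥ := fun e => by
        have : (⟨a, haF⟩ : Cfsg.fittingSubgroup G) = 1 :=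
          mem_bot.1 (e ▸ mem_subgroupOf.2 (mem_zpowers (a : G)))
        have h1 : a = 1 := Subtype.ext (congrArg Subtype.val this :)
        rw [h1, orderOf_one] at ha
        exact hq'.1.ne_one ha.symm
      obtain ⟨⟨w, hw⟩, hw1⟩ := Subgroup.ne_bot_iff_exists_ne_one.1
        (CfsgLib.Solvable.normal_inf_center_ne_bot _ hne)
      have hwG : (w : G) ∈ zpowers (a : G) := mem_subgroupOf.1 hw.1
      have hwD : (w : G) ∈ D := hD ▸ mem_inf.2 ⟨zpowers_le.2 a.2 hwG, ⟨w, hw.2, rfl⟩⟩
      have hwo : orderOf (w : G) = q := by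
        refine ((Nat.dvd_prime hq'.1).1 ?_).resolve_left (fun e => hw1 (Subtype.ext (Subtype.ext
          (orderOf_eq_one_iff.1 e))))
        have h := orderOf_dvd_of_mem_zpowers hwG
        have ha2 : orderOf (a : G) = q := (Subgroup.orderOf_coe a).trans ha
        rw [ha2] at h
        exact h
      exact hwo ▸ D.orderOf_dvd_natCard hwD
    refine upperCentralSeries_two_eq_top fun x y => ?_
    have hxy : ((⁅x, y⁆ : Cfsg.fittingSubgroup G) : G) ∈ D := hDeq.symm ▸ hcomm (x : G) y
    rw [hD] at hxy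
    obtain ⟨c, hc, hce⟩ := hxy.2
    rwa [← Subtype.ext (a1 := c) (a2 := ⁅x, y⁆) hce]

end Fitting

end CfsgLib.Perm.SquarefreeClasses
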