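import Cfsg.Agent.Lib.Perm.PermChar
import Cfsg.Agent.Lib.Char.Integral
import Mathlib.LinearAlgebra.Eigenspace.Charpoly
import Mathlib.LinearAlgebra.Eigenspace.Zero
import Mathlib.LinearAlgebra.Charpoly.ToMatrix
import Mathlib.Analysis.Complex.Polynomial.Basic
import Mathlib.RingTheory.IntegralClosure.IsIntegral.Basic

/-!
Orbital operators of a transitive group and the divisibility of subdegrees.
-/

set_option autoImplicit false

namespace CfsgLib.Perm

open Module MulAction

universe u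

variable {G : Type u} [Group G] {Ω : Type*} [Fintype Ω] [MulAction G Ω]

open Classical in
/-- The operator of an orbital. -/
noncomputable def orbOp (q : orbitRel.Quotient G (Ω × Ω)) : permEnd G Ω :=
  (intertwinerEquiv ℂ G Ω Ω).symm (Pi.single q 1)

open Classical in
theorem orbOp_apply (q : orbitRel.Quotient G (Ω × Ω)) (f : Ω → ℂ) (y : Ω) :
    (orbOp q : (Ω → ℂ) →ₗ[ℂ] (Ω → ℂ)) f y = ∑ x, f x * (if ⟦(x, y)⟧ = q then 1 else 0) := by
  show ∑ x, f x * (Pi.single q (1 : ℂ) : orbitRel.Quotient G (Ω × Ω) → ℂ) ⟦(x, y)⟧ = _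
  simp only [Pi.single_apply]

theorem orbitPair_iff {a b x : Ω} :
    (⟦(x, a)⟧ : orbitRel.Quotient G (Ω × Ω)) = ⟦(b, a)⟧ ↔ x ∈ orbit (stabilizer G a) b := by
  constructor
  · intro h
    obtain ⟨g, hg⟩ := Quotient.exact h
    exact ⟨⟨g, congrArg Prod.snd hg⟩, congrArg Prod.fst hg⟩
  · rintro ⟨g, rfl⟩
    exact Quotient.sound ⟨(g : G), Prod.ext rfl g.2⟩

theorem orbOp_one [IsPretransitive G Ω] (a b : Ω) :
    (orbOp ⟦(b, a)⟧ : permEnd G Ω).1 (fun _ => 1) = fun _ => (Nat.card (orbit (stabilizer G a) b) : ℂ) := by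
  classical
  obtain ⟨c, hc⟩ := mem_permConstants.mp (const_of_fixed (G := G)
    (f := (orbOp ⟦(b, a)⟧ : permEnd G Ω).1 (fun _ => 1))
    (fun g => (intertwiner_commute (orbOp ⟦(b, a)⟧) g (fun _ => 1)).symm.trans rfl))
  rw [hc]
  have h1 := congrFun hc a
  rw [orbOp_apply] at h1
  simp only [one_mul, orbitPair_iff, Finset.sum_boole] at h1
  funext y
  rw [← h1, Nat.card_eq_fintype_card, Fintype.card_subtype]

open Classical in
/-- The adjacency matrix of an orbital, over the integers. -/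
noncomputable def orbMatrix (q : orbitRel.Quotient G (Ω × Ω)) : Matrix Ω Ω ℤ :=
  fun y x => if ⟦(x, y)⟧ = q then 1 else 0

open Classical in
theorem toMatrix_orbOp (q : orbitRel.Quotient G (Ω × Ω)) :
    LinearMap.toMatrix (Pi.basisFun ℂ Ω) (Pi.basisFun ℂ Ω) (orbOp q : permEnd G Ω).1 =
      (orbMatrix q).map (Int.castRingHom ℂ) := by
  ext y x
  rw [LinearMap.toMatrix_apply, Pi.basisFun_apply, Pi.basisFun_repr, orbOp_apply, Matrix.map_apply, orbMatrix]
  rw [Finset.sum_eq_single x (fun z _ hz => by rw [Pi.single_eq_of_ne hz, zero_mul]) (by simp), Pi.single_eq_same, one_mul]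
  split_ifs <;> simp

theorem isIntegral_of_mem_roots (q : orbitRel.Quotient G (Ω × Ω)) {μ : ℂ}
    (h : μ ∈ (LinearMap.charpoly (orbOp q : permEnd G Ω).1).roots) : IsIntegral ℤ μ := by
  classical
  refine ⟨(orbMatrix q).charpoly, Matrix.charpoly_monic _, ?_⟩
  have h1 := (Polynomial.mem_roots'.mp h).2
  rw [← LinearMap.charpoly_toMatrix _ (Pi.basisFun ℂ Ω), toMatrix_orbOp, Matrix.charpoly_map, Polynomial.IsRoot,
    Polynomial.eval_map] at h1
  rw [show algebraMap ℤ ℂ = Int.castRingHom ℂ from RingHom.ext_int _ _]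
  exact h1

theorem trace_orbOp {a b : Ω} (hab : b ≠ a) :
    LinearMap.trace ℂ (Ω → ℂ) (orbOp ⟦(b, a)⟧ : permEnd G Ω).1 = 0 := by
  classical
  rw [LinearMap.trace_eq_matrix_trace ℂ (Pi.basisFun ℂ Ω), toMatrix_orbOp]
  refine Finset.sum_eq_zero fun x _ => ?_
  rw [Matrix.diag_apply, Matrix.map_apply, orbMatrix, if_neg, map_zero]
  intro h
  obtain ⟨g, hg⟩ := Quotient.exact h
  exact hab (MulAction.injective g ((congrArg Prod.fst hg).trans (congrArg Prod.snd hg).symm))

section Fin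

variable [Fintype G]

/-- The dimension of a subrepresentation, modulo a common divisor of the nonprincipal degrees. -/
theorem finrank_subrep_eq (f : ℕ)
    (hf : ∀ χ : G → ℂ, Cfsg.IsIrrCharacter G χ → χ ≠ (fun _ => 1) →
      Cfsg.classInner (permChar G Ω) χ ≠ 0 → ∃ m : ℕ, χ 1 = (f : ℂ) * m)
    (p : Subrepresentation (Cfsg.permRep ℂ G Ω)) :
    ∃ k : ℕ, (finrank ℂ p.toSubmodule : ℂ) =
      (finrank ℂ (Representation.invariants p.toRepresentation) : ℂ) + (f : ℂ) * k := by
  classical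
  haveI := Fintype.ofFinite (Cfsg.IrrCharacter G)
  haveI : Invertible (Nat.card G : ℂ) := invertibleOfNonzero CfsgLib.Char.natCard_ne_zero
  set ψ := p.toRepresentation.character with hψ
  have hψc : Cfsg.IsCharacter G ψ := CfsgLib.Char.isCharacter_of_rep _
  obtain ⟨q, hq⟩ := exists_isCompl p
  have hπ : permChar G Ω = ψ + q.toRepresentation.character := by
    rw [← char_permRep, CfsgLib.Char.char_compl p q hq]
  choose n hn using fun χ : Cfsg.IrrCharacter G =>
    CfsgLib.Char.classInner_isCharacter_nat hψc (CfsgLib.Char.irr_isCharacter χ.2)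
  let one : Cfsg.IrrCharacter G := ⟨fun _ => 1, CfsgLib.Char.isIrrCharacter_one⟩
  have hk : ∀ χ : Cfsg.IrrCharacter G, χ ≠ one → ∃ k : ℕ, (n χ : ℂ) * (χ : G → ℂ) 1 = (f : ℂ) * k := by
    intro χ hne
    by_cases h0 : n χ = 0
    · exact ⟨0, by simp [h0]⟩
    have hpi : Cfsg.classInner (permChar G Ω) (χ : G → ℂ) ≠ 0 := by
      obtain ⟨j, hj⟩ := CfsgLib.Char.classInner_isCharacter_nat (CfsgLib.Char.isCharacter_of_rep q.toRepresentation) (CfsgLib.Char.irr_isCharacter χ.2)
      rw [hπ, CfsgLib.Char.classInner_add_left, hn, hj, ← Nat.cast_add, Nat.cast_ne_zero]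
      omega
    obtain ⟨m, hm⟩ := hf χ χ.2 (fun e => hne (Subtype.ext e)) hpi
    exact ⟨n χ * m, by rw [hm]; push_cast; ring⟩
  choose! k hk using hk
  refine ⟨∑ χ ∈ Finset.univ.erase one, k χ, ?_⟩
  have h1 := CfsgLib.Char.classFunction_apply_eq_sum (CfsgLib.Char.isCharacter_isClassFunction hψc) 1
  rw [← Finset.add_sum_erase _ _ (Finset.mem_univ one)] at h1
  have h2 : Cfsg.classInner ψ (one : G → ℂ) = (finrank ℂ (Representation.invariants p.toRepresentation) : ℂ) := by
    rw [← Representation.card_inv_mul_sum_char_eq_finrank, CfsgLib.Char.classInner_def]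
    simp [one, hψ]
  rw [h2] at h1
  calc (finrank ℂ p.toSubmodule : ℂ) = ψ 1 := (Representation.char_one _).symm
    _ = _ := by
      rw [h1, Nat.cast_sum, Finset.mul_sum]
      refine congrArg₂ (· + ·) (by simp [one]) (Finset.sum_congr rfl fun χ hχ => ?_)
      rw [hn]
      exact hk χ (Finset.ne_of_mem_erase hχ)

/-- A common divisor of the nonprincipal degrees divides every nontrivial subdegree. -/
theorem dvd_subdegree [IsPretransitive G Ω] (f : ℕ)
    (hf : ∀ χ : G → ℂ, Cfsg.IsIrrCharacter G χ → χ ≠ (fun _ => 1) →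
      Cfsg.classInner (permChar G Ω) χ ≠ 0 → ∃ m : ℕ, χ 1 = (f : ℂ) * m)
    (a b : Ω) (hab : b ≠ a) : f ∣ Nat.card (orbit (stabilizer G a) b) := by
  classical
  set r := Nat.card (orbit (stabilizer G a) b) with hr
  set T := (orbOp ⟦(b, a)⟧ : permEnd G Ω) with hT
  have hT1 : T.1 (fun _ => 1) = (r : ℂ) • fun _ => 1 := by
    rw [orbOp_one]; funext y; simp [hr]
  have hinv : ∀ (μ : ℂ) (g : G) (v : Ω → ℂ), v ∈ Module.End.maxGenEigenspace T.1 μ →
      Cfsg.permRep ℂ G Ω g v ∈ Module.End.maxGenEigenspace T.1 μ := fun μ g v hv =>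
    Module.End.mapsTo_maxGenEigenspace_of_comm (f := T.1) (g := Cfsg.permRep ℂ G Ω g)
      (LinearMap.ext fun w => intertwiner_commute T g w) μ hv
  let W : ℂ → Subrepresentation (Cfsg.permRep ℂ G Ω) := fun μ =>
    ⟨Module.End.maxGenEigenspace T.1 μ, fun g v hv => hinv μ g v hv⟩
  choose k hk using fun μ => finrank_subrep_eq f hf (W μ)
  have hone : (fun _ => (1 : ℂ)) ∈ Module.End.maxGenEigenspace T.1 (r : ℂ) :=
    Module.End.eigenspace_le_maxGenEigenspace (Module.End.mem_eigenspace_iff.mpr hT1)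
  have hne : (fun _ : Ω => (1 : ℂ)) ≠ 0 := fun h => one_ne_zero (congrFun h a)
  have hfix : ∀ μ, finrank ℂ (Representation.invariants (W μ).toRepresentation) = if μ = (r : ℂ) then 1 else 0 := by
    intro μ
    have hconst : ∀ v : (W μ).toSubmodule, v ∈ Representation.invariants (W μ).toRepresentation →
        ∃ c : ℂ, (v : Ω → ℂ) = c • fun _ => 1 := by
      intro v hv
      obtain ⟨c, hc⟩ := mem_permConstants.mp (const_of_fixed (G := G) (f := (v : Ω → ℂ)) fun g =>
        congrArg Subtype.val ((Representation.mem_invariants _ v).mp hv g))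
      exact ⟨c, by rw [hc]; funext y; simp⟩
    split_ifs with h
    · subst h
      have e : Representation.invariants (W (r : ℂ)).toRepresentation =
          Submodule.span ℂ {(⟨fun _ => 1, hone⟩ : (W (r : ℂ)).toSubmodule)} := by
        refine le_antisymm (fun v hv => ?_) (Submodule.span_le.mpr (Set.singleton_subset_iff.mpr ?_))
        · obtain ⟨c, hc⟩ := hconst v hv
          exact Submodule.mem_span_singleton.mpr ⟨c, Subtype.ext hc.symm⟩
        · exact (Representation.mem_invariants _ _).mpr fun g => Subtype.ext rfl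
      rw [e]
      exact finrank_span_singleton (fun e => hne (congrArg Subtype.val e))
    · rw [Submodule.finrank_eq_zero, Submodule.eq_bot_iff]
      intro v hv
      obtain ⟨c, hc⟩ := hconst v hv
      by_contra hv0
      have hc0 : c ≠ 0 := fun e => hv0 (Subtype.ext (by rw [hc, e, zero_smul]; rfl))
      have h2 : (fun _ : Ω => (1 : ℂ)) ∈ Module.End.maxGenEigenspace T.1 μ := by
        have := Submodule.smul_mem _ c⁻¹ v.2
        rwa [hc, inv_smul_smul₀ hc0] at this
      exact hne (Submodule.disjoint_def.mp ((Module.End.independent_maxGenEigenspace T.1).pairwiseDisjoint h) _ h2 hone)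
  set R := (LinearMap.charpoly T.1).roots with hR
  have htr := Module.End.trace_eq_sum_roots_charpoly_of_splits (f := T.1) (IsAlgClosed.splits _)
  rw [trace_orbOp hab, Finset.sum_multiset_count] at htr
  have hcount : ∀ μ, ((R.count μ : ℕ) : ℂ) = (if μ = (r : ℂ) then 1 else 0) + (f : ℂ) * k μ := fun μ => by
    rw [Polynomial.count_roots, ← LinearMap.finrank_maxGenEigenspace_eq]
    have := hk μ
    rw [hfix, apply_ite Nat.cast, Nat.cast_one, Nat.cast_zero] at this
    exact this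
  simp only [nsmul_eq_mul] at htr
  rw [Finset.sum_congr rfl (fun μ _ => by rw [hcount μ, add_mul, ite_mul, one_mul, zero_mul])] at htr
  have hrmem : (r : ℂ) ∈ R.toFinset := by
    rw [Multiset.mem_toFinset]
    refine (Polynomial.mem_roots (LinearMap.charpoly_monic _).ne_zero).mpr ?_
    exact (Module.End.hasEigenvalue_iff_isRoot_charpoly _ _).mp
      (Module.End.hasEigenvalue_of_hasEigenvector ⟨Module.End.mem_eigenspace_iff.mpr hT1, hne⟩)
  rw [Finset.sum_add_distrib, Finset.sum_ite_eq' R.toFinset, if_pos hrmem] at htr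
  set I := ∑ μ ∈ R.toFinset, (k μ : ℂ) * μ with hI
  have hII : IsIntegral ℤ I := IsIntegral.sum _ fun μ hμ => IsIntegral.mul (by
    rw [show ((k μ : ℕ) : ℂ) = ((k μ : ℤ) : ℂ) by norm_num]
    exact isIntegral_algebraMap (R := ℤ)) (isIntegral_of_mem_roots _ (Multiset.mem_toFinset.mp hμ))
  have hrI : (r : ℂ) = -((f : ℂ) * I) := by
    rw [hI, Finset.mul_sum, eq_neg_iff_add_eq_zero]
    simp only [← mul_assoc]
    exact htr.symm
  rcases Nat.eq_zero_or_pos f with hf0 | hfpos
  · rw [hf0, Nat.cast_zero, zero_mul, neg_zero, Nat.cast_eq_zero] at hrI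
    rw [hrI]; exact dvd_zero f
  obtain ⟨z, hz⟩ := CfsgLib.Char.exists_int_of_isIntegral_rat (q := (r : ℚ) / f) (by
    have e : (((r : ℚ) / f : ℚ) : ℂ) = -I := by
      push_cast
      rw [div_eq_iff (by exact_mod_cast hfpos.ne'), hrI]
      ring
    rw [e]; exact hII.neg)
  have h1 : (r : ℚ) = ((z * f : ℤ) : ℚ) := by
    rw [Int.cast_mul, Int.cast_natCast]
    exact (div_eq_iff (by exact_mod_cast hfpos.ne')).mp hz
  have h2 : (r : ℤ) = z * f := by exact_mod_cast h1
  exact Int.natCast_dvd_natCast.mp ⟨z, by rw [h2, mul_comm]⟩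

theorem scalar_of_multiplicityFree [Fintype (Cfsg.IrrCharacter G)]
    (hfree : ∀ χ, Cfsg.IsIrrCharacter G χ → Cfsg.classInner (permChar G Ω) χ = 0 ∨ Cfsg.classInner (permChar G Ω) χ = 1)
    {T : (Ω → ℂ) →ₗ[ℂ] (Ω → ℂ)} (hT : T ∈ permEnd G Ω) :
    ∃ lam : Cfsg.IrrCharacter G → ℂ,
      LinearMap.trace ℂ (Ω → ℂ) T = ∑ χ : Cfsg.IrrCharacter G, lam χ * Cfsg.classInner (permChar G Ω) (χ : G → ℂ) * (χ : G → ℂ) 1 ∧
      ∀ (χ : Cfsg.IrrCharacter G) (p : Subrepresentation (Cfsg.permRep ℂ G Ω)), p.toRepresentation.IsIrreducible →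
        p.toRepresentation.character = (χ : G → ℂ) → ∀ x ∈ p.toSubmodule, T x = lam χ • x := by
  classical
  rw [← span_classOp hfree, Submodule.mem_span_range_iff_exists_fun] at hT
  obtain ⟨c, rfl⟩ := hT
  set c' : Cfsg.IrrCharacter G → ℂ := fun χ =>
    if h : Cfsg.classInner (permChar G Ω) (χ : G → ℂ) ≠ 0 then c ⟨χ, h⟩ else 0 with hc'
  have hsum : ∀ F : Cfsg.IrrCharacter G → ℂ, (∑ i : {χ : Cfsg.IrrCharacter G // Cfsg.classInner (permChar G Ω) (χ : G → ℂ) ≠ 0}, c i * F i.1) =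
      ∑ χ : Cfsg.IrrCharacter G, c' χ * F χ := by
    intro F
    refine Eq.trans ?_ (Finset.sum_subset (Finset.subset_univ (Finset.univ.filter fun χ : Cfsg.IrrCharacter G => Cfsg.classInner (permChar G Ω) (χ : G → ℂ) ≠ 0)) ?_)
    · rw [Finset.sum_subtype _ (p := fun χ : Cfsg.IrrCharacter G => Cfsg.classInner (permChar G Ω) (χ : G → ℂ) ≠ 0) (by simp)]
      refine Finset.sum_congr rfl fun i _ => ?_
      simp only [hc', dif_pos i.2]
    · intro χ _ hχ
      simp only [Finset.mem_filter, Finset.mem_univ, true_and] at hχ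
      simp only [hc', dif_neg hχ, zero_mul]
  refine ⟨fun χ => c' χ * ((Nat.card G : ℂ) / (χ : G → ℂ) 1), ?_, ?_⟩
  · rw [map_sum]
    simp only [map_smul, smul_eq_mul]
    have htrop : ∀ χ : Cfsg.IrrCharacter G, LinearMap.trace ℂ (Ω → ℂ) (CfsgLib.Char.classOp (χ : G → ℂ) (Cfsg.permRep ℂ G Ω)) =
        (Nat.card G : ℂ) * Cfsg.classInner (χ : G → ℂ) (permChar G Ω) := by
      intro χ
      rw [CfsgLib.Char.classInner_def, ← mul_assoc, mul_inv_cancel₀ CfsgLib.Char.natCard_ne_zero, one_mul,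
        CfsgLib.Char.classOp, map_sum]
      refine Finset.sum_congr rfl fun g _ => ?_
      rw [map_smul, smul_eq_mul, ← CfsgLib.Char.char_inv isCharacter_permChar, ← char_permRep]
      rfl
    simp only [htrop]
    rw [hsum fun χ => (Nat.card G : ℂ) * Cfsg.classInner (χ : G → ℂ) (permChar G Ω)]
    refine Finset.sum_congr rfl fun χ _ => ?_
    obtain ⟨j, hj⟩ := CfsgLib.Char.classInner_isCharacter_nat (isCharacter_permChar (G := G) (Ω := Ω)) (CfsgLib.Char.irr_isCharacter χ.2)
    rw [← CfsgLib.Char.classInner_conj_symm (permChar G Ω) (χ : G → ℂ), hj, map_natCast]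
    field_simp [CfsgLib.Char.irr_apply_one_ne_zero χ.2]
  · intro χ p hp hpc x hx
    rw [LinearMap.sum_apply]
    simp only [LinearMap.smul_apply,
      fun i : {χ : Cfsg.IrrCharacter G // Cfsg.classInner (permChar G Ω) (χ : G → ℂ) ≠ 0} =>
        classOp_apply_subrep (CfsgLib.Char.irr_isClassFunction i.1.2) p hp x hx, hpc, smul_smul, ← Finset.sum_smul]
    congr 1
    rw [hsum fun ψ => (Nat.card G : ℂ) * Cfsg.classInner (ψ : G → ℂ) (χ : G → ℂ) / (finrank ℂ p.toSubmodule : ℂ),
      Finset.sum_eq_single χ]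
    · rw [CfsgLib.Char.irr_classInner_self χ.2, mul_one, ← Representation.char_one p.toRepresentation, hpc]
    · intro ψ _ hne
      rw [CfsgLib.Char.irr_classInner_ne ψ.2 χ.2 (fun e => hne (Subtype.ext e))]
      simp
    · simp

end Fin

end CfsgLib.Perm
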