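import Cfsg.Agent.Lib.Perm.Basic
import Mathlib.GroupTheory.Subgroup.Centralizer

/-!
Centralizers of transitive normal subgroups of permutation groups.
-/

set_option autoImplicit false

namespace CfsgLib.Perm

open MulAction

variable {α : Type*}

theorem isPretransitive_map (G : Subgroup (Equiv.Perm α)) (M : Subgroup G)
    (h : IsPretransitive M α) : IsPretransitive (M.map G.subtype : Subgroup (Equiv.Perm α)) α :=
  ⟨fun a b => by
    obtain ⟨⟨g, hg⟩, hgab⟩ := h.exists_smul_eq a b
    exact ⟨⟨(g : Equiv.Perm α), g, hg, rfl⟩, hgab⟩⟩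

theorem mem_map_subtype {G : Subgroup (Equiv.Perm α)} {M : Subgroup G} {g : G}
    (h : (g : Equiv.Perm α) ∈ M.map G.subtype) : g ∈ M := by
  obtain ⟨m, hm, e⟩ := h
  rwa [← Subtype.ext (by exact e) (a1 := m) (a2 := g)]

/-- If a transitive subgroup centralizes a transitive group then it is the whole centralizer. -/
theorem centralizer_eq_of_transitive (M N : Subgroup (Equiv.Perm α)) [IsPretransitive M α]
    (hN : IsPretransitive N α) (hc : ∀ m ∈ M, ∀ n ∈ N, m * n = n * m) :
    Subgroup.centralizer (M : Set (Equiv.Perm α)) = N := by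
  refine le_antisymm (fun c hcm => ?_) fun n hn m hm => hc m hm n hn
  rcases isEmpty_or_nonempty α with h | ⟨⟨a⟩⟩
  · have : c = 1 := Equiv.ext fun x => h.elim x
    rw [this]; exact N.one_mem
  obtain ⟨n, hn⟩ := hN.exists_smul_eq a (c a)
  have hd : (n : Equiv.Perm α)⁻¹ * c = 1 := by
    refine perm_eq_one_of_commute_of_fix (G := M) (a := a) (fun g x => ?_) ?_
    · have h1 := congrArg (fun f : Equiv.Perm α => f x) (hcm (g : Equiv.Perm α) g.2)
      have h2 := hc _ g.2 _ (N.inv_mem n.2)
      simp only [Equiv.Perm.mul_apply] at h1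
      show (n : Equiv.Perm α)⁻¹ (c ((g : Equiv.Perm α) x)) =
        (g : Equiv.Perm α) ((n : Equiv.Perm α)⁻¹ (c x))
      rw [← h1]
      exact (congrArg (fun f : Equiv.Perm α => f (c x)) h2).symm
    · show (n : Equiv.Perm α)⁻¹ (c a) = a
      rw [← hn]
      exact (n : Equiv.Perm α).symm_apply_apply a
  rw [inv_mul_eq_one] at hd
  rw [← hd]; exact n.2

/-- A group centralizing a transitive group acts semiregularly. -/
theorem stabilizer_eq_bot_of_commute_transitive (M N : Subgroup (Equiv.Perm α))
    [IsPretransitive M α] (hc : ∀ m ∈ M, ∀ n ∈ N, m * n = n * m) (a : α) :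
    stabilizer N a = ⊥ := by
  rw [Subgroup.eq_bot_iff_forall]
  intro n hn
  apply Subtype.ext
  exact perm_eq_one_of_commute_of_fix (G := M) (fun g x =>
    (congrArg (fun f : Equiv.Perm α => f x) (hc _ g.2 _ n.2)).symm) hn

/-- Distinct minimal normal subgroups commute. -/
theorem commute_of_minimal {G : Type*} [Group G] (M L : Subgroup G) [M.Normal] [L.Normal]
    (hMmin : ∀ K : Subgroup G, K.Normal → K ≤ M → K = ⊥ ∨ K = M)
    (hLmin : ∀ K : Subgroup G, K.Normal → K ≤ L → K = ⊥ ∨ K = L) (hne : L ≠ M) :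
    ∀ m ∈ M, ∀ l ∈ L, m * l = l * m := by
  have hdis : Disjoint M L := by
    rw [disjoint_iff]
    rcases hMmin (M ⊓ L) inferInstance inf_le_left with h | h
    · exact h
    · rcases hLmin (M ⊓ L) inferInstance inf_le_right with h' | h'
      · exact h'
      · exact absurd (h'.symm.trans h) hne
  exact fun m hm l hl =>
    Subgroup.commute_of_normal_of_disjoint M L inferInstance inferInstance hdis m l hm hl

end CfsgLib.Perm
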