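import Cfsg.Agent.Lib.Perm.TrioCert
import Cfsg.Agent.Lib.Perm.MElevenInvolution
import Cfsg.Agent.Lib.Mathieu.StabOrbits

/-!
# The stabiliser of a trio

It acts on the three octads and, linearly, on the seven sextets refining the trio; the kernel is
elementary abelian of order 64.
-/

set_option autoImplicit false
set_option maxRecDepth 100000

namespace CfsgLib.Perm.Trio

open Cfsg MulAction CfsgLib.Golay
open CfsgLib.Mathieu (sextSet sameB sameB_spec smul_trio trio_move trios_listing)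
open CfsgLib.Perm.MElevenInvolution (mkP)
open scoped Pointwise

/-- Code of a vector. -/
def cd (v : Fin 3 → ZMod 2) : ℕ := (v 0).val + 2 * (v 1).val + 4 * (v 2).val

/-- Matrix-vector product, unfolded. -/
def mulV (M : Matrix (Fin 3) (Fin 3) (ZMod 2)) (v : Fin 3 → ZMod 2) : Fin 3 → ZMod 2 :=
  fun i => M i 0 * v 0 + M i 1 * v 1 + M i 2 * v 2

theorem mulV_eq (M : Matrix (Fin 3) (Fin 3) (ZMod 2)) (v : Fin 3 → ZMod 2) :
    mulV M v = M.mulVec v := by
  funext i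
  simp [mulV, Matrix.mulVec, dotProduct, Fin.sum_univ_three]

/-- The octads of the standard trio, numbered. -/
def oct (i : Fin 3) : Finset GolayPt := mset (TrioCert.T0.getD i.val 0)

/-- The seven sextets, numbered by nonzero vectors. -/
def sxt (v : Fin 3 → ZMod 2) : Finset (Finset GolayPt) := sextSet (TrioCert.sxData.getD (cd v) [])

/-- The element induces the permutation on the octads and the matrix on the sextets. -/
def Rel (g : Equiv.Perm GolayPt) (M : Matrix (Fin 3) (Fin 3) (ZMod 2)) (π : Equiv.Perm (Fin 3)) :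
    Prop :=
  (∀ i, g • oct i = oct (π i)) ∧ ∀ v, v ≠ 0 → g • sxt v = sxt (mulV M v)

/-- A certified lift. -/
def goodLift (g : ℕ) (M : Matrix (Fin 3) (Fin 3) (ZMod 2)) (π : Equiv.Perm (Fin 3)) : Bool :=
  inM24 g && decide (∀ i : Fin 3, mimg g (TrioCert.T0.getD i.val 0) = TrioCert.T0.getD (π i).val 0) &&
    decide (∀ v : Fin 3 → ZMod 2, v = 0 ∨
      sameB ((TrioCert.sxData.getD (cd v) []).map (mimg g)) (TrioCert.sxData.getD (cd (mulV M v)) []) = true)

theorem goodLift_valid {g : ℕ} {M : Matrix (Fin 3) (Fin 3) (ZMod 2)} {π : Equiv.Perm (Fin 3)}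
    (h : goodLift g M π = true) : valid g = true := by
  simp only [goodLift, Bool.and_eq_true] at h
  exact inM24_valid h.1.1

theorem goodLift_sound {g : ℕ} {M : Matrix (Fin 3) (Fin 3) (ZMod 2)} {π : Equiv.Perm (Fin 3)}
    (h : goodLift g M π = true) : Rel (permOf g) M π ∧ permOf g ∈ M24 := by
  simp only [goodLift, Bool.and_eq_true, decide_eq_true_eq] at h
  obtain ⟨⟨hg, ho⟩, hs⟩ := h
  refine ⟨⟨fun i => ?_, fun v hv => ?_⟩, inM24_mem hg⟩
  · rw [oct, smul_mset (inM24_valid hg), ho]; rfl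
  · rw [sxt, ← CfsgLib.Mathieu.sextSet_map (inM24_valid hg),
      sameB_spec ((hs v).resolve_left hv)]
    rfl

theorem Rel.one : Rel 1 1 1 :=
  ⟨fun i => one_smul _ _, fun v _ => by rw [one_smul, mulV_eq, Matrix.one_mulVec]⟩

theorem mulV_ne_zero (M : GL (Fin 3) (ZMod 2)) {v : Fin 3 → ZMod 2} (hv : v ≠ 0) :
    mulV M v ≠ 0 := by
  rw [mulV_eq]
  intro h
  have h1 := congrArg ((↑(M⁻¹) : Matrix (Fin 3) (Fin 3) (ZMod 2)).mulVec) h
  rw [Matrix.mulVec_mulVec, ← Units.val_mul, inv_mul_cancel, Units.val_one, Matrix.one_mulVec,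
    Matrix.mulVec_zero] at h1
  exact hv h1

theorem Rel.mul {g k : Equiv.Perm GolayPt} {M N : GL (Fin 3) (ZMod 2)} {π ρ : Equiv.Perm (Fin 3)}
    (hg : Rel g M π) (hk : Rel k N ρ) :
    Rel (g * k) (↑(M * N) : Matrix (Fin 3) (Fin 3) (ZMod 2)) (π * ρ) := by
  refine ⟨fun i => by rw [mul_smul, hk.1, hg.1]; rfl, fun v hv => ?_⟩
  rw [mul_smul, hk.2 v hv, hg.2 _ (mulV_ne_zero N hv), Units.val_mul, mulV_eq, mulV_eq, mulV_eq,
    Matrix.mulVec_mulVec]

theorem oct_injective : Function.Injective oct := by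
  intro i j h
  have h1 : ∀ i : Fin 3, TrioCert.T0.getD i.val 0 < 16777216 := by decide +kernel
  have h2 : ∀ i j : Fin 3, TrioCert.T0.getD i.val 0 = TrioCert.T0.getD j.val 0 → i = j := by
    decide +kernel
  exact h2 _ _ (mset_inj (h1 i) (h1 j) h)

theorem sxt_injective {v w : Fin 3 → ZMod 2} (hv : v ≠ 0) (hw : w ≠ 0) (h : sxt v = sxt w) :
    v = w := by
  have h1 : ∀ v : Fin 3 → ZMod 2, v ≠ 0 → ∀ x ∈ TrioCert.sxData.getD (cd v) [], x < 16777216 := by
    decide +kernel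
  have h2 : ∀ v w : Fin 3 → ZMod 2, v ≠ 0 → w ≠ 0 → v ≠ w →
      sameB (TrioCert.sxData.getD (cd v) []) (TrioCert.sxData.getD (cd w) []) = false := by
    decide +kernel
  by_contra hne
  have h3 := h2 v w hv hw hne
  have h4 : sameB (TrioCert.sxData.getD (cd v) []) (TrioCert.sxData.getD (cd w) []) = true := by
    simp only [sxt, sextSet] at h
    simp only [sameB, Bool.and_eq_true, List.all_eq_true, List.any_eq_true, Nat.beq_eq]
    constructor
    · intro x hx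
      have : mset x ∈ ((TrioCert.sxData.getD (cd w) []).map mset).toFinset := by
        rw [← h, List.mem_toFinset]; exact List.mem_map_of_mem hx
      rw [List.mem_toFinset, List.mem_map] at this
      obtain ⟨y, hy, e⟩ := this
      exact ⟨y, hy, (mset_inj (h1 w hw y hy) (h1 v hv x hx) e).symm⟩
    · intro x hx
      have : mset x ∈ ((TrioCert.sxData.getD (cd v) []).map mset).toFinset := by
        rw [h, List.mem_toFinset]; exact List.mem_map_of_mem hx
      rw [List.mem_toFinset, List.mem_map] at this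
      obtain ⟨y, hy, e⟩ := this
      exact ⟨y, hy, (mset_inj (h1 v hv y hy) (h1 w hw x hx) e).symm⟩
  rw [h3] at h4
  exact Bool.noConfusion h4

theorem Rel.unique {g : Equiv.Perm GolayPt} {M N : GL (Fin 3) (ZMod 2)} {π ρ : Equiv.Perm (Fin 3)}
    (h : Rel g M π) (h' : Rel g N ρ) : M = N ∧ π = ρ := by
  refine ⟨Units.ext (Matrix.ext fun i j => ?_), Equiv.ext fun i =>
    oct_injective ((h.1 i).symm.trans (h'.1 i))⟩
  have hj : (Pi.single j (1 : ZMod 2) : Fin 3 → ZMod 2) ≠ 0 := by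
    intro e; simpa using congrFun e j
  have := sxt_injective (mulV_ne_zero M hj) (mulV_ne_zero N hj) ((h.2 _ hj).symm.trans (h'.2 _ hj))
  rw [mulV_eq, mulV_eq, Matrix.mulVec_single_one, Matrix.mulVec_single_one] at this
  exact congrFun this i

/-- Code of a matrix. -/
def matCode (M : Matrix (Fin 3) (Fin 3) (ZMod 2)) : ℕ :=
  (M 0 0).val + 2 * (M 0 1).val + 4 * (M 0 2).val + 8 * (M 1 0).val + 16 * (M 1 1).val +
    32 * (M 1 2).val + 64 * (M 2 0).val + 128 * (M 2 1).val + 256 * (M 2 2).val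

/-- The determinant, unfolded. -/
def det3 (M : Matrix (Fin 3) (Fin 3) (ZMod 2)) : ZMod 2 :=
  M 0 0 * M 1 1 * M 2 2 - M 0 0 * M 1 2 * M 2 1 - M 0 1 * M 1 0 * M 2 2 +
    M 0 1 * M 1 2 * M 2 0 + M 0 2 * M 1 0 * M 2 1 - M 0 2 * M 1 1 * M 2 0

theorem mat_lifts : ∀ M : Matrix (Fin 3) (Fin 3) (ZMod 2), det3 M = 1 →
    (TrioCert.matLifts.any fun e => Nat.beq e.1 (matCode M) && goodLift e.2 M 1) = true := by
  decide +kernel

theorem oct_lifts : ∀ π : Equiv.Perm (Fin 3),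
    (TrioCert.octLifts.any fun e => Nat.beq e.1 ((π 0).val * 3 + (π 1).val) && goodLift e.2 1 π) =
      true := by
  decide +kernel

theorem exists_lift (M : GL (Fin 3) (ZMod 2)) (π : Equiv.Perm (Fin 3)) :
    ∃ g ∈ M24, Rel g M π := by
  have hd : det3 (M : Matrix (Fin 3) (Fin 3) (ZMod 2)) = 1 := by
    have h : det3 (M : Matrix (Fin 3) (Fin 3) (ZMod 2)) =
        (M : Matrix (Fin 3) (Fin 3) (ZMod 2)).det := by rw [Matrix.det_fin_three]; rfl
    rw [h]
    have hne : (M : Matrix (Fin 3) (Fin 3) (ZMod 2)).det ≠ 0 := by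
      rw [← Matrix.GeneralLinearGroup.val_det_apply]; exact Units.ne_zero _
    generalize (M : Matrix (Fin 3) (Fin 3) (ZMod 2)).det = x at hne ⊢
    revert x; decide
  obtain ⟨e, -, he⟩ := List.any_eq_true.1 (mat_lifts _ hd)
  obtain ⟨e', -, he'⟩ := List.any_eq_true.1 (oct_lifts π)
  rw [Bool.and_eq_true] at he he'
  obtain ⟨h1, h1m⟩ := goodLift_sound he.2
  obtain ⟨h2, h2m⟩ := goodLift_sound he'.2
  refine ⟨_, Subgroup.mul_mem _ h1m h2m, ?_⟩
  have h3 := Rel.mul (M := M) (N := 1) h1 h2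
  rwa [mul_one, one_mul] at h3

/-- An element fixing the octads and the seven sextets. -/
def tB0 : Equiv.Perm GolayPt where
  toFun := mkP [0, 6, 2, 7, 8, 12, 1, 3, 4, 19, 18, 23, 5, 13, 14, 15, 16, 17, 10, 9, 20, 22, 21, 11]
  invFun := mkP [0, 6, 2, 7, 8, 12, 1, 3, 4, 19, 18, 23, 5, 13, 14, 15, 16, 17, 10, 9, 20, 22, 21, 11]
  left_inv := (by decide +kernel : ∀ p, mkP [0, 6, 2, 7, 8, 12, 1, 3, 4, 19, 18, 23, 5, 13, 14, 15, 16, 17, 10, 9, 20, 22, 21, 11] (mkP [0, 6, 2, 7, 8, 12, 1, 3, 4, 19, 18, 23, 5, 13, 14, 15, 16, 17, 10, 9, 20, 22, 21, 11] p) = p)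
  right_inv := (by decide +kernel : ∀ p, mkP [0, 6, 2, 7, 8, 12, 1, 3, 4, 19, 18, 23, 5, 13, 14, 15, 16, 17, 10, 9, 20, 22, 21, 11] (mkP [0, 6, 2, 7, 8, 12, 1, 3, 4, 19, 18, 23, 5, 13, 14, 15, 16, 17, 10, 9, 20, 22, 21, 11] p) = p)

theorem tB0_mem : Rel tB0 1 1 ∧ tB0 ∈ M24 := by
  have h : goodLift 485099830676651778964856029701179584 1 1 = true := by decide +kernel
  have e : ∀ p, mkP [0, 6, 2, 7, 8, 12, 1, 3, 4, 19, 18, 23, 5, 13, 14, 15, 16, 17, 10, 9, 20, 22, 21, 11] p = pt (img 485099830676651778964856029701179584 (idx p)) := by decide +kernel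
  rw [show tB0 = permOf 485099830676651778964856029701179584 from Equiv.ext fun p => (e p).trans (permOf_apply (goodLift_valid h) p).symm]
  exact goodLift_sound h

/-- An element fixing the octads and the seven sextets. -/
def tB1 : Equiv.Perm GolayPt where
  toFun := mkP [0, 9, 2, 4, 3, 22, 19, 8, 7, 1, 23, 18, 21, 13, 14, 15, 16, 17, 11, 6, 20, 12, 5, 10]
  invFun := mkP [0, 9, 2, 4, 3, 22, 19, 8, 7, 1, 23, 18, 21, 13, 14, 15, 16, 17, 11, 6, 20, 12, 5, 10]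
  left_inv := (by decide +kernel : ∀ p, mkP [0, 9, 2, 4, 3, 22, 19, 8, 7, 1, 23, 18, 21, 13, 14, 15, 16, 17, 11, 6, 20, 12, 5, 10] (mkP [0, 9, 2, 4, 3, 22, 19, 8, 7, 1, 23, 18, 21, 13, 14, 15, 16, 17, 11, 6, 20, 12, 5, 10] p) = p)
  right_inv := (by decide +kernel : ∀ p, mkP [0, 9, 2, 4, 3, 22, 19, 8, 7, 1, 23, 18, 21, 13, 14, 15, 16, 17, 11, 6, 20, 12, 5, 10] (mkP [0, 9, 2, 4, 3, 22, 19, 8, 7, 1, 23, 18, 21, 13, 14, 15, 16, 17, 11, 6, 20, 12, 5, 10] p) = p)

theorem tB1_mem : Rel tB1 1 1 ∧ tB1 ∈ M24 := by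
  have h : goodLift 422386502577857100174484772750493984 1 1 = true := by decide +kernel
  have e : ∀ p, mkP [0, 9, 2, 4, 3, 22, 19, 8, 7, 1, 23, 18, 21, 13, 14, 15, 16, 17, 11, 6, 20, 12, 5, 10] p = pt (img 422386502577857100174484772750493984 (idx p)) := by decide +kernel
  rw [show tB1 = permOf 422386502577857100174484772750493984 from Equiv.ext fun p => (e p).trans (permOf_apply (goodLift_valid h) p).symm]
  exact goodLift_sound h

/-- An element fixing the octads and the seven sextets. -/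
def tB2 : Equiv.Perm GolayPt where
  toFun := mkP [0, 10, 2, 22, 5, 4, 18, 21, 12, 23, 1, 19, 8, 13, 14, 15, 16, 17, 6, 11, 20, 7, 3, 9]
  invFun := mkP [0, 10, 2, 22, 5, 4, 18, 21, 12, 23, 1, 19, 8, 13, 14, 15, 16, 17, 6, 11, 20, 7, 3, 9]
  left_inv := (by decide +kernel : ∀ p, mkP [0, 10, 2, 22, 5, 4, 18, 21, 12, 23, 1, 19, 8, 13, 14, 15, 16, 17, 6, 11, 20, 7, 3, 9] (mkP [0, 10, 2, 22, 5, 4, 18, 21, 12, 23, 1, 19, 8, 13, 14, 15, 16, 17, 6, 11, 20, 7, 3, 9] p) = p)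
  right_inv := (by decide +kernel : ∀ p, mkP [0, 10, 2, 22, 5, 4, 18, 21, 12, 23, 1, 19, 8, 13, 14, 15, 16, 17, 6, 11, 20, 7, 3, 9] (mkP [0, 10, 2, 22, 5, 4, 18, 21, 12, 23, 1, 19, 8, 13, 14, 15, 16, 17, 6, 11, 20, 7, 3, 9] p) = p)

theorem tB2_mem : Rel tB2 1 1 ∧ tB2 ∈ M24 := by
  have h : goodLift 378049347064980622885738128728590656 1 1 = true := by decide +kernel
  have e : ∀ p, mkP [0, 10, 2, 22, 5, 4, 18, 21, 12, 23, 1, 19, 8, 13, 14, 15, 16, 17, 6, 11, 20, 7, 3, 9] p = pt (img 378049347064980622885738128728590656 (idx p)) := by decide +kernel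
  rw [show tB2 = permOf 378049347064980622885738128728590656 from Equiv.ext fun p => (e p).trans (permOf_apply (goodLift_valid h) p).symm]
  exact goodLift_sound h

/-- An element fixing the octads and the seven sextets. -/
def tB3 : Equiv.Perm GolayPt where
  toFun := mkP [2, 1, 0, 22, 5, 4, 6, 21, 12, 9, 10, 11, 8, 14, 13, 20, 17, 16, 18, 19, 15, 7, 3, 23]
  invFun := mkP [2, 1, 0, 22, 5, 4, 6, 21, 12, 9, 10, 11, 8, 14, 13, 20, 17, 16, 18, 19, 15, 7, 3, 23]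
  left_inv := (by decide +kernel : ∀ p, mkP [2, 1, 0, 22, 5, 4, 6, 21, 12, 9, 10, 11, 8, 14, 13, 20, 17, 16, 18, 19, 15, 7, 3, 23] (mkP [2, 1, 0, 22, 5, 4, 6, 21, 12, 9, 10, 11, 8, 14, 13, 20, 17, 16, 18, 19, 15, 7, 3, 23] p) = p)
  right_inv := (by decide +kernel : ∀ p, mkP [2, 1, 0, 22, 5, 4, 6, 21, 12, 9, 10, 11, 8, 14, 13, 20, 17, 16, 18, 19, 15, 7, 3, 23] (mkP [2, 1, 0, 22, 5, 4, 6, 21, 12, 9, 10, 11, 8, 14, 13, 20, 17, 16, 18, 19, 15, 7, 3, 23] p) = p)

theorem tB3_mem : Rel tB3 1 1 ∧ tB3 ∈ M24 := by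
  have h : goodLift 959580588698521754890598747366686754 1 1 = true := by decide +kernel
  have e : ∀ p, mkP [2, 1, 0, 22, 5, 4, 6, 21, 12, 9, 10, 11, 8, 14, 13, 20, 17, 16, 18, 19, 15, 7, 3, 23] p = pt (img 959580588698521754890598747366686754 (idx p)) := by decide +kernel
  rw [show tB3 = permOf 959580588698521754890598747366686754 from Equiv.ext fun p => (e p).trans (permOf_apply (goodLift_valid h) p).symm]
  exact goodLift_sound h

/-- An element fixing the octads and the seven sextets. -/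
def tB4 : Equiv.Perm GolayPt where
  toFun := mkP [13, 1, 14, 8, 7, 21, 6, 4, 3, 9, 10, 11, 22, 0, 2, 17, 20, 15, 18, 19, 16, 5, 12, 23]
  invFun := mkP [13, 1, 14, 8, 7, 21, 6, 4, 3, 9, 10, 11, 22, 0, 2, 17, 20, 15, 18, 19, 16, 5, 12, 23]
  left_inv := (by decide +kernel : ∀ p, mkP [13, 1, 14, 8, 7, 21, 6, 4, 3, 9, 10, 11, 22, 0, 2, 17, 20, 15, 18, 19, 16, 5, 12, 23] (mkP [13, 1, 14, 8, 7, 21, 6, 4, 3, 9, 10, 11, 22, 0, 2, 17, 20, 15, 18, 19, 16, 5, 12, 23] p) = p)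
  right_inv := (by decide +kernel : ∀ p, mkP [13, 1, 14, 8, 7, 21, 6, 4, 3, 9, 10, 11, 22, 0, 2, 17, 20, 15, 18, 19, 16, 5, 12, 23] (mkP [13, 1, 14, 8, 7, 21, 6, 4, 3, 9, 10, 11, 22, 0, 2, 17, 20, 15, 18, 19, 16, 5, 12, 23] p) = p)

theorem tB4_mem : Rel tB4 1 1 ∧ tB4 ∈ M24 := by
  have h : goodLift 971183394607225066162313584209836077 1 1 = true := by decide +kernel
  have e : ∀ p, mkP [13, 1, 14, 8, 7, 21, 6, 4, 3, 9, 10, 11, 22, 0, 2, 17, 20, 15, 18, 19, 16, 5, 12, 23] p = pt (img 971183394607225066162313584209836077 (idx p)) := by decide +kernel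
  rw [show tB4 = permOf 971183394607225066162313584209836077 from Equiv.ext fun p => (e p).trans (permOf_apply (goodLift_valid h) p).symm]
  exact goodLift_sound h

/-- An element fixing the octads and the seven sextets. -/
def tB5 : Equiv.Perm GolayPt where
  toFun := mkP [15, 1, 20, 5, 22, 3, 6, 12, 21, 9, 10, 11, 7, 17, 16, 0, 14, 13, 18, 19, 2, 8, 4, 23]
  invFun := mkP [15, 1, 20, 5, 22, 3, 6, 12, 21, 9, 10, 11, 7, 17, 16, 0, 14, 13, 18, 19, 2, 8, 4, 23]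
  left_inv := (by decide +kernel : ∀ p, mkP [15, 1, 20, 5, 22, 3, 6, 12, 21, 9, 10, 11, 7, 17, 16, 0, 14, 13, 18, 19, 2, 8, 4, 23] (mkP [15, 1, 20, 5, 22, 3, 6, 12, 21, 9, 10, 11, 7, 17, 16, 0, 14, 13, 18, 19, 2, 8, 4, 23] p) = p)
  right_inv := (by decide +kernel : ∀ p, mkP [15, 1, 20, 5, 22, 3, 6, 12, 21, 9, 10, 11, 7, 17, 16, 0, 14, 13, 18, 19, 2, 8, 4, 23] (mkP [15, 1, 20, 5, 22, 3, 6, 12, 21, 9, 10, 11, 7, 17, 16, 0, 14, 13, 18, 19, 2, 8, 4, 23] p) = p)

theorem tB5_mem : Rel tB5 1 1 ∧ tB5 ∈ M24 := by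
  have h : goodLift 960902748154124214679667053514903599 1 1 = true := by decide +kernel
  have e : ∀ p, mkP [15, 1, 20, 5, 22, 3, 6, 12, 21, 9, 10, 11, 7, 17, 16, 0, 14, 13, 18, 19, 2, 8, 4, 23] p = pt (img 960902748154124214679667053514903599 (idx p)) := by decide +kernel
  rw [show tB5 = permOf 960902748154124214679667053514903599 from Equiv.ext fun p => (e p).trans (permOf_apply (goodLift_valid h) p).symm]
  exact goodLift_sound h

/-- Three of the basis involutions. -/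
def fA : Multiplicative (ZMod 2 × ZMod 2 × ZMod 2) →* Equiv.Perm GolayPt :=
  MonoidHom.mk' (fun x => tB0 ^ x.toAdd.1.val * tB1 ^ x.toAdd.2.1.val * tB2 ^ x.toAdd.2.2.val)
    (by decide +kernel)

/-- The other three. -/
def fB : Multiplicative (ZMod 2 × ZMod 2 × ZMod 2) →* Equiv.Perm GolayPt :=
  MonoidHom.mk' (fun x => tB3 ^ x.toAdd.1.val * tB4 ^ x.toAdd.2.1.val * tB5 ^ x.toAdd.2.2.val)
    (by decide +kernel)

theorem f_comm : ∀ a b, fA a * fB b = fB b * fA a := by decide +kernel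

theorem meet_trivial : ∀ a b, fA a * fB b = 1 → a = 1 ∧ b = 1 := by decide +kernel

/-- The elementary abelian group of order 64. -/
def fE : Multiplicative (ZMod 2 × ZMod 2 × ZMod 2) × Multiplicative (ZMod 2 × ZMod 2 × ZMod 2) →*
    Equiv.Perm GolayPt :=
  MonoidHom.noncommCoprod fA fB f_comm

theorem Rel.pow {g : Equiv.Perm GolayPt} (h : Rel g 1 1 ∧ g ∈ M24) (n : ℕ) :
    Rel (g ^ n) 1 1 ∧ g ^ n ∈ M24 := by
  refine ⟨?_, Subgroup.pow_mem _ h.2 n⟩
  induction n with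
  | zero => exact Rel.one
  | succ n ih =>
    rw [pow_succ]
    have h3 := Rel.mul (M := 1) (N := 1) (π := 1) (ρ := 1) ih h.1
    rwa [mul_one, mul_one] at h3

theorem Rel.mul11 {g k : Equiv.Perm GolayPt} (h : Rel g 1 1 ∧ g ∈ M24) (h' : Rel k 1 1 ∧ k ∈ M24) :
    Rel (g * k) 1 1 ∧ g * k ∈ M24 := by
  refine ⟨?_, Subgroup.mul_mem _ h.2 h'.2⟩
  have h3 := Rel.mul (M := 1) (N := 1) (π := 1) (ρ := 1) h.1 h'.1
  rwa [mul_one, mul_one] at h3

theorem fE_rel (v : Multiplicative (ZMod 2 × ZMod 2 × ZMod 2) × Multiplicative (ZMod 2 × ZMod 2 × ZMod 2)) :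
    Rel (fE v) 1 1 ∧ fE v ∈ M24 :=
  Rel.mul11 (Rel.mul11 (Rel.mul11 (Rel.pow tB0_mem _) (Rel.pow tB1_mem _)) (Rel.pow tB2_mem _))
    (Rel.mul11 (Rel.mul11 (Rel.pow tB3_mem _) (Rel.pow tB4_mem _)) (Rel.pow tB5_mem _))

/-- The standard trio. -/
def trio0 : Finset (Finset GolayPt) := sextSet TrioCert.T0

theorem mem_trio0 {t : Finset GolayPt} : t ∈ trio0 ↔ ∃ i, oct i = t := by
  simp [trio0, sextSet, TrioCert.T0, oct, Fin.exists_fin_succ, eq_comm]

theorem trio0_mem : trio0 ∈ trios := by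
  have : TrioCert.T0 ∈ CfsgLib.Mathieu.trioLit.map CfsgLib.Mathieu.trioList := by decide +kernel
  exact trios_listing.mem _ this

theorem Rel.mem_stab {g : M24} {M : Matrix (Fin 3) (Fin 3) (ZMod 2)} {π : Equiv.Perm (Fin 3)}
    (h : Rel g M π) : g ∈ stabilizer M24 trio0 := by
  refine mem_stabilizer_iff.2 (Finset.eq_of_subset_of_card_le (fun t ht => ?_)
    (by rw [Finset.card_smul_finset]))
  obtain ⟨u, hu, rfl⟩ := Finset.mem_smul_finset.1 ht
  obtain ⟨i, rfl⟩ := mem_trio0.1 hu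
  exact mem_trio0.2 ⟨_, (h.1 i).symm⟩

theorem card_stab : Nat.card (stabilizer M24 trio0) = 64512 := by
  have horb : orbit M24 trio0 = trios := by
    ext x
    exact ⟨by rintro ⟨g, rfl⟩; exact smul_trio g.2 trio0_mem, fun hx => trio_move hx⟩
  have h := (stabilizer M24 trio0).card_mul_index
  rw [index_stabilizer, horb, trios_ncard, card_M24] at h
  omega

theorem card_gl : Nat.card (GL (Fin 3) (ZMod 2)) = 168 := by
  rw [Matrix.card_GL_field]
  simp [Fin.prod_univ_succ, ZMod.card]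

theorem structure0 : ∃ φ : stabilizer M24 trio0 →* GL (Fin 3) (ZMod 2) × Equiv.Perm (Fin 3),
    Function.Surjective φ ∧
    (∀ (g : stabilizer M24 trio0) (i : Fin 3),
      ((g : M24) : Equiv.Perm GolayPt) • oct i = oct ((φ g).2 i)) ∧
    Nat.card φ.ker = 64 ∧ ∀ x ∈ φ.ker, x * x = 1 := by
  classical
  have hall : ∀ g : stabilizer M24 trio0, ∃ p : GL (Fin 3) (ZMod 2) × Equiv.Perm (Fin 3),
      Rel ((g : M24) : Equiv.Perm GolayPt) p.1 p.2 := by
    choose l hlM hlR using fun p : GL (Fin 3) (ZMod 2) × Equiv.Perm (Fin 3) => exists_lift p.1 p.2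
    have hR : ∀ x : (GL (Fin 3) (ZMod 2) × Equiv.Perm (Fin 3)) ×
        (Multiplicative (ZMod 2 × ZMod 2 × ZMod 2) × Multiplicative (ZMod 2 × ZMod 2 × ZMod 2)),
        Rel (l x.1 * fE x.2) x.1.1 x.1.2 := fun x => by
      have h3 := Rel.mul (N := 1) (hlR x.1) (fE_rel x.2).1
      rwa [mul_one, mul_one] at h3
    obtain ⟨F, hF⟩ : ∃ F : (GL (Fin 3) (ZMod 2) × Equiv.Perm (Fin 3)) ×
        (Multiplicative (ZMod 2 × ZMod 2 × ZMod 2) × Multiplicative (ZMod 2 × ZMod 2 × ZMod 2)) →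
        stabilizer M24 trio0, ∀ x, (((F x) : M24) : Equiv.Perm GolayPt) = l x.1 * fE x.2 :=
      ⟨fun x => ⟨⟨l x.1 * fE x.2, Subgroup.mul_mem _ (hlM x.1) (fE_rel x.2).2⟩, Rel.mem_stab (hR x)⟩,
        fun x => rfl⟩
    have hb : Function.Bijective F := by
      refine (Nat.bijective_iff_injective_and_card F).2 ⟨fun x y h => ?_, ?_⟩
      · have h' : l x.1 * fE x.2 = l y.1 * fE y.2 := by rw [← hF, h, hF]
        obtain ⟨e1, e2⟩ := Rel.unique (hR x) (h' ▸ hR y)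
        have e : x.1 = y.1 := Prod.ext e1 e2
        rw [e, mul_right_inj] at h'
        have h1 : fE (y.2⁻¹ * x.2) = 1 := by rw [map_mul, map_inv, h', inv_mul_cancel]
        obtain ⟨a, b⟩ := meet_trivial _ _ h1
        exact Prod.ext e (inv_mul_eq_one.1 (Prod.ext a b : y.2⁻¹ * x.2 = 1)).symm
      · rw [card_stab, Nat.card_prod, Nat.card_prod, card_gl, Nat.card_perm, Nat.card_prod,
          Nat.card_congr Multiplicative.toAdd]
        simp [Nat.card_prod, Nat.factorial]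
    intro g
    obtain ⟨x, rfl⟩ := hb.2 g
    exact ⟨x.1, by rw [hF]; exact hR x⟩
  choose f hf using hall
  let φ : stabilizer M24 trio0 →* GL (Fin 3) (ZMod 2) × Equiv.Perm (Fin 3) :=
    MonoidHom.mk' f fun a b => by
      obtain ⟨e1, e2⟩ := Rel.unique (hf (a * b)) (Rel.mul (hf a) (hf b))
      exact Prod.ext e1 e2
  have hsurj : Function.Surjective φ := fun p => by
    obtain ⟨g, hg, hgR⟩ := exists_lift p.1 p.2
    obtain ⟨e1, e2⟩ := Rel.unique (hf ⟨⟨g, hg⟩, Rel.mem_stab (g := ⟨g, hg⟩) hgR⟩) hgR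
    exact ⟨_, Prod.ext e1 e2⟩
  have hker : Nat.card φ.ker = 64 := by
    have h := φ.ker.card_mul_index
    rw [Subgroup.index_ker, MonoidHom.range_eq_top.2 hsurj, Subgroup.card_top, Nat.card_prod,
      card_gl, Nat.card_perm, card_stab, Nat.card_fin, show (3 : ℕ).factorial = 6 from rfl] at h
    omega
  refine ⟨φ, hsurj, fun g i => (hf g).1 i, hker, fun x hx => ?_⟩
  let ψ : Multiplicative (ZMod 2 × ZMod 2 × ZMod 2) × Multiplicative (ZMod 2 × ZMod 2 × ZMod 2) →*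
      stabilizer M24 trio0 :=
    { toFun := fun v => ⟨⟨fE v, (fE_rel v).2⟩, Rel.mem_stab (g := ⟨fE v, (fE_rel v).2⟩) (fE_rel v).1⟩
      map_one' := Subtype.ext (Subtype.ext (map_one fE))
      map_mul' := fun v w => Subtype.ext (Subtype.ext (map_mul fE v w)) }
  have hle : ∀ v, ψ v ∈ φ.ker := fun v => by
    obtain ⟨e1, e2⟩ := Rel.unique (N := 1) (hf (ψ v)) (fE_rel v).1
    exact MonoidHom.mem_ker.2 (Prod.ext e1 e2)
  have hb : Function.Bijective fun v => (⟨ψ v, hle v⟩ : φ.ker) := by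
    refine (Nat.bijective_iff_injective_and_card _).2 ⟨fun v w h => ?_, ?_⟩
    · have h' : fE v = fE w := congrArg (fun z : φ.ker => (((z : stabilizer M24 trio0) : M24) : Equiv.Perm GolayPt)) h
      have h1 : fE (w⁻¹ * v) = 1 := by rw [map_mul, map_inv, h', inv_mul_cancel]
      obtain ⟨a, b⟩ := meet_trivial _ _ h1
      exact (inv_mul_eq_one.1 (Prod.ext a b : w⁻¹ * v = 1)).symm
    · rw [hker, Nat.card_prod, Nat.card_congr Multiplicative.toAdd]
      simp [Nat.card_prod]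
  obtain ⟨v, hv⟩ := hb.2 ⟨x, hx⟩
  have e : v * v = 1 := by
    have e' : ∀ z : ZMod 2 × ZMod 2 × ZMod 2, z + z = 0 := by decide
    exact Prod.ext (congrArg Multiplicative.ofAdd (e' v.1.toAdd))
      (congrArg Multiplicative.ofAdd (e' v.2.toAdd))
  have hv' : ψ v = x := congrArg Subtype.val hv
  rw [← hv', ← map_mul, e, map_one]

theorem main {T : Finset (Finset GolayPt)} (hT : T ∈ trios) :
    (∀ e : Equiv.Perm ↥T, ∃ g ∈ stabilizer M24 T, ∀ o : ↥T,
      (g : Equiv.Perm GolayPt) • (o : Finset GolayPt) = ((e o : ↥T) : Finset GolayPt)) ∧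
    ∃ (N : Subgroup ↥(stabilizer M24 T)) (_ : N.Normal), Nat.card N = 64 ∧ (∀ x ∈ N, x * x = 1) ∧
      Nonempty (↥(stabilizer M24 T) ⧸ N ≃* GL (Fin 3) (ZMod 2) × Equiv.Perm (Fin 3)) := by
  classical
  obtain ⟨φ, hsurj, hoct, hker, hsq⟩ := structure0
  obtain ⟨c, hc⟩ : ∃ c : M24, c • trio0 = T := trio_move hT
  let ε : stabilizer M24 T ≃* stabilizer M24 trio0 :=
    { toFun := fun g => ⟨c⁻¹ * (g : M24) * c, by
        rw [mem_stabilizer_iff, mul_smul, mul_smul, hc, mem_stabilizer_iff.1 g.2, ← hc, inv_smul_smul]⟩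
      invFun := fun g => ⟨c * (g : M24) * c⁻¹, by
        rw [mem_stabilizer_iff, mul_smul, mul_smul, ← hc, inv_smul_smul, mem_stabilizer_iff.1 g.2]⟩
      left_inv := fun g => Subtype.ext (by show c * (c⁻¹ * (g : M24) * c) * c⁻¹ = g; group)
      right_inv := fun g => Subtype.ext (by show c⁻¹ * (c * (g : M24) * c⁻¹) * c = g; group)
      map_mul' := fun a b => Subtype.ext (by
        show c⁻¹ * ((a : M24) * (b : M24)) * c = c⁻¹ * (a : M24) * c * (c⁻¹ * (b : M24) * c); group) }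
  refine ⟨fun e => ?_, (φ.comp ε.toMonoidHom).ker, inferInstance, ?_, fun x hx => ?_,
    ⟨QuotientGroup.quotientKerEquivOfSurjective _ (hsurj.comp ε.surjective)⟩⟩
  · have hmem : ∀ t, t ∈ T ↔ ∃ i, c • oct i = t := fun t => by
      rw [← hc, Finset.mem_smul_finset]
      simp only [mem_trio0]
      exact ⟨fun ⟨u, ⟨i, hi⟩, e⟩ => ⟨i, by rw [hi, e]⟩, fun ⟨i, e⟩ => ⟨_, ⟨i, rfl⟩, e⟩⟩
    let χ : Fin 3 ≃ ↥T := Equiv.ofBijective (fun i => ⟨c • oct i, (hmem _).2 ⟨i, rfl⟩⟩)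
      ⟨fun i j h => oct_injective (smul_left_cancel c (congrArg Subtype.val h)),
        fun t => by obtain ⟨i, hi⟩ := (hmem t.1).1 t.2; exact ⟨i, Subtype.ext hi⟩⟩
    obtain ⟨g, hg⟩ := hsurj (1, χ.trans (e.trans χ.symm))
    refine ⟨(ε.symm g : M24), (ε.symm g).2, fun o => ?_⟩
    obtain ⟨i, rfl⟩ := χ.surjective o
    show (c * (g : M24) * c⁻¹) • c • oct i = _
    rw [mul_smul, mul_smul, inv_smul_smul,
      show (g : M24) • oct i = oct ((φ g).2 i) from hoct g i, hg]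
    exact congrArg Subtype.val (χ.apply_symm_apply (e (χ i)))
  · rw [← hker]
    exact Nat.card_congr
      { toFun := fun x => ⟨ε x.1, x.2⟩
        invFun := fun y => ⟨ε.symm y.1, by
          rw [MonoidHom.mem_ker, MonoidHom.comp_apply, MulEquiv.coe_toMonoidHom, ε.apply_symm_apply]
          exact y.2⟩
        left_inv := fun x => Subtype.ext (ε.symm_apply_apply _)
        right_inv := fun y => Subtype.ext (ε.apply_symm_apply _) }
  · apply ε.injective
    rw [map_mul, map_one]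
    exact hsq _ hx

end CfsgLib.Perm.Trio
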