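import Mathlib.LinearAlgebra.Matrix.GeneralLinearGroup.Defs
import Mathlib.LinearAlgebra.Matrix.Notation
import Mathlib.GroupTheory.OrderOfElement
import Mathlib.SetTheory.Cardinal.Finite
import Mathlib.Algebra.Field.ZMod
import Mathlib.Tactic.LinearCombination
import Mathlib.Tactic.FinCases
import Mathlib.Tactic.NormNum.Prime

/-!
Finite groups of two by two matrices given by a closed list of quadruples.
-/

set_option autoImplicit false

namespace CfsgLib.Perm

variable {p : ℕ}

abbrev Quad (p : ℕ) := ZMod p × ZMod p × ZMod p × ZMod p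

def quadMat (t : Quad p) : Matrix (Fin 2) (Fin 2) (ZMod p) := !![t.1, t.2.1; t.2.2.1, t.2.2.2]

def quadMul (s t : Quad p) : Quad p :=
  (s.1 * t.1 + s.2.1 * t.2.2.1, s.1 * t.2.1 + s.2.1 * t.2.2.2,
    s.2.2.1 * t.1 + s.2.2.2 * t.2.2.1, s.2.2.1 * t.2.1 + s.2.2.2 * t.2.2.2)

theorem quadMat_mul (s t : Quad p) : quadMat s * quadMat t = quadMat (quadMul s t) := by
  simp [quadMat, quadMul, Matrix.mul_fin_two]

theorem quadMat_one : quadMat ((1, 0, 0, 1) : Quad p) = 1 := by
  simp [quadMat, Matrix.one_fin_two]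

theorem quadMat_injective : Function.Injective (quadMat : Quad p → _) := by
  intro s t h
  refine Prod.ext (congrFun₂ h 0 0) (Prod.ext (congrFun₂ h 0 1) (Prod.ext (congrFun₂ h 1 0) (congrFun₂ h 1 1)))

/-- A quadruple whose difference with the identity is invertible fixes only the zero vector. -/
theorem quad_fixed_eq_zero [Fact p.Prime] {t : Quad p}
    (h : (t.1 - 1) * (t.2.2.2 - 1) - t.2.1 * t.2.2.1 ≠ 0) {v : Fin 2 → ZMod p}
    (hv : Matrix.mulVec (quadMat t) v = v) : v = 0 := by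
  have h0 := congrFun hv 0
  have h1 := congrFun hv 1
  simp [quadMat, Matrix.mulVec, dotProduct, Fin.sum_univ_two] at h0 h1
  funext i
  fin_cases i
  · have : ((t.1 - 1) * (t.2.2.2 - 1) - t.2.1 * t.2.2.1) * v 0 = 0 := by
      linear_combination (t.2.2.2 - 1) * h0 - t.2.1 * h1
    simpa [h] using this
  · have : ((t.1 - 1) * (t.2.2.2 - 1) - t.2.1 * t.2.2.1) * v 1 = 0 := by
      linear_combination (t.1 - 1) * h1 - t.2.2.1 * h0
    simpa [h] using this

/-- Quadruples of natural numbers. -/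
abbrev NQuad := ℕ × ℕ × ℕ × ℕ

def nqMul (p : ℕ) : NQuad → NQuad → NQuad
  | (a, b, c, d), (a', b', c', d') =>
    ((a * a' + b * c') % p, (a * b' + b * d') % p, (c * a' + d * c') % p, (c * b' + d * d') % p)

def nqBeq : NQuad → NQuad → Bool
  | (a, b, c, d), (a', b', c', d') => Nat.beq a a' && (Nat.beq b b' && (Nat.beq c c' && Nat.beq d d'))

def nqMem (x : NQuad) (L : List NQuad) : Bool := L.any (nqBeq x)

/-- Every entry is the identity or a later entry times a generator. -/
def nqChain (p : ℕ) (gens : List NQuad) : List NQuad → Bool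
  | [] => true
  | x :: l => (nqBeq x (1, 0, 0, 1) || l.any fun y => gens.any fun t => nqBeq x (nqMul p y t))
      && nqChain p gens l

def nqClosed (p : ℕ) (gens L : List NQuad) : Bool :=
  L.all fun x => gens.all fun t => nqMem (nqMul p x t) L

def nqSmall (p : ℕ) : List NQuad → Bool :=
  fun L => L.all fun x =>
    match x with
    | (a, b, c, d) => Nat.blt a p && (Nat.blt b p && (Nat.blt c p && Nat.blt d p))

def nqDistinct : List NQuad → Bool
  | [] => true
  | x :: l => !(nqMem x l) && nqDistinct l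

def nqFree (p : ℕ) : List NQuad → Bool :=
  fun L => L.all fun x =>
    match x with
    | (a, b, c, d) => nqBeq (a, b, c, d) (1, 0, 0, 1) ||
        !(Nat.beq (((a + (p - 1)) * (d + (p - 1)) + (p - 1) * (b * c)) % p) 0)

/-- All the checks on the list at once. -/
def nqCheck (p : ℕ) (gens L : List NQuad) : Bool :=
  nqMem (1, 0, 0, 1) L && (nqChain p gens L && (nqClosed p gens L && (nqSmall p L && (nqDistinct L && nqFree p L))))

def nqCast (p : ℕ) (t : NQuad) : Quad p := (t.1, t.2.1, t.2.2.1, t.2.2.2)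

theorem nqBeq_iff (x y : NQuad) : nqBeq x y = true ↔ x = y := by
  obtain ⟨a, b, c, d⟩ := x
  obtain ⟨a', b', c', d'⟩ := y
  simp [nqBeq, Nat.beq_eq]

theorem nqMem_iff (x : NQuad) (L : List NQuad) : nqMem x L = true ↔ x ∈ L := by
  simp [nqMem, nqBeq_iff, List.any_eq_true]

theorem nqCast_mul (p : ℕ) (x y : NQuad) : nqCast p (nqMul p x y) = quadMul (nqCast p x) (nqCast p y) := by
  obtain ⟨a, b, c, d⟩ := x
  obtain ⟨a', b', c', d'⟩ := y
  simp [nqMul, nqCast, quadMul]

theorem nqDistinct_nodup : ∀ L : List NQuad, nqDistinct L = true → L.Nodup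
  | [], _ => List.nodup_nil
  | x :: l, h => by
    rw [nqDistinct, Bool.and_eq_true] at h
    refine List.nodup_cons.mpr ⟨fun hx => ?_, nqDistinct_nodup l h.2⟩
    rw [(nqMem_iff x l).mpr hx] at h
    exact Bool.false_ne_true h.1

/-- The elements of a checked list are exactly the elements of the generated subgroup, and
all but the identity fix only the zero vector. -/
theorem closure_of_nqCheck [Fact p.Prime] (S : Set (Matrix.GeneralLinearGroup (Fin 2) (ZMod p)))
    (gens L : List NQuad) (hcheck : nqCheck p gens L = true)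
    (hS : ∀ g ∈ S, ∃ t ∈ gens, (g : Matrix (Fin 2) (Fin 2) (ZMod p)) = quadMat (nqCast p t))
    (hgens : ∀ t ∈ gens, ∃ g ∈ S, (g : Matrix (Fin 2) (Fin 2) (ZMod p)) = quadMat (nqCast p t)) :
    Nat.card (Subgroup.closure S) = L.length ∧
      ∀ g ∈ Subgroup.closure S, ∀ v : Fin 2 → ZMod p, v ≠ 0 →
        Matrix.mulVec (g : Matrix (Fin 2) (Fin 2) (ZMod p)) v = v → g = 1 := by
  simp only [nqCheck, Bool.and_eq_true] at hcheck
  obtain ⟨hone, hchain, hclosed, hsmall, hdist, hfree⟩ := hcheck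
  rw [nqMem_iff] at hone
  have hp1 : nqCast p (1, 0, 0, 1) = (1, 0, 0, 1) := by simp [nqCast]
  have hmem : ∀ l : List NQuad, nqChain p gens l = true → ∀ t ∈ l,
      ∃ g ∈ Subgroup.closure S, (g : Matrix (Fin 2) (Fin 2) (ZMod p)) = quadMat (nqCast p t) := by
    intro l
    induction l with
    | nil => intro _ t ht; exact absurd ht List.not_mem_nil
    | cons x l IH =>
      intro hl t ht
      rw [nqChain, Bool.and_eq_true, Bool.or_eq_true, nqBeq_iff, List.any_eq_true] at hl
      rcases List.mem_cons.mp ht with rfl | ht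
      · rcases hl.1 with rfl | ⟨y, hy, hy'⟩
        · exact ⟨1, one_mem _, by rw [hp1, quadMat_one, Units.val_one]⟩
        · obtain ⟨u, hu, hu'⟩ := List.any_eq_true.mp hy'
          obtain ⟨g, hg, hge⟩ := IH hl.2 y hy
          obtain ⟨s, hs, hse⟩ := hgens u hu
          exact ⟨g * s, mul_mem hg (Subgroup.subset_closure hs),
            by rw [Units.val_mul, hge, hse, quadMat_mul, ← nqCast_mul, ← (nqBeq_iff _ _).mp hu']⟩
      · exact IH hl.2 t ht
  let M : Submonoid (Matrix.GeneralLinearGroup (Fin 2) (ZMod p)) :=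
    { carrier := {g | ∀ x ∈ L, ∃ y ∈ L, quadMat (nqCast p x) * (g : Matrix (Fin 2) (Fin 2) (ZMod p)) = quadMat (nqCast p y)}
      one_mem' := fun x hx => ⟨x, hx, by rw [Units.val_one, mul_one]⟩
      mul_mem' := fun {g h} hg hh x hx => by
        obtain ⟨y, hy, hy'⟩ := hg x hx
        obtain ⟨z, hz, hz'⟩ := hh y hy
        exact ⟨z, hz, by rw [Units.val_mul, ← mul_assoc, hy', hz']⟩ }
  have hle : ∀ g ∈ Subgroup.closure S, g ∈ M := by
    intro g hg
    induction hg using Subgroup.closure_induction with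
    | mem g hg =>
      intro x hx
      obtain ⟨t, ht, hgt⟩ := hS g hg
      simp only [nqClosed, List.all_eq_true, nqMem_iff] at hclosed
      exact ⟨_, hclosed x hx t ht, by rw [hgt, quadMat_mul, nqCast_mul]⟩
    | one => exact M.one_mem
    | mul g h _ _ hg hh => exact M.mul_mem hg hh
    | inv g _ hg =>
      have h1 : g ^ (orderOf g - 1) * g = 1 := by
        rw [← pow_succ, Nat.sub_add_cancel (orderOf_pos g), pow_orderOf_eq_one]
      rw [← eq_inv_of_mul_eq_one_left h1]
      exact pow_mem hg _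
  have hall : ∀ g ∈ Subgroup.closure S, ∃ t ∈ L, (g : Matrix (Fin 2) (Fin 2) (ZMod p)) = quadMat (nqCast p t) := by
    intro g hg
    obtain ⟨y, hy, hy'⟩ := hle g hg _ hone
    exact ⟨y, hy, by rwa [hp1, quadMat_one, one_mul] at hy'⟩
  have hlt : ∀ t ∈ L, t.1 < p ∧ t.2.1 < p ∧ t.2.2.1 < p ∧ t.2.2.2 < p := by
    simp only [nqSmall, List.all_eq_true] at hsmall
    rintro ⟨a, b, c, d⟩ ht
    simpa [Nat.blt_eq] using hsmall _ ht
  refine ⟨?_, ?_⟩
  · classical
    choose f hf1 hf2 using hall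
    rw [← List.toFinset_card_of_nodup (nqDistinct_nodup L hdist), ← Nat.card_eq_finsetCard]
    refine Nat.card_congr (Equiv.ofBijective (fun g => ⟨f g.1 g.2, List.mem_toFinset.mpr (hf1 g.1 g.2)⟩) ⟨?_, ?_⟩)
    · intro g h e
      have e' : f g.1 g.2 = f h.1 h.2 := congrArg Subtype.val e
      exact Subtype.ext (Units.ext (by rw [hf2 g.1 g.2, hf2 h.1 h.2, e']))
    · rintro ⟨t, ht⟩
      have ht' := List.mem_toFinset.mp ht
      obtain ⟨g, hg, hgt⟩ := hmem L hchain t ht'
      have e := quadMat_injective ((hf2 g hg).symm.trans hgt)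
      obtain ⟨l1, l2, l3, l4⟩ := hlt t ht'
      obtain ⟨m1, m2, m3, m4⟩ := hlt _ (hf1 g hg)
      simp only [nqCast, Prod.mk.injEq] at e
      refine ⟨⟨g, hg⟩, Subtype.ext (Prod.ext ?_ (Prod.ext ?_ (Prod.ext ?_ ?_)))⟩
      · rw [← ZMod.val_natCast_of_lt l1, ← ZMod.val_natCast_of_lt m1, e.1]
      · rw [← ZMod.val_natCast_of_lt l2, ← ZMod.val_natCast_of_lt m2, e.2.1]
      · rw [← ZMod.val_natCast_of_lt l3, ← ZMod.val_natCast_of_lt m3, e.2.2.1]
      · rw [← ZMod.val_natCast_of_lt l4, ← ZMod.val_natCast_of_lt m4, e.2.2.2]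
  · intro g hg v hv hfix
    obtain ⟨⟨a, b, c, d⟩, ht, hgt⟩ := hall g hg
    simp only [nqFree, List.all_eq_true] at hfree
    have h := hfree _ ht
    rw [Bool.or_eq_true, nqBeq_iff] at h
    rcases h with h | h
    · exact Units.ext (by rw [hgt, h, hp1, quadMat_one, Units.val_one])
    · refine absurd (quad_fixed_eq_zero (t := nqCast p (a, b, c, d)) ?_ (hgt ▸ hfix)) hv
      intro h0
      have h1 : (((a + (p - 1)) * (d + (p - 1)) + (p - 1) * (b * c) : ℕ) : ZMod p) = 0 := by
        rw [← h0]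
        push_cast [Nat.cast_sub (Fact.out : p.Prime).one_le, ZMod.natCast_self]
        simp only [nqCast]
        ring
      rw [ZMod.natCast_eq_zero_iff, Nat.dvd_iff_mod_eq_zero] at h1
      simp [Nat.beq_eq, h1] at h

/-- A free group of order `p ^ 2 - 1` is regular on nonzero vectors. -/
theorem existsUnique_mulVec_of_free [Fact p.Prime] (H : Subgroup (Matrix.GeneralLinearGroup (Fin 2) (ZMod p)))
    (hcard : Nat.card H = p ^ 2 - 1)
    (hfree : ∀ g ∈ H, ∀ v : Fin 2 → ZMod p, v ≠ 0 →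
      Matrix.mulVec (g : Matrix (Fin 2) (Fin 2) (ZMod p)) v = v → g = 1)
    (v w : Fin 2 → ZMod p) (hv : v ≠ 0) (hw : w ≠ 0) :
    ∃! h : H, Matrix.mulVec ((h : Matrix.GeneralLinearGroup (Fin 2) (ZMod p)) : Matrix (Fin 2) (Fin 2) (ZMod p)) v = w := by
  classical
  let F : H → {u : Fin 2 → ZMod p // u ≠ 0} := fun h =>
    ⟨Matrix.mulVec ((h : Matrix.GeneralLinearGroup (Fin 2) (ZMod p)) : Matrix (Fin 2) (Fin 2) (ZMod p)) v, fun e => hv (by
      have h1 := congrArg (Matrix.mulVec (((h : Matrix.GeneralLinearGroup (Fin 2) (ZMod p))⁻¹ : Matrix.GeneralLinearGroup (Fin 2) (ZMod p)) : Matrix (Fin 2) (Fin 2) (ZMod p))) e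
      rwa [Matrix.mulVec_mulVec, ← Units.val_mul, inv_mul_cancel, Units.val_one, Matrix.one_mulVec, Matrix.mulVec_zero] at h1)⟩
  have hinj : Function.Injective F := by
    intro g h e
    have e' : Matrix.mulVec ((g : Matrix.GeneralLinearGroup (Fin 2) (ZMod p)) : Matrix (Fin 2) (Fin 2) (ZMod p)) v =
        Matrix.mulVec ((h : Matrix.GeneralLinearGroup (Fin 2) (ZMod p)) : Matrix (Fin 2) (Fin 2) (ZMod p)) v := congrArg Subtype.val e
    have h1 := hfree _ (mul_mem (inv_mem h.2) g.2) v hv (by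
      rw [Units.val_mul, ← Matrix.mulVec_mulVec, e', Matrix.mulVec_mulVec, ← Units.val_mul, inv_mul_cancel, Units.val_one, Matrix.one_mulVec])
    exact Subtype.ext (inv_mul_eq_one.mp h1).symm
  have hbij : Function.Bijective F := hinj.bijective_of_nat_card_le (by
    rw [hcard, Nat.card_eq_fintype_card, Fintype.card_subtype_compl, Fintype.card_subtype_eq]
    simp [ZMod.card])
  obtain ⟨h, hh⟩ := hbij.2 ⟨w, hw⟩
  exact ⟨h, congrArg Subtype.val hh, fun g hg => hinj ((Subtype.ext hg).trans hh.symm)⟩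

end CfsgLib.Perm
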