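import Cfsg.Agent.Lib.Perm.SemiregularModule
import Cfsg.Agent.Lib.Perm.SquarefreeClasses
import Cfsg.Agent.Lib.StructC.SylowClassCover
import Cfsg.Agent.Lib.StructB.Misc

/-!
A normal subgroup containing a noncentral Sylow subgroup, with at most two class sizes, is nilpotent.
-/

set_option autoImplicit false

namespace CfsgLib.Perm.TwoIndexNormal

open Subgroup CfsgLib.Perm.CountingComplement
open scoped commutatorElement

universe u

variable {G : Type u} [Group G] [Finite G]

/-- All noncentral elements of `N` have class size `m`. -/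
def TwoIndex (N : Subgroup G) (m : ℕ) : Prop :=
  ∀ x ∈ N, x ∉ center G → (centralizer ({x} : Set G)).index = m

variable {N : Subgroup G} {m : ℕ}

omit [Finite G] in
theorem cent_zpowers_le {x y : G} (h : x ∈ zpowers y) :
    centralizer ({y} : Set G) ≤ centralizer ({x} : Set G) := fun c hc => by
  rw [mem_centralizer_singleton_iff] at hc ⊢
  obtain ⟨j, rfl⟩ := mem_zpowers_iff.1 h
  exact (show Commute c y from hc).zpow_right j

omit [Finite G] in
theorem not_central_of_cent_le {x y : G} (h : centralizer ({y} : Set G) ≤ centralizer ({x} : Set G))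
    (hx : x ∉ center G) : y ∉ center G := fun hy => hx <| mem_center_iff.2 fun g =>
  mem_centralizer_singleton_iff.1 (h (mem_centralizer_singleton_iff.2 (mem_center_iff.1 hy g)))

theorem card_cent (h : TwoIndex N m) {x y : G} (hx : x ∈ N) (hxc : x ∉ center G) (hy : y ∈ N)
    (hyc : y ∉ center G) :
    Nat.card (centralizer ({x} : Set G)) = Nat.card (centralizer ({y} : Set G)) := by
  have h1 := (centralizer ({x} : Set G)).card_mul_index
  rw [← (centralizer ({y} : Set G)).card_mul_index, h x hx hxc, h y hy hyc] at h1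
  exact mul_right_cancel₀ (h x hx hxc ▸ index_ne_zero_of_finite) h1

theorem cent_eq_of_le (h : TwoIndex N m) {x y : G} (hx : x ∈ N) (hy : y ∈ N) (hxc : x ∉ center G)
    (hle : centralizer ({y} : Set G) ≤ centralizer ({x} : Set G)) :
    centralizer ({y} : Set G) = centralizer ({x} : Set G) :=
  eq_of_le_of_card_ge hle (card_cent h hx hxc hy (not_central_of_cent_le hle hxc)).le

omit [Finite G] in
theorem mem_zpowers_mul {x y : G} (hxy : Commute x y) (hcop : (orderOf x).Coprime (orderOf y)) :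
    x ∈ zpowers (x * y) := by
  obtain ⟨j, hj⟩ := exists_pow_eq_self_of_coprime hcop.symm
  have : x ^ orderOf y = (x * y) ^ orderOf y := by rw [hxy.mul_pow, pow_orderOf_eq_one, mul_one]
  have h1 : (x ^ orderOf y) ^ j ∈ zpowers (x * y) := this ▸ pow_mem (pow_mem (mem_zpowers _) _) _
  rwa [hj] at h1

/-- Commuting noncentral elements of coprime orders have the same centraliser. -/
theorem cent_eq_of_coprime (h : TwoIndex N m) {x y : G} (hx : x ∈ N) (hy : y ∈ N)
    (hxc : x ∉ center G) (hyc : y ∉ center G) (hxy : Commute x y)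
    (hcop : (orderOf x).Coprime (orderOf y)) :
    centralizer ({x} : Set G) = centralizer ({y} : Set G) := by
  have h1 := cent_eq_of_le h hx (mul_mem hx hy) hxc (cent_zpowers_le (mem_zpowers_mul hxy hcop))
  have h2 := cent_eq_of_le h hy (mul_mem hy hx) hyc
    (cent_zpowers_le (mem_zpowers_mul hxy.symm hcop.symm))
  rw [← h1, hxy.eq, h2]

/-- A noncentral element has a noncentral power of prime power order. -/
theorem exists_primary {w : G} (hw : w ∉ center G) :
    ∃ v ∈ zpowers w, v ∉ center G ∧ ∃ s i : ℕ, s.Prime ∧ orderOf v = s ^ i := by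
  by_contra hcon
  exact hw (CfsgLib.StructC.ClassCoprime.mem_of_primary fun k s hs ⟨i, hi⟩ => by
    by_contra hk
    exact hcon ⟨w ^ k, pow_mem (mem_zpowers w) k, hk, s, i, hs, hi⟩)

/-- A prime not dividing `m` with a noncentral element of `N` makes `N` abelian. -/
theorem commute_of_not_dvd [N.Normal] (h : TwoIndex N m) {p : ℕ} [hp : Fact p.Prime]
    (hpm : ¬ p ∣ m) {k : G} (hk : k ∈ N) (hkc : k ∉ center G) {e : ℕ} (hke : k ^ p ^ e = 1) :
    ∀ x ∈ N, ∀ y ∈ N, Commute x y := by
  obtain ⟨P⟩ := (inferInstance : Nonempty (Sylow p N))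
  obtain ⟨S, hS⟩ := (P.isPGroup'.map N.subtype).exists_le_sylow
  obtain ⟨Q, hQ⟩ : ∃ Q, Q = (P : Subgroup N).map N.subtype := ⟨_, rfl⟩
  rw [← hQ] at hS
  have hfr : normalizer (Q : Set G) ⊔ N = ⊤ := hQ ▸ Sylow.normalizer_sup_eq_top P
  have hcov : (centralizer (Q : Set G)).subgroupOf N = ⊤ := by
    refine CfsgLib.StructB.eq_top_of_conj_cover _ fun w => ?_
    have hdvd : ¬ p ∣ (centralizer ({(w : G)} : Set G)).index := by
      by_cases hwc : (w : G) ∈ center G
      · rw [show (centralizer ({(w : G)} : Set G)).index = 1 from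
          CfsgLib.StructC.ClassCoprime.cs_eq_one_iff.2 hwc]
        exact hp.out.not_dvd_one
      · rw [h w w.2 hwc]; exact hpm
    obtain ⟨c, hc⟩ := CfsgLib.StructC.SylowClassCover.exists_conj_mem_cent S hdvd
    obtain ⟨u, hu, n, hn, hun⟩ := mem_sup_of_normal_right.1 (hfr ▸ mem_top c : c ∈ normalizer (Q : Set G) ⊔ N)
    refine ⟨⟨n, hn⟩, mem_centralizer_iff.2 fun q hq => ?_⟩
    show q * (n * w * n⁻¹) = n * w * n⁻¹ * q
    have hq' : u * q * u⁻¹ ∈ (S : Subgroup G) := hS ((mem_normalizer_iff.1 hu q).1 hq)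
    have h1 := mem_centralizer_iff.1 hc _ hq'
    calc q * (n * w * n⁻¹) = u⁻¹ * (u * q * u⁻¹ * (u * n * w * (u * n)⁻¹)) * u := by group
      _ = u⁻¹ * (u * n * w * (u * n)⁻¹ * (u * q * u⁻¹)) * u := by rw [hun, h1]
      _ = n * w * n⁻¹ * q := by group
  have hPc : ∀ x : N, x ∈ centralizer ((P : Subgroup N) : Set N) := fun x =>
    mem_centralizer_iff.2 fun q hq => by
      have hx : (x : G) ∈ centralizer (Q : Set G) := by
        have : x ∈ (centralizer (Q : Set G)).subgroupOf N := hcov ▸ mem_top x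
        exact mem_subgroupOf.1 this
      exact Subtype.ext (mem_centralizer_iff.1 hx q (hQ ▸ ⟨q, hq, rfl⟩))
  have hpel : ∀ x : N, ∀ i : ℕ, (x : G) ^ p ^ i = 1 → ∀ y : N, Commute x y := fun x i hx y => by
    have : x ∈ (P : Subgroup N) := mem_sylow_of_normalizer (k := i) P (Subtype.ext (by simpa using hx))
      (centralizer_le_normalizer _ (hPc x))
    exact mem_centralizer_iff.1 (hPc y) x this
  have hkN : ∀ y : N, Commute k (y : G) := fun y => congrArg Subtype.val (hpel ⟨k, hk⟩ e hke y).eq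
  intro x hx y hy
  obtain ⟨a, b, i, hab, ha, hb, hac, hbi⟩ := exists_parts p x
  have hbN : b ∈ N := zpowers_le.2 hx hb
  have haN : a ∈ N := zpowers_le.2 hx ha
  rw [hab]
  refine Commute.mul_left ?_ (congrArg Subtype.val (hpel ⟨b, hbN⟩ i hbi ⟨y, hy⟩).eq)
  by_cases hca : a ∈ center G
  · exact (mem_center_iff.1 hca y).symm
  · have heq := cent_eq_of_coprime h haN hk hca hkc (hkN ⟨a, haN⟩).symm
      ((hac.pow_right e).coprime_dvd_right (orderOf_dvd_of_pow_eq_one hke))
    have : y ∈ centralizer ({a} : Set G) := by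
      rw [heq, mem_centralizer_singleton_iff]; exact (hkN ⟨y, hy⟩).symm
    exact (mem_centralizer_singleton_iff.1 this).symm

/-- Some `s`-element normalises `C(e)` without centralising `e`. -/
theorem exists_mover [N.Normal] (h : TwoIndex N m) {s : ℕ} [hs : Fact s.Prime] (hsm : s ∣ m)
    {e : G} (he : e ∈ N) (hec : e ∉ center G) {j : ℕ} (hej : e ^ s ^ j = 1)
    (hself : ∀ w ∈ centralizer ({e} : Set G), w ∈ N → w ∉ center G →
      centralizer ({w} : Set G) = centralizer ({e} : Set G)) :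
    ∃ g ∈ normalizer ((centralizer ({e} : Set G) : Subgroup G) : Set G),
      g ∉ centralizer ({e} : Set G) ∧ ∃ i : ℕ, g ^ s ^ i = 1 := by
  obtain ⟨C, hC⟩ : ∃ C, C = centralizer ({e} : Set G) := ⟨_, rfl⟩
  rw [← hC] at hself ⊢
  obtain ⟨P⟩ := (inferInstance : Nonempty (Sylow s C))
  obtain ⟨S, hS⟩ := (P.isPGroup'.map C.subtype).exists_le_sylow
  have hlt : (P : Subgroup C).map C.subtype < S := by
    refine lt_of_le_of_ne hS fun heq => ?_
    have h1 : Nat.card ↥((P : Subgroup C).map C.subtype) = Nat.card ↥(S : Subgroup G) := by rw [heq]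
    rw [card_map_of_injective C.subtype_injective, P.card_eq_multiplicity, S.card_eq_multiplicity,
      ← C.card_mul_index, Nat.factorization_mul Nat.card_pos.ne' index_ne_zero_of_finite,
      Finsupp.add_apply] at h1
    have h2 := Nat.pow_right_injective hs.out.two_le h1
    have h3 : 0 < C.index.factorization s := by
      refine hs.out.factorization_pos_of_dvd index_ne_zero_of_finite ?_
      rw [hC, h e he hec]; exact hsm
    omega
  obtain ⟨g, hgS, hgN, hgP⟩ := CfsgLib.Transfer.exists_mem_normalizer_not_mem S.isPGroup' hlt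
  have hgC : g ∉ C := fun hg => by
    have h1 : (S : Subgroup G).comap C.subtype = P :=
      P.is_maximal' (S.isPGroup'.comap_of_injective _ C.subtype_injective) fun x hx => hS ⟨x, hx, rfl⟩
    exact hgP ⟨⟨g, hg⟩, h1 ▸ (show g ∈ (S : Subgroup G) from hgS), rfl⟩
  have heC : e ∈ C := hC ▸ mem_centralizer_singleton_iff.2 rfl
  have heP : (⟨e, heC⟩ : C) ∈ (P : Subgroup C) :=
    mem_sylow_of_normalizer (k := j) P (Subtype.ext (by simpa using hej))
      (centralizer_le_normalizer _ (mem_centralizer_iff.2 fun q _ => Subtype.ext (by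
        show (q : G) * e = e * q
        exact mem_centralizer_singleton_iff.1 (hC ▸ q.2))))
  have he' : g * e * g⁻¹ ∈ C :=
    map_subtype_le _ ((mem_normalizer_iff.1 hgN e).1 ⟨⟨e, heC⟩, heP, rfl⟩)
  have hec' : g * e * g⁻¹ ∉ center G := fun hh => hec (by
    have h1 := (inferInstance : (center G).Normal).conj_mem _ hh g⁻¹
    simpa [mul_assoc] using h1)
  have heq := hself _ he' ((inferInstance : N.Normal).conj_mem e he g) hec'
  refine ⟨g, mem_normalizer_iff.2 fun c => ?_, hgC, ?_⟩
  · conv_rhs => rw [← heq]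
    rw [hC, mem_centralizer_singleton_iff, mem_centralizer_singleton_iff]
    constructor
    · intro hce
      calc g * c * g⁻¹ * (g * e * g⁻¹) = g * (c * e) * g⁻¹ := by group
        _ = g * e * g⁻¹ * (g * c * g⁻¹) := by rw [hce]; group
    · intro hce
      calc c * e = g⁻¹ * (g * c * g⁻¹ * (g * e * g⁻¹)) * g := by group
        _ = e * c := by rw [hce]; group
  · obtain ⟨i, hi⟩ := S.isPGroup' ⟨g, hgS⟩
    exact ⟨i, congrArg Subtype.val hi⟩

/-- **Main theorem.** -/
theorem isNilpotent (r : ℕ) [hr : Fact r.Prime] (R : Sylow r G)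
    (hR : ¬ (R : Subgroup G) ≤ center G) [N.Normal] (hRN : (R : Subgroup G) ≤ N)
    (h : TwoIndex N m) : Group.IsNilpotent N := by
  by_cases hab : ∀ x ∈ N, ∀ y ∈ N, Commute x y
  · exact CfsgLib.Perm.SquarefreeClasses.isNilpotent_of_commutator_central fun x y => by
      rw [show ⁅x, y⁆ = 1 from commutatorElement_eq_one_iff_mul_comm.2
        (Subtype.ext (hab x x.2 y y.2).eq)]
      exact one_mem _
  by_cases hcen : ∀ a ∈ N, (orderOf a).Coprime r → a ∈ center G
  · apply Group.of_quotient_center_nilpotent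
    refine IsPGroup.isNilpotent (p := r) fun x => ?_
    induction x using QuotientGroup.induction_on with
    | _ n =>
      obtain ⟨a, b, i, hab', ha, hb, hac, hbi⟩ := exists_parts r (n : G)
      refine ⟨i, (QuotientGroup.eq_one_iff (n ^ r ^ i)).2 (mem_center_iff.2 fun y => Subtype.ext ?_)⟩
      show (y : G) * ((n ^ r ^ i : N) : G) = ((n ^ r ^ i : N) : G) * y
      have haz := hcen a (zpowers_le.2 n.2 ha) hac
      rw [SubmonoidClass.coe_pow, hab', (show Commute a b from (mem_center_iff.1 haz b).symm).mul_pow,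
        hbi, mul_one]
      exact mem_center_iff.1 (pow_mem haz _) y
  exfalso
  simp only [not_forall] at hcen
  obtain ⟨a, haN, har, hac⟩ := hcen
  obtain ⟨k, hka, hkc, q, i, hq, hki⟩ := exists_primary hac
  have hkN : k ∈ N := zpowers_le.2 haN hka
  haveI := Fact.mk hq
  have hkq : k ^ q ^ i = 1 := hki ▸ pow_orderOf_eq_one k
  have hkr : (orderOf k).Coprime r := har.coprime_dvd_left (orderOf_dvd_of_mem_zpowers hka)
  have hqr : q ≠ r := by
    rintro rfl
    exact hkc (eq_one_of_coprime_pow hkr hkq ▸ one_mem _)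
  obtain ⟨x0, hx0, hx0c⟩ := SetLike.not_le_iff_exists.1 hR
  obtain ⟨i0, hx0i⟩ : ∃ i0, x0 ^ r ^ i0 = 1 := by
    obtain ⟨n, hn⟩ := R.isPGroup' ⟨x0, hx0⟩
    exact ⟨n, congrArg Subtype.val hn⟩
  have hqm : q ∣ m := by
    by_contra hd; exact hab (commute_of_not_dvd h hd hkN hkc hkq)
  have hrm : r ∣ m := by
    by_contra hd; exact hab (commute_of_not_dvd h hd (hRN hx0) hx0c hx0i)
  obtain ⟨C, hC⟩ : ∃ C, C = centralizer ({k} : Set G) := ⟨_, rfl⟩
  -- a noncentral `r`-element centralising `k`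
  obtain ⟨x, hxC, hxN, hxc, i1, hxi⟩ : ∃ x ∈ C, x ∈ N ∧ x ∉ center G ∧ ∃ i : ℕ, x ^ r ^ i = 1 := by
    obtain ⟨P⟩ := (inferInstance : Nonempty (Sylow r C))
    obtain ⟨R', hR'⟩ := (P.isPGroup'.map C.subtype).exists_le_sylow
    by_contra hno
    have hPz : (P : Subgroup C).map C.subtype ≤ center G := fun x hx => by
      by_contra hxc
      refine hno ⟨x, map_subtype_le _ hx, ?_, hxc, ?_⟩
      · obtain ⟨c, hc⟩ := MulAction.exists_smul_eq G R R'
        have := hR' hx
        rw [← hc, Sylow.coe_subgroup_smul, mem_pointwise_smul_iff_inv_smul_mem] at this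
        simp only [← map_inv, MulAut.smul_def, MulAut.conj_apply, inv_inv] at this
        have := (inferInstance : N.Normal).conj_mem _ (hRN this) c
        simpa [mul_assoc] using this
      · obtain ⟨n, hn⟩ := R'.isPGroup' ⟨x, hR' hx⟩
        exact ⟨n, congrArg Subtype.val hn⟩
    obtain ⟨S, hS⟩ : ∃ S, S = (P : Subgroup C).map C.subtype := ⟨_, rfl⟩
    rw [← hS] at hPz
    haveI : S.Normal := ⟨fun n hn g => by
      rw [mem_center_iff.1 (hPz hn) g, mul_inv_cancel_right]; exact hn⟩
    have hz : IsPGroup r (zpowers x0) := fun y => by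
      obtain ⟨n, hn⟩ := R.isPGroup' ⟨y, zpowers_le.2 hx0 y.2⟩
      exact ⟨n, Subtype.ext (congrArg Subtype.val hn :)⟩
    have hT : IsPGroup r ↥(zpowers x0 ⊔ S) :=
      hz.to_sup_of_normal_right (hS ▸ P.isPGroup'.map _)
    have hTC : zpowers x0 ⊔ S ≤ centralizer ({x0} : Set G) :=
      sup_le (zpowers_le.2 (mem_centralizer_singleton_iff.2 rfl)) fun z hz' =>
        mem_centralizer_singleton_iff.2 (mem_center_iff.1 (hPz hz') x0).symm
    have hd := card_dvd_of_le hTC
    rw [card_cent h (hRN hx0) hx0c hkN hkc, ← hC] at hd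
    obtain ⟨n, hn⟩ := IsPGroup.iff_card.1 hT
    rw [hn] at hd
    have hn' : n ≤ (Nat.card C).factorization r :=
      (hr.out.pow_dvd_iff_le_factorization Nat.card_pos.ne').1 hd
    have heq : S = zpowers x0 ⊔ S := eq_of_le_of_card_ge le_sup_right (by
      rw [hn, hS, card_map_of_injective C.subtype_injective, P.card_eq_multiplicity]
      exact Nat.pow_le_pow_right hr.out.pos hn')
    exact hx0c (hPz (heq ▸ mem_sup_left (mem_zpowers x0)))
  have hcop : (orderOf k).Coprime (orderOf x) :=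
    (hkr.pow_right i1).coprime_dvd_right (orderOf_dvd_of_pow_eq_one hxi)
  have hCx : centralizer ({x} : Set G) = C := by
    rw [hC] at hxC ⊢
    exact (cent_eq_of_coprime h hkN hxN hkc hxc (mem_centralizer_singleton_iff.1 hxC).symm hcop).symm
  have hself : ∀ w ∈ C, w ∈ N → w ∉ center G → centralizer ({w} : Set G) = C := by
    intro w hw hwN hwc
    obtain ⟨v, hv, hvc, s, l, hs, hvl⟩ := exists_primary hwc
    have hvN : v ∈ N := zpowers_le.2 hwN hv
    rw [cent_eq_of_le h hvN hwN hvc (cent_zpowers_le hv)]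
    have hvC : v ∈ C := zpowers_le.2 hw hv
    by_cases hsr : s = r
    · subst hsr
      rw [hC] at hvC ⊢
      exact cent_eq_of_coprime h hvN hkN hvc hkc (mem_centralizer_singleton_iff.1 hvC)
        (hvl ▸ (hkr.pow_right l).symm)
    · rw [← hCx] at hvC ⊢
      refine cent_eq_of_coprime h hvN hxN hvc hxc (mem_centralizer_singleton_iff.1 hvC) ?_
      rw [hvl]
      exact Nat.Coprime.coprime_dvd_right (orderOf_dvd_of_pow_eq_one hxi)
        ((Nat.coprime_primes hs hr.out).2 hsr |>.pow l i1)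
  obtain ⟨g₁, hg₁, hg₁C, j₁, hj₁⟩ := exists_mover h hqm hkN hkc hkq (hC ▸ hself)
  obtain ⟨g₂, hg₂, hg₂C, j₂, hj₂⟩ := exists_mover h hrm hxN hxc hxi (hCx.symm ▸ hself)
  rw [← hC] at hg₁ hg₁C
  rw [hCx] at hg₂ hg₂C
  obtain ⟨M, hM⟩ : ∃ M, M = normalizer (C : Set G) := ⟨_, rfl⟩
  rw [← hM] at hg₁ hg₂
  obtain ⟨A, hA⟩ : ∃ A, A = C ⊓ N := ⟨_, rfl⟩
  have hAC : ∀ a ∈ A, ∀ c ∈ C, Commute c a := fun a ha c hc => by
    by_cases hz : a ∈ center G
    · exact mem_center_iff.1 hz c
    · rw [hA] at ha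
      exact mem_centralizer_singleton_iff.1 ((hself a ha.1 ha.2 hz).symm ▸ hc)
  have hAC' : ∀ a ∈ A, a ∈ C ∧ a ∈ N := fun a ha => by rw [hA] at ha; exact ha
  haveI : IsMulCommutative A := ⟨⟨fun a b => Subtype.ext (hAC b b.2 a (hAC' a a.2).1).eq⟩⟩
  letI : CommGroup A := IsMulCommutative.instCommGroup
  have hconj : ∀ g : M, ∀ a ∈ A, (g : G) * a * (g : G)⁻¹ ∈ A := fun g a ha => by
    rw [hA] at ha ⊢
    have hg : (g : G) ∈ normalizer (C : Set G) := hM.le g.2
    exact ⟨(mem_normalizer_iff.1 hg a).1 ha.1, (inferInstance : N.Normal).conj_mem a ha.2 g⟩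
  let φ : M →* MulAut A := MonoidHom.mk'
    (fun g =>
      { toFun := fun a => ⟨g * a * (g : G)⁻¹, hconj g a a.2⟩
        invFun := fun a => ⟨(g : G)⁻¹ * a * g, by
          have := hconj g⁻¹ a a.2
          simpa using this⟩
        left_inv := fun a => Subtype.ext (by simp [mul_assoc])
        right_inv := fun a => Subtype.ext (by simp [mul_assoc])
        map_mul' := fun a b => Subtype.ext (by simp [mul_assoc]) })
    fun g g' => MulEquiv.ext fun a => Subtype.ext (by simp [mul_assoc])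
  haveI : (C.subgroupOf M).Normal := hM ▸ normal_in_normalizer
  have hker : C.subgroupOf M ≤ φ.ker := fun c hc => MulEquiv.ext fun a => Subtype.ext (by
    show (c : G) * a * (c : G)⁻¹ = a
    rw [(hAC a a.2 c (mem_subgroupOf.1 hc)).eq, mul_inv_cancel_right])
  letI : MulDistribMulAction (M ⧸ C.subgroupOf M) A :=
    MulDistribMulAction.compHom A (QuotientGroup.lift (C.subgroupOf M) φ hker)
  obtain ⟨Z, hZ⟩ : ∃ Z : Subgroup A, Z = (center G).subgroupOf A := ⟨_, rfl⟩
  have hsr : SemiregularModule.Semiregular (M ⧸ C.subgroupOf M) Z := by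
    refine ⟨fun w z hz => ?_, fun w a hwa => ?_⟩
    · induction w using QuotientGroup.induction_on with
      | _ g =>
        refine Subtype.ext ?_
        show (g : G) * z * (g : G)⁻¹ = z
        have hzc : (z : G) ∈ center G := mem_subgroupOf.1 (hZ ▸ hz)
        rw [mem_center_iff.1 hzc (g : G), mul_inv_cancel_right]
    · induction w using QuotientGroup.induction_on with
      | _ g =>
        by_cases hz : a ∈ Z
        · exact Or.inr hz
        refine Or.inl ((QuotientGroup.eq_one_iff g).2 (mem_subgroupOf.2 ?_))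
        have h1 : (g : G) * a * (g : G)⁻¹ = a := congrArg Subtype.val hwa
        obtain ⟨haC, haN'⟩ := hAC' a a.2
        rw [← hself a haC haN' (fun e => hz (hZ ▸ mem_subgroupOf.2 e)),
          mem_centralizer_singleton_iff]
        exact mul_inv_eq_iff_eq_mul.1 h1
  have hdiv : ∀ {s : ℕ}, s.Prime → ∀ g : M, (g : G) ∉ C → ∀ j : ℕ, (g : G) ^ s ^ j = 1 →
      s ∣ Nat.card (M ⧸ C.subgroupOf M) := by
    intro s hs g hg j hj
    obtain ⟨l, -, hl⟩ := (Nat.dvd_prime_pow hs).1 (orderOf_dvd_of_pow_eq_one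
      (show (QuotientGroup.mk' (C.subgroupOf M) g) ^ s ^ j = 1 by
        rw [← map_pow, show g ^ s ^ j = 1 from Subtype.ext (by simpa using hj), map_one]))
    refine dvd_trans ?_ (orderOf_dvd_natCard (QuotientGroup.mk' (C.subgroupOf M) g))
    rw [hl]
    refine dvd_pow_self s fun e => hg ?_
    rw [e, pow_zero, orderOf_eq_one_iff] at hl
    exact mem_subgroupOf.1 ((QuotientGroup.eq_one_iff g).1 hl)
  have hkA : k ∈ A := hA ▸ ⟨hC ▸ mem_centralizer_singleton_iff.2 rfl, hkN⟩
  have hxA : x ∈ A := hA ▸ ⟨hxC, hxN⟩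
  exact SemiregularModule.not_two_primes (s := q) (t := r) hqr hsr
    (hdiv hq ⟨g₁, hg₁⟩ hg₁C j₁ hj₁) (hdiv hr.out ⟨g₂, hg₂⟩ hg₂C j₂ hj₂)
    (a := ⟨k, hkA⟩) (fun e => hkc (mem_subgroupOf.1 (hZ ▸ e))) (k := i) (Subtype.ext (by simpa using hkq))
    (b := ⟨x, hxA⟩) (fun e => hxc (mem_subgroupOf.1 (hZ ▸ e))) (l := i1) (Subtype.ext (by simpa using hxi))

end CfsgLib.Perm.TwoIndexNormal
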