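import Cfsg.Agent.Lib.Solvable.FixedPointFree
import Mathlib.GroupTheory.SpecificGroups.ZGroup
import Mathlib.GroupTheory.PresentedGroup

/-!
The presentation of a fixed-point-free `Z`-group.
-/

set_option autoImplicit false
set_option linter.unusedSectionVars false

namespace CfsgLib.Perm.ZPres

variable {G : Type*} [Group G] [Finite G] {V : Type*} [CommGroup V] [Finite V] [Nontrivial V]
  (φ : G →* MulAut V) (hfpf : ∀ h : G, h ≠ 1 → ∀ v : V, φ h v = v → v = 1)

include hfpf in
/-- An element of prime order normalising a subgroup of another prime order centralises it. -/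
theorem commute_of_prime_orders {s t : G} {q p : ℕ} (hq : q.Prime) (hp : p.Prime) (hpq : p ≠ q)
    (hs : orderOf s = q) (ht : orderOf t = p) (hn : s * t * s⁻¹ ∈ Subgroup.zpowers t) :
    s * t = t * s := by
  obtain ⟨N, hN⟩ : ∃ N, N = Subgroup.zpowers t := ⟨_, rfl⟩
  obtain ⟨B, hB⟩ : ∃ B, B = Subgroup.closure ({s, t} : Set G) := ⟨_, rfl⟩
  have hsB : s ∈ B := hB ▸ Subgroup.subset_closure (by simp)
  have htB : t ∈ B := hB ▸ Subgroup.subset_closure (by simp)
  have hsn : s ∈ Subgroup.normalizer (N : Set G) := by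
    have hmap : ∀ n ∈ N, s * n * s⁻¹ ∈ N := by
      intro n hnn
      rw [hN] at hnn ⊢
      obtain ⟨i, rfl⟩ := hnn
      show s * t ^ i * s⁻¹ ∈ _
      rw [← conj_zpow]
      exact Subgroup.zpow_mem _ hn i
    have hk : ∀ k : ℕ, ∀ n ∈ N, s ^ k * n * (s ^ k)⁻¹ ∈ N := by
      intro k
      induction k with
      | zero => intro n hn'; simpa using hn'
      | succ k ih =>
        intro n hn'
        rw [show s ^ (k + 1) * n * (s ^ (k + 1))⁻¹ = s * (s ^ k * n * (s ^ k)⁻¹) * s⁻¹ by
          rw [pow_succ']; simp [mul_assoc]]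
        exact hmap _ (ih n hn')
    refine Subgroup.mem_normalizer_iff.2 fun n => ⟨hmap n, fun h => ?_⟩
    have h' := hk (orderOf s - 1) _ h
    have e : s ^ (orderOf s - 1) = s⁻¹ :=
      eq_inv_of_mul_eq_one_left (by rw [← pow_succ, Nat.sub_add_cancel (orderOf_pos s), pow_orderOf_eq_one])
    rw [e] at h'
    simpa [mul_assoc] using h'
  have htn : t ∈ Subgroup.normalizer (N : Set G) :=
    Subgroup.le_normalizer (hN ▸ Subgroup.mem_zpowers t)
  have hBn : B ≤ Subgroup.normalizer (N : Set G) := by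
    rw [hB, Subgroup.closure_le]
    rintro x (rfl | rfl)
    exacts [hsn, htn]
  have hNB : N ≤ B := hN ▸ Subgroup.zpowers_le.2 htB
  have hKn : (N.subgroupOf B).Normal := Subgroup.normal_subgroupOf_of_le_normalizer hBn
  have hKc : Nat.card (N.subgroupOf B) = p := by
    rw [Nat.card_congr (Subgroup.subgroupOfEquivOfLe hNB).toEquiv, hN, Nat.card_zpowers, ht]
  obtain ⟨π, hπ⟩ : ∃ π, π = QuotientGroup.mk' (N.subgroupOf B) := ⟨_, rfl⟩
  have hgen : Subgroup.zpowers (π ⟨s, hsB⟩) = ⊤ := by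
    have h : (⊤ : Subgroup B) ≤ (Subgroup.zpowers (π ⟨s, hsB⟩)).comap π := by
      have htop : Subgroup.closure (((↑) : B → G) ⁻¹' ({s, t} : Set G)) = ⊤ := by
        subst hB
        exact Subgroup.closure_closure_coe_preimage
      rw [← htop, Subgroup.closure_le]
      rintro ⟨x, hx⟩ hxm
      rw [Set.mem_preimage] at hxm
      rw [SetLike.mem_coe, Subgroup.mem_comap]
      rcases hxm with e | e
      · obtain rfl : x = s := e
        exact Subgroup.mem_zpowers _
      · obtain rfl : x = t := e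
        have h1 : π ⟨x, hx⟩ = 1 := by
          rw [hπ, QuotientGroup.mk'_apply, QuotientGroup.eq_one_iff, Subgroup.mem_subgroupOf, hN]
          exact Subgroup.mem_zpowers x
        rw [h1]; exact Subgroup.one_mem _
    rw [eq_top_iff]
    intro y _
    obtain ⟨x, rfl⟩ := (hπ ▸ QuotientGroup.mk'_surjective (N.subgroupOf B) : Function.Surjective π) y
    exact h (Subgroup.mem_top x)
  have hs1 : π ⟨s, hsB⟩ ≠ 1 := by
    intro h
    rw [hπ, QuotientGroup.mk'_apply, QuotientGroup.eq_one_iff, Subgroup.mem_subgroupOf, hN] at h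
    have h2 := orderOf_dvd_of_mem_zpowers h
    rw [hs, ht] at h2
    exact hpq.symm ((Nat.prime_dvd_prime_iff_eq hq hp).1 h2)
  have hcard : Nat.card B = p * q := by
    have hq' : Nat.card (B ⧸ N.subgroupOf B) = q := by
      rw [← Subgroup.card_top (G := B ⧸ N.subgroupOf B), ← hgen, Nat.card_zpowers]
      have hd := orderOf_map_dvd π (⟨s, hsB⟩ : B)
      rw [Subgroup.orderOf_mk, hs] at hd
      exact ((Nat.dvd_prime hq).1 hd).resolve_left fun e => hs1 (orderOf_eq_one_iff.1 e)
    rw [Subgroup.card_eq_card_quotient_mul_card_subgroup (N.subgroupOf B), hq', hKc, mul_comm]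
  have hc : IsCyclic B := CfsgLib.Solvable.isCyclic_of_card_prime_mul_prime (φ.comp B.subtype)
    (fun h hh v hv => hfpf (h : G) (fun e => hh (Subtype.ext e)) v hv) hp hq hcard
  exact congrArg Subtype.val (CfsgLib.Solvable.comm_of_isCyclic (⟨s, hsB⟩ : B) ⟨t, htB⟩)

include hfpf in
/-- An element of prime order normalising a cyclic group of coprime order centralises it. -/
theorem commute_cyclic {s y : G} {q : ℕ} (hq : q.Prime) (hs : orderOf s = q)
    (hn : ∀ w ∈ Subgroup.zpowers y, s * w * s⁻¹ ∈ Subgroup.zpowers y)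
    (hco : Nat.Coprime q (orderOf y)) : ∀ w ∈ Subgroup.zpowers y, s * w = w * s := by
  suffices H : ∀ k, ∀ w ∈ Subgroup.zpowers y, orderOf w = k → s * w = w * s from fun w hw => H _ w hw rfl
  intro k
  induction k using Nat.strong_induction_on with
  | _ k ih =>
    intro w hw hwk
    rcases eq_or_ne k 1 with rfl | hk1
    · rw [orderOf_eq_one_iff.1 hwk, mul_one, one_mul]
    have hkpos : 0 < k := hwk ▸ orderOf_pos w
    obtain ⟨p, hp, hpk⟩ := Nat.exists_prime_and_dvd hk1
    have hpq : p ≠ q := by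
      rintro rfl
      exact (hp.coprime_iff_not_dvd.1 hco) (hpk.trans (hwk ▸ orderOf_dvd_of_mem_zpowers hw))
    by_cases hkp : k = p
    · refine commute_of_prime_orders φ hfpf hq hp hpq hs (hwk.trans hkp) ?_
      -- the unique subgroup of order `p`
      have hcy : IsCyclic (Subgroup.zpowers y) := inferInstance
      have hw' : s * w * s⁻¹ ∈ Subgroup.zpowers y := hn w hw
      have ho : orderOf (s * w * s⁻¹) = orderOf w := (MulAut.conj s).orderOf_eq w
      let _ : CommGroup (Subgroup.zpowers y) := IsCyclic.commGroup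
      have : ∀ a b : Subgroup.zpowers y, orderOf a = orderOf b → a ∈ Subgroup.zpowers b := by
        intro a b hab
        have hdvd : orderOf b ∣ orderOf a := hab.symm.dvd
        have hker : ∀ c : Subgroup.zpowers y, orderOf c ∣ orderOf b →
            c ∈ (powMonoidHom (orderOf b) : Subgroup.zpowers y →* Subgroup.zpowers y).ker := fun c hc =>
          orderOf_dvd_iff_pow_eq_one.1 hc
        have hle : Subgroup.zpowers b ≤
            (powMonoidHom (orderOf b) : Subgroup.zpowers y →* Subgroup.zpowers y).ker :=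
          Subgroup.zpowers_le.2 (hker b dvd_rfl)
        have he := Subgroup.eq_of_le_of_card_ge hle (by
          rw [IsCyclic.card_powMonoidHom_ker, Nat.gcd_eq_right (orderOf_dvd_natCard b),
            Nat.card_zpowers])
        rw [he]
        exact hker a hab.dvd
      have h2 := this ⟨_, hw'⟩ ⟨w, hw⟩ (by rw [Subgroup.orderOf_mk, Subgroup.orderOf_mk, ho])
      obtain ⟨i, hi⟩ := h2
      exact ⟨i, congrArg Subtype.val hi⟩
    obtain ⟨c, hc⟩ : ∃ c, c = w⁻¹ * (s * w * s⁻¹) := ⟨_, rfl⟩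
    have hcy : c ∈ Subgroup.zpowers y := hc ▸ Subgroup.mul_mem _ (Subgroup.inv_mem _ hw) (hn w hw)
    have hlt : k / p < k := Nat.div_lt_self hkpos hp.one_lt
    have hwp : s * w ^ p = w ^ p * s :=
      ih _ hlt _ (Subgroup.pow_mem _ hw p) (by
        rw [orderOf_pow, hwk, Nat.gcd_eq_right hpk])
    have hcomm : Commute w⁻¹ (s * w * s⁻¹) := by
      obtain ⟨i, hi⟩ := hn w hw
      obtain ⟨j, rfl⟩ := hw
      rw [← hi]
      exact ((Commute.refl y).zpow_zpow j i).inv_left
    have hcp : c ^ p = 1 := by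
      rw [hc, hcomm.mul_pow, conj_pow, inv_pow, hwp, mul_inv_cancel_right, inv_mul_cancel]
    have hcs : s * c = c * s := by
      rcases (Nat.dvd_prime hp).1 (orderOf_dvd_of_pow_eq_one hcp) with h | h
      · rw [orderOf_eq_one_iff.1 h, mul_one, one_mul]
      · exact ih p (lt_of_le_of_ne (Nat.le_of_dvd hkpos hpk) (Ne.symm hkp)) c hcy h
    have hit : ∀ i : ℕ, s ^ i * w * (s ^ i)⁻¹ = w * c ^ i := by
      intro i
      induction i with
      | zero => simp
      | succ i ih' =>
        rw [pow_succ' s, pow_succ' c, mul_inv_rev]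
        calc s * s ^ i * w * ((s ^ i)⁻¹ * s⁻¹) = s * (s ^ i * w * (s ^ i)⁻¹) * s⁻¹ := by simp [mul_assoc]
          _ = s * w * s⁻¹ * (s * c ^ i * s⁻¹) := by rw [ih']; simp [mul_assoc]
          _ = w * (c * c ^ i) := by
            rw [(show Commute s c from hcs).pow_right i |>.eq, mul_inv_cancel_right, hc]
            simp [mul_assoc]
    have hcq : c ^ q = 1 := by
      have h := hit q
      rw [← hs, pow_orderOf_eq_one, one_mul, inv_one, mul_one] at h
      rw [← hs]
      exact mul_left_cancel (h.symm.trans (mul_one w).symm)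
    have hc1 : c = 1 := orderOf_eq_one_iff.1 (Nat.eq_one_of_dvd_coprimes
      ((Nat.coprime_primes hp hq).2 hpq) (orderOf_dvd_of_pow_eq_one hcp) (orderOf_dvd_of_pow_eq_one hcq))
    rw [hc, inv_mul_eq_one, eq_mul_inv_iff_mul_eq] at hc1
    exact hc1.symm

/-- The relators of a metacyclic group. -/
def rels (n m r : ℕ) : Set (FreeGroup (Fin 2)) :=
  {FreeGroup.of (0 : Fin 2) ^ n, FreeGroup.of (1 : Fin 2) ^ m,
    (FreeGroup.of (0 : Fin 2))⁻¹ * FreeGroup.of 1 * FreeGroup.of 0 * (FreeGroup.of (1 : Fin 2) ^ r)⁻¹}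

theorem normal_form {n m r : ℕ} (hn : 0 < n) (hm : 0 < m) :
    ∀ g : PresentedGroup (rels n m r), ∃ i : Fin n, ∃ j : Fin m,
      g = PresentedGroup.of 0 ^ (i : ℕ) * PresentedGroup.of 1 ^ (j : ℕ) := by
  obtain ⟨X, hX⟩ : ∃ X : PresentedGroup (rels n m r), X = PresentedGroup.of 0 := ⟨_, rfl⟩
  obtain ⟨Y, hY⟩ : ∃ Y : PresentedGroup (rels n m r), Y = PresentedGroup.of 1 := ⟨_, rfl⟩
  have hXn : X ^ n = 1 := by
    have h := PresentedGroup.one_of_mem (rels := rels n m r)
      (show FreeGroup.of (0 : Fin 2) ^ n ∈ rels n m r from Or.inl rfl)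
    rw [map_pow] at h; rw [hX]; exact h
  have hYm : Y ^ m = 1 := by
    have h := PresentedGroup.one_of_mem (rels := rels n m r)
      (show FreeGroup.of (1 : Fin 2) ^ m ∈ rels n m r from Or.inr (Or.inl rfl))
    rw [map_pow] at h; rw [hY]; exact h
  have hrel : Y * X = X * Y ^ r := by
    have h := PresentedGroup.one_of_mem (rels := rels n m r)
      (show (FreeGroup.of (0 : Fin 2))⁻¹ * FreeGroup.of 1 * FreeGroup.of 0 *
        (FreeGroup.of (1 : Fin 2) ^ r)⁻¹ ∈ rels n m r from Or.inr (Or.inr rfl))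
    rw [map_mul, map_mul, map_mul, map_inv, map_inv, map_pow] at h
    have h' : X⁻¹ * Y * X * (Y ^ r)⁻¹ = 1 := by rw [hX, hY]; exact h
    rw [mul_inv_eq_one, mul_assoc, inv_mul_eq_iff_eq_mul] at h'
    exact h'
  have hYX : ∀ j : ℕ, Y ^ j * X = X * Y ^ (j * r) := by
    intro j
    induction j with
    | zero => simp
    | succ j ih =>
      rw [pow_succ, mul_assoc, hrel, ← mul_assoc, ih, mul_assoc, ← pow_add, Nat.succ_mul]
  have hYXi : ∀ j i : ℕ, Y ^ j * X ^ i = X ^ i * Y ^ (j * r ^ i) := by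
    intro j i
    induction i with
    | zero => simp
    | succ i ih => rw [pow_succ, ← mul_assoc, ih, mul_assoc, hYX, ← mul_assoc, mul_assoc j, ← pow_succ, ← pow_succ]
  suffices H : ∀ g : PresentedGroup (rels n m r), ∃ i j : ℕ, g = X ^ i * Y ^ j by
    intro g
    obtain ⟨i, j, h⟩ := H g
    refine ⟨⟨i % n, Nat.mod_lt _ hn⟩, ⟨j % m, Nat.mod_lt _ hm⟩, ?_⟩
    show g = PresentedGroup.of 0 ^ (i % n) * PresentedGroup.of 1 ^ (j % m)
    rw [← hX, ← hY, h, ← pow_eq_pow_mod i hXn, ← pow_eq_pow_mod j hYm]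
  have hmul : ∀ a b : PresentedGroup (rels n m r), (∃ i j : ℕ, a = X ^ i * Y ^ j) →
      (∃ i j : ℕ, b = X ^ i * Y ^ j) → ∃ i j : ℕ, a * b = X ^ i * Y ^ j := by
    rintro _ _ ⟨i, j, rfl⟩ ⟨i', j', rfl⟩
    exact ⟨i + i', j * r ^ i' + j', by
      rw [mul_assoc, ← mul_assoc (Y ^ j), hYXi, mul_assoc, ← pow_add, ← mul_assoc, ← pow_add]⟩
  have hgen : ∀ a : Fin 2, (∃ i j : ℕ, PresentedGroup.of (rels := rels n m r) a = X ^ i * Y ^ j) ∧
      ∃ i j : ℕ, (PresentedGroup.of (rels := rels n m r) a)⁻¹ = X ^ i * Y ^ j := by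
    intro a
    fin_cases a
    · refine ⟨⟨1, 0, by simp [hX]⟩, ⟨n - 1, 0, ?_⟩⟩
      rw [pow_zero, mul_one]
      refine inv_eq_of_mul_eq_one_right ?_
      show PresentedGroup.of 0 * X ^ (n - 1) = 1
      rw [← hX, ← pow_succ', Nat.sub_add_cancel hn, hXn]
    · refine ⟨⟨0, 1, by simp [hY]⟩, ⟨0, m - 1, ?_⟩⟩
      rw [pow_zero, one_mul]
      refine inv_eq_of_mul_eq_one_right ?_
      show PresentedGroup.of 1 * Y ^ (m - 1) = 1
      rw [← hY, ← pow_succ', Nat.sub_add_cancel hm, hYm]
  intro g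
  obtain ⟨w, rfl⟩ : ∃ w, PresentedGroup.mk (rels n m r) w = g := PresentedGroup.mk_surjective _ g
  induction w using FreeGroup.induction_on with
  | C1 => exact ⟨0, 0, by simp⟩
  | of a => exact (hgen a).1
  | inv_of a _ => rw [map_inv]; exact (hgen a).2
  | mul u v hu hv => rw [map_mul]; exact hmul _ _ hu hv

include hfpf in
/-- A fixed-point-free group with cyclic Sylow subgroups has the Burnside presentation. -/
theorem exists_presentation [IsZGroup G] :
    ∃ n m r : ℕ, 0 < n ∧ 0 < m ∧ Nat.Coprime (r - 1) m ∧ Nat.Coprime n m ∧ 1 ≤ r ∧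
      r ^ (n / ∏ p ∈ n.primeFactors, p) % m = 1 % m ∧
      Nonempty (G ≃* PresentedGroup (rels n m r)) := by
  classical
  obtain ⟨n, hn⟩ : ∃ n, n = (commutator G).index := ⟨_, rfl⟩
  obtain ⟨m, hm⟩ : ∃ m, m = Nat.card (commutator G) := ⟨_, rfl⟩
  have hn0 : 0 < n := hn ▸ Nat.pos_of_ne_zero Subgroup.index_ne_zero_of_finite
  have hm0 : 0 < m := hm ▸ Nat.card_pos
  have hcop : Nat.Coprime m n := hm ▸ hn ▸ IsZGroup.coprime_commutator_index G
  have hGcard : Nat.card G = m * n := by rw [hm, hn, Subgroup.card_mul_index]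
  have := IsZGroup.isCyclic_commutator G
  obtain ⟨⟨y, hyD⟩, hyg⟩ := IsCyclic.exists_generator (α := commutator G)
  have hy : orderOf y = m := by
    rw [hm, ← orderOf_eq_card_of_forall_mem_zpowers hyg, Subgroup.orderOf_mk]
  have hDy : commutator G = Subgroup.zpowers y := (Subgroup.eq_of_le_of_card_ge
    (Subgroup.zpowers_le.2 hyD) (by rw [Nat.card_zpowers, hy, hm])).symm
  obtain ⟨K, hK⟩ := Subgroup.exists_left_complement'_of_coprime (hm ▸ hn ▸ hcop :
    Nat.Coprime (Nat.card (commutator G)) (commutator G).index)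
  have hKc : Nat.card K = n := by rw [hn, hK.index_eq_card]
  have : IsCyclic K := by
    have hq : IsCyclic (G ⧸ commutator G) := inferInstanceAs (IsCyclic (Abelianization G))
    exact hK.QuotientMulEquiv.isCyclic.1 hq
  obtain ⟨⟨x, hxK⟩, hxg⟩ := IsCyclic.exists_generator (α := K)
  have hx : orderOf x = n := by
    rw [← hKc, ← orderOf_eq_card_of_forall_mem_zpowers hxg, Subgroup.orderOf_mk]
  have hnorm : ∀ g : G, ∀ w ∈ Subgroup.zpowers y, g * w * g⁻¹ ∈ Subgroup.zpowers y := by
    rw [← hDy]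
    exact fun g w hw => Subgroup.Normal.conj_mem inferInstance w hw g
  obtain ⟨r₀, hr₀⟩ : ∃ r₀ : ℕ, y ^ r₀ = x⁻¹ * y * x := by
    have h := hnorm x⁻¹ y (Subgroup.mem_zpowers y)
    rw [inv_inv, mem_zpowers_iff_mem_range_orderOf, Finset.mem_image] at h
    obtain ⟨i, -, hi⟩ := h
    exact ⟨i, hi⟩
  obtain ⟨r, hr1, hr⟩ : ∃ r : ℕ, 1 ≤ r ∧ y ^ r = x⁻¹ * y * x :=
    ⟨r₀ + m, by omega, by rw [pow_add, ← hy, pow_orderOf_eq_one, mul_one, hr₀]⟩
  have hpow : ∀ i : ℕ, x⁻¹ ^ i * y * x ^ i = y ^ r ^ i := by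
    intro i
    induction i with
    | zero => simp
    | succ i ih =>
      calc x⁻¹ ^ (i + 1) * y * x ^ (i + 1) = x⁻¹ * (x⁻¹ ^ i * y * x ^ i) * x := by
            rw [pow_succ', pow_succ]; simp [mul_assoc]
        _ = (x⁻¹ * y * x) ^ r ^ i := by
            rw [ih]
            have := conj_pow (i := r ^ i) (a := x⁻¹) (b := y)
            rw [inv_inv] at this
            exact this.symm
        _ = y ^ r ^ (i + 1) := by rw [← hr, ← pow_mul, pow_succ']
  have hgenG : ∀ g : G, g ∈ Subgroup.closure ({x, y} : Set G) := by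
    intro g
    have h : K ⊔ commutator G ≤ Subgroup.closure ({x, y} : Set G) := by
      refine sup_le (fun k hk => ?_) ?_
      · obtain ⟨i, hi⟩ := hxg ⟨k, hk⟩
        have hi' : x ^ i = k := congrArg Subtype.val hi
        rw [← hi']
        exact Subgroup.zpow_mem _ (Subgroup.subset_closure (by simp)) i
      · rw [hDy]; exact Subgroup.zpowers_le.2 (Subgroup.subset_closure (by simp))
    exact h (hK.sup_eq_top ▸ Subgroup.mem_top g)
  refine ⟨n, m, r, hn0, hm0, ?_, hcop.symm, hr1, ?_, ?_⟩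
  · obtain ⟨d, hd⟩ : ∃ d, d = Nat.gcd (r - 1) m := ⟨_, rfl⟩
    show Nat.gcd (r - 1) m = 1
    rw [← hd]
    obtain ⟨M, hM⟩ : ∃ M, M = Subgroup.zpowers (y ^ d) := ⟨_, rfl⟩
    have hMn : M.Normal := by
      refine ⟨fun w hw g => ?_⟩
      rw [hM] at hw ⊢
      obtain ⟨i, rfl⟩ := hw
      show g * (y ^ d) ^ i * g⁻¹ ∈ _
      rw [← conj_zpow, ← conj_pow]
      obtain ⟨j, hj⟩ := hnorm g y (Subgroup.mem_zpowers y)
      refine Subgroup.zpow_mem _ (Subgroup.mem_zpowers_iff.2 ⟨j, ?_⟩) i
      rw [← hj]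
      show (y ^ d) ^ j = (y ^ j) ^ d
      rw [← zpow_natCast, ← zpow_mul, mul_comm, zpow_mul, zpow_natCast]
    have hxy : x⁻¹ * y * x * y⁻¹ ∈ M := by
      rw [← hr, hM]
      obtain ⟨c, hc⟩ : d ∣ r - 1 := hd ▸ Nat.gcd_dvd_left _ _
      refine ⟨(c : ℤ), ?_⟩
      show (y ^ d) ^ (c : ℤ) = y ^ r * y⁻¹
      rw [zpow_natCast, ← pow_mul, ← hc, ← pow_sub_one_mul (by omega : r ≠ 0) y, mul_inv_cancel_right]
    have hle : commutator G ≤ M := by
      have hcomm : ∀ a b : G ⧸ M, a * b = b * a := by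
        have hxyq : (x : G ⧸ M) * y = y * x := by
          have h := (QuotientGroup.eq_one_iff _).2 hxy
          rw [QuotientGroup.mk_mul, QuotientGroup.mk_mul, QuotientGroup.mk_mul, QuotientGroup.mk_inv,
            QuotientGroup.mk_inv, mul_inv_eq_one, mul_assoc, inv_mul_eq_iff_eq_mul] at h
          exact h.symm
        have hc : IsMulCommutative (Subgroup.closure ({(x : G ⧸ M), (y : G ⧸ M)} : Set (G ⧸ M))) := by
          refine Subgroup.isMulCommutative_closure fun a ha b hb => ?_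
          rcases ha with rfl | rfl <;> rcases hb with rfl | rfl
          exacts [rfl, hxyq, hxyq.symm, rfl]
        intro a b
        have hmem : ∀ c : G ⧸ M, c ∈ Subgroup.closure ({(x : G ⧸ M), (y : G ⧸ M)} : Set (G ⧸ M)) := by
          intro c
          obtain ⟨g, rfl⟩ := QuotientGroup.mk'_surjective M c
          have h := Subgroup.mem_map_of_mem (QuotientGroup.mk' M) (hgenG g)
          rw [MonoidHom.map_closure, Set.image_pair] at h
          exact h
        exact congrArg Subtype.val (hc.is_comm.comm ⟨a, hmem a⟩ ⟨b, hmem b⟩)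
      rw [commutator_def, Subgroup.commutator_le]
      intro a _ b _
      rw [← QuotientGroup.eq_one_iff, commutatorElement_def, QuotientGroup.mk_mul, QuotientGroup.mk_mul,
        QuotientGroup.mk_mul, QuotientGroup.mk_inv, QuotientGroup.mk_inv, hcomm (a : G ⧸ M) b,
        mul_inv_cancel_right, mul_inv_cancel]
    have h := Subgroup.card_dvd_of_le hle
    rw [← hm, hM, Nat.card_zpowers, orderOf_pow, hy] at h
    have hdm : d ∣ m := hd ▸ Nat.gcd_dvd_right _ _
    rw [Nat.gcd_eq_right hdm] at h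
    obtain ⟨c, hc⟩ := hdm
    have hd0 : 0 < d := by
      rcases Nat.eq_zero_or_pos d with rfl | h0
      · omega
      · exact h0
    rw [hc, Nat.mul_div_cancel_left _ hd0] at h
    have hc0 : 0 < c := Nat.pos_of_ne_zero fun e => by rw [e, mul_zero] at hc; omega
    have hle' : d * c ≤ 1 * c := by rw [one_mul]; exact Nat.le_of_dvd hc0 h
    have := Nat.le_of_mul_le_mul_right hle' hc0
    omega
  · obtain ⟨P, hP⟩ : ∃ P, P = ∏ p ∈ n.primeFactors, p := ⟨_, rfl⟩
    rw [← hP]
    have hPn : P ∣ n := hP ▸ Nat.prod_primeFactors_dvd n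
    obtain ⟨u, hu⟩ : ∃ u, u = x ^ (n / P) := ⟨_, rfl⟩
    have huo : orderOf u = P := by
      rw [hu, orderOf_pow, hx, Nat.gcd_eq_right (Nat.div_dvd_of_dvd hPn), Nat.div_div_self hPn hn0.ne']
    obtain ⟨S, hS⟩ : ∃ S, S = Subgroup.zpowers u ⊓ Subgroup.centralizer ({y} : Set G) := ⟨_, rfl⟩
    have hSu : u ∈ Subgroup.centralizer ({y} : Set G) := by
      have hdvd : P ∣ Nat.card S := by
        conv_lhs => rw [hP]
        refine Finset.prod_primes_dvd _ (fun q hq => (Nat.prime_of_mem_primeFactors hq).prime) fun q hq => ?_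
        have hqp := Nat.prime_of_mem_primeFactors hq
        have hqP : q ∣ P := hP ▸ Finset.dvd_prod_of_mem _ hq
        have hso : orderOf (u ^ (P / q)) = q := by
          rw [orderOf_pow, huo, Nat.gcd_eq_right (Nat.div_dvd_of_dvd hqP),
            Nat.div_div_self hqP (Nat.pos_of_dvd_of_pos hPn hn0).ne']
        have hmem : u ^ (P / q) ∈ S := by
          rw [hS]
          refine ⟨Subgroup.npow_mem_zpowers _ _, ?_⟩
          show u ^ (P / q) ∈ Subgroup.centralizer ({y} : Set G)
          rw [Subgroup.mem_centralizer_singleton_iff]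
          exact (commute_cyclic φ hfpf hqp hso (hnorm _) (by
            rw [hy]; exact hcop.symm.coprime_dvd_left (Nat.dvd_of_mem_primeFactors hq)) y
              (Subgroup.mem_zpowers y))
        rw [← hso]
        exact Subgroup.orderOf_dvd_natCard _ hmem
      have hle : S ≤ Subgroup.zpowers u := hS ▸ inf_le_left
      have he := Subgroup.eq_of_le_of_card_ge hle (by
        rw [Nat.card_zpowers, huo]; exact Nat.le_of_dvd Nat.card_pos hdvd)
      have : u ∈ S := he ▸ Subgroup.mem_zpowers u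
      rw [hS] at this
      exact this.2
    rw [Subgroup.mem_centralizer_singleton_iff, hu] at hSu
    have h : y ^ r ^ (n / P) = y ^ 1 := by
      rw [← hpow, pow_one, inv_pow, mul_assoc, ← hSu, inv_mul_cancel_left]
    rw [pow_eq_pow_iff_modEq, hy] at h
    exact h
  · obtain ⟨f, hf⟩ : ∃ f : Fin 2 → G, f = ![x, y] := ⟨_, rfl⟩
    have hrels : ∀ w ∈ rels n m r, FreeGroup.lift f w = 1 := by
      rintro w (rfl | rfl | rfl) <;> simp only [map_pow, map_mul, map_inv, FreeGroup.lift_apply_of, hf,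
        Matrix.cons_val_zero, Matrix.cons_val_one]
      · rw [← hx, pow_orderOf_eq_one]
      · rw [← hy, pow_orderOf_eq_one]
      · rw [hr, mul_inv_cancel]
    let π := PresentedGroup.toGroup hrels
    have hπs : Function.Surjective π := by
      rw [← MonoidHom.range_eq_top, eq_top_iff]
      intro g _
      refine (Subgroup.closure_le _).2 ?_ (hgenG g)
      rintro z (rfl | rfl)
      · exact ⟨PresentedGroup.of 0, by simp [π, hf]⟩
      · exact ⟨PresentedGroup.of 1, by simp [π, hf]⟩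
    have hsurj : Function.Surjective (fun ij : Fin n × Fin m =>
        (PresentedGroup.of 0 ^ (ij.1 : ℕ) * PresentedGroup.of 1 ^ (ij.2 : ℕ) : PresentedGroup (rels n m r))) := by
      intro g
      obtain ⟨i, j, h⟩ := normal_form hn0 hm0 g
      exact ⟨(i, j), h.symm⟩
    have : Finite (PresentedGroup (rels n m r)) := Finite.of_surjective _ hsurj
    have hle : Nat.card (PresentedGroup (rels n m r)) ≤ Nat.card G := by
      rw [hGcard, mul_comm]
      refine (Nat.card_le_card_of_surjective _ hsurj).trans (le_of_eq ?_)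
      rw [Nat.card_prod, Nat.card_fin, Nat.card_fin]
    exact ⟨(MulEquiv.ofBijective π ((Nat.bijective_iff_surjective_and_card π).2
      ⟨hπs, le_antisymm hle (Nat.card_le_card_of_surjective π hπs)⟩)).symm⟩

end CfsgLib.Perm.ZPres
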