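import Mathlib

/-!
Finite facts about `Z₂ × S₄` and its Sylow `2`-subgroup.
-/

set_option autoImplicit false

namespace CfsgLib.Perm.ZTwoSFour

open Equiv

/-- The direct product of a group of order two and `S₄`. -/
abbrev W : Type := Multiplicative (ZMod 2) × Perm (Fin 4)

/-- The central involution. -/
def t0 : W := (Multiplicative.ofAdd 1, 1)
/-- The central involution of the Sylow commutator. -/
def z0 : W := (1, Equiv.swap 0 2 * Equiv.swap 1 3)
/-- A transposition. -/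
def a0 : W := (1, Equiv.swap 0 2)
/-- A double transposition. -/
def b0 : W := (1, Equiv.swap 0 1 * Equiv.swap 2 3)
/-- An element of order four. -/
def r0 : W := (1, Equiv.swap 0 1 * Equiv.swap 1 2 * Equiv.swap 2 3)

/-- The sign with values in a cyclic group of order two. -/
def sgnM : Perm (Fin 4) →* Multiplicative (ZMod 2) where
  toFun σ := if Perm.sign σ = 1 then 1 else Multiplicative.ofAdd 1
  map_one' := by decide +kernel
  map_mul' := by decide +kernel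

/-- Two linear characters not trivial on the central involution. -/
def chi : Bool → (W →* Multiplicative (ZMod 2))
  | false => MonoidHom.fst _ _
  | true => (MonoidHom.fst _ _) * sgnM.comp (MonoidHom.snd _ _)

/-- The class of transpositions singled out by a character. -/
def aSel : Bool → W
  | false => a0
  | true => t0 * a0

set_option maxRecDepth 20000

theorem basic : t0 * t0 = 1 ∧ z0 * z0 = 1 ∧ r0 * r0 = z0 ∧ r0 * z0 = z0 * r0 ∧ a0 * z0 = z0 * a0 ∧
    b0 * z0 = z0 * b0 ∧ a0 * a0 = 1 := by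
  refine ⟨?_, ?_, ?_, ?_, ?_, ?_, ?_⟩ <;> decide +kernel

theorem basic_ne : t0 ≠ 1 ∧ z0 ≠ 1 ∧ z0 ≠ t0 ∧ t0 * z0 ≠ t0 ∧ t0 * z0 ≠ 1 ∧ t0 * z0 ≠ z0 ∧
    a0 ≠ 1 ∧ a0 ≠ t0 ∧ t0 * a0 ≠ t0 := by
  refine ⟨?_, ?_, ?_, ?_, ?_, ?_, ?_, ?_, ?_⟩ <;> decide +kernel

theorem t0_comm : ∀ w : W, w * t0 = t0 * w := by decide +kernel

theorem center_eq : ∀ w : W, (∀ y : W, w * y = y * w) → w = 1 ∨ w = t0 := by decide +kernel

theorem sylow_center : ∀ w : W, w * z0 = z0 * w → w * w = 1 ∨ w * w = z0 := by decide +kernel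

theorem sylow_comm : ∀ x : W, x * z0 = z0 * x → ∀ y : W, y * z0 = z0 * y →
    x * y * x⁻¹ * y⁻¹ = 1 ∨ x * y * x⁻¹ * y⁻¹ = z0 := by decide +kernel

theorem sylow_card : (Finset.univ.filter fun w : W => w * z0 = z0 * w).card = 16 := by decide +kernel

theorem char_card : ∀ b : Bool,
    (Finset.univ.filter fun w : W => w * z0 = z0 * w ∧ chi b w = 1).card = 8 := by decide +kernel

theorem char_t0 : ∀ b : Bool, chi b t0 ≠ 1 := by decide +kernel

theorem invol_classes : ∀ w : W, w * w = 1 → w = 1 ∨ w = t0 ∨ ∃ u : W, u * w * u⁻¹ = z0 ∨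
    u * w * u⁻¹ = t0 * z0 ∨ u * w * u⁻¹ = a0 ∨ u * w * u⁻¹ = t0 * a0 := by decide +kernel

theorem char_invol : ∀ b : Bool, ∀ w : W, w * z0 = z0 * w → w * w = 1 → chi b w = 1 →
    w = 1 ∨ ∃ u : W, u * w * u⁻¹ = z0 ∨ u * w * u⁻¹ = aSel b := by decide +kernel

theorem a_comm : ∀ w : W, w * z0 = z0 * w → (∃ u : W, u * w * u⁻¹ = a0 ∨ u * w * u⁻¹ = t0 * a0) →
    w * a0 = a0 * w := by decide +kernel

theorem eight : ∀ w : W, w * z0 = z0 * w → w * a0 = a0 * w →
    w = 1 ∨ w = t0 ∨ w = z0 ∨ w = t0 * z0 ∨ w = a0 ∨ w = t0 * a0 ∨ w = a0 * z0 ∨ w = t0 * (a0 * z0) := by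
  decide +kernel

theorem az_conj : (∃ u : W, u * (a0 * z0) * u⁻¹ = a0) ∧ (∃ u : W, u * (t0 * (a0 * z0)) * u⁻¹ = t0 * a0) ∧
    (∃ u : W, u * b0 * u⁻¹ = z0) ∧ (∃ u : W, u * (z0 * b0) * u⁻¹ = z0) := by
  decide +kernel

theorem six : ∀ b : Bool, (Finset.univ.image fun u : W => u * aSel b * u⁻¹).card = 6 ∧
    t0 ∉ (Finset.univ.image fun u : W => u * aSel b * u⁻¹) ∧
    ∃ u : W, u * aSel b * u⁻¹ * aSel b ≠ aSel b * (u * aSel b * u⁻¹) := by
  decide +kernel

theorem snd_one : ∀ w : W, w.2 = 1 → w = 1 ∨ w = t0 := by decide +kernel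

theorem snd_cent : ∀ w : W, w * z0 = z0 * w → w.2 * z0.2 = z0.2 * w.2 := by decide +kernel

/-- The dihedral group inside `S₄`. -/
def dFun : DihedralGroup 4 → Perm (Fin 4)
  | .r i => (Equiv.swap 0 1 * Equiv.swap 1 2 * Equiv.swap 2 3) ^ i.val
  | .sr i => Equiv.swap 0 2 * (Equiv.swap 0 1 * Equiv.swap 1 2 * Equiv.swap 2 3) ^ i.val

/-- Bundled. -/
def dHom : DihedralGroup 4 →* Perm (Fin 4) where
  toFun := dFun
  map_one' := by decide +kernel
  map_mul' := by decide +kernel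

theorem dHom_props : (∀ x y, dHom x = dHom y → x = y) ∧
    (∀ σ : Perm (Fin 4), σ * z0.2 = z0.2 * σ → ∃ x, dHom x = σ) := by
  refine ⟨by decide +kernel, by decide +kernel⟩

end CfsgLib.Perm.ZTwoSFour
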