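import Cfsg.Agent.Lib.Coherent.SylowTI
import Cfsg.Agent.Lib.Coherent.FeitCoherence
import Cfsg.Agent.Lib.Char.Column

/-!
A coherent Frobenius TI normaliser of index one more than the kernel: when the kernel is larger than
the square of one plus the Frobenius index, some irreducible character of the group is trivial on
the derived group of the kernel but not on the kernel.
-/

set_option autoImplicit false
set_option linter.style.haveILetI false
set_option linter.unusedSectionVars false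

namespace CfsgLib.Perm.FeitCoherent

open CfsgLib.Char CfsgLib.Clifford.Coh CfsgLib.Coherent
open scoped ComplexConjugate commutatorElement

universe u

variable {G : Type u} [Group G] [Fintype G]

/-- Induction from the normaliser does not change values on the TI kernel. -/
theorem indFun_apply_kernel (K L : Subgroup G) (hKL : K ≤ L)
    (hTI : ∀ g : G, g ∉ L → ∀ h ∈ K, g * h * g⁻¹ ∈ K → h = 1) (η : L → ℂ)
    (hη : Cfsg.IsClassFunction L η) (hsupp : ∀ x : L, (x : G) ∉ K → η x = 0) {x : L}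
    (hx : (x : G) ∈ K) (hx1 : x ≠ 1) : Cfsg.indFun L η (x : G) = η x := by
  classical
  have hterm : ∀ g : G, Cfsg.extendByZero L η (g⁻¹ * (x : G) * g) = if g ∈ L then η x else 0 := by
    intro g
    split_ifs with hg
    · rw [show g⁻¹ * (x : G) * g = (((⟨g, hg⟩ : L)⁻¹ * x * ⟨g, hg⟩ : L) : G) from rfl,
        extendByZero_coe]
      simpa using hη x (⟨g, hg⟩ : L)⁻¹
    · by_cases hm : g⁻¹ * (x : G) * g ∈ L
      · rw [extendByZero_of_mem _ hm]
        refine hsupp _ fun hK => hx1 (Subtype.ext ?_)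
        refine hTI g⁻¹ (fun h => hg (by simpa using L.inv_mem h)) x hx ?_
        rwa [inv_inv]
      · exact extendByZero_of_not_mem _ hm
  rw [indFun_def, Finset.sum_congr rfl fun g _ => hterm g, ← Finset.sum_filter, Finset.sum_const,
    nsmul_eq_mul, ← Fintype.card_subtype, ← Nat.card_eq_fintype_card,
    inv_mul_cancel_left₀ (by exact_mod_cast Nat.card_pos.ne')]

/-- A part of the constituents gives a lower bound for the degree. -/
theorem degree_ge {L : Type u} [Group L] [Fintype L] {f : L → ℂ} (hf : Cfsg.IsCharacter L f)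
    (s : Finset (L → ℂ)) (hirr : ∀ η ∈ s, Cfsg.IsIrrCharacter L η) (d c : (L → ℂ) → ℕ) (D : ℕ)
    (hd : ∀ η ∈ s, η 1 = (d η : ℂ)) (hc : ∀ η ∈ s, Cfsg.classInner η f = (c η : ℂ))
    (hD : f 1 = (D : ℂ)) : ∑ η ∈ s, c η * d η ≤ D := by
  classical
  letI := Fintype.ofFinite (Cfsg.IrrCharacter L)
  choose C hC using fun χ : Cfsg.IrrCharacter L =>
    classInner_isCharacter_nat hf (irr_isCharacter χ.2)
  choose E hE0 hE using fun χ : Cfsg.IrrCharacter L => irr_apply_one_pos χ.2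
  have h1 : D = ∑ χ : Cfsg.IrrCharacter L, C χ * E χ := by
    refine Nat.cast_injective (R := ℂ) ?_
    rw [← hD, classFunction_apply_eq_sum (isCharacter_isClassFunction hf) 1, Nat.cast_sum]
    exact Finset.sum_congr rfl fun χ _ => by rw [hC, hE, Nat.cast_mul]
  let g : {η // η ∈ s} ↪ Cfsg.IrrCharacter L := ⟨fun η => ⟨η.1, hirr η.1 η.2⟩, fun a b h =>
    Subtype.ext (Subtype.mk.inj h)⟩
  rw [h1, ← Finset.sum_attach s]
  calc ∑ η ∈ s.attach, c η.1 * d η.1 = ∑ η ∈ s.attach, C (g η) * E (g η) := by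
        refine Finset.sum_congr rfl fun η _ => ?_
        have e1 : c η.1 = C (g η) := by
          refine Nat.cast_injective (R := ℂ) ?_
          rw [← hC]
          show (c η.1 : ℂ) = Cfsg.classInner f η.1
          rw [← classInner_conj_symm, hc η.1 η.2, map_natCast]
        have e2 : d η.1 = E (g η) := Nat.cast_injective (R := ℂ) (by
          rw [← hE, ← hd η.1 η.2]; rfl)
        rw [e1, e2]
    _ = ∑ χ ∈ s.attach.map g, C χ * E χ := by rw [Finset.sum_map]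
    _ ≤ _ := Finset.sum_le_sum_of_subset_of_nonneg (Finset.subset_univ _) fun _ _ _ => Nat.zero_le _

set_option maxHeartbeats 1000000 in
/-- The exceptional character with the derived group of the kernel in its kernel. -/
theorem exists_char_derived (K L : Subgroup G) [Fintype L] (hKL : K ≤ L)
    [(K.subgroupOf L).Normal] [Fintype (K.subgroupOf L)]
    (hTI : ∀ g : G, g ∉ L → ∀ h ∈ K, g * h * g⁻¹ ∈ K → h = 1)
    (hK1 : K.subgroupOf L ≠ ⊥) (hK2 : K.subgroupOf L ≠ ⊤)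
    (hC : ∀ h ∈ K.subgroupOf L, h ≠ 1 → Subgroup.centralizer ({h} : Set L) ≤ K.subgroupOf L)
    (hcoh : Cfsg.IsCoherent (Cfsg.inducedIrrAbove (K.subgroupOf L) ⊥) {1}ᶜ
      (fun α : L → ℂ => Cfsg.indFun L α))
    (hidx : L.index = Nat.card K + 1)
    (hbig : ((K.subgroupOf L).index + 1) ^ 2 < Nat.card K) :
    ∃ χ : G → ℂ, Cfsg.IsIrrCharacter G χ ∧ (∀ x ∈ ⁅K, K⁆, χ x = χ 1) ∧ ∃ x ∈ K, χ x ≠ χ 1 := by
  classical
  set H := K.subgroupOf L with hH
  obtain ⟨-, τ, hτ, hτeq⟩ := hcoh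
  obtain ⟨s, hs⟩ := (inducedIrrAbove_finite H ⊥).exists_finset_coe
  have hmem : ∀ {θ : L → ℂ}, θ ∈ s ↔ θ ∈ Cfsg.inducedIrrAbove H ⊥ := fun {θ} => by
    rw [← hs]; rfl
  have hirr : ∀ θ ∈ s, Cfsg.IsIrrCharacter L θ := fun θ h => frobenius_irr hC (hmem.mp h)
  have hcl : ∀ θ ∈ s, Cfsg.IsClassFunction L θ := fun θ h => irr_isClassFunction (hirr θ h)
  have hsupp : ∀ θ ∈ s, ∀ x : L, (x : G) ∉ K → θ x = 0 := by
    intro θ h x hx
    obtain ⟨φ, -, -, -, rfl⟩ := hmem.mp h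
    exact indFun_eq_zero_of_not_mem H φ fun hm => hx (Subgroup.mem_subgroupOf.mp hm)
  have hsub : ∀ θ ∈ s, θ ∈ Cfsg.zspan (Cfsg.inducedIrrAbove H ⊥) := fun θ h =>
    mem_zspan_of_mem (hmem.mp h)
  obtain ⟨e, hedef⟩ : ∃ e, e = H.index := ⟨_, rfl⟩
  have he0 : 0 < e := hedef ▸ Nat.pos_of_ne_zero Subgroup.index_ne_zero_of_finite
  obtain ⟨n, hn⟩ : ∃ n : (L → ℂ) → ℕ, ∀ θ ∈ s, 0 < n θ ∧ θ 1 = ((e * n θ : ℕ) : ℂ) := by
    have h : ∀ θ : L → ℂ, ∃ k : ℕ, θ ∈ s → 0 < k ∧ θ 1 = ((e * k : ℕ) : ℂ) := by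
      intro θ
      by_cases h : θ ∈ s
      · obtain ⟨φ, hφ, -, -, rfl⟩ := hmem.mp h
        obtain ⟨d, hd0, hd⟩ := irr_apply_one_pos hφ
        exact ⟨d, fun _ => ⟨hd0, by rw [indFun_apply_one, hd, hedef, Nat.cast_mul]⟩⟩
      · exact ⟨0, fun h' => absurd h' h⟩
    exact ⟨fun θ => (h θ).choose, fun θ hθ => (h θ).choose_spec hθ⟩
  -- the linear member
  have hnil := frobenius_kernel_nilpotent hC hK2
  obtain ⟨θ₀, hθ₀, hθ₀n, hθ₀d⟩ : ∃ θ₀, θ₀ ∈ s ∧ n θ₀ = 1 ∧ θ₀ ∈ Cfsg.inducedIrrAbove H ⁅H, H⁆ := by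
    haveI := hnil
    obtain ⟨φ, hφ, hφ1, -, hφA⟩ := exists_linear_above H (inferInstance : Group.IsSolvable H)
      (derived_lt hnil hK1)
    have h1 : Cfsg.indFun H φ ∈ Cfsg.inducedIrrAbove H ⁅H, H⁆ := ⟨φ, hφ, hφ1, hφA, rfl⟩
    have h2 : Cfsg.indFun H φ ∈ s := hmem.mpr (inducedIrrAbove_mono H bot_le h1)
    refine ⟨_, h2, ?_, h1⟩
    have h3 := (hn _ h2).2
    rw [degree_of_above_derived h1, ← hedef] at h3
    have : e = e * n (Cfsg.indFun H φ) := by exact_mod_cast h3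
    exact Nat.eq_of_mul_eq_mul_left he0 (by omega)
  -- the sum of squares
  obtain ⟨w, hwdef⟩ : ∃ w, w = ∑ θ ∈ s, n θ ^ 2 := ⟨_, rfl⟩
  have hcardH : Nat.card H = Nat.card K := Nat.card_congr (Subgroup.subgroupOfEquivOfLe hKL).toEquiv
  have hw : e * w + 1 = Nat.card K := by
    have h := frobenius_sum_sq hC s hs (fun θ => e * n θ) fun θ hθ => (hn θ hθ).2
    rw [Subgroup.relIndex_bot_left, ← hedef, hcardH] at h
    have h' : e * (e * w) = e * (Nat.card K - 1) := by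
      rw [← h, hwdef, Finset.mul_sum, Finset.mul_sum]
      exact Finset.sum_congr rfl fun θ _ => by ring
    have := Nat.eq_of_mul_eq_mul_left he0 h'
    have : 0 < Nat.card K := Nat.card_pos
    omega
  rw [← hedef] at hbig
  have hw3 : e + 3 ≤ w := by
    by_contra hlt
    have h1 : e * w ≤ e * (e + 2) := Nat.mul_le_mul_left _ (by omega)
    have h2 : (e + 1) ^ 2 = e * (e + 2) + 1 := by ring
    omega
  -- the images
  have himg : ∀ θ : L → ℂ, ∃ (ε : ℤ) (χ : G → ℂ), θ ∈ s →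
      (ε = 1 ∨ ε = -1) ∧ Cfsg.IsIrrCharacter G χ ∧ τ θ = (ε : ℂ) • χ := by
    intro θ
    by_cases h : θ ∈ s
    · rcases isGeneralized_norm_one (hτ.2.2.2 θ (hsub θ h)) (by
          rw [hτ.2.2.1 θ (hsub θ h) θ (hsub θ h), irr_classInner_self (hirr θ h)]) with h1 | h1
      · exact ⟨1, τ θ, fun _ => ⟨Or.inl rfl, h1, by simp⟩⟩
      · exact ⟨-1, -τ θ, fun _ => ⟨Or.inr rfl, h1, by simp⟩⟩
    · exact ⟨1, 0, fun h' => absurd h' h⟩
  choose ε χ hχ using himg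
  have hεsq : ∀ θ ∈ s, ε θ * ε θ = 1 := fun θ h => by rcases (hχ θ h).1 with r | r <;> simp [r]
  have horth : ∀ θ ∈ s, ∀ η ∈ s, χ θ = χ η → θ = η := by
    intro θ hθ η hη he
    by_contra hne
    have h1 := hτ.2.2.1 θ (hsub θ hθ) η (hsub η hη)
    rw [irr_classInner_ne (hirr θ hθ) (hirr η hη) hne, (hχ θ hθ).2.2, (hχ η hη).2.2, he,
      classInner_smul_left, classInner_smul_right, irr_classInner_self (hχ η hη).2.1, mul_one,
      map_intCast, ← Int.cast_mul, Int.cast_eq_zero] at h1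
    rcases (hχ θ hθ).1 with r | r <;> rcases (hχ η hη).1 with r' | r' <;> simp [r, r'] at h1
  have hinner : ∀ θ ∈ s, ∀ η ∈ s, Cfsg.classInner (τ θ) (χ η) =
      if θ = η then (ε η : ℂ) else 0 := by
    intro θ hθ η hη
    rw [(hχ θ hθ).2.2, classInner_smul_left]
    split_ifs with h
    · rw [h, irr_classInner_self (hχ η hη).2.1, mul_one]
    · rw [irr_classInner_ne (hχ θ hθ).2.1 (hχ η hη).2.1 fun he => h (horth θ hθ η hη he), mul_zero]
  -- multiplicities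
  have hmu : ∀ (θ : L → ℂ) (ψ : G → ℂ), ∃ k : ℕ, θ ∈ s → Cfsg.IsIrrCharacter G ψ →
      Cfsg.classInner θ (fun l : L => ψ l) = (k : ℂ) := by
    intro θ ψ
    by_cases h : θ ∈ s ∧ Cfsg.IsIrrCharacter G ψ
    · obtain ⟨k, hk⟩ := classInner_isCharacter_nat (irr_isCharacter (hirr θ h.1))
        (isCharacter_restrict (irr_isCharacter h.2) L)
      exact ⟨k, fun _ _ => hk⟩
    · exact ⟨0, fun h1 h2 => absurd ⟨h1, h2⟩ h⟩
  choose M hM using hmu
  have hα : ∀ θ ∈ s, ((n θ : ℤ) • θ₀ - θ) ∈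
      Cfsg.zspanOn (Cfsg.inducedIrrAbove H ⊥) ({1}ᶜ : Set L) := by
    intro θ hθ
    refine ⟨Submodule.sub_mem _ (Submodule.smul_mem _ _ (hsub θ₀ hθ₀)) (hsub θ hθ), fun x hx => ?_⟩
    simp only [Set.mem_compl_iff, Set.mem_singleton_iff, not_not] at hx
    subst hx
    rw [Pi.sub_apply, Pi.smul_apply, (hn θ hθ).2, (hn θ₀ hθ₀).2, hθ₀n, zsmul_eq_mul,
      Int.cast_natCast]
    push_cast
    ring
  have hτα : ∀ θ ∈ s, Cfsg.indFun L ((n θ : ℤ) • θ₀ - θ) =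
      (n θ : ℂ) • τ θ₀ - τ θ := by
    intro θ hθ
    refine (hτeq _ (hα θ hθ)).symm.trans ?_
    rw [iso_zspan_sub hτ (Submodule.smul_mem _ _ (hsub θ₀ hθ₀)) (hsub θ hθ),
      hτ.2.1 θ₀ (hsub θ₀ hθ₀), ← Int.cast_smul_eq_zsmul ℂ, Int.cast_natCast]
  obtain ⟨k, hkdef⟩ : ∃ k : (L → ℂ) → ℤ, ∀ η, k η =
      (M θ₀ (χ η) : ℤ) - if θ₀ = η then ε η else 0 := ⟨_, fun _ => rfl⟩
  have hMk : ∀ θ ∈ s, ∀ η ∈ s, (M θ (χ η) : ℤ) = (n θ : ℤ) * k η + if θ = η then ε η else 0 := by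
    intro θ hθ η hη
    have h1 := frobenius_reciprocity L ((n θ : ℤ) • θ₀ - θ) (χ η)
      (irr_isClassFunction (hχ η hη).2.1)
    rw [hτα θ hθ, classInner_sub_left, classInner_sub_left, classInner_smul_left,
      hinner θ₀ hθ₀ η hη, hinner θ hθ η hη, ← Int.cast_smul_eq_zsmul ℂ, classInner_smul_left,
      Int.cast_natCast, hM θ (χ η) hθ (hχ η hη).2.1, hM θ₀ (χ η) hθ₀ (hχ η hη).2.1] at h1
    apply Int.cast_injective (α := ℂ)
    rw [hkdef]
    push_cast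
    linear_combination h1
  -- the common constant
  obtain ⟨c, hcdef⟩ : ∃ c, c = ε θ₀ * k θ₀ := ⟨_, rfl⟩
  have hkc : ∀ θ ∈ s, ε θ * k θ = (n θ : ℤ) * c := by
    intro θ hθ
    have hind : ∀ η ∈ s, ∀ f : L → ℂ, Cfsg.classInner ((ε η : ℂ) • χ η) (Cfsg.indFun L f) =
        (ε η : ℂ) * conj (Cfsg.classInner f (fun l : L => χ η l)) := by
      intro η hη f
      rw [classInner_smul_left, ← classInner_conj_symm,
        frobenius_reciprocity L f _ (irr_isClassFunction (hχ η hη).2.1)]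
    have key : Cfsg.classInner (Cfsg.indFun L ((n θ : ℤ) • θ₀ - θ)) (Cfsg.indFun L θ₀) =
        Cfsg.classInner ((n θ : ℤ) • θ₀ - θ) θ₀ := by
      rw [frobenius_reciprocity _ _ _ (indFun_isClassFunction _ _), classInner_def, classInner_def]
      congr 1
      refine Finset.sum_congr rfl fun x _ => ?_
      by_cases hx : (x : G) ∈ K ∧ x ≠ 1
      · rw [indFun_apply_kernel K L hKL hTI θ₀ (hcl θ₀ hθ₀) (hsupp θ₀ hθ₀) hx.1 hx.2]
      · have h0 : ((n θ : ℤ) • θ₀ - θ) x = 0 := by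
          by_cases hx1 : x = 1
          · exact (hα θ hθ).2 x (by simp [hx1])
          · have hxK : (x : G) ∉ K := fun h => hx ⟨h, hx1⟩
            simp [hsupp θ₀ hθ₀ x hxK, hsupp θ hθ x hxK]
        rw [h0, zero_mul, zero_mul]
    rw [hτα θ hθ, classInner_sub_left, classInner_smul_left, (hχ θ₀ hθ₀).2.2, (hχ θ hθ).2.2,
      hind θ₀ hθ₀, hind θ hθ, hM θ₀ _ hθ₀ (hχ θ₀ hθ₀).2.1, hM θ₀ _ hθ₀ (hχ θ hθ).2.1,
      map_natCast, map_natCast, classInner_sub_left, ← Int.cast_smul_eq_zsmul ℂ,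
      classInner_smul_left, irr_classInner_self (hirr θ₀ hθ₀), irr_classInner (hirr θ hθ) (hirr θ₀ hθ₀)]
      at key
    have h1 := hMk θ₀ hθ₀ θ₀ hθ₀
    have h2 := hMk θ₀ hθ₀ θ hθ
    rw [hθ₀n, Nat.cast_one, one_mul] at h1 h2
    rw [if_pos rfl] at h1
    have key' : (n θ : ℤ) * (ε θ₀ * M θ₀ (χ θ₀)) - ε θ * M θ₀ (χ θ) =
        (n θ : ℤ) - if θ = θ₀ then 1 else 0 := by
      apply Int.cast_injective (α := ℂ)
      push_cast at key ⊢
      simpa [mul_comm, mul_assoc, mul_left_comm] using key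
    rw [h1, h2] at key'
    by_cases he : θ = θ₀
    · subst he; rw [hcdef, hθ₀n]; ring
    · rw [if_neg he, if_neg (Ne.symm he)] at key'
      have := hεsq θ₀ hθ₀
      rw [hcdef]
      linear_combination -key' + (n θ : ℤ) * this
  -- nonnegativity
  have hk0 : ∀ θ ∈ s, 0 ≤ k θ := by
    intro θ hθ
    obtain ⟨η, hη, hne⟩ : ∃ η ∈ s, η ≠ θ := by
      by_contra h
      push Not at h
      have h1 : s = {θ} := Finset.eq_singleton_iff_unique_mem.mpr ⟨hθ, h⟩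
      rw [h1, Finset.sum_singleton, ← h θ₀ hθ₀, hθ₀n] at hwdef
      omega
    have h := hMk η hη θ hθ
    rw [if_neg hne, add_zero] at h
    have h1 : 0 ≤ (n η : ℤ) * k θ := h ▸ Int.natCast_nonneg _
    exact nonneg_of_mul_nonneg_right h1 (by exact_mod_cast (hn η hη).1)
  obtain ⟨K0, hK0⟩ : ∃ K0 : ℕ, k θ₀ = K0 := Int.eq_ofNat_of_zero_le (hk0 θ₀ hθ₀)
  have hkK : ∀ θ ∈ s, k θ = (n θ : ℤ) * K0 := by
    intro θ hθ
    have h := hkc θ hθ
    rw [hcdef, hK0] at h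
    have hb : 0 ≤ (n θ : ℤ) * K0 := by positivity
    rcases (hχ θ hθ).1 with r | r <;> rcases (hχ θ₀ hθ₀).1 with r' | r' <;>
      simp only [r, r'] at h <;> have := hk0 θ hθ <;> linarith
  have hKzero : K0 = 0 := by
    by_contra hne
    have hK1 : (1 : ℤ) ≤ K0 := by exact_mod_cast Nat.pos_of_ne_zero hne
    choose D hD0 hD using fun θ : {θ // θ ∈ s} => irr_apply_one_pos (hχ θ.1 θ.2).2.1
    have hdeg : ∀ θ : {θ // θ ∈ s}, (e : ℤ) * n θ.1 * ((K0 : ℤ) * w + ε θ.1) ≤ D θ := by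
      intro θ
      have h := degree_ge (isCharacter_restrict (irr_isCharacter (hχ θ.1 θ.2).2.1) L) s hirr
        (fun η => e * n η) (fun η => M η (χ θ.1)) (D θ) (fun η hη => (hn η hη).2)
        (fun η hη => hM η _ hη (hχ θ.1 θ.2).2.1) (by simp [hD θ])
      have h' : ((∑ η ∈ s, M η (χ θ.1) * (e * n η) : ℕ) : ℤ) ≤ (D θ : ℤ) := by exact_mod_cast h
      refine le_trans (le_of_eq ?_) h'
      push_cast
      rw [Finset.sum_congr rfl fun η hη => by rw [hMk η hη θ.1 θ.2, hkK θ.1 θ.2]]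
      simp only [add_mul, Finset.sum_add_distrib, ite_mul, zero_mul, Finset.sum_ite_eq',
        θ.2, if_true]
      rw [hwdef, Nat.cast_sum, mul_add, Finset.mul_sum, Finset.mul_sum]
      refine congrArg₂ (· + ·) (Finset.sum_congr rfl fun η _ => ?_) ?_
      · push_cast; ring
      · ring
    have hG : ∑ θ : {θ // θ ∈ s}, (M θ₀ (χ θ.1) : ℤ) * D θ ≤ ((Nat.card K : ℤ) + 1) * e := by
      have hInd := isCharacter_indFun L (irr_isCharacter (hirr θ₀ hθ₀))
      let D' : (G → ℂ) → ℕ := fun ψ => if h : ∃ d : ℕ, ψ 1 = d then h.choose else 0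
      have hD' : ∀ θ : {θ // θ ∈ s}, D' (χ θ.1) = D θ := by
        intro θ
        have h : ∃ d : ℕ, χ θ.1 1 = (d : ℂ) := ⟨D θ, hD θ⟩
        simp only [D', dif_pos h]
        exact_mod_cast h.choose_spec.symm.trans (hD θ)
      have hge := degree_ge (L := G) hInd (s.image χ) (fun ψ hψ => by
          obtain ⟨θ, hθ, rfl⟩ := Finset.mem_image.mp hψ; exact (hχ θ hθ).2.1)
        D' (fun ψ => M θ₀ ψ) ((Nat.card K + 1) * e) (fun ψ hψ => by
          obtain ⟨θ, hθ, rfl⟩ := Finset.mem_image.mp hψ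
          rw [hD' ⟨θ, hθ⟩]; exact hD ⟨θ, hθ⟩)
        (fun ψ hψ => by
          obtain ⟨θ, hθ, rfl⟩ := Finset.mem_image.mp hψ
          rw [← classInner_conj_symm, frobenius_reciprocity _ _ _ (irr_isClassFunction (hχ θ hθ).2.1),
            hM θ₀ _ hθ₀ (hχ θ hθ).2.1, map_natCast])
        (by rw [indFun_apply_one, (hn θ₀ hθ₀).2, hθ₀n, hidx, mul_one]; push_cast; ring)
      rw [Finset.sum_image horth] at hge
      have hge' : ((∑ θ ∈ s, M θ₀ (χ θ) * D' (χ θ) : ℕ) : ℤ) ≤ (((Nat.card K + 1) * e : ℕ) : ℤ) := by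
        exact_mod_cast hge
      push_cast at hge'
      refine le_trans (le_of_eq ?_) hge'
      rw [← Finset.sum_coe_sort s]
      exact Finset.sum_congr rfl fun θ _ => by rw [hD' θ]
    have hlow : ∀ θ : {θ // θ ∈ s}, (θ.1 ≠ θ₀ → ((e : ℤ) * ((w : ℤ) - 1)) * (n θ.1 : ℤ) ^ 2 ≤
        (M θ₀ (χ θ.1) : ℤ) * D θ) := by
      intro θ hne
      have h := hMk θ₀ hθ₀ θ.1 θ.2
      rw [if_neg (Ne.symm hne), add_zero, hθ₀n, Nat.cast_one, one_mul, hkK θ.1 θ.2] at h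
      rw [h]
      have h1 : (n θ.1 : ℤ) ≤ (n θ.1 : ℤ) * K0 := le_mul_of_one_le_right (Int.natCast_nonneg _) hK1
      have h2 : (e : ℤ) * n θ.1 * ((w : ℤ) - 1) ≤ D θ := by
        refine le_trans (mul_le_mul_of_nonneg_left ?_ (by positivity)) (hdeg θ)
        have h3 : (w : ℤ) ≤ (K0 : ℤ) * w := le_mul_of_one_le_left (Int.natCast_nonneg _) hK1
        rcases (hχ θ.1 θ.2).1 with r | r <;> rw [r] <;> linarith
      calc (e : ℤ) * ((w : ℤ) - 1) * (n θ.1 : ℤ) ^ 2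
            = (n θ.1 : ℤ) * ((e : ℤ) * n θ.1 * ((w : ℤ) - 1)) := by ring
        _ ≤ (n θ.1 : ℤ) * (D θ : ℤ) := mul_le_mul_of_nonneg_left h2 (Int.natCast_nonneg _)
        _ ≤ _ := mul_le_mul_of_nonneg_right h1 (Int.natCast_nonneg _)
    have hsum : ((e : ℤ) * ((w : ℤ) - 1)) * ((w : ℤ) - 1) ≤ ((Nat.card K : ℤ) + 1) * e := by
      refine le_trans ?_ hG
      have e1 : (w : ℤ) - 1 = ∑ θ ∈ Finset.univ.erase (⟨θ₀, hθ₀⟩ : {θ // θ ∈ s}),
          (n θ.1 : ℤ) ^ 2 := by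
        have h := Finset.add_sum_erase Finset.univ (fun θ : {θ // θ ∈ s} => (n θ.1 : ℤ) ^ 2)
          (Finset.mem_univ (⟨θ₀, hθ₀⟩ : {θ // θ ∈ s}))
        rw [Finset.sum_coe_sort s (fun θ => (n θ : ℤ) ^ 2)] at h
        simp only [hθ₀n, Nat.cast_one, one_pow] at h
        rw [hwdef]
        push_cast
        linarith
      calc (e : ℤ) * ((w : ℤ) - 1) * ((w : ℤ) - 1)
          = ∑ θ ∈ Finset.univ.erase (⟨θ₀, hθ₀⟩ : {θ // θ ∈ s}),
              (e : ℤ) * ((w : ℤ) - 1) * (n θ.1 : ℤ) ^ 2 := by rw [← Finset.mul_sum, ← e1]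
        _ ≤ _ := ?_
      refine le_trans (Finset.sum_le_sum fun θ hθ => hlow θ fun h =>
        (Finset.mem_erase.mp hθ).1 (Subtype.ext h)) ?_
      exact Finset.sum_le_sum_of_subset_of_nonneg (Finset.erase_subset _ _) fun θ _ _ => by positivity
    have hKw : (Nat.card K : ℤ) = e * w + 1 := by exact_mod_cast hw.symm
    rw [hKw] at hsum
    have he1 : (0 : ℤ) < e := by exact_mod_cast he0
    have h4 : ((w : ℤ) - 1) * ((w : ℤ) - 1) ≤ (e : ℤ) * w + 2 :=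
      le_of_mul_le_mul_left (by linarith) he1
    have h5 : (e : ℤ) + 3 ≤ w := by exact_mod_cast hw3
    have h6 : (w : ℤ) * (e + 3) ≤ w * w := mul_le_mul_of_nonneg_left h5 (Int.natCast_nonneg _)
    linarith
  -- conclusion
  have hM0 : ∀ θ ∈ s, θ ≠ θ₀ → M θ (χ θ₀) = 0 := fun θ hθ hne => by
    have h := hMk θ hθ θ₀ hθ₀
    rw [if_neg hne, hkK θ₀ hθ₀, hKzero] at h
    simpa using h
  have hM1 : M θ₀ (χ θ₀) = 1 := by
    have h := hMk θ₀ hθ₀ θ₀ hθ₀
    rw [if_pos rfl, hkK θ₀ hθ₀, hKzero] at h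
    rcases (hχ θ₀ hθ₀).1 with r | r <;> rw [r] at h <;> simp at h <;> omega
  have hval : ∀ x : L, x ∈ H → χ θ₀ (x : G) - χ θ₀ 1 = θ₀ x - θ₀ 1 := by
    intro x hx
    letI := Fintype.ofFinite (Cfsg.IrrCharacter L)
    have hf := isCharacter_isClassFunction (isCharacter_restrict (irr_isCharacter (hχ θ₀ hθ₀).2.1) L)
    have hx1 := classFunction_apply_eq_sum hf 1
    simp only [OneMemClass.coe_one] at hx1
    rw [classFunction_apply_eq_sum hf x, hx1, ← Finset.sum_sub_distrib,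
      Finset.sum_eq_single (⟨θ₀, hirr θ₀ hθ₀⟩ : Cfsg.IrrCharacter L)]
    · show Cfsg.classInner (fun l : L => χ θ₀ l) θ₀ * θ₀ x -
        Cfsg.classInner (fun l : L => χ θ₀ l) θ₀ * θ₀ 1 = _
      rw [← classInner_conj_symm, hM θ₀ _ hθ₀ (hχ θ₀ hθ₀).2.1, hM1]
      simp
    · intro ξ _ hne
      by_cases hξ : (ξ : L → ℂ) ∈ s
      · rw [← classInner_conj_symm, hM _ _ hξ (hχ θ₀ hθ₀).2.1,
          hM0 _ hξ fun h => hne (Subtype.ext h)]
        simp
      · have h1 : (ξ : L → ℂ) x = (ξ : L → ℂ) 1 := by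
          by_contra h
          refine hξ (hmem.mpr ?_)
          rw [← frobenius_setOf_eq hC]
          exact ⟨ξ.2, x, hx, h⟩
        rw [h1, sub_self]
    · intro h; exact absurd (Finset.mem_univ _) h
  refine ⟨χ θ₀, (hχ θ₀ hθ₀).2.1, fun x hx => ?_, ?_⟩
  · obtain ⟨φ, -, -, hφA, hφe⟩ := hθ₀d
    have hx' : x ∈ ⁅H, H⁆.map L.subtype := by
      rw [Subgroup.map_commutator, hH, Subgroup.map_subgroupOf_eq_of_le hKL]
      exact hx
    obtain ⟨l, hl, rfl⟩ := hx'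
    have hlH : l ∈ H := Subgroup.commutator_le_self H hl
    have h := hval l hlH
    have h2 : θ₀ l = θ₀ 1 := by
      rw [hφe]; exact indFun_apply_of_mem H hφA (a := ⟨l, hlH⟩) hl
    rw [h2, sub_self, sub_eq_zero] at h
    exact h
  · obtain ⟨-, x, hx, hne⟩ := (frobenius_setOf_eq hC).symm.subset (hmem.mp hθ₀)
    refine ⟨x, Subgroup.mem_subgroupOf.mp hx, fun h => hne ?_⟩
    have h' := hval x hx
    rw [h, sub_self] at h'
    exact (sub_eq_zero.mp h'.symm)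

end CfsgLib.Perm.FeitCoherent
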