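import Cfsg.Agent.Lib.Perm.Basic
import Cfsg.Agent.Lib.Perm.ZassenhausKernel
import Cfsg.Agent.Lib.Char.TI
import Cfsg.Agent.Lib.Char.Frobenius
import Cfsg.Agent.Lib.Char.FS
import Cfsg.Agent.Lib.Char.Linear
import Mathlib.GroupTheory.Perm.Cycle.Type

/-!
Doubly transitive groups in which only the identity fixes three points, the one point stabiliser
has an abelian regular normal subgroup of order `q` and the two point stabiliser has odd order
`h > 1` and is inverted by the elements swapping the two points: then `q - 1 ≤ 2 * h`.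
This file: the group theoretic facts.
-/

set_option autoImplicit false

namespace CfsgLib.Perm

open MulAction

universe u v

/-- The configuration. -/
structure OddKernel (G : Type u) (Ω : Type v) [Group G] [MulAction G Ω] [Fintype Ω] (a b : Ω)
    (F : Subgroup G) : Prop where
  ab : a ≠ b
  two : IsMultiplyPretransitive G Ω 2
  three : ∀ g : G, ∀ x y z : Ω, x ≠ y → y ≠ z → x ≠ z → g • x = x → g • y = y → g • z = z → g = 1
  fix : ∀ x ∈ F, x • a = a
  normal : ∀ g : G, g • a = a → ∀ x ∈ F, g * x * g⁻¹ ∈ F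
  comm : ∀ x ∈ F, ∀ y ∈ F, x * y = y * x
  reg : ∀ y z : Ω, y ≠ a → z ≠ a → ∃! u : F, (u : G) • y = z
  big : 3 ≤ Fintype.card Ω
  odd : Odd (Nat.card (stabilizer G a ⊓ stabilizer G b : Subgroup G))
  inv : ∀ s : G, s • a = b → s • b = a → ∀ x ∈ stabilizer G a ⊓ stabilizer G b, s * x * s⁻¹ = x⁻¹
  one_lt : 1 < Nat.card (stabilizer G a ⊓ stabilizer G b : Subgroup G)

namespace OddKernel

variable {G : Type u} {Ω : Type v} [Group G] [Finite G] [MulAction G Ω] [Fintype Ω] {a b : Ω}
  {F : Subgroup G} (C : OddKernel G Ω a b F)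

include C

omit [Finite G] in
theorem free {x : G} (hx : x ∈ F) {y : Ω} (hy : y ≠ a) (e : x • y = y) : x = 1 :=
  congrArg Subtype.val ((C.reg y y hy hy).unique (y₁ := (⟨x, hx⟩ : F)) e
    (show ((1 : F) : G) • y = y from one_smul _ _))

omit [Finite G] in
theorem fix_only {x : G} (hx : x ∈ F) (hx1 : x ≠ 1) {y : Ω} (e : x • y = y) : y = a := by
  by_contra hy; exact hx1 (C.free hx hy e)

omit [Finite G] in
theorem card_F : Nat.card F + 1 = Fintype.card Ω := by
  classical
  have e : Nat.card F = Nat.card {z : Ω // z ≠ a} := by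
    refine Nat.card_eq_of_bijective
      (fun u => ⟨(u : G) • b, fun h => C.ab ?_⟩) ⟨fun u v h => ?_, fun z => ?_⟩
    · exact (MulAction.injective (u : G) ((C.fix u u.2).trans h.symm))
    · exact (C.reg b ((v : G) • b) C.ab.symm
        (fun h' => C.ab (MulAction.injective (v : G) ((C.fix v v.2).trans h'.symm)))).unique
        (congrArg Subtype.val h) rfl
    · obtain ⟨u, hu, -⟩ := C.reg b z.1 C.ab.symm z.2
      exact ⟨u, Subtype.ext hu⟩
  rw [e, Nat.card_eq_fintype_card, Fintype.card_subtype_compl, Fintype.card_subtype_eq]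
  have := C.big
  omega

omit [Finite G] in
theorem two_le_card_F : 2 ≤ Nat.card F := by
  have := C.card_F; have := C.big; omega

omit [Finite G] in
theorem exists_ne_one : ∃ x ∈ F, x ≠ (1 : G) := by
  obtain ⟨w, hwa, hwb⟩ : ∃ w : Ω, w ≠ a ∧ w ≠ b := by
    classical
    have h : 0 < (((Finset.univ : Finset Ω).erase a).erase b).card := by
      rw [Finset.card_erase_of_mem (Finset.mem_erase.mpr ⟨C.ab.symm, Finset.mem_univ _⟩),
        Finset.card_erase_of_mem (Finset.mem_univ _), Finset.card_univ]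
      have := C.big; omega
    obtain ⟨w, hw⟩ := Finset.card_pos.mp h
    simp at hw
    exact ⟨w, hw.2, hw.1⟩
  obtain ⟨u, hu, -⟩ := C.reg b w C.ab.symm hwa
  exact ⟨u, u.2, fun e => hwb (by rw [← hu, e, one_smul])⟩

theorem card_G : Nat.card G = Nat.card (stabilizer G a ⊓ stabilizer G b : Subgroup G) *
    ((Nat.card F + 1) * Nat.card F) := by
  rw [natCard_two_transitive C.two C.ab, C.card_F, ← C.card_F, Nat.add_sub_cancel]

omit [Finite G] in
theorem mem_normalizer_iff (g : G) : g ∈ Subgroup.normalizer (F : Set G) ↔ g • a = a := by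
  constructor
  · intro hg
    obtain ⟨x, hx, hx1⟩ := C.exists_ne_one
    have h1 : g⁻¹ * x * g ∈ F := by
      have := (Subgroup.mem_normalizer_iff''.mp hg x).mp hx
      simpa using this
    apply C.fix_only hx hx1
    have h := C.fix _ h1
    rw [mul_smul, mul_smul, inv_smul_eq_iff] at h
    exact h
  · intro hg
    rw [Subgroup.mem_normalizer_iff]
    intro x
    refine ⟨C.normal g hg x, fun h => ?_⟩
    have := C.normal g⁻¹ (by rw [inv_smul_eq_iff, hg]) _ h
    simpa [mul_assoc] using this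

omit [Finite G] in
theorem ti (g : G) (hg : g ∉ Subgroup.normalizer (F : Set G)) (x : G) (hx : x ∈ (F : Set G))
    (h : g * x * g⁻¹ ∈ (F : Set G)) : x = 1 := by
  by_contra hx1
  refine hg ((C.mem_normalizer_iff g).mpr (C.fix_only (x := g * x * g⁻¹) h ?_ ?_))
  · exact fun e => hx1 (conj_eq_one_iff.mp e)
  · rw [mul_smul, mul_smul, inv_smul_smul, C.fix x hx]

omit [Finite G] in
theorem exists_decomp {g : G} (hg : g • a = a) : ∃ u ∈ F, ∃ k ∈ stabilizer G a ⊓ stabilizer G b,
    g = u * k := by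
  obtain ⟨u, hu, -⟩ := C.reg b (g • b) C.ab.symm
    (fun h => C.ab (MulAction.injective g (hg.trans h.symm)))
  refine ⟨u, u.2, (u : G)⁻¹ * g, ⟨?_, ?_⟩, by group⟩
  · show ((u : G)⁻¹ * g) • a = a
    rw [mul_smul, hg, inv_smul_eq_iff, C.fix u u.2]
  · show ((u : G)⁻¹ * g) • b = b
    rw [mul_smul, ← hu, inv_smul_smul]

omit [Finite G] in
theorem decomp_unique {u u' k k' : G} (hu : u ∈ F) (hu' : u' ∈ F)
    (hk : k ∈ stabilizer G a ⊓ stabilizer G b) (hk' : k' ∈ stabilizer G a ⊓ stabilizer G b)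
    (e : u * k = u' * k') : u = u' ∧ k = k' := by
  have h : (u'⁻¹ * u) • b = b := by
    rw [show u'⁻¹ * u = k' * k⁻¹ by rw [eq_mul_inv_iff_mul_eq, mul_assoc, e, inv_mul_cancel_left],
      mul_smul, show k⁻¹ • b = b by rw [inv_smul_eq_iff]; exact hk.2.symm]
    exact hk'.2
  have h' : u' = u := inv_mul_eq_one.mp (C.free (mul_mem (inv_mem hu') hu) C.ab.symm h)
  subst h'
  exact ⟨rfl, mul_left_cancel e⟩

omit [Finite G] in
theorem fpf {k : G} (hk : k ∈ stabilizer G a ⊓ stabilizer G b) (hk1 : k ≠ 1) {x : G} (hx : x ∈ F)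
    (e : k * x = x * k) : x = 1 := by
  by_contra hx1
  have h1 : k • (x • b) = x • b := by rw [← mul_smul, e, mul_smul, show k • b = b from hk.2]
  have h2 : x • b ≠ b := fun h => hx1 (C.free hx C.ab.symm h)
  have h3 : x • b ≠ a := fun h => C.ab (MulAction.injective x ((C.fix x hx).trans h.symm))
  exact hk1 (C.three k a b (x • b) C.ab (Ne.symm h2) (Ne.symm h3) hk.1 hk.2 h1)

/-- Elements outside the kernel are conjugate into the two point stabiliser. -/
theorem exists_conj {k : G} (hk : k ∈ stabilizer G a ⊓ stabilizer G b) (hk1 : k ≠ 1) {u : G}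
    (hu : u ∈ F) : ∃ v ∈ F, u * k = v * k * v⁻¹ := by
  let f : F → F := fun v => ⟨(v : G) * (k * (v : G) * k⁻¹)⁻¹,
    mul_mem v.2 (inv_mem (C.normal k hk.1 v v.2))⟩
  have hf : Function.Injective f := by
    intro v w e
    have e' : (v : G) * (k * (v : G) * k⁻¹)⁻¹ = (w : G) * (k * (w : G) * k⁻¹)⁻¹ :=
      congrArg Subtype.val e
    refine Subtype.ext (inv_mul_eq_one.mp (C.fpf hk hk1 (mul_mem (inv_mem v.2) w.2) ?_))
    have h2 : k * ((v : G)⁻¹ * w) * k⁻¹ = (v : G)⁻¹ * w := by
      have h3 : (k * (v : G) * k⁻¹)⁻¹ * (k * (w : G) * k⁻¹) = (v : G)⁻¹ * w := by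
        have h4 := congrArg (fun x => (v : G)⁻¹ * x * (k * (w : G) * k⁻¹)) e'
        simpa [mul_assoc] using h4
      conv_rhs => rw [← h3]
      group
    exact mul_inv_eq_iff_eq_mul.mp h2
  obtain ⟨v, hv⟩ := (Finite.injective_iff_surjective.mp hf) ⟨u, hu⟩
  refine ⟨v, v.2, ?_⟩
  rw [show u = (v : G) * (k * (v : G) * k⁻¹)⁻¹ from (congrArg Subtype.val hv).symm]
  group

theorem mem_or_fix {g : G} (hg : g • a = a) : g ∈ F ∨ ∃ y : Ω, y ≠ a ∧ g • y = y := by
  obtain ⟨u, hu, k, hk, rfl⟩ := C.exists_decomp hg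
  by_cases hk1 : k = 1
  · left; rw [hk1, mul_one]; exact hu
  · obtain ⟨v, hv, e⟩ := C.exists_conj hk hk1 hu
    refine Or.inr ⟨v • b, fun h => C.ab (MulAction.injective v ((C.fix v hv).trans h.symm)), ?_⟩
    rw [e, mul_smul, mul_smul, inv_smul_smul, show k • b = b from hk.2]

omit [Finite G] in
theorem exists_swap : ∃ s : G, s • a = b ∧ s • b = a := exists_smul_pair C.two C.ab C.ab.symm

omit [Finite G] in
theorem two_point_comm {x y : G} (hx : x ∈ stabilizer G a ⊓ stabilizer G b)
    (hy : y ∈ stabilizer G a ⊓ stabilizer G b) : x * y = y * x := by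
  obtain ⟨s, h1, h2⟩ := C.exists_swap
  have e := C.inv s h1 h2 _ (mul_mem hx hy)
  have e' : s * (x * y) * s⁻¹ = (s * x * s⁻¹) * (s * y * s⁻¹) := by group
  rw [e', C.inv s h1 h2 x hx, C.inv s h1 h2 y hy, ← mul_inv_rev, inv_inj] at e
  exact e.symm

omit [Finite G] in
theorem eq_one_of_sq {x : G} (hx : x ∈ stabilizer G a ⊓ stabilizer G b) (h2 : x * x = 1) :
    x = 1 := by
  have h1 : (⟨x, hx⟩ : (stabilizer G a ⊓ stabilizer G b : Subgroup G)) = 1 := by
    have hc : Nat.Coprime (Nat.card (stabilizer G a ⊓ stabilizer G b : Subgroup G)) 2 :=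
      (Nat.coprime_two_right.mpr C.odd)
    have h3 := pow_card_eq_one' (x := (⟨x, hx⟩ : (stabilizer G a ⊓ stabilizer G b : Subgroup G)))
    have h4 : (⟨x, hx⟩ : (stabilizer G a ⊓ stabilizer G b : Subgroup G)) ^ 2 = 1 :=
      Subtype.ext (by simpa [pow_two] using h2)
    have h5 := pow_gcd_eq_one.mpr ⟨h3, h4⟩
    rwa [hc.gcd_eq_one, pow_one] at h5
  exact congrArg Subtype.val h1

omit [Finite G] in
theorem swap_sq {s : G} (h1 : s • a = b) (h2 : s • b = a) : s * s = 1 := by
  have hm : s * s ∈ stabilizer G a ⊓ stabilizer G b :=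
    ⟨show (s * s) • a = a by rw [mul_smul, h1, h2], show (s * s) • b = b by rw [mul_smul, h2, h1]⟩
  refine C.eq_one_of_sq hm (eq_inv_iff_mul_eq_one.mp ?_)
  have e := C.inv s h1 h2 _ hm
  rwa [show s * (s * s) * s⁻¹ = s * s by group] at e

section Involutions

omit [Finite G] in
/-- The number of moved points, double counted. -/
theorem moved_ge [Fintype G] [DecidableEq G] [DecidableEq Ω] (c : Ω) :
    (Fintype.card Ω - 1) * Nat.card (stabilizer G a ⊓ stabilizer G b : Subgroup G) ≤
      ((Finset.univ.filter fun g : G => g * g = 1 ∧ g ≠ 1).filter fun g => g • c ≠ c).card := by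
  classical
  obtain ⟨s, hsa, hsb⟩ := C.exists_swap
  rw [Finset.card_eq_sum_card_fiberwise (f := fun g : G => g • c) (t := (Finset.univ.erase c))
    (fun g hg => Finset.mem_coe.mpr (Finset.mem_erase.mpr
      ⟨(Finset.mem_filter.mp (Finset.mem_coe.mp hg)).2, Finset.mem_univ _⟩))]
  refine le_trans (le_of_eq ?_) (Finset.card_nsmul_le_sum _ _
    (Nat.card (stabilizer G a ⊓ stabilizer G b : Subgroup G)) fun d hd => ?_)
  · rw [smul_eq_mul, Finset.card_erase_of_mem (Finset.mem_univ _), Finset.card_univ]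
  · obtain ⟨t, hta, htb⟩ := exists_smul_pair C.two C.ab (Finset.mem_erase.mp hd).1.symm
    rw [Nat.card_eq_fintype_card, ← Finset.card_univ]
    refine Finset.card_le_card_of_injOn (fun k => t * (s * (k : G)) * t⁻¹) (fun k _ => ?_) ?_
    · have e1 : (s * (k : G)) • a = b := by rw [mul_smul, show (k : G) • a = a from k.2.1, hsa]
      have e2 : (s * (k : G)) • b = a := by rw [mul_smul, show (k : G) • b = b from k.2.2, hsb]
      have h2 := C.swap_sq e1 e2
      have hcd : (t * (s * (k : G)) * t⁻¹) • c = d := by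
        rw [mul_smul, mul_smul, ← hta, inv_smul_smul, e1, htb]
      refine Finset.mem_coe.mpr (Finset.mem_filter.mpr ⟨Finset.mem_filter.mpr
        ⟨Finset.mem_filter.mpr ⟨Finset.mem_univ _, ?_, fun e => ?_⟩, ?_⟩, hcd⟩)
      · rw [show t * (s * (k : G)) * t⁻¹ * (t * (s * (k : G)) * t⁻¹) =
          t * ((s * (k : G)) * (s * (k : G))) * t⁻¹ by group, h2]
        group
      · beta_reduce at e
        rw [e, one_smul] at hcd
        exact (Finset.mem_erase.mp hd).1 hcd.symm
      · show (t * (s * (k : G)) * t⁻¹) • c ≠ c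
        rw [hcd]; exact (Finset.mem_erase.mp hd).1
    · intro k _ l _ e
      exact Subtype.ext (mul_left_cancel (mul_left_cancel (mul_right_cancel e)))

omit [Finite G] in
theorem involution_bound [Fintype G] [DecidableEq G] (M : ℕ) [DecidableEq Ω]
    (hM : ∀ g : G, g * g = 1 → g ≠ 1 → (Finset.univ.filter fun c : Ω => g • c ≠ c).card ≤ M) :
    Fintype.card Ω * ((Fintype.card Ω - 1) * Nat.card (stabilizer G a ⊓ stabilizer G b : Subgroup G)) ≤
      (Finset.univ.filter fun g : G => g * g = 1 ∧ g ≠ 1).card * M := by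
  classical
  have h1 : Fintype.card Ω *
      ((Fintype.card Ω - 1) * Nat.card (stabilizer G a ⊓ stabilizer G b : Subgroup G)) ≤
      ∑ c : Ω, ((Finset.univ.filter fun g : G => g * g = 1 ∧ g ≠ 1).filter
        fun g => g • c ≠ c).card := by
    rw [← Finset.card_univ, ← smul_eq_mul (Finset.univ : Finset Ω).card]
    exact Finset.card_nsmul_le_sum _ _ _ fun c _ => C.moved_ge c
  refine h1.trans ?_
  rw [Finset.sum_congr rfl fun c _ => Finset.card_filter _ _, Finset.sum_comm, ← smul_eq_mul]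
  refine Finset.sum_le_card_nsmul _ _ _ fun g hg => ?_
  rw [← Finset.card_filter]
  exact hM g (Finset.mem_filter.mp hg).2.1 (Finset.mem_filter.mp hg).2.2

theorem natCard_sq_eq [Fintype G] [DecidableEq G] :
    Nat.card {g : G // g * g = 1} = (Finset.univ.filter fun g : G => g * g = 1 ∧ g ≠ 1).card + 1 := by
  have _ := C
  rw [Nat.card_eq_fintype_card, Fintype.card_subtype]
  have e : (Finset.univ.filter fun g : G => g * g = 1) =
      insert 1 (Finset.univ.filter fun g : G => g * g = 1 ∧ g ≠ 1) := by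
    ext g
    by_cases h : g = 1
    · simp [h]
    · simp [h]
  rw [e, Finset.card_insert_of_notMem (by simp)]

omit [Finite G] in
theorem sq_count_ge [Finite G] :
    Nat.card F * Nat.card (stabilizer G a ⊓ stabilizer G b : Subgroup G) + 1 ≤
      Nat.card {g : G // g * g = 1} := by
  classical
  have := Fintype.ofFinite G
  rw [C.natCard_sq_eq]
  have h := C.involution_bound (Fintype.card Ω) (fun g _ _ => (Finset.card_filter_le _ _).trans (by simp))
  rw [← C.card_F, Nat.add_sub_cancel, mul_comm ((Finset.univ.filter _).card) _] at h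
  exact Nat.succ_le_succ (Nat.le_of_mul_le_mul_left h (Nat.succ_pos _))

theorem exists_fixed_of_odd (hn : Odd (Fintype.card Ω)) {g : G} (hg : g * g = 1) :
    ∃ c : Ω, g • c = c := by
  classical
  have _ := C
  haveI : Fact (Nat.Prime 2) := ⟨Nat.prime_two⟩
  have h2 : ¬ 2 ∣ Fintype.card Ω := Nat.two_dvd_ne_zero.mpr (Nat.odd_iff.mp hn)
  obtain ⟨c, hc⟩ := Equiv.Perm.exists_fixed_point_of_prime (p := 2) (n := 1) h2
    (σ := MulAction.toPerm g) (by
      ext c
      simp [pow_succ, ← mul_smul, hg])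
  exact ⟨c, hc⟩

theorem unique_fixed {g : G} (hg : g * g = 1) (hg1 : g ≠ 1) {c d : Ω} (hc : g • c = c)
    (hd : g • d = d) : c = d := by
  by_contra hcd
  obtain ⟨t, hta, htb⟩ := exists_smul_pair C.two C.ab hcd
  have h1 : t⁻¹ * g * t ∈ stabilizer G a ⊓ stabilizer G b :=
    ⟨show (t⁻¹ * g * t) • a = a by rw [mul_smul, mul_smul, hta, hc, inv_smul_eq_iff, hta],
      show (t⁻¹ * g * t) • b = b by rw [mul_smul, mul_smul, htb, hd, inv_smul_eq_iff, htb]⟩
  have h2 := C.eq_one_of_sq h1 (by
    rw [show t⁻¹ * g * t * (t⁻¹ * g * t) = t⁻¹ * (g * g) * t by group, hg]; group)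
  refine hg1 ?_
  rw [show g = t * (t⁻¹ * g * t) * t⁻¹ by group, h2]; group

/-- The count of involutions in odd degree. -/
theorem sq_count_odd (hn : Odd (Fintype.card Ω)) :
    ∃ t : ℕ, Nat.card {g : G // g * g = 1} = 1 + (Nat.card F + 1) * t ∧
      Nat.card (stabilizer G a ⊓ stabilizer G b : Subgroup G) ≤ t ∧ t + 1 ∣ Nat.card F := by
  classical
  have := Fintype.ofFinite G
  haveI := isPretransitive_of_is_two_pretransitive (h2 := C.two)
  set T := Finset.univ.filter fun g : G => g * g = 1 ∧ g ≠ 1 with hT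
  have hTm : ∀ g, g ∈ T ↔ g * g = 1 ∧ g ≠ 1 := fun g => by simp [hT]
  set T₀ := T.filter fun g => g • a = a with hT₀
  have hfib : ∀ c : Ω, (T.filter fun g => g • c = c).card = T₀.card := by
    intro c
    obtain ⟨t, ht⟩ := exists_smul_eq G a c
    refine Finset.card_equiv (MulAut.conj t⁻¹).toEquiv fun g => ?_
    simp only [hT₀, Finset.mem_filter, hTm, MulEquiv.toEquiv_eq_coe, MulEquiv.coe_toEquiv,
      MulAut.conj_apply, inv_inv, mul_smul, ht, inv_smul_eq_iff]
    refine and_congr (and_congr ?_ ?_) Iff.rfl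
    · rw [show t⁻¹ * g * t * (t⁻¹ * g * t) = t⁻¹ * (g * g) * t by group]
      constructor
      · intro e; rw [e]; group
      · intro e
        rw [show g * g = t * (t⁻¹ * (g * g) * t) * t⁻¹ by group, e]; group
    · refine not_congr ⟨fun e => by rw [e]; group, fun e => ?_⟩
      rw [show g = t * (t⁻¹ * g * t) * t⁻¹ by group, e]; group
  have hTcard : T.card = Fintype.card Ω * T₀.card := by
    have e : T = Finset.univ.biUnion fun c : Ω => T.filter fun g => g • c = c := by
      ext g
      simp only [Finset.mem_biUnion, Finset.mem_univ, true_and, Finset.mem_filter]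
      refine ⟨fun hg => ?_, fun ⟨c, hg, _⟩ => hg⟩
      obtain ⟨c, hc⟩ := C.exists_fixed_of_odd hn ((hTm g).mp hg).1
      exact ⟨c, hg, hc⟩
    conv_lhs => rw [e]
    rw [Finset.card_biUnion]
    · simp [hfib]
    · intro c _ d _ hcd
      show Disjoint _ _
      rw [Finset.disjoint_left]
      intro g hg hg'
      rw [Finset.mem_filter] at hg hg'
      exact hcd (C.unique_fixed ((hTm g).mp hg.1).1 ((hTm g).mp hg.1).2 hg.2 hg'.2)
  refine ⟨T₀.card, ?_, ?_, ?_⟩
  · rw [C.natCard_sq_eq, ← hT, hTcard, C.card_F]; ring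
  · have h := C.involution_bound (Fintype.card Ω - 1) (fun g hg hg1 => by
      obtain ⟨c, hc⟩ := C.exists_fixed_of_odd hn hg
      refine (Finset.card_le_card (t := Finset.univ.erase c) fun d hd => ?_).trans (by simp)
      rw [Finset.mem_filter] at hd
      exact Finset.mem_erase.mpr ⟨fun e => hd.2 (by rw [e, hc]), Finset.mem_univ _⟩)
    rw [← hT, hTcard] at h
    have hq : 0 < Fintype.card Ω - 1 := by have := C.big; omega
    have hn0 : 0 < Fintype.card Ω := by omega
    rw [mul_assoc] at h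
    have h' := Nat.le_of_mul_le_mul_left h hn0
    rw [mul_comm T₀.card] at h'
    exact Nat.le_of_mul_le_mul_left h' hq
  · let I : Subgroup G :=
      { carrier := {x | x ∈ F ∧ x * x = 1}
        one_mem' := ⟨one_mem _, one_mul _⟩
        mul_mem' := fun {x y} hx hy => ⟨mul_mem hx.1 hy.1, by
          rw [mul_assoc, ← mul_assoc y x, C.comm y hy.1 x hx.1, mul_assoc x y, hy.2, mul_one, hx.2]⟩
        inv_mem' := fun {x} hx => ⟨inv_mem hx.1, by rw [← mul_inv_rev, hx.2, inv_one]⟩ }
    have hI : Nat.card I = T₀.card + 1 := by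
      rw [Nat.card_eq_fintype_card, Fintype.card_of_subtype (insert 1 T₀) fun g => ?_]
      · rw [Finset.card_insert_of_notMem]
        simp [hT₀, hTm]
      · rw [Finset.mem_insert, hT₀, Finset.mem_filter, hTm]
        show _ ↔ g ∈ F ∧ g * g = 1
        constructor
        · rintro (rfl | ⟨⟨h1, h1'⟩, h2⟩)
          · exact ⟨one_mem _, one_mul _⟩
          · refine ⟨(C.mem_or_fix h2).resolve_right ?_, h1⟩
            rintro ⟨y, hy, hgy⟩
            exact hy (C.unique_fixed h1 h1' hgy h2)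
        · rintro ⟨h1, h2⟩
          by_cases h : g = 1
          · exact Or.inl h
          · exact Or.inr ⟨⟨h2, h⟩, C.fix g h1⟩
    rw [← hI]
    exact Subgroup.card_dvd_of_le fun x hx => hx.1

end Involutions

end OddKernel

end CfsgLib.Perm
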