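import Cfsg.Agent.Lib.Perm.ZassenhausOddChar

/-!
The bound `q - 1 ≤ 2 * h` for a configuration `CfsgLib.Perm.OddKernel`.
-/

set_option autoImplicit false
set_option linter.unusedSectionVars false
set_option linter.style.haveILetI false

namespace CfsgLib.Perm

open MulAction CfsgLib.Char
open scoped ComplexConjugate

universe u v

variable {G : Type u} {Ω : Type v} [Group G] [Fintype G] [MulAction G Ω] [Fintype Ω] {a b : Ω}
  {F : Subgroup G}

namespace OddKernel

variable (C : OddKernel G Ω a b F)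

local notation "𝐁" => Subgroup.normalizer (F : Set G)
local notation "𝐇" => (stabilizer G a ⊓ stabilizer G b : Subgroup G)

include C

theorem fix_card {x : G} (hx : x ∈ F) (hx1 : x ≠ 1) : Nat.card (fixedBy Ω x) = 1 := by
  refine Nat.card_eq_one_iff_exists.mpr ⟨⟨a, C.fix x hx⟩, fun y => Subtype.ext ?_⟩
  exact C.fix_only hx hx1 y.2

/-- Multiplicities of a character which is constant off the identity of `F`. -/
theorem mult_const [Fintype F] (ψ : Cfsg.IrrCharacter G) (c d k : ℕ)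
    (hd : (ψ : G → ℂ) 1 = d) (hc : ∀ x ∈ F, x ≠ (1 : G) → (ψ : G → ℂ) x = c)
    (hk : d = c + Nat.card F * k) :
    mult ψ (oneChar F) = c + k ∧
      ∀ φ : Cfsg.IrrCharacter F, φ ≠ oneChar F → mult ψ φ = k := by
  classical
  have hq : (Nat.card F : ℂ) ≠ 0 := natCard_ne_zero
  have e : ∀ x : F, conj ((ψ : G → ℂ) x) = (c : ℂ) + if x = 1 then (Nat.card F : ℂ) * k else 0 := by
    intro x
    split_ifs with hx
    · subst hx; rw [OneMemClass.coe_one, hd, hk]; simp
    · rw [hc x x.2 (fun e => hx (Subtype.ext e))]; simp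
  have key : ∀ φ : Cfsg.IrrCharacter F, (mult ψ φ : ℂ) =
      (c : ℂ) * Cfsg.classInner (φ : F → ℂ) (fun _ => (1 : ℂ)) + k := by
    intro φ
    have h1 : (φ : F → ℂ) 1 = 1 := irr_degree_one_of_comm
      (fun x y => Subtype.ext (C.comm x x.2 y y.2)) φ.2
    rw [← mult_spec, classInner_def, classInner_def]
    simp only [e, mul_add, Finset.sum_add_distrib, map_one, mul_one, mul_ite, mul_zero,
      Finset.sum_ite_eq', Finset.mem_univ, if_true, h1, one_mul]
    rw [← Finset.sum_mul]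
    congr 1
    · ring
    · rw [inv_mul_cancel_left₀ hq]
  constructor
  · have h := key (oneChar F)
    rw [coe_oneChar, irr_classInner_self isIrrCharacter_one, mul_one] at h
    exact_mod_cast h
  · intro φ hφ
    have h := key φ
    rw [C.inner_oneChar_ne hφ, mul_zero, zero_add] at h
    exact_mod_cast h

theorem degree_eq [Fintype F] [Fintype (Cfsg.IrrCharacter F)] (ψ : Cfsg.IrrCharacter G) :
    (ψ : G → ℂ) 1 = ((∑ φ : Cfsg.IrrCharacter F, mult ψ φ : ℕ) : ℂ) := by
  obtain ⟨d, -, hd⟩ := irr_apply_one_pos ψ.2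
  have h := sum_classInner_comm (A := F) (fun x y => Subtype.ext (C.comm x x.2 y y.2))
    (fun x : F => (ψ : G → ℂ) x)
  simp only [mult_spec, OneMemClass.coe_one, hd, map_natCast] at h
  rw [hd, Nat.cast_sum, h]

variable [Fintype {lam : Subgroup.normalizer (F : Set G) →* ℂˣ //
  ∀ x : Subgroup.normalizer (F : Set G), (x : G) ∈ F → lam x = 1}]

theorem mult_one_eq_sum [Fintype F] (ψ : Cfsg.IrrCharacter G) :
    (mult ψ (oneChar F) : ℂ) = ∑ lam : {lam : 𝐁 →* ℂˣ // ∀ x : 𝐁, (x : G) ∈ F → lam x = 1},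
      Cfsg.classInner (Cfsg.indFun 𝐁 fun g => (lam.1 g : ℂ)) (ψ : G → ℂ) := by
  letI := Fintype.ofFinite 𝐁
  rw [← mult_spec, coe_oneChar, ← classInner_conj_symm,
    C.inner_restrict_one (fun g : 𝐁 => (ψ : G → ℂ) g), map_sum]
  refine Finset.sum_congr rfl fun lam _ => ?_
  rw [classInner_conj_symm, frobenius_reciprocity _ _ _ (irr_isClassFunction ψ.2)]

theorem ind_one_split :
    (Cfsg.indFun 𝐁 fun _ => 1) =
      (fun _ : G => (1 : ℂ)) + fun g => (Nat.card (fixedBy Ω g) : ℂ) - 1 := by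
  funext g
  rw [C.ind_one_eq g, Pi.add_apply]
  ring

theorem trivial_lam_eq {lam : {lam : 𝐁 →* ℂˣ // ∀ x : 𝐁, (x : G) ∈ F → lam x = 1}}
    (h : lam.1 = 1) : (fun g : 𝐁 => (lam.1 g : ℂ)) = fun _ => 1 := by
  funext g; rw [h]; rfl

/-- The constituents of the character induced from the trivial character of `F`. -/
theorem constituent_cases [Fintype F] (ψ : Cfsg.IrrCharacter G) (h : mult ψ (oneChar F) ≠ 0) :
    ((ψ : G → ℂ) = fun _ => 1) ∨
      ((∀ φ : Cfsg.IrrCharacter F, φ ≠ oneChar F → mult ψ φ = 1) ∧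
        ∃ d : ℕ, (ψ : G → ℂ) 1 = d ∧ (Nat.card F + 1) * mult ψ (oneChar F) ≤ 2 * d) := by
  classical
  have hne : ∃ lam : {lam : 𝐁 →* ℂˣ // ∀ x : 𝐁, (x : G) ∈ F → lam x = 1},
      Cfsg.classInner (Cfsg.indFun 𝐁 fun g => (lam.1 g : ℂ)) (ψ : G → ℂ) ≠ 0 := by
    by_contra hc
    push Not at hc
    refine h ((Nat.cast_eq_zero (R := ℂ)).mp ?_)
    rw [C.mult_one_eq_sum, Finset.sum_eq_zero fun lam _ => hc lam]
  obtain ⟨lam, hlam⟩ := hne
  by_cases h1 : lam.1 = 1
  · rw [C.trivial_lam_eq h1, C.ind_one_split, classInner_add_left, irr_classInner isIrrCharacter_one ψ.2,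
      irr_classInner C.steinberg_irr ψ.2] at hlam
    by_cases h2 : (fun _ : G => (1 : ℂ)) = (ψ : G → ℂ)
    · exact Or.inl h2.symm
    by_cases h3 : (fun g : G => (Nat.card (fixedBy Ω g) : ℂ) - 1) = (ψ : G → ℂ)
    · right
      have hd : (ψ : G → ℂ) 1 = ((Nat.card F : ℕ) : ℂ) := by
        rw [← h3]
        show ((Nat.card (fixedBy Ω (1 : G))) : ℂ) - 1 = _
        rw [fixedBy_one_eq_univ, Nat.card_univ, Nat.card_eq_fintype_card (α := Ω), ← C.card_F,
          Nat.cast_add, Nat.cast_one, add_sub_cancel_right]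
      obtain ⟨ha, hk⟩ := C.mult_const ψ 0 (Nat.card F) 1 hd (fun x hx hx1 => by
        rw [← h3]; simp only [C.fix_card hx hx1, Nat.cast_one, sub_self, Nat.cast_zero])
        (by rw [zero_add, mul_one])
      exact ⟨hk, Nat.card F, hd, by rw [ha]; have := C.two_le_card_F; omega⟩
    · rw [if_neg h2, if_neg h3, add_zero] at hlam
      exact absurd rfl hlam
  · right
    have e : Cfsg.indFun 𝐁 (fun g => (lam.1 g : ℂ)) = (ψ : G → ℂ) := by
      by_contra hne
      exact hlam (irr_classInner_ne (C.ind_lam_irr lam h1) ψ.2 hne)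
    have hd : (ψ : G → ℂ) 1 = ((Nat.card F + 1 : ℕ) : ℂ) := by
      rw [← e, indFun_apply_one, C.index_normalizer, map_one, Units.val_one, mul_one]
    obtain ⟨ha, hk⟩ := C.mult_const ψ 1 (Nat.card F + 1) 1 hd (fun x hx hx1 => by
      rw [← e, C.ind_lam_kernel lam hx hx1, Nat.cast_one]) (by ring)
    exact ⟨hk, _, hd, by rw [ha]; omega⟩

open scoped Classical in
theorem sum_mult_one [Fintype F] [Fintype (Cfsg.IrrCharacter G)] :
    ∑ ψ : Cfsg.IrrCharacter G, mult ψ (oneChar F) = Nat.card 𝐇 + 1 := by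
  have h1 : ((∑ ψ : Cfsg.IrrCharacter G, mult ψ (oneChar F) : ℕ) : ℂ) =
      ((Nat.card 𝐇 + 1 : ℕ) : ℂ) := by
    rw [Nat.cast_sum, Finset.sum_congr rfl fun ψ _ => C.mult_one_eq_sum ψ, Finset.sum_comm]
    have hirr : ∀ χ : G → ℂ, Cfsg.IsIrrCharacter G χ →
        ∑ ψ : Cfsg.IrrCharacter G, Cfsg.classInner χ (ψ : G → ℂ) = 1 := by
      intro χ hχ
      rw [Finset.sum_eq_single (⟨χ, hχ⟩ : Cfsg.IrrCharacter G), irr_classInner_self hχ]
      · exact fun ψ _ hne => irr_classInner_ne hχ ψ.2 fun e => hne (Subtype.ext e.symm)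
      · simp
    let l₁ : {lam : 𝐁 →* ℂˣ // ∀ x : 𝐁, (x : G) ∈ F → lam x = 1} := ⟨1, fun x _ => rfl⟩
    rw [← Finset.add_sum_erase _ _ (Finset.mem_univ l₁), Finset.sum_congr rfl (g := fun _ => (1 : ℂ))
      (s₁ := Finset.univ.erase l₁) fun lam hl => hirr _ (C.ind_lam_irr lam fun e =>
        (Finset.mem_erase.mp hl).1 (Subtype.ext e)), Finset.sum_const,
      Finset.card_erase_of_mem (Finset.mem_univ _), Finset.card_univ, nsmul_eq_mul, mul_one,
      ← Nat.card_eq_fintype_card, C.card_lam, C.trivial_lam_eq (lam := l₁) rfl, C.ind_one_split]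
    simp only [classInner_add_left, Finset.sum_add_distrib, hirr _ isIrrCharacter_one,
      hirr _ C.steinberg_irr]
    rw [Nat.cast_sub Nat.card_pos]
    push_cast
    ring
  exact_mod_cast h1

section Exceptional

omit [Fintype {lam : Subgroup.normalizer (F : Set G) →* ℂˣ //
  ∀ x : Subgroup.normalizer (F : Set G), (x : G) ∈ F → lam x = 1}]

open scoped Classical in
/-- The exceptional characters. -/
theorem exists_exceptional [Fintype F] [Fintype (Cfsg.IrrCharacter F)]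
    [Fintype (Cfsg.IrrCharacter G)] (he : Nat.card 𝐇 + 1 < Nat.card F) :
    ∃ (ε : ℤ) (X : Cfsg.IrrCharacter F → Cfsg.IrrCharacter G), (ε = 1 ∨ ε = -1) ∧
      (∀ φ φ' : Cfsg.IrrCharacter F, φ ≠ oneChar F → φ' ≠ oneChar F → ∀ ψ : Cfsg.IrrCharacter G,
        (mult ψ φ : ℤ) - mult ψ φ' =
          ε * ((if X φ = ψ then 1 else 0) - (if X φ' = ψ then 1 else 0))) ∧
      (∀ φ φ' φ'' : Cfsg.IrrCharacter F, φ ≠ oneChar F → φ' ≠ oneChar F → φ'' ≠ oneChar F →
        (mult (X φ) φ'' : ℤ) - mult (X φ') φ'' =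
          ε * ((if X φ = X φ'' then 1 else 0) - (if X φ' = X φ'' then 1 else 0))) ∧
      ∀ φ₀ : Cfsg.IrrCharacter F, φ₀ ≠ oneChar F →
        ((Finset.univ.erase (oneChar F)).filter fun φ => X φ = X φ₀).card = Nat.card 𝐇 := by
  set P := (Finset.univ : Finset (Cfsg.IrrCharacter F)).erase (oneChar F) with hP
  have hPcard : P.card = Nat.card F - 1 := by
    rw [hP, Finset.card_erase_of_mem (Finset.mem_univ _), Finset.card_univ,
      card_irr_comm fun x y => Subtype.ext (C.comm x x.2 y y.2)]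
  set Θ := P.image (theta (G := G) (F := F)) with hΘ
  have hΘ2 : 2 ≤ Θ.card := by
    have h := Finset.card_eq_sum_card_fiberwise (f := theta (G := G) (F := F)) (s := P) (t := Θ)
      (fun φ hφ => Finset.mem_coe.mpr (Finset.mem_image_of_mem _ (Finset.mem_coe.mp hφ)))
    rw [Finset.sum_const_nat (m := Nat.card 𝐇) (fun θ hθ => ?_), hPcard] at h
    · by_contra hc
      have : Θ.card ≤ 1 := by omega
      have := Nat.mul_le_mul_right (Nat.card 𝐇) this
      omega
    · obtain ⟨φ, hφ, rfl⟩ := Finset.mem_image.mp hθ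
      exact C.theta_fibre (Finset.mem_erase.mp hφ).1
  let eq := Θ.equivFin
  let χ : Fin Θ.card → (𝐁 → ℂ) := fun i => (eq.symm i).1
  have hχ : ∀ i, ∃ φ ∈ P, theta φ = χ i := fun i => Finset.mem_image.mp (eq.symm i).2
  obtain ⟨ε, hε, μ, hμ, hμinj, hdiff⟩ := exceptional_characters (F : Set G) C.ti Θ.card hΘ2 χ
    (fun i => by obtain ⟨φ, hφ, e⟩ := hχ i; rw [← e]; exact C.theta_irr (Finset.mem_erase.mp hφ).1)
    (fun i j h => eq.symm.injective (Subtype.ext h))
    (fun i x hx => by obtain ⟨φ, -, e⟩ := hχ i; rw [← e]; exact C.theta_vanish φ hx)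
    (fun i j => by
      obtain ⟨φ, -, e⟩ := hχ i; obtain ⟨φ', -, e'⟩ := hχ j; rw [← e, ← e', C.theta_one, C.theta_one])
  obtain ⟨εz, hεz, hεc⟩ : ∃ εz : ℤ, (εz = 1 ∨ εz = -1) ∧ (εz : ℂ) = ε := by
    rcases hε with rfl | rfl
    · exact ⟨1, Or.inl rfl, by simp⟩
    · exact ⟨-1, Or.inr rfl, by simp⟩
  let X : Cfsg.IrrCharacter F → Cfsg.IrrCharacter G := fun φ =>
    if h : φ ∈ P then ⟨μ (eq ⟨theta φ, Finset.mem_image_of_mem _ h⟩), hμ _⟩
    else ⟨fun _ => 1, isIrrCharacter_one⟩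
  have hP' : ∀ φ : Cfsg.IrrCharacter F, φ ≠ oneChar F → φ ∈ P := fun φ h =>
    Finset.mem_erase.mpr ⟨h, Finset.mem_univ _⟩
  have hX : ∀ φ (h : φ ∈ P),
      X φ = ⟨μ (eq ⟨theta φ, Finset.mem_image_of_mem _ h⟩), hμ _⟩ := fun φ h => dif_pos h
  have hXeq : ∀ φ φ', φ ∈ P → φ' ∈ P → (X φ = X φ' ↔ theta φ = theta φ') := by
    intro φ φ' h h'
    rw [hX φ h, hX φ' h', Subtype.mk_eq_mk, hμinj.eq_iff, eq.injective.eq_iff, Subtype.mk_eq_mk]
  have hind : ∀ φ φ', φ ∈ P → φ' ∈ P → Cfsg.indFun 𝐁 (theta φ) - Cfsg.indFun 𝐁 (theta φ') =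
      ε • ((X φ : G → ℂ) - (X φ' : G → ℂ)) := by
    intro φ φ' h h'
    have := hdiff (eq ⟨theta φ, Finset.mem_image_of_mem _ h⟩) (eq ⟨theta φ', Finset.mem_image_of_mem _ h'⟩)
    simp only [χ, Equiv.symm_apply_apply] at this
    rw [hX φ h, hX φ' h']
    exact this
  refine ⟨εz, X, hεz, fun φ φ' hφ hφ' ψ => ?_, fun φ φ' φ'' hφ hφ' hφ'' => ?_, fun φ₀ hφ₀ => ?_⟩
  · have h := congrArg (fun f : G → ℂ => Cfsg.classInner f (ψ : G → ℂ)) (hind φ φ' (hP' φ hφ) (hP' φ' hφ'))
    simp only [classInner_sub_left, classInner_smul_left, C.mult_eq_inner_ind,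
      irr_classInner (X _).2 ψ.2, ← hεc, ← Subtype.ext_iff] at h
    apply Int.cast_injective (α := ℂ)
    push_cast
    exact h
  · letI := Fintype.ofFinite 𝐁
    have hf : ∀ x : F, (X φ : G → ℂ) x - (X φ' : G → ℂ) x =
        ε * (theta φ ⟨x, C.le_normalizer x.2⟩ - theta φ' ⟨x, C.le_normalizer x.2⟩) := by
      intro x
      have h1 := congr_fun (hind φ φ' (hP' φ hφ) (hP' φ' hφ')) (x : G)
      simp only [Pi.sub_apply, Pi.smul_apply, smul_eq_mul] at h1
      have h2 : Cfsg.indFun 𝐁 (theta φ) (x : G) - Cfsg.indFun 𝐁 (theta φ') (x : G) =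
          theta φ ⟨x, C.le_normalizer x.2⟩ - theta φ' ⟨x, C.le_normalizer x.2⟩ := by
        by_cases hx : x = 1
        · subst hx
          rw [show (⟨((1 : F) : G), C.le_normalizer (1 : F).2⟩ : 𝐁) = 1 from rfl, OneMemClass.coe_one,
            indFun_apply_one, indFun_apply_one, C.theta_one, C.theta_one, sub_self, sub_self]
        · have hx' : (⟨(x : G), C.le_normalizer x.2⟩ : 𝐁) ≠ 1 := fun e =>
            hx (Subtype.ext (congrArg (fun y : 𝐁 => (y : G)) e))
          have t1 := indFun_ti_apply (F : Set G) C.ti (theta φ) (irr_isClassFunction (C.theta_irr hφ))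
            (fun y hy => C.theta_vanish φ hy) ⟨(x : G), C.le_normalizer x.2⟩ x.2 hx'
          have t2 := indFun_ti_apply (F : Set G) C.ti (theta φ') (irr_isClassFunction (C.theta_irr hφ'))
            (fun y hy => C.theta_vanish φ' hy) ⟨(x : G), C.le_normalizer x.2⟩ x.2 hx'
          rw [t1, t2]
      rw [h2] at h1
      rw [h1, ← mul_assoc, show ε * ε = 1 by rcases hε with rfl | rfl <;> norm_num, one_mul]
    have hth : ∀ φ₁, φ₁ ∈ P → Cfsg.classInner (φ'' : F → ℂ)
        (fun x : F => theta φ₁ ⟨x, C.le_normalizer x.2⟩) = if X φ₁ = X φ'' then 1 else 0 := by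
      intro φ₁ h1
      rw [← C.inner_theta φ'' (irr_isClassFunction (C.theta_irr (Finset.mem_erase.mp h1).1)),
        irr_classInner (C.theta_irr hφ'') (C.theta_irr (Finset.mem_erase.mp h1).1)]
      exact if_congr ((hXeq _ _ h1 (hP' _ hφ'')).trans eq_comm).symm rfl rfl
    have h := congrArg (fun f : F → ℂ => Cfsg.classInner (φ'' : F → ℂ) f) (funext hf :
      (fun x : F => (X φ : G → ℂ) x) - (fun x : F => (X φ' : G → ℂ) x) =
      ε • ((fun x : F => theta φ ⟨x, C.le_normalizer x.2⟩) -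
        fun x : F => theta φ' ⟨x, C.le_normalizer x.2⟩))
    simp only [classInner_sub_right, classInner_smul_right, mult_spec, hth _ (hP' φ hφ),
      hth _ (hP' φ' hφ'), ← hεc, map_intCast] at h
    apply Int.cast_injective (α := ℂ)
    push_cast
    exact h
  · rw [← C.theta_fibre hφ₀]
    refine congrArg Finset.card (Finset.filter_congr fun φ hφ => ?_)
    exact hXeq φ φ₀ hφ (hP' φ₀ hφ₀)

end Exceptional

section Bound

omit [Fintype {lam : Subgroup.normalizer (F : Set G) →* ℂˣ //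
  ∀ x : Subgroup.normalizer (F : Set G), (x : G) ∈ F → lam x = 1}]

open scoped Classical in
/-- The Frobenius–Schur count as an integer identity. -/
theorem exists_indicator [Fintype (Cfsg.IrrCharacter G)] [Fintype (Cfsg.IrrCharacter F)] [Fintype F] :
    ∃ ν : Cfsg.IrrCharacter G → ℤ, (∀ ψ, |ν ψ| ≤ 1) ∧
      (∀ ψ : Cfsg.IrrCharacter G, ν ψ ≠ 0 → ∀ g : G, conj ((ψ : G → ℂ) g) = (ψ : G → ℂ) g) ∧
      (Nat.card {g : G // g * g = 1} : ℤ) =
        ∑ ψ : Cfsg.IrrCharacter G, ν ψ * ((∑ φ : Cfsg.IrrCharacter F, mult ψ φ : ℕ) : ℤ) := by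
  have h : ∀ ψ : Cfsg.IrrCharacter G, ∃ z : ℤ, |z| ≤ 1 ∧
      (z ≠ 0 → ∀ g : G, conj ((ψ : G → ℂ) g) = (ψ : G → ℂ) g) ∧
      (z : ℂ) = (Nat.card G : ℂ)⁻¹ * ∑ s : G, (ψ : G → ℂ) (s * s) := by
    rintro ⟨_, n, ρ, hρ, rfl⟩
    haveI := hρ
    obtain ⟨h1, h2⟩ := fs_indicator ρ
    rcases h1 with e | e | e
    · exact ⟨0, by simp, fun h => absurd rfl h, by rw [e]; simp⟩
    all_goals
      have hreal : ∀ g : G, conj (ρ.character g) = ρ.character g := by
        intro g
        refine Complex.conj_eq_iff_im.mpr ?_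
        by_contra hg
        have := h2.mpr ⟨g, hg⟩
        rw [this] at e
        norm_num at e
    · exact ⟨1, by simp, fun _ => hreal, by rw [e]; simp⟩
    · exact ⟨-1, by simp, fun _ => hreal, by rw [e]; simp⟩
  choose ν h1 h2 h3 using h
  refine ⟨ν, h1, h2, ?_⟩
  have h := involution_count (G := G)
  apply Int.cast_injective (α := ℂ)
  push_cast
  rw [h]
  refine Finset.sum_congr rfl fun ψ _ => ?_
  rw [← h3, C.degree_eq ψ, Nat.cast_sum]

/-- `q - 1 ≤ 2 h`. -/
theorem bound : Nat.card F ≤ 2 * Nat.card 𝐇 + 1 := by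
  classical
  letI := Fintype.ofFinite F
  letI := Fintype.ofFinite (Cfsg.IrrCharacter F)
  letI := Fintype.ofFinite (Cfsg.IrrCharacter G)
  letI := Fintype.ofFinite {lam : 𝐁 →* ℂˣ // ∀ x : 𝐁, (x : G) ∈ F → lam x = 1}
  by_contra hlt
  push Not at hlt
  have hh1 : 1 < Nat.card 𝐇 := C.one_lt
  have hsq := C.sq_count_ge
  have hsum1 := C.sum_mult_one
  obtain ⟨ε, X, hε, hX1, hX2, hX3⟩ := C.exists_exceptional (by omega)
  obtain ⟨ν, hν1, hνreal, hν⟩ := C.exists_indicator
  obtain ⟨h, hhdef⟩ : ∃ h, h = Nat.card 𝐇 := ⟨_, rfl⟩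
  obtain ⟨q, hqdef⟩ : ∃ q, q = Nat.card F := ⟨_, rfl⟩
  rw [← hhdef] at hh1 hlt hsq hsum1 hX3
  rw [← hqdef] at hlt hsq
  have hFc : ∀ x y : F, x * y = y * x := fun x y => Subtype.ext (C.comm x x.2 y y.2)
  set P := (Finset.univ : Finset (Cfsg.IrrCharacter F)).erase (oneChar F) with hP
  have hPcard : P.card = q - 1 := by
    rw [hP, Finset.card_erase_of_mem (Finset.mem_univ _), Finset.card_univ, card_irr_comm hFc, hqdef]
  obtain ⟨φ₀, hφ₀P⟩ : P.Nonempty := Finset.card_pos.mp (by omega)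
  have hφ₀ := (Finset.mem_erase.mp hφ₀P).1
  set E := P.image X with hE
  obtain ⟨e, hedef⟩ : ∃ e, e = E.card := ⟨_, rfl⟩
  have heh : e * h = q - 1 := by
    have h' := Finset.card_eq_sum_card_fiberwise (f := X) (s := P) (t := E)
      (fun φ hφ => Finset.mem_coe.mpr (Finset.mem_image_of_mem _ (Finset.mem_coe.mp hφ)))
    rw [Finset.sum_const_nat (m := h) (fun ψ hψ => by
      obtain ⟨φ, hφ, rfl⟩ := Finset.mem_image.mp hψ
      exact hX3 φ (Finset.mem_erase.mp hφ).1), hPcard] at h'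
    rw [hedef]; exact h'.symm
  have he3 : 3 ≤ e := by
    by_contra hc
    have := Nat.mul_le_mul_right h (show e ≤ 2 by omega)
    omega
  -- the constant part of the multiplicities
  obtain ⟨k, hkdef⟩ : ∃ k : Cfsg.IrrCharacter G → ℤ,
      ∀ ψ, k ψ = (mult ψ φ₀ : ℤ) - ε * (if X φ₀ = ψ then 1 else 0) := ⟨_, fun _ => rfl⟩
  have hk : ∀ φ ∈ P, ∀ ψ : Cfsg.IrrCharacter G,
      (mult ψ φ : ℤ) = k ψ + ε * (if X φ = ψ then 1 else 0) := by
    intro φ hφ ψ
    have := hX1 φ φ₀ (Finset.mem_erase.mp hφ).1 hφ₀ ψ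
    rw [hkdef]; linarith
  have hKconst : ∀ φ ∈ P, k (X φ) = k (X φ₀) := by
    intro φ hφ
    have := hX2 φ φ₀ φ₀ (Finset.mem_erase.mp hφ).1 hφ₀ hφ₀
    rw [hkdef, hkdef]
    rw [show (if X φ₀ = X φ then (1 : ℤ) else 0) = if X φ = X φ₀ then 1 else 0 from
      if_congr eq_comm rfl rfl]
    linarith
  have hother : ∀ ψ : Cfsg.IrrCharacter G, ∃ φ ∈ P, X φ ≠ ψ := by
    intro ψ
    by_contra hc
    push Not at hc
    have h' := hX3 φ₀ hφ₀
    rw [Finset.filter_true_of_mem (fun φ hφ => (hc φ hφ).trans (hc φ₀ hφ₀P).symm), hPcard] at h'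
    omega
  have hk0 : ∀ ψ, 0 ≤ k ψ := by
    intro ψ
    obtain ⟨φ, hφ, hne⟩ := hother ψ
    have := hk φ hφ ψ
    rw [if_neg hne, mul_zero, add_zero] at this
    omega
  have haE : ∀ ψ ∈ E, mult ψ (oneChar F) = 0 := by
    intro ψ hψ
    obtain ⟨φ, hφ, rfl⟩ := Finset.mem_image.mp hψ
    by_contra hne
    obtain ⟨φ', hφ', hne'⟩ := hother (X φ)
    have e1 := hk φ hφ (X φ)
    have e2 := hk φ' hφ' (X φ)
    rw [if_pos rfl] at e1
    rw [if_neg hne'] at e2
    rcases C.constituent_cases (X φ) hne with h1 | ⟨hm, -⟩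
    · have hm : ∀ φ₁ ∈ P, mult (X φ) φ₁ = 0 := fun φ₁ h₁ =>
        (C.mult_const (X φ) 1 1 0 (by rw [h1]; simp) (fun x _ _ => by rw [h1]; simp) (by simp)).2 φ₁
          (Finset.mem_erase.mp h₁).1
      rw [hm φ hφ] at e1
      rw [hm φ' hφ'] at e2
      rcases hε with r | r <;> rw [r] at e1 e2 <;> simp at e1 e2 <;> omega
    · rw [hm φ (Finset.mem_erase.mp hφ).1] at e1
      rw [hm φ' (Finset.mem_erase.mp hφ').1] at e2
      rcases hε with r | r <;> rw [r] at e1 e2 <;> simp at e1 e2 <;> omega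
  -- degrees
  obtain ⟨d, hddef⟩ : ∃ d : Cfsg.IrrCharacter G → ℤ,
      ∀ ψ, d ψ = ((∑ φ : Cfsg.IrrCharacter F, mult ψ φ : ℕ) : ℤ) := ⟨_, fun _ => rfl⟩
  have hd : ∀ ψ, d ψ = (mult ψ (oneChar F) : ℤ) + ((q : ℤ) - 1) * k ψ +
      if ψ ∈ E then ε * (h : ℤ) else 0 := by
    intro ψ
    rw [hddef, ← Finset.add_sum_erase _ _ (Finset.mem_univ (oneChar F)), ← hP, Nat.cast_add,
      Nat.cast_sum, Finset.sum_congr rfl fun φ hφ => hk φ hφ ψ, Finset.sum_add_distrib,
      Finset.sum_const, hPcard, nsmul_eq_mul, ← Finset.mul_sum, Finset.sum_boole,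
      Nat.cast_sub (by omega : 1 ≤ q), Nat.cast_one, ← add_assoc]
    congr 1
    split_ifs with hψ
    · obtain ⟨φ, hφ, rfl⟩ := Finset.mem_image.mp hψ
      rw [hX3 φ (Finset.mem_erase.mp hφ).1]
    · rw [Finset.filter_false_of_mem fun φ hφ e => hψ (Finset.mem_image.mpr ⟨φ, hφ, e⟩)]
      simp
  obtain ⟨K, hKdef⟩ : ∃ K, K = k (X φ₀) := ⟨_, rfl⟩
  have hKE : ∀ ψ ∈ E, k ψ = K := by
    intro ψ hψ
    obtain ⟨φ, hφ, rfl⟩ := Finset.mem_image.mp hψ
    rw [hKdef]; exact hKconst φ hφ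
  have hS : ∑ ψ ∈ Finset.univ.filter (fun ψ => ψ ∉ E), k ψ ^ 2 + (e : ℤ) * K ^ 2 + 2 * ε * K =
      (h : ℤ) := by
    have hs := C.sum_mult_sq hφ₀
    rw [← hhdef, Finset.sum_congr rfl (g := fun ψ => k ψ ^ 2 +
      if X φ₀ = ψ then 2 * ε * k ψ + 1 else 0) (fun ψ _ => by
        rw [hk φ₀ hφ₀P ψ]
        split_ifs with hh
        · rcases hε with r | r <;> rw [r] <;> ring
        · ring),
      Finset.sum_add_distrib, Finset.sum_ite_eq, if_pos (Finset.mem_univ _), ← hKdef,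
      ← Finset.sum_filter_add_sum_filter_not Finset.univ (fun ψ => ψ ∉ E) (fun ψ => k ψ ^ 2)] at hs
    have hEs : ∑ ψ ∈ Finset.univ.filter (fun ψ => ¬ ψ ∉ E), k ψ ^ 2 = (e : ℤ) * K ^ 2 := by
      have hf : Finset.univ.filter (fun ψ => ¬ ψ ∉ E) = E := by ext ψ; simp
      rw [hf, Finset.sum_congr rfl fun ψ hψ => by rw [hKE ψ hψ], Finset.sum_const, nsmul_eq_mul, hedef]
    rw [hEs] at hs
    linarith
  -- the Steinberg character contributes
  have hSt : (1 : ℤ) ≤ ∑ ψ ∈ Finset.univ.filter (fun ψ => ψ ∉ E), k ψ ^ 2 := by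
    let ψs : Cfsg.IrrCharacter G := ⟨_, C.steinberg_irr⟩
    obtain ⟨ha, hm⟩ := C.mult_const ψs 0 (Nat.card F) 1 (by
        show ((Nat.card (fixedBy Ω (1 : G))) : ℂ) - 1 = _
        rw [fixedBy_one_eq_univ, Nat.card_univ, Nat.card_eq_fintype_card (α := Ω), ← C.card_F,
          Nat.cast_add, Nat.cast_one, add_sub_cancel_right])
      (fun x hx hx1 => by
        show ((Nat.card (fixedBy Ω x)) : ℂ) - 1 = _
        rw [C.fix_card hx hx1]; simp) (by simp)
    have hnE : ψs ∉ E := fun hm' => by have := haE ψs hm'; omega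
    have hk1 : k ψs = 1 := by
      have := hk φ₀ hφ₀P ψs
      rw [if_neg (fun (he' : X φ₀ = ψs) => hnE (he' ▸ Finset.mem_image_of_mem X hφ₀P)), hm φ₀ hφ₀, mul_zero, add_zero] at this
      simpa using this.symm
    refine le_trans ?_ (Finset.single_le_sum (fun ψ _ => sq_nonneg (k ψ))
      (Finset.mem_filter.mpr ⟨Finset.mem_univ ψs, hnE⟩))
    rw [hk1]; norm_num
  obtain ⟨S, hSdef⟩ : ∃ S, S = ∑ ψ ∈ Finset.univ.filter (fun ψ => ψ ∉ E), k ψ ^ 2 := ⟨_, rfl⟩
  rw [← hSdef] at hS hSt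
  have hK0 : 0 ≤ K := hKdef ▸ hk0 _
  have heq : (e : ℤ) * h = (q : ℤ) - 1 := by
    have : ((e * h : ℕ) : ℤ) = ((q - 1 : ℕ) : ℤ) := congrArg _ heh
    rw [Nat.cast_sub (by omega : 1 ≤ q)] at this
    push_cast at this
    exact this
  -- the count
  have hT : ∀ (M : ℤ), (∀ ψ ∈ E, ν ψ * d ψ ≤ M) → (Nat.card {g : G // g * g = 1} : ℤ) ≤
      ((h : ℤ) + 1) + ((q : ℤ) - 1) * S + (e : ℤ) * M := by
    intro M hM
    rw [hν, Finset.sum_congr rfl fun ψ _ => by rw [← hddef],
      ← Finset.sum_filter_add_sum_filter_not Finset.univ (fun ψ => ψ ∉ E)]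
    refine add_le_add ?_ ?_
    · refine le_trans (Finset.sum_le_sum (g := fun ψ => (mult ψ (oneChar F) : ℤ) + ((q : ℤ) - 1) * k ψ ^ 2)
        fun ψ hψ => ?_) ?_
      · have hψ' := (Finset.mem_filter.mp hψ).2
        have h1 := hd ψ
        rw [if_neg hψ', add_zero] at h1
        have h2 : 0 ≤ d ψ := by rw [hddef]; exact Int.natCast_nonneg _
        have h3 : ν ψ * d ψ ≤ d ψ := by
          have := abs_le.mp (hν1 ψ)
          nlinarith
        have h4 : k ψ ≤ k ψ ^ 2 := by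
          rcases eq_or_lt_of_le (hk0 ψ) with r | r
          · rw [← r]; norm_num
          · nlinarith
        have h5 : ((q : ℤ) - 1) * k ψ ≤ ((q : ℤ) - 1) * k ψ ^ 2 :=
          mul_le_mul_of_nonneg_left h4 (by omega)
        show ν ψ * d ψ ≤ _
        linarith
      · rw [Finset.sum_add_distrib, ← Finset.mul_sum, ← hSdef]
        refine add_le_add ?_ le_rfl
        refine le_trans (Finset.sum_le_sum_of_subset_of_nonneg (Finset.filter_subset _ _)
          fun ψ _ _ => Int.natCast_nonneg _) ?_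
        rw [← Nat.cast_sum, hsum1]
        push_cast; rfl
    · have hf : Finset.univ.filter (fun ψ => ¬ ψ ∉ E) = E := by ext ψ; simp
      rw [hf, hedef, ← nsmul_eq_mul]
      exact Finset.sum_le_card_nsmul _ _ _ hM
  have hdE : ∀ ψ ∈ E, d ψ = ((q : ℤ) - 1) * K + ε * h := by
    intro ψ hψ
    rw [hd ψ, haE ψ hψ, if_pos hψ, hKE ψ hψ]; simp
  have hKε : K = 0 ∧ ε = 1 := by
    have hdpos : 0 ≤ ((q : ℤ) - 1) * K + ε * h := by
      rw [← hdE _ (Finset.mem_image_of_mem X hφ₀P), hddef]; exact Int.natCast_nonneg _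
    rcases Nat.even_or_odd q with hev | hodd
    · have hn : Odd (Fintype.card Ω) := by rw [← C.card_F, ← hqdef]; exact hev.add_one
      obtain ⟨t, ht, hht, htq⟩ := C.sq_count_odd hn
      rw [← hhdef] at hht
      rw [← hqdef] at ht htq
      have hb := hT (((q : ℤ) - 1) * K + ε * h) (fun ψ hψ => by
        rw [← hdE ψ hψ]
        have h2 : 0 ≤ d ψ := by rw [hddef]; exact Int.natCast_nonneg _
        have := abs_le.mp (hν1 ψ)
        nlinarith)
      rw [ht] at hb
      push_cast at hb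
      have hS' : S = (h : ℤ) - e * K ^ 2 - 2 * ε * K := by linarith
      rw [hS'] at hb
      have hb' : ((q : ℤ) + 1) * t ≤ (q : ℤ) * h +
          ((q : ℤ) - 1) * (e * K * (1 - K) + ε * (1 - 2 * K)) := by
        linear_combination hb + ε * heq
      have htz : (h : ℤ) ≤ t := by exact_mod_cast hht
      have hB : 1 ≤ (e : ℤ) * K * (1 - K) + ε * (1 - 2 * K) := by
        by_contra hc
        push Not at hc
        have h1 : ((q : ℤ) - 1) * (e * K * (1 - K) + ε * (1 - 2 * K)) ≤ 0 :=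
          mul_nonpos_of_nonneg_of_nonpos (by omega) (by omega)
        have h2 : ((q : ℤ) + 1) * h ≤ ((q : ℤ) + 1) * t := mul_le_mul_of_nonneg_left htz (by omega)
        nlinarith
      rcases eq_or_lt_of_le hK0 with hK | hK
      · rw [← hK] at hB
        simp at hB
        exact ⟨hK.symm, by omega⟩
      exfalso
      have h1 : (e : ℤ) * K * (1 - K) ≤ 3 * K * (1 - K) :=
        mul_le_mul_of_nonpos_right (mul_le_mul_of_nonneg_right (by exact_mod_cast he3) hK0) (by omega)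
      have hεm : ε = -1 := hε.resolve_left fun r => by
        rw [r] at hB
        nlinarith
      rw [hεm] at hB hb' hS
      have hK1 : K = 1 := by
        by_contra hne
        have hK2 : 2 ≤ K := by omega
        nlinarith
      rw [hK1] at hb' hS
      have hte : t = h := by
        by_contra hne
        have h2 : ((q : ℤ) + 1) * (h + 1) ≤ ((q : ℤ) + 1) * t :=
          mul_le_mul_of_nonneg_left (by omega) (by omega)
        nlinarith
      rw [hte] at htq
      obtain ⟨m, hm⟩ := htq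
      have he1 : (e : ℤ) ≤ h + 1 := by nlinarith
      -- m is congruent to one modulo h
      have hmz : (q : ℤ) = ((h : ℤ) + 1) * m := by exact_mod_cast hm
      obtain ⟨j, hjdef⟩ : ∃ j : ℤ, j = (e : ℤ) - m := ⟨_, rfl⟩
      have hmj : (m : ℤ) = 1 + h * j := by rw [hjdef]; linear_combination -heq - hmz
      have hj : 1 ≤ j := by
        by_contra hc
        have : (h : ℤ) * j ≤ 0 := mul_nonpos_of_nonneg_of_nonpos (by omega) (by omega)
        have hm1 : (m : ℤ) ≤ 1 := by linarith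
        have : ((h : ℤ) + 1) * m ≤ ((h : ℤ) + 1) * 1 := mul_le_mul_of_nonneg_left hm1 (by omega)
        have h3 : (3 : ℤ) * h ≤ e * h := mul_le_mul_of_nonneg_right (by exact_mod_cast he3) (by omega)
        linarith
      have hmh : (h : ℤ) + 1 ≤ m := by
        have : (h : ℤ) * 1 ≤ h * j := mul_le_mul_of_nonneg_left hj (by omega)
        linarith
      nlinarith
    · have hnr : ∀ ψ ∈ E, ν ψ = 0 := by
        intro ψ hψ
        by_contra hne
        have hr := hνreal ψ hne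
        obtain ⟨φ₁, hφ₁, rfl⟩ := Finset.mem_image.mp hψ
        let cj : Cfsg.IrrCharacter F → Cfsg.IrrCharacter F := fun φ =>
          ⟨fun x => conj ((φ : F → ℂ) x), isIrrCharacter_conj φ.2⟩
        have hcc : ∀ φ, cj (cj φ) = φ := fun φ => Subtype.ext (funext fun x => Complex.conj_conj _)
        have hne1 : ∀ φ ∈ P, cj φ ≠ φ := by
          intro φ hφ hfix
          refine (Finset.mem_erase.mp hφ).1 (Subtype.ext (funext fun x => ?_))
          have h1 : (φ : F → ℂ) 1 = 1 := irr_degree_one_of_comm hFc φ.2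
          obtain ⟨lam, hlam⟩ := exists_hom_of_degree_one (irr_isCharacter φ.2) h1
          have h2 : ∀ y : F, lam y ^ 2 = 1 := fun y => by
            have h3 : conj ((φ : F → ℂ) y) = (φ : F → ℂ) y :=
              congr_fun (congrArg Subtype.val hfix) y
            rw [← char_inv (irr_isCharacter φ.2) y, hlam] at h3
            have h4 : lam y⁻¹ = lam y := Units.ext h3
            rw [map_inv, inv_eq_iff_mul_eq_one] at h4
            rw [pow_two]; exact h4
          have h5 : lam x ^ Nat.card F = 1 := by rw [← map_pow, pow_card_eq_one', map_one]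
          have h6 := pow_gcd_eq_one.mpr ⟨h5, h2 x⟩
          rw [(Nat.coprime_two_right.mpr (hqdef ▸ hodd)).gcd_eq_one, pow_one] at h6
          rw [coe_oneChar, hlam]
          show ((lam x : ℂˣ) : ℂ) = 1
          rw [h6, Units.val_one]
        have hcP : ∀ φ ∈ P, cj φ ∈ P := by
          intro φ hφ
          refine Finset.mem_erase.mpr ⟨fun e => (Finset.mem_erase.mp hφ).1 ?_, Finset.mem_univ _⟩
          rw [← hcc φ, e]
          exact Subtype.ext (funext fun x => by simp [cj, coe_oneChar])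
        have hmult : ∀ φ, mult (X φ₁) (cj φ) = mult (X φ₁) φ := by
          intro φ
          apply Nat.cast_injective (R := ℂ)
          rw [← mult_spec, ← map_natCast (starRingEnd ℂ) (mult (X φ₁) φ), ← mult_spec, classInner_def,
            classInner_def, map_mul, map_inv₀, map_natCast, map_sum]
          congr 1
          refine Finset.sum_congr rfl fun x _ => ?_
          show conj ((φ : F → ℂ) x) * conj ((X φ₁ : G → ℂ) x) = _
          rw [map_mul, hr (x : G), hr (x : G)]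
        have hS2 : ∀ φ ∈ P, X φ = X φ₁ → X (cj φ) = X φ₁ := by
          intro φ hφ he'
          by_contra hne'
          have := hX1 φ (cj φ) (Finset.mem_erase.mp hφ).1 (Finset.mem_erase.mp (hcP φ hφ)).1 (X φ₁)
          rw [hmult, sub_self, if_pos he', if_neg hne'] at this
          rcases hε with r | r <;> rw [r] at this <;> norm_num at this
        have h0 : (h : ZMod 2) = 0 := by
          rw [← hX3 φ₁ (Finset.mem_erase.mp hφ₁).1, Finset.card_eq_sum_ones, Nat.cast_sum]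
          refine Finset.sum_involution (fun φ _ => cj φ) (fun φ _ => ?_) (fun φ hφ _ => ?_)
            (fun φ hφ => ?_) (fun φ _ => hcc φ)
          · simp only [Nat.cast_one]; decide
          · exact hne1 φ (Finset.mem_filter.mp hφ).1
          · rw [Finset.mem_filter] at hφ ⊢
            exact ⟨hcP φ hφ.1, hS2 φ hφ.1 hφ.2⟩
        have hdvd := (ZMod.natCast_eq_zero_iff_even).mp h0
        exact (Nat.not_even_iff_odd.mpr (hhdef ▸ C.odd)) hdvd
      have hb := hT 0 (fun ψ hψ => by rw [hnr ψ hψ, zero_mul])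
      have h1 : ((q : ℤ) * h + 1) ≤ ((h : ℤ) + 1) + ((q : ℤ) - 1) * S + e * 0 :=
        le_trans (by exact_mod_cast hsq) hb
      have h2 : 0 ≤ ((q : ℤ) - 1) * (S - h) := by linarith
      have h3 : 0 ≤ S - h := nonneg_of_mul_nonneg_right h2 (by omega)
      have hK : K = 0 := by
        by_contra hne
        have hK1 : 1 ≤ K := by omega
        have h4 : K * (e * K + 2 * ε) ≤ 0 := by linarith
        have h5 : (3 : ℤ) ≤ e * K := by
          have : (3 : ℤ) * 1 ≤ e * K := mul_le_mul (by exact_mod_cast he3) hK1 (by norm_num) (by omega)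
          linarith
        have h6 : 0 < (e : ℤ) * K + 2 * ε := by rcases hε with r | r <;> omega
        nlinarith
      refine ⟨hK, hε.resolve_right fun r => ?_⟩
      rw [hK, r] at hdpos
      simp at hdpos
      omega
  obtain ⟨hK, hε1⟩ := hKε
  -- the character χ χ̄
  obtain ⟨χ, hχdef⟩ : ∃ χ, χ = X φ₀ := ⟨_, rfl⟩
  have hχm : ∀ φ ∈ P, (mult χ φ : ℤ) = if X φ = χ then 1 else 0 := fun φ hφ => by
    rw [hk φ hφ χ, hχdef, ← hKdef, hK, hε1]; simp
  have hχd : d χ = h := by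
    rw [hdE χ (hχdef ▸ Finset.mem_image_of_mem X hφ₀P), hK, hε1]; ring
  have hχ1 : (χ : G → ℂ) 1 = (h : ℂ) := by
    rw [C.degree_eq χ]
    have : (((∑ φ : Cfsg.IrrCharacter F, mult χ φ : ℕ) : ℤ)) = (h : ℤ) := (hddef χ).symm.trans hχd
    exact_mod_cast this
  set η : G → ℂ := fun g => (χ : G → ℂ) g * conj ((χ : G → ℂ) g) with hη
  have hηc : Cfsg.IsCharacter G η :=
    isCharacter_mul (irr_isCharacter χ.2) (irr_isCharacter (isIrrCharacter_conj χ.2))
  choose c hc using fun ψ : Cfsg.IrrCharacter G =>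
    classInner_isCharacter_nat hηc (irr_isCharacter ψ.2)
  have hexp : η = ∑ ψ : Cfsg.IrrCharacter G, (c ψ : ℂ) • (ψ : G → ℂ) := by
    conv_lhs => rw [classFunction_eq_sum (isCharacter_isClassFunction hηc)]
    simp only [hc]
  have hdeg : ∑ ψ : Cfsg.IrrCharacter G, c ψ * (∑ φ : Cfsg.IrrCharacter F, mult ψ φ) = h * h := by
    have h1 : η 1 = ((h * h : ℕ) : ℂ) := by simp [hη, hχ1]
    rw [hexp] at h1
    simp only [Finset.sum_apply, Pi.smul_apply, smul_eq_mul, C.degree_eq, ← Nat.cast_mul,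
      ← Nat.cast_sum] at h1
    exact_mod_cast h1
  have hone : ∑ ψ : Cfsg.IrrCharacter G, c ψ * mult ψ (oneChar F) = h := by
    have h1 : Cfsg.classInner ((oneChar F : Cfsg.IrrCharacter F) : F → ℂ) (fun x : F => η x) =
        ((∑ ψ : Cfsg.IrrCharacter G, c ψ * mult ψ (oneChar F) : ℕ) : ℂ) := by
      rw [show (fun x : F => η x) =
        ∑ ψ : Cfsg.IrrCharacter G, (c ψ : ℂ) • (fun x : F => (ψ : G → ℂ) x) from funext fun x => by
          rw [hexp]; simp [Finset.sum_apply]]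
      rw [classInner_sum_right]
      simp only [classInner_smul_right, mult_spec, map_natCast, Nat.cast_sum, Nat.cast_mul]
    have h2 : Cfsg.classInner ((oneChar F : Cfsg.IrrCharacter F) : F → ℂ) (fun x : F => η x) =
        Cfsg.classInner (fun x : F => (χ : G → ℂ) x) (fun x : F => (χ : G → ℂ) x) := by
      rw [classInner_def, classInner_def, coe_oneChar]
      congr 1
      refine Finset.sum_congr rfl fun x _ => ?_
      simp [hη, mul_comm]
    have hcl : Cfsg.IsClassFunction F (fun x : F => (χ : G → ℂ) x) :=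
      fun g x => irr_isClassFunction χ.2 g x
    have hsym : ∀ φ : Cfsg.IrrCharacter F,
        Cfsg.classInner (fun x : F => (χ : G → ℂ) x) (φ : F → ℂ) = (mult χ φ : ℂ) := fun φ => by
      rw [← classInner_conj_symm, mult_spec, map_natCast]
    rw [h2, classInner_eq_sum_mul hcl] at h1
    simp only [hsym, map_natCast, ← Nat.cast_mul, ← Nat.cast_sum] at h1
    rw [← Nat.cast_inj (R := ℂ), ← h1, Nat.cast_inj, ← Finset.add_sum_erase _ _ (Finset.mem_univ (oneChar F)),
      haE χ (hχdef ▸ Finset.mem_image_of_mem X hφ₀P), mul_zero, zero_add, ← hP,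
      Finset.sum_congr rfl (g := fun φ => if X φ = χ then 1 else 0) (fun φ hφ => ?_), Finset.sum_boole]
    · simp only [hχdef, Nat.cast_id]; exact hX3 φ₀ hφ₀
    · have := hχm φ hφ
      split_ifs with hh
      · rw [if_pos hh] at this; have : mult χ φ = 1 := by exact_mod_cast this
        rw [this]
      · rw [if_neg hh] at this; have : mult χ φ = 0 := by exact_mod_cast this
        rw [this]
  let ψ₁ : Cfsg.IrrCharacter G := ⟨fun _ => 1, isIrrCharacter_one⟩
  have hc1 : c ψ₁ = 1 := by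
    have : (c ψ₁ : ℂ) = 1 := by
      rw [← hc ψ₁, ← irr_classInner_self χ.2, classInner_def, classInner_def]
      congr 1
      exact Finset.sum_congr rfl fun g _ => by simp [hη, ψ₁]
    exact_mod_cast this
  have h1a : mult ψ₁ (oneChar F) = 1 ∧ ∑ φ : Cfsg.IrrCharacter F, mult ψ₁ φ = 1 := by
    obtain ⟨ha, hm⟩ := C.mult_const ψ₁ 1 1 0 (by simp [ψ₁]) (fun x _ _ => by simp [ψ₁]) (by simp)
    refine ⟨by omega, ?_⟩
    rw [← Finset.add_sum_erase _ _ (Finset.mem_univ (oneChar F)), ha,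
      Finset.sum_eq_zero fun φ hφ => hm φ (Finset.mem_erase.mp hφ).1]
    simp
  rw [← Finset.add_sum_erase _ _ (Finset.mem_univ ψ₁), hc1, one_mul, h1a.2] at hdeg
  rw [← Finset.add_sum_erase _ _ (Finset.mem_univ ψ₁), hc1, one_mul, h1a.1] at hone
  have hle : (q + 1) * ∑ ψ ∈ Finset.univ.erase ψ₁, c ψ * mult ψ (oneChar F) ≤
      2 * ∑ ψ ∈ Finset.univ.erase ψ₁, c ψ * ∑ φ : Cfsg.IrrCharacter F, mult ψ φ := by
    rw [Finset.mul_sum, Finset.mul_sum]
    refine Finset.sum_le_sum fun ψ hψ => ?_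
    by_cases ha : mult ψ (oneChar F) = 0
    · simp [ha]
    · rcases C.constituent_cases ψ ha with h1 | ⟨-, d', hd', hle⟩
      · exact absurd (Subtype.ext h1) (Finset.mem_erase.mp hψ).1
      · have e : ∑ φ : Cfsg.IrrCharacter F, mult ψ φ = d' := by
          have := C.degree_eq ψ
          rw [hd'] at this
          exact_mod_cast this.symm
        rw [e, ← hqdef] at *
        calc (q + 1) * (c ψ * mult ψ (oneChar F)) = c ψ * ((q + 1) * mult ψ (oneChar F)) := by ring
          _ ≤ c ψ * (2 * d') := Nat.mul_le_mul_left _ hle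
          _ = 2 * (c ψ * d') := by ring
  obtain ⟨A, hA⟩ : ∃ A, A = ∑ ψ ∈ Finset.univ.erase ψ₁, c ψ * mult ψ (oneChar F) := ⟨_, rfl⟩
  obtain ⟨D, hD⟩ : ∃ D, D = ∑ ψ ∈ Finset.univ.erase ψ₁, c ψ * ∑ φ : Cfsg.IrrCharacter F, mult ψ φ :=
    ⟨_, rfl⟩
  rw [← hA] at hone hle
  rw [← hD] at hdeg hle
  have h4 : (2 * h + 3) * A ≤ (q + 1) * A := Nat.mul_le_mul_right _ (by omega)
  nlinarith

end Bound

end OddKernel

end CfsgLib.Perm
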