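import Cfsg.Agent.Lib.Perm.ZassenhausOdd

/-!
The characters of a doubly transitive group with abelian regular kernel in a point stabiliser
(see `CfsgLib.Perm.OddKernel`).
-/

set_option autoImplicit false
set_option linter.unusedSectionVars false
set_option linter.style.haveILetI false

namespace CfsgLib.Perm

open MulAction CfsgLib.Char
open scoped ComplexConjugate

universe u v

section CommGroup

variable {A : Type u} [Group A] [Fintype A]

theorem sum_classInner_comm (hA : ∀ x y : A, x * y = y * x) [Fintype (Cfsg.IrrCharacter A)]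
    (f : A → ℂ) :
    ∑ φ : Cfsg.IrrCharacter A, Cfsg.classInner (φ : A → ℂ) f = conj (f 1) := by
  have hf : Cfsg.IsClassFunction A f := fun g x => by rw [hA x g, mul_assoc, mul_inv_cancel, mul_one]
  rw [classFunction_apply_eq_sum hf 1, map_sum]
  refine Finset.sum_congr rfl fun φ _ => ?_
  rw [irr_degree_one_of_comm hA φ.2, mul_one, classInner_conj_symm]

theorem card_irr_comm (hA : ∀ x y : A, x * y = y * x) [Fintype (Cfsg.IrrCharacter A)] :
    Fintype.card (Cfsg.IrrCharacter A) = Nat.card A := by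
  have h := sum_irr_sq (G := A)
  simp only [fun φ : Cfsg.IrrCharacter A => irr_degree_one_of_comm hA φ.2, one_pow,
    Finset.sum_const, Finset.card_univ, nsmul_eq_mul, mul_one] at h
  exact_mod_cast h

end CommGroup

variable {G : Type u} {Ω : Type v} [Group G] [Fintype G] [MulAction G Ω] [Fintype Ω] {a b : Ω}
  {F : Subgroup G}

/-- The trivial character of `F`. -/
def oneChar (F : Subgroup G) : Cfsg.IrrCharacter F := ⟨fun _ => 1, isIrrCharacter_one⟩

omit [Fintype G] in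
theorem coe_oneChar : ((oneChar F : Cfsg.IrrCharacter F) : F → ℂ) = fun _ => 1 := rfl

/-- The multiplicity of a character of `F` in the restriction of a character of `G`. -/
noncomputable def mult (ψ : Cfsg.IrrCharacter G) (φ : Cfsg.IrrCharacter F) : ℕ :=
  letI := Fintype.ofFinite F
  (classInner_isCharacter_nat (irr_isCharacter φ.2)
    (isCharacter_restrict (irr_isCharacter ψ.2) F)).choose

theorem mult_spec [Fintype F] (ψ : Cfsg.IrrCharacter G) (φ : Cfsg.IrrCharacter F) :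
    Cfsg.classInner (φ : F → ℂ) (fun x : F => (ψ : G → ℂ) x) = (mult ψ φ : ℂ) := by
  have e : ‹Fintype F› = Fintype.ofFinite F := Subsingleton.elim _ _
  subst e
  letI := Fintype.ofFinite F
  exact (classInner_isCharacter_nat (irr_isCharacter φ.2)
    (isCharacter_restrict (irr_isCharacter ψ.2) F)).choose_spec

/-- The lift to the normaliser of a character of `F`, induced. -/
noncomputable def theta (φ : Cfsg.IrrCharacter F) : Subgroup.normalizer (F : Set G) → ℂ :=
  letI := Fintype.ofFinite (Subgroup.normalizer (F : Set G))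
  Cfsg.indFun (F.subgroupOf (Subgroup.normalizer (F : Set G)))
    fun x => (φ : F → ℂ) ⟨((x : Subgroup.normalizer (F : Set G)) : G), Subgroup.mem_subgroupOf.mp x.2⟩

namespace OddKernel

variable (C : OddKernel G Ω a b F)

local notation "𝐁" => Subgroup.normalizer (F : Set G)
local notation "𝐇" => (stabilizer G a ⊓ stabilizer G b : Subgroup G)

include C

omit [Fintype G] in
theorem le_normalizer {x : G} (hx : x ∈ F) : x ∈ 𝐁 := (C.mem_normalizer_iff x).mpr (C.fix x hx)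

omit [Fintype G] in
theorem normalizer_eq : 𝐁 = stabilizer G a := Subgroup.ext fun g => C.mem_normalizer_iff g

/-- The product decomposition. -/
theorem prod_bijective : Function.Bijective (fun p : F × 𝐇 => (⟨(p.1 : G) * p.2,
    mul_mem (C.le_normalizer p.1.2) ((C.mem_normalizer_iff _).mpr p.2.2.1)⟩ : 𝐁)) := by
  constructor
  · rintro ⟨u, k⟩ ⟨u', k'⟩ e
    obtain ⟨h1, h2⟩ := C.decomp_unique u.2 u'.2 k.2 k'.2 (congrArg Subtype.val e)
    exact Prod.ext (Subtype.ext h1) (Subtype.ext h2)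
  · rintro ⟨g, hg⟩
    obtain ⟨u, hu, k, hk, e⟩ := C.exists_decomp ((C.mem_normalizer_iff g).mp hg)
    exact ⟨(⟨u, hu⟩, ⟨k, hk⟩), Subtype.ext e.symm⟩

theorem card_normalizer : Nat.card 𝐁 = Nat.card F * Nat.card 𝐇 := by
  rw [← Nat.card_eq_of_bijective _ C.prod_bijective, Nat.card_prod]

theorem index_normalizer : (𝐁).index = Nat.card F + 1 := by
  have h := Subgroup.card_mul_index 𝐁
  rw [C.card_normalizer, C.card_G] at h
  have h1 : 0 < Nat.card F * Nat.card 𝐇 :=
    Nat.mul_pos Nat.card_pos Nat.card_pos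
  refine Nat.eq_of_mul_eq_mul_left h1 (h.trans ?_)
  ring

open scoped Classical in
theorem sum_normalizer (f : G → ℂ)
    (hf : ∀ u ∈ F, ∀ k ∈ stabilizer G a ⊓ stabilizer G b, f (u * k * u⁻¹) = f k) :
    ∑ g : 𝐁, f g = ∑ x : F, f x + (Nat.card F : ℂ) * (∑ k : 𝐇, f k - f 1) := by
  rw [← (Equiv.ofBijective _ C.prod_bijective).sum_comp, Fintype.sum_prod_type,
    Nat.card_eq_fintype_card, ← Finset.card_univ, ← nsmul_eq_mul, ← Finset.sum_const,
    ← Finset.sum_add_distrib]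
  refine Finset.sum_congr rfl fun u _ => ?_
  rw [← Finset.add_sum_erase _ _ (Finset.mem_univ (1 : 𝐇)),
    ← Finset.add_sum_erase _ (fun k : 𝐇 => f k) (Finset.mem_univ (1 : 𝐇))]
  simp only [Equiv.ofBijective_apply, OneMemClass.coe_one, mul_one, add_sub_cancel_left]
  congr 1
  refine Finset.sum_congr rfl fun k hk => ?_
  have hk1 : (k : G) ≠ 1 := fun e => (Finset.mem_erase.mp hk).1 (Subtype.ext e)
  obtain ⟨v, hv, e⟩ := C.exists_conj k.2 hk1 u.2
  rw [e, hf v hv k k.2]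

/-! ### Linear characters of the normaliser trivial on `F` -/

theorem card_lam : Nat.card {lam : 𝐁 →* ℂˣ // ∀ x : 𝐁, (x : G) ∈ F → lam x = 1} = Nat.card 𝐇 := by
  set K : Subgroup 𝐁 := F.subgroupOf 𝐁 with hK
  haveI hKn : K.Normal := ⟨fun x hx g => Subgroup.mem_subgroupOf.mpr
    (C.normal g ((C.mem_normalizer_iff g).mp g.2) x (Subgroup.mem_subgroupOf.mp hx))⟩
  let e : {lam : 𝐁 →* ℂˣ // ∀ x : 𝐁, (x : G) ∈ F → lam x = 1} ≃ (𝐁 ⧸ K →* ℂˣ) :=
    { toFun := fun lam => QuotientGroup.lift K lam.1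
        fun x hx => MonoidHom.mem_ker.mpr (lam.2 x (Subgroup.mem_subgroupOf.mp hx))
      invFun := fun f => ⟨f.comp (QuotientGroup.mk' K), fun x hx => by
        rw [MonoidHom.comp_apply, QuotientGroup.mk'_apply,
          (QuotientGroup.eq_one_iff x).mpr (Subgroup.mem_subgroupOf.mpr hx), map_one]⟩
      left_inv := fun lam => Subtype.ext (MonoidHom.ext fun x => rfl)
      right_inv := fun f => by ext x; rfl }
  have hrep : ∀ x : 𝐁 ⧸ K, ∃ k : 𝐇, x = QuotientGroup.mk' K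
      (⟨(k : G), (C.mem_normalizer_iff _).mpr k.2.1⟩ : 𝐁) := by
    intro x
    obtain ⟨g, rfl⟩ := QuotientGroup.mk'_surjective K x
    obtain ⟨⟨u, k⟩, rfl⟩ := C.prod_bijective.2 g
    refine ⟨k, ?_⟩
    show QuotientGroup.mk' K ((⟨(u : G), C.le_normalizer u.2⟩ : 𝐁) *
      ⟨(k : G), (C.mem_normalizer_iff _).mpr k.2.1⟩) = _
    rw [map_mul, QuotientGroup.mk'_apply, QuotientGroup.mk'_apply,
      (QuotientGroup.eq_one_iff _).mpr (Subgroup.mem_subgroupOf.mpr (show ((⟨(u : G),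
        C.le_normalizer u.2⟩ : 𝐁) : G) ∈ F from u.2)), one_mul]
  have hcomm : ∀ x y : 𝐁 ⧸ K, x * y = y * x := by
    intro x y
    obtain ⟨k, rfl⟩ := hrep x
    obtain ⟨l, rfl⟩ := hrep y
    rw [← map_mul, ← map_mul]
    exact congrArg _ (Subtype.ext (C.two_point_comm k.2 l.2))
  have hbot : commutator (𝐁 ⧸ K) = ⊥ := by
    rw [commutator_def, eq_bot_iff, Subgroup.commutator_le]
    intro x _ y _
    rw [Subgroup.mem_bot, commutatorElement_eq_one_iff_mul_comm]
    exact hcomm x y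
  rw [Nat.card_congr e, natCard_linear, hbot, Subgroup.index_bot, ← Subgroup.index_eq_card]
  have h := Subgroup.card_mul_index K
  rw [C.card_normalizer, Nat.card_congr (Subgroup.subgroupOfEquivOfLe
    (show F ≤ 𝐁 from fun x hx => C.le_normalizer hx)).toEquiv] at h
  exact Nat.eq_of_mul_eq_mul_left Nat.card_pos h

variable [Fintype {lam : Subgroup.normalizer (F : Set G) →* ℂˣ //
  ∀ x : Subgroup.normalizer (F : Set G), (x : G) ∈ F → lam x = 1}]

open scoped Classical in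
theorem sum_lam (g : 𝐁) :
    ∑ lam : {lam : 𝐁 →* ℂˣ // ∀ x : 𝐁, (x : G) ∈ F → lam x = 1}, (lam.1 g : ℂ) =
      if (g : G) ∈ F then (Nat.card 𝐇 : ℂ) else 0 := by
  split_ifs with hg
  · rw [← C.card_lam, Nat.card_eq_fintype_card]
    simp [fun lam : {lam : 𝐁 →* ℂˣ // ∀ x : 𝐁, (x : G) ∈ F → lam x = 1} => lam.2 g hg]
  · set K : Subgroup 𝐁 := F.subgroupOf 𝐁 with hK
    haveI hKn : K.Normal := ⟨fun x hx g => Subgroup.mem_subgroupOf.mpr
      (C.normal g ((C.mem_normalizer_iff g).mp g.2) x (Subgroup.mem_subgroupOf.mp hx))⟩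
    have hne : (QuotientGroup.mk' K g) ≠ 1 := fun e =>
      hg (Subgroup.mem_subgroupOf.mp ((QuotientGroup.eq_one_iff g).mp e))
    have hcomm : ∀ x y : 𝐁 ⧸ K, x * y = y * x := by
      intro x y
      obtain ⟨x, rfl⟩ := QuotientGroup.mk'_surjective K x
      obtain ⟨y, rfl⟩ := QuotientGroup.mk'_surjective K y
      obtain ⟨⟨u, k⟩, rfl⟩ := C.prod_bijective.2 x
      obtain ⟨⟨u', k'⟩, rfl⟩ := C.prod_bijective.2 y
      have h1 : ∀ (u : F) (k : 𝐇) (h : (u : G) * k ∈ 𝐁), QuotientGroup.mk' K ⟨(u : G) * k, h⟩ =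
          QuotientGroup.mk' K ⟨(k : G), (C.mem_normalizer_iff _).mpr k.2.1⟩ := fun u k h => by
        refine ((QuotientGroup.eq (s := K)).mpr (Subgroup.mem_subgroupOf.mpr ?_))
        show ((u : G) * k)⁻¹ * k ∈ F
        have := C.normal (k : G)⁻¹ (by rw [inv_smul_eq_iff]; exact k.2.1.symm) _ (inv_mem u.2)
        simpa [mul_assoc] using this
      dsimp only
      rw [h1 u k, h1 u' k', ← map_mul, ← map_mul]
      exact congrArg _ (Subtype.ext (C.two_point_comm k.2 k'.2))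
    obtain ⟨μ, hμ⟩ := exists_linear_ne_one hcomm hne
    let l₀ : {lam : 𝐁 →* ℂˣ // ∀ x : 𝐁, (x : G) ∈ F → lam x = 1} :=
      ⟨μ.comp (QuotientGroup.mk' K), fun x hx => by
        rw [MonoidHom.comp_apply, QuotientGroup.mk'_apply,
          (QuotientGroup.eq_one_iff x).mpr (Subgroup.mem_subgroupOf.mpr hx), map_one]⟩
    let e : {lam : 𝐁 →* ℂˣ // ∀ x : 𝐁, (x : G) ∈ F → lam x = 1} ≃
        {lam : 𝐁 →* ℂˣ // ∀ x : 𝐁, (x : G) ∈ F → lam x = 1} :=
      { toFun := fun lam => ⟨l₀.1 * lam.1, fun x hx => by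
          rw [MonoidHom.mul_apply, l₀.2 x hx, lam.2 x hx, one_mul]⟩
        invFun := fun lam => ⟨l₀.1⁻¹ * lam.1, fun x hx => by
          rw [MonoidHom.mul_apply, MonoidHom.inv_apply, l₀.2 x hx, lam.2 x hx, inv_one, one_mul]⟩
        left_inv := fun lam => Subtype.ext (inv_mul_cancel_left l₀.1 lam.1)
        right_inv := fun lam => Subtype.ext (mul_inv_cancel_left l₀.1 lam.1) }
    set S := ∑ lam : {lam : 𝐁 →* ℂˣ // ∀ x : 𝐁, (x : G) ∈ F → lam x = 1}, (lam.1 g : ℂ)
    have h1 : (l₀.1 g : ℂ) * S = S := by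
      rw [Finset.mul_sum]
      conv_rhs => rw [show S = _ from (e.sum_comp _).symm]
      exact Finset.sum_congr rfl fun lam _ => rfl
    have h2 : (l₀.1 g : ℂ) - 1 ≠ 0 := sub_ne_zero.mpr fun e => hμ (Units.ext e)
    exact (mul_eq_zero.mp (show ((l₀.1 g : ℂ) - 1) * S = 0 by rw [sub_mul, h1, one_mul, sub_self])).resolve_left h2

open scoped Classical in
/-- The average over `F` of a function on the normaliser. -/
theorem inner_restrict_one [Fintype F] [Fintype 𝐁] (f : 𝐁 → ℂ) :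
    Cfsg.classInner (fun x : F => f ⟨x, C.le_normalizer x.2⟩) (fun _ => (1 : ℂ)) =
      ∑ lam : {lam : 𝐁 →* ℂˣ // ∀ x : 𝐁, (x : G) ∈ F → lam x = 1},
        Cfsg.classInner f (fun g => (lam.1 g : ℂ)) := by
  simp only [classInner_def, ← Finset.mul_sum, map_one, mul_one]
  rw [Finset.sum_comm]
  simp only [← Finset.mul_sum, ← map_sum, C.sum_lam, apply_ite (starRingEnd ℂ), map_natCast,
    map_zero, mul_ite, mul_zero, ← Finset.sum_filter, ← Finset.sum_mul]
  have e : ∑ g ∈ (Finset.univ : Finset 𝐁).filter (fun g : 𝐁 => (g : G) ∈ F), f g =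
      ∑ x : F, f ⟨x, C.le_normalizer x.2⟩ := by
    refine Finset.sum_bij' (fun g hg => ⟨(g : G), (Finset.mem_filter.mp hg).2⟩)
      (fun x _ => ⟨x, C.le_normalizer x.2⟩) (fun _ _ => Finset.mem_univ _)
      (fun x _ => Finset.mem_filter.mpr ⟨Finset.mem_univ _, x.2⟩) (fun _ _ => rfl) (fun _ _ => rfl)
      (fun _ _ => rfl)
  rw [e, C.card_normalizer, Nat.cast_mul, mul_inv, mul_comm (∑ x : F, _) _, ← mul_assoc,
    mul_assoc _ (Nat.card 𝐇 : ℂ)⁻¹, inv_mul_cancel₀ natCard_ne_zero, mul_one]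

section Theta

omit [Fintype {lam : Subgroup.normalizer (F : Set G) →* ℂˣ //
  ∀ x : Subgroup.normalizer (F : Set G), (x : G) ∈ F → lam x = 1}]

open scoped Classical in
theorem inner_theta [Fintype F] [Fintype 𝐁] (φ : Cfsg.IrrCharacter F) {f : 𝐁 → ℂ}
    (hf : Cfsg.IsClassFunction 𝐁 f) :
    Cfsg.classInner (theta φ) f =
      Cfsg.classInner (φ : F → ℂ) (fun x : F => f ⟨x, C.le_normalizer x.2⟩) := by
  have e : ‹Fintype 𝐁› = Fintype.ofFinite 𝐁 := Subsingleton.elim _ _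
  subst e
  letI := Fintype.ofFinite 𝐁
  have := Fintype.ofFinite (F.subgroupOf 𝐁)
  rw [theta, frobenius_reciprocity _ _ _ hf, classInner_def, classInner_def,
    Nat.card_congr (Subgroup.subgroupOfEquivOfLe
      (show F ≤ 𝐁 from fun x hx => C.le_normalizer hx)).toEquiv]
  congr 1
  exact Fintype.sum_equiv (Subgroup.subgroupOfEquivOfLe
    (show F ≤ 𝐁 from fun x hx => C.le_normalizer hx)).toEquiv _ _ fun x => rfl

omit [Fintype G] in
theorem kernel_normal : (F.subgroupOf 𝐁).Normal := ⟨fun x hx g => Subgroup.mem_subgroupOf.mpr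
  (C.normal g ((C.mem_normalizer_iff g).mp g.2) x (Subgroup.mem_subgroupOf.mp hx))⟩

theorem theta_irr {φ : Cfsg.IrrCharacter F} (hφ : φ ≠ oneChar F) :
    Cfsg.IsIrrCharacter 𝐁 (theta φ) := by
  letI := Fintype.ofFinite 𝐁
  haveI := C.kernel_normal
  refine indFun_frobenius_irr (F.subgroupOf 𝐁) ((stabilizer G a ⊓ stabilizer G b).subgroupOf 𝐁)
    ?_ ?_ ?_ ?_ ?_
  · rw [eq_bot_iff]
    rintro ⟨x, hxB⟩ ⟨h1, h2⟩
    rw [Subgroup.mem_bot]
    exact Subtype.ext (C.free (Subgroup.mem_subgroupOf.mp h1) C.ab.symm (Subgroup.mem_subgroupOf.mp h2).2)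
  · rw [Subgroup.eq_top_iff']
    intro g
    obtain ⟨⟨u, k⟩, rfl⟩ := C.prod_bijective.2 g
    have h1 : (⟨(u : G), C.le_normalizer u.2⟩ : 𝐁) ∈ F.subgroupOf 𝐁 := Subgroup.mem_subgroupOf.mpr u.2
    have h2 : (⟨(k : G), (C.mem_normalizer_iff _).mpr k.2.1⟩ : 𝐁) ∈
        (stabilizer G a ⊓ stabilizer G b).subgroupOf 𝐁 := Subgroup.mem_subgroupOf.mpr k.2
    exact Subgroup.mul_mem _ (Subgroup.mem_sup_left h1) (Subgroup.mem_sup_right h2)
  · intro k hk hk1 x hx e
    exact Subtype.ext (C.fpf (Subgroup.mem_subgroupOf.mp hk) (fun e' => hk1 (Subtype.ext e'))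
      (Subgroup.mem_subgroupOf.mp hx) (congrArg Subtype.val e))
  · exact isIrrCharacter_comp_surjective φ.2
      (Subgroup.subgroupOfEquivOfLe (show F ≤ 𝐁 from fun x hx => C.le_normalizer hx)).toMonoidHom
      (Subgroup.subgroupOfEquivOfLe (show F ≤ 𝐁 from fun x hx => C.le_normalizer hx)).surjective
  · intro e
    refine hφ (Subtype.ext (funext fun x => ?_))
    exact congr_fun e ⟨⟨x, C.le_normalizer x.2⟩, Subgroup.mem_subgroupOf.mpr x.2⟩

theorem theta_vanish (φ : Cfsg.IrrCharacter F) {x : 𝐁} (hx : (x : G) ∉ F) : theta φ x = 0 := by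
  letI := Fintype.ofFinite 𝐁
  haveI := C.kernel_normal
  rw [theta, indFun_def]
  refine mul_eq_zero_of_right _ (Finset.sum_eq_zero fun g _ => extendByZero_of_not_mem _ fun h => hx ?_)
  have h' := C.kernel_normal.conj_mem _ h g
  exact Subgroup.mem_subgroupOf.mp (by simpa [mul_assoc] using h')

theorem theta_one (φ : Cfsg.IrrCharacter F) : theta φ 1 = (Nat.card 𝐇 : ℂ) := by
  letI := Fintype.ofFinite 𝐁
  rw [theta, indFun_apply_one]
  have h := Subgroup.card_mul_index (F.subgroupOf 𝐁)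
  rw [C.card_normalizer, Nat.card_congr (Subgroup.subgroupOfEquivOfLe
    (show F ≤ 𝐁 from fun x hx => C.le_normalizer hx)).toEquiv] at h
  rw [Nat.eq_of_mul_eq_mul_left Nat.card_pos h]
  have h1 : (φ : F → ℂ) 1 = 1 := irr_degree_one_of_comm
    (fun x y => Subtype.ext (C.comm x x.2 y y.2)) φ.2
  exact (congrArg _ h1).trans (mul_one _)

theorem inner_oneChar_ne [Fintype F] {φ : Cfsg.IrrCharacter F} (hφ : φ ≠ oneChar F) :
    Cfsg.classInner (φ : F → ℂ) (fun _ => (1 : ℂ)) = 0 :=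
  irr_classInner_ne φ.2 isIrrCharacter_one fun e => hφ (Subtype.ext e)

open scoped Classical in
/-- The characters of `F` inducing a given character of the normaliser. -/
theorem theta_fibre [Fintype F] [Fintype (Cfsg.IrrCharacter F)] {φ₀ : Cfsg.IrrCharacter F}
    (hφ₀ : φ₀ ≠ oneChar F) :
    ((Finset.univ.erase (oneChar F)).filter fun φ : Cfsg.IrrCharacter F => theta φ = theta φ₀).card =
      Nat.card 𝐇 := by
  letI := Fintype.ofFinite 𝐁
  letI := Fintype.ofFinite {lam : 𝐁 →* ℂˣ // ∀ x : 𝐁, (x : G) ∈ F → lam x = 1}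
  have hcl := irr_isClassFunction (C.theta_irr hφ₀)
  have h1 : Cfsg.classInner ((oneChar F : Cfsg.IrrCharacter F) : F → ℂ)
      (fun x : F => theta φ₀ ⟨x, C.le_normalizer x.2⟩) = 0 := by
    rw [coe_oneChar, ← classInner_conj_symm, C.inner_restrict_one, map_sum]
    refine Finset.sum_eq_zero fun lam _ => ?_
    rw [C.inner_theta φ₀ (irr_isClassFunction (isIrrCharacter_linear lam.1))]
    simp only [fun x : F => lam.2 ⟨x, C.le_normalizer x.2⟩ x.2, Units.val_one]
    rw [C.inner_oneChar_ne hφ₀, map_zero]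
  have h2 := sum_classInner_comm (A := F) (fun x y => Subtype.ext (C.comm x x.2 y y.2))
    (fun x : F => theta φ₀ ⟨x, C.le_normalizer x.2⟩)
  rw [← Finset.add_sum_erase _ _ (Finset.mem_univ (oneChar F)), h1, zero_add,
    Finset.sum_congr rfl (g := fun φ : Cfsg.IrrCharacter F =>
      if theta φ = theta φ₀ then (1 : ℂ) else 0) (fun φ hφ => by
        rw [← C.inner_theta φ hcl, irr_classInner (C.theta_irr (Finset.mem_erase.mp hφ).1)
          (C.theta_irr hφ₀)]), Finset.sum_boole] at h2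
  have h3 : conj (theta φ₀ (⟨((1 : F) : G), C.le_normalizer (1 : F).2⟩ : 𝐁)) = (Nat.card 𝐇 : ℂ) := by
    rw [show (⟨((1 : F) : G), C.le_normalizer (1 : F).2⟩ : 𝐁) = 1 from rfl, C.theta_one, map_natCast]
  rw [← Nat.cast_inj (R := ℂ), ← h3, ← h2]
  congr

/-- Multiplicities through induction from the normaliser. -/
theorem mult_eq_inner_ind [Fintype F] (ψ : Cfsg.IrrCharacter G) (φ : Cfsg.IrrCharacter F) :
    Cfsg.classInner (Cfsg.indFun 𝐁 (theta φ)) (ψ : G → ℂ) = (mult ψ φ : ℂ) := by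
  letI := Fintype.ofFinite 𝐁
  have hcl : Cfsg.IsClassFunction 𝐁 fun x : 𝐁 => (ψ : G → ℂ) x := fun g x =>
    irr_isClassFunction ψ.2 (g : G) (x : G)
  rw [frobenius_reciprocity _ _ _ (irr_isClassFunction ψ.2), C.inner_theta φ hcl, mult_spec]

open scoped Classical in
theorem sum_mult_sq [Fintype F] [Fintype (Cfsg.IrrCharacter G)] {φ : Cfsg.IrrCharacter F}
    (hφ : φ ≠ oneChar F) :
    ∑ ψ : Cfsg.IrrCharacter G, (mult ψ φ : ℤ) ^ 2 = (Nat.card 𝐇 : ℤ) + 1 := by
  letI := Fintype.ofFinite 𝐁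
  set θ := theta φ
  have hθcl : Cfsg.IsClassFunction 𝐁 θ := irr_isClassFunction (C.theta_irr hφ)
  have hθv : ∀ x : 𝐁, (x : G) ∉ (F : Set G) → θ x = 0 := fun x hx => C.theta_vanish φ hx
  have e : ∀ x : 𝐁, θ x * conj (Cfsg.indFun 𝐁 θ x) = θ x * conj (θ x) +
      if x = 1 then (Nat.card 𝐇 : ℂ) * ((Nat.card F : ℂ) * (Nat.card 𝐇 : ℂ)) else 0 := by
    intro x
    split_ifs with hx
    · subst hx
      rw [OneMemClass.coe_one, indFun_apply_one, C.index_normalizer,
        show θ 1 = (Nat.card 𝐇 : ℂ) from C.theta_one φ]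
      simp only [Nat.cast_add, Nat.cast_one, map_mul, map_add, map_natCast, map_one]
      ring
    · by_cases hxF : (x : G) ∈ F
      · rw [indFun_ti_apply (F : Set G) C.ti θ hθcl hθv x hxF hx, add_zero]
      · rw [hθv x hxF, zero_mul, zero_mul, add_zero]
  have h1 : Cfsg.classInner θ (fun x : 𝐁 => Cfsg.indFun 𝐁 θ x) =
      1 + (Nat.card 𝐇 : ℂ) := by
    have hirr := irr_classInner_self (C.theta_irr hφ)
    rw [classInner_def] at hirr
    rw [classInner_def, Finset.sum_congr rfl fun x _ => e x, Finset.sum_add_distrib, mul_add,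
      hirr, Finset.sum_ite_eq' Finset.univ (1 : 𝐁), if_pos (Finset.mem_univ _), C.card_normalizer,
      Nat.cast_mul]
    congr 1
    have hq : (Nat.card F : ℂ) ≠ 0 := natCard_ne_zero
    have hh : (Nat.card 𝐇 : ℂ) ≠ 0 := natCard_ne_zero
    field_simp
  rw [← frobenius_reciprocity _ _ _ (indFun_isClassFunction 𝐁 θ),
    classInner_eq_sum_mul (indFun_isClassFunction 𝐁 θ)] at h1
  simp only [θ, C.mult_eq_inner_ind, map_natCast] at h1
  have h2 : ((∑ ψ : Cfsg.IrrCharacter G, (mult ψ φ : ℤ) ^ 2 : ℤ) : ℂ) = ((Nat.card 𝐇 : ℤ) + 1 : ℤ) := by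
    push_cast
    simp only [pow_two]
    rw [h1, add_comm]
  exact_mod_cast h2

end Theta

section Induced

/-- The permutation character less one. -/
theorem steinberg_irr : Cfsg.IsIrrCharacter G (fun g => (Nat.card (fixedBy Ω g) : ℂ) - 1) := by
  haveI := isPretransitive_of_is_two_pretransitive (h2 := C.two)
  refine (isIrr_perm_iff Ω ?_).mpr C.two
  rw [Nat.card_eq_fintype_card]; have := C.big; omega

omit [Fintype {lam : Subgroup.normalizer (F : Set G) →* ℂˣ //
  ∀ x : Subgroup.normalizer (F : Set G), (x : G) ∈ F → lam x = 1}] in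
theorem ind_one_eq (g : G) :
    Cfsg.indFun 𝐁 (fun _ => 1) g = (Nat.card (fixedBy Ω g) : ℂ) := by
  haveI := isPretransitive_of_is_two_pretransitive (h2 := C.two)
  have key : ∀ K : Subgroup G, K = stabilizer G a →
      Cfsg.indFun K (fun _ => 1) g = (Nat.card (fixedBy Ω g) : ℂ) := by
    rintro K rfl
    exact (natCard_fixedBy_eq_indFun Ω a g).symm
  exact key _ C.normalizer_eq

omit [Fintype {lam : Subgroup.normalizer (F : Set G) →* ℂˣ //
  ∀ x : Subgroup.normalizer (F : Set G), (x : G) ∈ F → lam x = 1}] in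
theorem ind_lam_kernel (lam : {lam : 𝐁 →* ℂˣ // ∀ x : 𝐁, (x : G) ∈ F → lam x = 1}) {x : G}
    (hx : x ∈ F) (hx1 : x ≠ 1) : Cfsg.indFun 𝐁 (fun g => (lam.1 g : ℂ)) x = 1 := by
  classical
  have hterm : ∀ g : G, Cfsg.extendByZero 𝐁 (fun g => (lam.1 g : ℂ)) (g⁻¹ * x * g) =
      if g ∈ 𝐁 then 1 else 0 := by
    intro g
    split_ifs with hg
    · have hm : g⁻¹ * x * g ∈ F := by
        have := C.normal g⁻¹ (by rw [inv_smul_eq_iff]; exact ((C.mem_normalizer_iff g).mp hg).symm) x hx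
        simpa using this
      rw [extendByZero_of_mem _ (C.le_normalizer hm), lam.2 _ hm, Units.val_one]
    · refine extendByZero_of_not_mem _ fun h => hg ?_
      rw [C.mem_normalizer_iff, mul_smul, mul_smul, inv_smul_eq_iff] at h
      exact (C.mem_normalizer_iff g).mpr (C.fix_only hx hx1 h)
  rw [indFun_def, Finset.sum_congr rfl fun g _ => hterm g, Finset.sum_boole, ← Fintype.card_subtype,
    Nat.card_eq_fintype_card, inv_mul_cancel₀ (Nat.cast_ne_zero.mpr Fintype.card_ne_zero)]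

omit [Fintype {lam : Subgroup.normalizer (F : Set G) →* ℂˣ //
  ∀ x : Subgroup.normalizer (F : Set G), (x : G) ∈ F → lam x = 1}] in
theorem ind_lam_stab (lam : {lam : 𝐁 →* ℂˣ // ∀ x : 𝐁, (x : G) ∈ F → lam x = 1}) (k : 𝐇)
    (hk : k ≠ 1) :
    Cfsg.indFun 𝐁 (fun g => (lam.1 g : ℂ)) (k : G) =
      (lam.1 ⟨(k : G), (C.mem_normalizer_iff _).mpr k.2.1⟩ : ℂ) +
        (((lam.1 ⟨(k : G), (C.mem_normalizer_iff _).mpr k.2.1⟩)⁻¹ : ℂˣ) : ℂ) := by
  classical
  obtain ⟨s, hsa, hsb⟩ := C.exists_swap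
  have hss := C.swap_sq hsa hsb
  have hsi : s⁻¹ = s := inv_eq_of_mul_eq_one_right hss
  set kB : 𝐁 := ⟨(k : G), (C.mem_normalizer_iff _).mpr k.2.1⟩ with hkB
  have hconj : ∀ u v : 𝐁, lam.1 (u⁻¹ * v * u) = lam.1 v := fun u v => by
    rw [map_mul, map_mul, map_inv, mul_right_comm, inv_mul_cancel, one_mul]
  have hterm : ∀ g : G, Cfsg.extendByZero 𝐁 (fun g => (lam.1 g : ℂ)) (g⁻¹ * (k : G) * g) =
      (if g ∈ 𝐁 then (lam.1 kB : ℂ) else 0) +
        if g • a = b then (((lam.1 kB)⁻¹ : ℂˣ) : ℂ) else 0 := by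
    intro g
    by_cases h1 : g • a = a
    · have hg : g ∈ 𝐁 := (C.mem_normalizer_iff g).mpr h1
      rw [if_pos hg, if_neg (by rw [h1]; exact C.ab), add_zero]
      rw [show g⁻¹ * (k : G) * g = ((⟨g, hg⟩⁻¹ * kB * ⟨g, hg⟩ : 𝐁) : G) from rfl, extendByZero_coe,
        hconj]
    rw [if_neg (fun h => h1 ((C.mem_normalizer_iff g).mp h)), zero_add]
    split_ifs with h2
    · have hg : s * g ∈ 𝐁 := (C.mem_normalizer_iff _).mpr (by rw [mul_smul, h2, hsb])
      have hi : s * (k : G) * s = ((kB⁻¹ : 𝐁) : G) := by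
        have := C.inv s hsa hsb k k.2
        rwa [hsi] at this
      rw [show g⁻¹ * (k : G) * g = (s * g)⁻¹ * (s * (k : G) * s) * (s * g) by
        rw [mul_inv_rev, hsi]; simp [mul_assoc, hss, show ∀ t : G, s * (s * t) = t from
          fun t => by rw [← mul_assoc, hss, one_mul]],
        hi, show (s * g)⁻¹ * ((kB⁻¹ : 𝐁) : G) * (s * g) =
          ((⟨s * g, hg⟩⁻¹ * kB⁻¹ * ⟨s * g, hg⟩ : 𝐁) : G) from rfl, extendByZero_coe, hconj, map_inv]
    · refine extendByZero_of_not_mem _ fun h => hk (Subtype.ext ?_)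
      rw [C.mem_normalizer_iff, mul_smul, mul_smul, inv_smul_eq_iff] at h
      exact C.three k a b (g • a) C.ab (Ne.symm h2) (Ne.symm h1) k.2.1 k.2.2 h
  have hB : ((Finset.univ : Finset G).filter fun g => g • a = b).card = Nat.card 𝐁 := by
    rw [Nat.card_eq_fintype_card, Fintype.card_subtype]
    refine Finset.card_equiv (Equiv.mulLeft s) fun g => ?_
    simp only [Finset.mem_filter, Finset.mem_univ, true_and, Equiv.coe_mulLeft, C.mem_normalizer_iff,
      mul_smul]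
    exact ⟨fun h => by rw [h, hsb], fun h => MulAction.injective s (h.trans hsb.symm)⟩
  have hB' : ((Finset.univ : Finset G).filter fun g => g ∈ 𝐁).card = Nat.card 𝐁 := by
    rw [Nat.card_eq_fintype_card, Fintype.card_subtype]
  rw [indFun_def, Finset.sum_congr rfl fun g _ => hterm g, Finset.sum_add_distrib,
    ← Finset.sum_filter, ← Finset.sum_filter, Finset.sum_const, Finset.sum_const, hB, hB',
    nsmul_eq_mul, nsmul_eq_mul, ← mul_add, inv_mul_cancel_left₀ natCard_ne_zero]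

omit [Fintype {lam : Subgroup.normalizer (F : Set G) →* ℂˣ //
  ∀ x : Subgroup.normalizer (F : Set G), (x : G) ∈ F → lam x = 1}] in
theorem ind_lam_irr (lam : {lam : 𝐁 →* ℂˣ // ∀ x : 𝐁, (x : G) ∈ F → lam x = 1})
    (hlam : lam.1 ≠ 1) : Cfsg.IsIrrCharacter G (Cfsg.indFun 𝐁 fun g => (lam.1 g : ℂ)) := by
  classical
  refine isIrrCharacter_iff.mpr ⟨isCharacter_indFun _ (irr_isCharacter (isIrrCharacter_linear lam.1)), ?_⟩
  set I := Cfsg.indFun 𝐁 fun g => (lam.1 g : ℂ) with hI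
  rw [frobenius_reciprocity _ _ _ (indFun_isClassFunction _ _), classInner_def]
  let j : 𝐇 → 𝐁 := fun k => ⟨(k : G), (C.mem_normalizer_iff _).mpr k.2.1⟩
  let f : G → ℂ := fun g => Cfsg.extendByZero 𝐁 (fun g => (lam.1 g : ℂ)) g * conj (I g)
  have hf : ∀ g : 𝐁, (lam.1 g : ℂ) * conj (I g) = f g := fun g => by
    simp only [f, extendByZero_coe]
  rw [Finset.sum_congr rfl fun g _ => hf g, C.sum_normalizer f ?_]
  swap
  · intro u hu k hk
    simp only [f, hI]
    rw [indFun_isClassFunction _ _ k u, extendByZero_of_mem _ ((C.mem_normalizer_iff _).mpr hk.1),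
      extendByZero_of_mem _ (mul_mem (mul_mem (C.le_normalizer hu)
        ((C.mem_normalizer_iff _).mpr hk.1)) (inv_mem (C.le_normalizer hu)))]
    congr 2
    show lam.1 ((⟨u, C.le_normalizer hu⟩ : 𝐁) * ⟨k, (C.mem_normalizer_iff k).mpr hk.1⟩ * (⟨u, C.le_normalizer hu⟩ : 𝐁)⁻¹) = _
    rw [map_mul, map_mul, map_inv, mul_right_comm, mul_inv_cancel, one_mul]
  have hFs : ∑ x : F, f x = ((Nat.card F + 1 : ℕ) : ℂ) + ((Nat.card F : ℂ) - 1) := by
    rw [← Finset.add_sum_erase _ _ (Finset.mem_univ (1 : F))]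
    congr 1
    · simp only [f, hI, OneMemClass.coe_one, indFun_apply_one, C.index_normalizer]
      rw [show (1 : G) = ((1 : 𝐁) : G) from rfl, extendByZero_coe, map_one, Units.val_one, one_mul,
        mul_one, map_natCast]
    · rw [Finset.sum_congr rfl (g := fun _ => (1 : ℂ)) fun x hx => ?_, Finset.sum_const,
        Finset.card_erase_of_mem (Finset.mem_univ _), Finset.card_univ, nsmul_eq_mul, mul_one,
        ← Nat.card_eq_fintype_card, Nat.cast_sub Nat.card_pos, Nat.cast_one]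
      simp only [f, hI]
      rw [C.ind_lam_kernel lam x.2 (fun e => (Finset.mem_erase.mp hx).1 (Subtype.ext e)),
        extendByZero_of_mem _ (C.le_normalizer x.2), lam.2 _ x.2, Units.val_one, map_one, one_mul]
  have hHs : ∑ k : 𝐇, f k - f 1 = ∑ k : 𝐇, ((lam.1 (j k) : ℂ) ^ 2 + 1) - 2 := by
    rw [← Finset.add_sum_erase _ _ (Finset.mem_univ (1 : 𝐇)),
      ← Finset.add_sum_erase _ (fun k : 𝐇 => (lam.1 (j k) : ℂ) ^ 2 + 1) (Finset.mem_univ (1 : 𝐇))]
    have e : (lam.1 (j 1) : ℂ) ^ 2 + 1 = 2 := by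
      rw [show j 1 = 1 from rfl, map_one, Units.val_one]; norm_num
    rw [OneMemClass.coe_one, add_sub_cancel_left, e, add_sub_cancel_left]
    refine Finset.sum_congr rfl fun k hk => ?_
    simp only [f, hI]
    rw [C.ind_lam_stab lam k (Finset.mem_erase.mp hk).1]
    show Cfsg.extendByZero 𝐁 (fun g => (lam.1 g : ℂ)) ((j k : 𝐁) : G) *
      conj ((lam.1 (j k) : ℂ) + (((lam.1 (j k))⁻¹ : ℂˣ) : ℂ)) = _
    rw [extendByZero_coe, map_add, mul_add]
    have hc : ∀ u : 𝐁, conj (lam.1 u : ℂ) = ((lam.1 u)⁻¹ : ℂˣ) := fun u => by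
      rw [← map_inv]
      exact (char_inv (irr_isCharacter (isIrrCharacter_linear lam.1)) u).symm
    rw [hc, Units.mul_inv, add_comm, pow_two]
    congr 1
    have h2 := hc (j k)
    rw [← Complex.conj_conj (lam.1 (j k) : ℂ), h2]
  have hsum : ∑ k : 𝐇, (lam.1 (j k) : ℂ) ^ 2 = 0 := by
    obtain ⟨k₀, hk₀⟩ : ∃ k₀ : 𝐇, lam.1 (j k₀) ^ 2 ≠ 1 := by
      by_contra hc
      push Not at hc
      refine hlam (MonoidHom.ext fun g => ?_)
      obtain ⟨⟨u, k⟩, rfl⟩ := C.prod_bijective.2 g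
      show lam.1 ((⟨(u : G), C.le_normalizer u.2⟩ : 𝐁) * j k) = 1
      rw [map_mul, lam.2 ⟨(u : G), C.le_normalizer u.2⟩ u.2, one_mul]
      have h1 : lam.1 (j k) ^ Nat.card 𝐇 = 1 := by
        rw [← map_pow, show j k ^ Nat.card 𝐇 = 1 from Subtype.ext (by
          show ((k : G)) ^ Nat.card 𝐇 = 1
          rw [← SubgroupClass.coe_pow, pow_card_eq_one', OneMemClass.coe_one]), map_one]
      have h3 := pow_gcd_eq_one.mpr ⟨h1, hc k⟩
      rwa [(Nat.coprime_two_right.mpr C.odd).gcd_eq_one, pow_one] at h3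
    have h1 : (lam.1 (j k₀) : ℂ) ^ 2 * ∑ k : 𝐇, (lam.1 (j k) : ℂ) ^ 2 =
        ∑ k : 𝐇, (lam.1 (j k) : ℂ) ^ 2 := by
      rw [Finset.mul_sum]
      refine Fintype.sum_equiv (Equiv.mulLeft k₀) _ _ fun k => ?_
      simp only [Equiv.coe_mulLeft, show j (k₀ * k) = j k₀ * j k from rfl, map_mul, Units.val_mul,
        mul_pow]
    have h2 : (lam.1 (j k₀) : ℂ) ^ 2 - 1 ≠ 0 := sub_ne_zero.mpr fun e => hk₀ (Units.ext (by
      rw [Units.val_pow_eq_pow_val]; exact e))
    exact (mul_eq_zero.mp (show ((lam.1 (j k₀) : ℂ) ^ 2 - 1) * _ = 0 by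
      rw [sub_mul, h1, one_mul, sub_self])).resolve_left h2
  rw [hFs, hHs, Finset.sum_add_distrib, hsum, zero_add, Finset.sum_const, Finset.card_univ,
    nsmul_eq_mul, mul_one, ← Nat.card_eq_fintype_card, C.card_normalizer]
  have hq : (Nat.card F : ℂ) ≠ 0 := natCard_ne_zero
  have hh : (Nat.card 𝐇 : ℂ) ≠ 0 := natCard_ne_zero
  push_cast
  field_simp
  ring

end Induced

end OddKernel

end CfsgLib.Perm
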